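import Mathlib.GroupTheory.Sylow
import Mathlib.GroupTheory.SpecificGroups.Dihedral
import Mathlib.Tactic

/-!
# Involutions: elementary facts

Two involutions generate a dihedral group; conjugation and parity of the order of the product.
-/

namespace CfsgLib.Invol

open scoped Pointwise

variable {G : Type*} [Group G]

theorem invol_inv {x : G} (hx : orderOf x = 2) : x⁻¹ = x := by
  have h := pow_orderOf_eq_one x
  rw [hx, pow_two] at h
  exact inv_eq_of_mul_eq_one_right h

theorem invol_mul_self {x : G} (hx : orderOf x = 2) : x * x = 1 := by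
  have h := pow_orderOf_eq_one x
  rwa [hx, pow_two] at h

theorem invol_ne_one {x : G} (hx : orderOf x = 2) : x ≠ 1 := by
  rintro rfl; simp at hx

theorem invol_of_mul_self {x : G} (h : x * x = 1) (h1 : x ≠ 1) : orderOf x = 2 :=
  orderOf_eq_prime (by rwa [pow_two]) h1

theorem invol_of_inv {x : G} (h : x⁻¹ = x) (h1 : x ≠ 1) : orderOf x = 2 :=
  invol_of_mul_self (by nth_rewrite 1 [← h]; exact inv_mul_cancel x) h1

theorem orderOf_conj_eq (g x : G) : orderOf (g * x * g⁻¹) = orderOf x :=
  MulEquiv.orderOf_eq (MulAut.conj g) x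

theorem orderOf_eq_of_isConj {x y : G} (h : IsConj x y) : orderOf y = orderOf x := by
  obtain ⟨g, rfl⟩ := isConj_iff.1 h
  exact orderOf_conj_eq g x

theorem orderOf_conj_inv_eq (g x : G) : orderOf (g⁻¹ * x * g) = orderOf x := by
  simpa using orderOf_conj_eq g⁻¹ x

theorem conj_zpow_eq (g r : G) (k : ℤ) : g * r ^ k * g⁻¹ = (g * r * g⁻¹) ^ k :=
  map_zpow (MulAut.conj g) r k

theorem conj_zpow_inv {g r : G} (h : g * r * g⁻¹ = r⁻¹) (k : ℤ) :
    g * r ^ k * g⁻¹ = (r ^ k)⁻¹ := by
  rw [conj_zpow_eq, h, inv_zpow]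

theorem conj_pow_inv {g r : G} (h : g * r * g⁻¹ = r⁻¹) (k : ℕ) :
    g * r ^ k * g⁻¹ = (r ^ k)⁻¹ := by
  simpa using conj_zpow_inv h (k : ℤ)

section Pair

variable {x y : G}

theorem conj_left_mul (hx : orderOf x = 2) (hy : orderOf y = 2) :
    x * (x * y) * x⁻¹ = (x * y)⁻¹ := by
  rw [mul_inv_rev, invol_inv hx, invol_inv hy, ← mul_assoc x x y, invol_mul_self hx, one_mul]

theorem conj_right_mul (hx : orderOf x = 2) (hy : orderOf y = 2) :
    y * (x * y) * y⁻¹ = (x * y)⁻¹ := by
  simp only [mul_inv_rev, invol_inv hx, invol_inv hy, mul_assoc, invol_mul_self hy, mul_one]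

theorem left_mul_zpow (hx : orderOf x = 2) (hy : orderOf y = 2) (k : ℤ) :
    x * (x * y) ^ k = (x * y) ^ (-k) * x := by
  rw [zpow_neg, ← conj_zpow_inv (conj_left_mul hx hy) k, inv_mul_cancel_right]

theorem left_mul_pow_invol (hx : orderOf x = 2) (hy : orderOf y = 2) (k : ℤ)
    (h1 : (x * y) ^ k * x ≠ 1) : orderOf ((x * y) ^ k * x) = 2 := by
  refine invol_of_mul_self ?_ h1
  rw [mul_assoc, ← mul_assoc x, left_mul_zpow hx hy k, mul_assoc _ x x, invol_mul_self hx,
    mul_one, ← zpow_add]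
  simp

theorem right_eq (hx : orderOf x = 2) (hy : orderOf y = 2) :
    (x * y) ^ (-1 : ℤ) * x = y := by
  rw [zpow_neg_one, mul_inv_rev, invol_inv hx, invol_inv hy, mul_assoc, invol_mul_self hx, mul_one]

theorem zpow_conj_left (hx : orderOf x = 2) (hy : orderOf y = 2) (k : ℤ) :
    (x * y) ^ k * x * ((x * y) ^ k)⁻¹ = (x * y) ^ (2 * k) * x := by
  rw [← zpow_neg, mul_assoc, left_mul_zpow hx hy, neg_neg, ← mul_assoc, ← zpow_add, two_mul]

theorem refl_conj_left (hx : orderOf x = 2) (hy : orderOf y = 2) (k : ℤ) :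
    ((x * y) ^ k * x) * x * ((x * y) ^ k * x)⁻¹ = (x * y) ^ (2 * k) * x := by
  rw [← zpow_conj_left hx hy k, mul_inv_rev, invol_inv hx]
  simp only [mul_assoc, invol_mul_self hx, mul_one]

theorem mem_closure_pair (hx : orderOf x = 2) (hy : orderOf y = 2) {d : G} :
    d ∈ Subgroup.closure ({x, y} : Set G) ↔
      ∃ k : ℤ, d = (x * y) ^ k ∨ d = (x * y) ^ k * x := by
  constructor
  · intro hd
    induction hd using Subgroup.closure_induction with
    | mem z hz =>
      rcases hz with rfl | rfl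
      · exact ⟨0, Or.inr (by simp)⟩
      · exact ⟨-1, Or.inr (right_eq hx hy).symm⟩
    | one => exact ⟨0, Or.inl (by simp)⟩
    | mul a b _ _ iha ihb =>
      obtain ⟨i, rfl | rfl⟩ := iha <;> obtain ⟨j, rfl | rfl⟩ := ihb
      · exact ⟨i + j, Or.inl (zpow_add _ _ _).symm⟩
      · exact ⟨i + j, Or.inr (by rw [← mul_assoc, ← zpow_add])⟩
      · exact ⟨i + -j, Or.inr (by rw [mul_assoc, left_mul_zpow hx hy, ← mul_assoc, ← zpow_add])⟩
      · refine ⟨i + -j, Or.inl ?_⟩
        rw [mul_assoc, ← mul_assoc x, left_mul_zpow hx hy, mul_assoc, invol_mul_self hx, mul_one,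
          ← zpow_add]
    | inv a _ iha =>
      obtain ⟨i, rfl | rfl⟩ := iha
      · exact ⟨-i, Or.inl (zpow_neg _ _).symm⟩
      · exact ⟨i, Or.inr (by rw [mul_inv_rev, invol_inv hx, ← zpow_neg, left_mul_zpow hx hy, neg_neg])⟩
  · have hxm : x ∈ Subgroup.closure ({x, y} : Set G) := Subgroup.subset_closure (by simp)
    have hym : y ∈ Subgroup.closure ({x, y} : Set G) := Subgroup.subset_closure (by simp)
    rintro ⟨k, rfl | rfl⟩
    · exact zpow_mem (mul_mem hxm hym) k
    · exact mul_mem (zpow_mem (mul_mem hxm hym) k) hxm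

theorem zpow_mem_closure_pair (k : ℤ) : (x * y) ^ k ∈ Subgroup.closure ({x, y} : Set G) :=
  zpow_mem (mul_mem (Subgroup.subset_closure (by simp)) (Subgroup.subset_closure (by simp))) k

theorem orderOf_mul_symm (hx : orderOf x = 2) (hy : orderOf y = 2) :
    orderOf (y * x) = orderOf (x * y) := by
  rw [← orderOf_inv (x * y), mul_inv_rev, invol_inv hx, invol_inv hy]

/-- Two involutions with product of odd order are conjugate in the group they generate. -/
theorem exists_conj_of_odd (hx : orderOf x = 2) (hy : orderOf y = 2)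
    (h : Odd (orderOf (x * y))) :
    ∃ d ∈ Subgroup.zpowers (x * y), d * x * d⁻¹ = y := by
  obtain ⟨m, hm⟩ := h
  refine ⟨(x * y) ^ (m : ℤ), zpow_mem (Subgroup.mem_zpowers _) _, ?_⟩
  rw [zpow_conj_left hx hy]
  have h2 : ((2 * m : ℕ) : ℤ) = (orderOf (x * y) : ℤ) + (-1) := by omega
  push_cast at h2
  rw [h2, zpow_add, zpow_natCast, pow_orderOf_eq_one, one_mul, right_eq hx hy]

theorem isConj_of_odd (hx : orderOf x = 2) (hy : orderOf y = 2) (h : Odd (orderOf (x * y))) :
    IsConj x y := by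
  obtain ⟨d, -, hd⟩ := exists_conj_of_odd hx hy h
  exact isConj_iff.2 ⟨d, hd⟩

theorem even_of_not_isConj (hx : orderOf x = 2) (hy : orderOf y = 2) (h : ¬ IsConj x y) :
    Even (orderOf (x * y)) :=
  Nat.not_odd_iff_even.1 fun ho => h (isConj_of_odd hx hy ho)

/-- The central involution of the dihedral group generated by two involutions with product of even
order. -/
theorem orderOf_pow_half [Finite G] (heven : Even (orderOf (x * y))) :
    orderOf ((x * y) ^ (orderOf (x * y) / 2)) = 2 := by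
  obtain ⟨m, hm⟩ := heven
  have hpos := orderOf_pos (x * y)
  rw [orderOf_pow' _ (by omega : orderOf (x * y) / 2 ≠ 0)]
  have h1 : orderOf (x * y) / 2 = m := by omega
  rw [h1, hm, Nat.gcd_eq_right ⟨2, by omega⟩, ← two_mul, Nat.mul_div_cancel _ (by omega)]

theorem commute_pow_half_left [Finite G] (hx : orderOf x = 2) (hy : orderOf y = 2)
    (heven : Even (orderOf (x * y))) : Commute ((x * y) ^ (orderOf (x * y) / 2)) x := by
  have h := conj_pow_inv (conj_left_mul hx hy) (orderOf (x * y) / 2)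
  rw [invol_inv (orderOf_pow_half heven)] at h
  exact (mul_inv_eq_iff_eq_mul.1 h).symm

theorem commute_pow_half_right [Finite G] (hx : orderOf x = 2) (hy : orderOf y = 2)
    (heven : Even (orderOf (x * y))) : Commute ((x * y) ^ (orderOf (x * y) / 2)) y := by
  have h := conj_pow_inv (conj_right_mul hx hy) (orderOf (x * y) / 2)
  rw [invol_inv (orderOf_pow_half heven)] at h
  exact (mul_inv_eq_iff_eq_mul.1 h).symm

/-- Two non-conjugate involutions have an involution commuting with both. -/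
theorem exists_commute_both [Finite G] (hx : orderOf x = 2) (hy : orderOf y = 2)
    (heven : Even (orderOf (x * y))) :
    ∃ z : G, orderOf z = 2 ∧ Commute z x ∧ Commute z y :=
  ⟨_, orderOf_pow_half heven, commute_pow_half_left hx hy heven,
    commute_pow_half_right hx hy heven⟩

end Pair

section Conj

theorem exists_conj_mem_sylow [Finite G] {p : ℕ} [Fact p.Prime] (P : Sylow p G) {H : Subgroup G}
    (hH : IsPGroup p H) : ∃ g : G, ∀ x ∈ H, g * x * g⁻¹ ∈ P := by
  obtain ⟨Q, hQ⟩ := hH.exists_le_sylow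
  obtain ⟨g, hg⟩ := MulAction.exists_smul_eq G P Q
  refine ⟨g⁻¹, fun x hx => ?_⟩
  have hxQ : x ∈ Q := hQ hx
  rw [← hg] at hxQ
  have hxQ' : x ∈ MulAut.conj g • (P : Subgroup G) := hxQ
  rw [Subgroup.mem_pointwise_smul_iff_inv_smul_mem, ← map_inv, MulAut.smul_def] at hxQ'
  exact hxQ'

theorem isPGroup_zpowers_of_invol {x : G} (hx : orderOf x = 2) :
    IsPGroup 2 (Subgroup.zpowers x) :=
  IsPGroup.of_card (n := 1) (by rw [Nat.card_zpowers, hx, pow_one])

theorem exists_conj_invol_mem_sylow [Finite G] (P : Sylow 2 G) {x : G} (hx : orderOf x = 2) :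
    ∃ g : G, g * x * g⁻¹ ∈ P := by
  obtain ⟨g, hg⟩ := exists_conj_mem_sylow P (isPGroup_zpowers_of_invol hx)
  exact ⟨g, hg x (Subgroup.mem_zpowers x)⟩

theorem exists_invol_mem {H : Subgroup G} [Finite H] (h : Even (Nat.card H)) :
    ∃ x ∈ H, orderOf x = 2 := by
  obtain ⟨x, hx⟩ := exists_prime_orderOf_dvd_card' (G := H) 2 (even_iff_two_dvd.1 h)
  exact ⟨x, x.2, by rwa [Subgroup.orderOf_coe]⟩

theorem even_card_of_invol_mem [Finite G] {H : Subgroup G} {x : G} (hx : orderOf x = 2)
    (hxH : x ∈ H) : Even (Nat.card H) := by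
  rw [even_iff_two_dvd, ← hx]
  exact Subgroup.orderOf_dvd_natCard H hxH

/-- A `2`-element in a group of odd order is trivial. -/
theorem eq_one_of_sq_of_odd {x : G} (h : x * x = 1) (hodd : Odd (orderOf x)) : x = 1 := by
  by_contra h1
  rw [invol_of_mul_self h h1] at hodd
  exact absurd hodd (by decide)

/-- Class equation for a single class. -/
theorem card_class_mul_card_centralizer (x : G) :
    Nat.card {t : G // IsConj x t} * Nat.card (Subgroup.centralizer ({x} : Set G)) = Nat.card G := by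
  rw [Subgroup.card_eq_card_quotient_mul_card_subgroup (Subgroup.centralizer ({x} : Set G))]
  congr 1
  refine (Nat.card_eq_of_bijective (fun c : G ⧸ Subgroup.centralizer ({x} : Set G) =>
    (Quotient.liftOn' c (fun g => (⟨g * x * g⁻¹, isConj_iff.2 ⟨g, rfl⟩⟩ : {t : G // IsConj x t}))
      ?_)) ⟨?_, ?_⟩).symm
  · intro a b hab
    rw [QuotientGroup.leftRel_apply, Subgroup.mem_centralizer_singleton_iff] at hab
    refine Subtype.ext ?_
    have h := congrArg (fun w => a * w * b⁻¹) hab
    simpa [mul_assoc] using h.symm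
  · intro a b
    refine Quotient.inductionOn₂' a b fun g h hgh => ?_
    rw [Quotient.eq'', QuotientGroup.leftRel_apply, Subgroup.mem_centralizer_singleton_iff]
    have e := congrArg (fun w : {t : G // IsConj x t} => g⁻¹ * (w : G) * h) hgh
    simpa [mul_assoc] using e.symm
  · rintro ⟨t, ht⟩
    obtain ⟨g, rfl⟩ := isConj_iff.1 ht
    exact ⟨QuotientGroup.mk g, rfl⟩

end Conj

end CfsgLib.Invol
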