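import Cfsg.Agent.Lib.Invol.Basic

/-!
# Recognising dihedral subgroups
-/

namespace CfsgLib.Invol

variable {G : Type*} [Group G]

/-- An element `r` of order `n` and an involution `s` outside `⟨r⟩` inverting it generate a copy
of `DihedralGroup n`. -/
theorem exists_mulEquiv_dihedral {n : ℕ} [NeZero n] {r s : G} (hr : orderOf r = n)
    (hs : orderOf s = 2) (hsr : s * r * s⁻¹ = r⁻¹) (hnot : s ∉ Subgroup.zpowers r) :
    Nonempty (↥(Subgroup.closure ({r, s} : Set G)) ≃* DihedralGroup n) := by
  let q : ZMod n → G := fun i => r ^ i.val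
  have qadd : ∀ i j, q (i + j) = q i * q j := by
    intro i j
    simp only [q]
    rw [← pow_add, ← pow_mod_orderOf r (i.val + j.val), hr, ZMod.val_add]
  have qneg : ∀ i, q (-i) = (q i)⁻¹ := by
    intro i
    rw [eq_inv_iff_mul_eq_one, ← qadd, neg_add_cancel]
    simp [q]
  have qs : ∀ i, q i * s = s * q (-i) := by
    intro i
    rw [qneg]
    simp only [q]
    rw [← conj_pow_inv hsr i.val, invol_inv hs, ← mul_assoc, ← mul_assoc, invol_mul_self hs, one_mul]
  let F : DihedralGroup n → G := fun d => match d with
    | DihedralGroup.r i => q i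
    | DihedralGroup.sr i => s * q i
  have Fmul : ∀ a b, F (a * b) = F a * F b := by
    rintro (i | i) (j | j)
    · exact qadd i j
    · show s * q (j - i) = q i * (s * q j)
      rw [← mul_assoc, qs, mul_assoc, ← qadd]
      congr 2
      ring
    · show s * q (i + j) = s * q i * q j
      rw [qadd, mul_assoc]
    · show q (j - i) = s * q i * (s * q j)
      rw [mul_assoc, ← mul_assoc (q i) s, qs, mul_assoc, ← qadd, ← mul_assoc, invol_mul_self hs,
        one_mul]
      congr 1
      ring
  let φ : DihedralGroup n →* G := MonoidHom.mk' F Fmul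
  have hinj : Function.Injective φ := by
    rw [injective_iff_map_eq_one]
    rintro (i | i) h
    · have hd : orderOf r ∣ i.val := orderOf_dvd_of_pow_eq_one h
      rw [hr] at hd
      have h0 := Nat.eq_zero_of_dvd_of_lt hd i.val_lt
      rw [ZMod.val_eq_zero] at h0
      rw [h0]
      exact DihedralGroup.r_zero
    · exfalso
      apply hnot
      have h' : s * r ^ i.val = 1 := h
      rw [eq_inv_of_mul_eq_one_left h']
      exact inv_mem (pow_mem (Subgroup.mem_zpowers r) _)
  have hrange : φ.range = Subgroup.closure ({r, s} : Set G) := by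
    apply le_antisymm
    · rintro _ ⟨d, rfl⟩
      have h1 : r ∈ Subgroup.closure ({r, s} : Set G) := Subgroup.subset_closure (by simp)
      have h2 : s ∈ Subgroup.closure ({r, s} : Set G) := Subgroup.subset_closure (by simp)
      rcases d with i | i
      · exact pow_mem h1 _
      · exact mul_mem h2 (pow_mem h1 _)
    · rw [Subgroup.closure_le]
      rintro z (rfl | rfl)
      · refine ⟨DihedralGroup.r 1, ?_⟩
        show z ^ ((1 : ZMod n)).val = z
        rw [ZMod.val_one_eq_one_mod, ← hr, pow_mod_orderOf, pow_one]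
      · refine ⟨DihedralGroup.sr 0, ?_⟩
        show z * r ^ ((0 : ZMod n)).val = z
        simp
  exact ⟨((MulEquiv.subgroupCongr hrange.symm).trans (MonoidHom.ofInjective hinj).symm)⟩

theorem not_mem_zpowers_mul {x y : G} (hx : orderOf x = 2) (hy : orderOf y = 2) (hxy : x ≠ y) :
    x ∉ Subgroup.zpowers (x * y) := by
  rintro ⟨k, hk⟩
  simp only at hk
  have hc : x * (x * y) * x⁻¹ = x * y := by
    have h : Commute ((x * y) ^ k) (x * y) := (Commute.refl (x * y)).zpow_left k
    rw [hk] at h
    rw [h.eq, mul_inv_cancel_right]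
  rw [conj_left_mul hx hy] at hc
  have hsq : (x * y) * (x * y) = 1 := by
    nth_rewrite 1 [← hc]; exact inv_mul_cancel _
  have h2 : (x * y) ^ (2 : ℤ) = 1 := by rw [zpow_two, hsq]
  obtain ⟨j, rfl | rfl⟩ := Int.even_or_odd' k
  · rw [zpow_mul, h2, one_zpow] at hk
    exact invol_ne_one hx hk.symm
  · rw [zpow_add, zpow_mul, h2, one_zpow, one_mul, zpow_one] at hk
    exact invol_ne_one hy (mul_eq_left.1 hk)

theorem dihedral_of_pair [Finite G] {x y : G} (hx : orderOf x = 2) (hy : orderOf y = 2)
    (hxy : x ≠ y) :
    Nonempty (↥(Subgroup.closure ({x, y} : Set G)) ≃* DihedralGroup (orderOf (x * y))) := by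
  have : NeZero (orderOf (x * y)) := ⟨(orderOf_pos _).ne'⟩
  obtain ⟨e⟩ := exists_mulEquiv_dihedral rfl hx (conj_left_mul hx hy) (not_mem_zpowers_mul hx hy hxy)
  have heq : Subgroup.closure ({x * y, x} : Set G) = Subgroup.closure ({x, y} : Set G) := by
    apply le_antisymm <;> rw [Subgroup.closure_le]
    · rintro z (rfl | rfl)
      · exact mul_mem (Subgroup.subset_closure (by simp)) (Subgroup.subset_closure (by simp))
      · exact Subgroup.subset_closure (by simp)
    · rintro z (rfl | rfl)
      · exact Subgroup.subset_closure (by simp)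
      · have h := mul_mem (Subgroup.subset_closure (k := ({x * z, x} : Set G)) (by simp : x ∈ _))
          (Subgroup.subset_closure (k := ({x * z, x} : Set G)) (by simp : x * z ∈ _))
        rwa [← mul_assoc, invol_mul_self hx, one_mul] at h
  exact ⟨(MulEquiv.subgroupCongr heq.symm).trans e⟩

end CfsgLib.Invol
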