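import Mathlib
import Cfsg.Agent.Lib.Classical.SUCenter
import Cfsg.Agent.Lib.Geom.IsoStabHerm
import Cfsg.Agent.S0277

/-!
The Sylow 2-subgroups of `PSU_3(4)`.
-/

set_option autoImplicit false
set_option linter.style.haveILetI false

namespace CfsgLib.Invol

open Matrix
open scoped commutatorElement
open CfsgLib.Classical (qFrob qFrob_apply)

variable {F : Type*} [Field F] [Fintype F]

theorem sixteen_two (hF : Fintype.card F = 16) : (2 : F) = 0 := by
  obtain ⟨p, hp⟩ := CharP.exists F
  haveI : Fact p.Prime := ⟨CharP.char_is_prime F p⟩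
  obtain ⟨n, hp', hn⟩ := FiniteField.card F p
  have hd : p ∣ 2 ^ 4 := by
    rw [show 2 ^ 4 = Fintype.card F by rw [hF]; norm_num, hn]; exact dvd_pow_self p n.2.ne'
  have : p = 2 := (Nat.prime_dvd_prime_iff_eq hp' Nat.prime_two).1 (hp'.dvd_of_dvd_pow hd)
  subst this
  exact_mod_cast CharP.cast_eq_zero F 2

theorem sixteen_add (hF : Fintype.card F = 16) (x y : F) : (x + y) ^ 4 = x ^ 4 + y ^ 4 := by
  linear_combination (2 * x ^ 3 * y + 3 * x ^ 2 * y ^ 2 + 2 * x * y ^ 3) * sixteen_two hF

theorem sixteen_pow (hF : Fintype.card F = 16) (x : F) : (x ^ 4) ^ 4 = x := by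
  rw [← pow_mul, show 4 * 4 = Fintype.card F by rw [hF], FiniteField.pow_card]

theorem sixteen_neg (hF : Fintype.card F = 16) (x : F) : -x = x := by
  linear_combination (-x) * sixteen_two hF

/-- The pairs `(a, b)` with `b + b^4 + a^5 = 0`. -/
@[ext] structure UU (F : Type*) [Field F] [Fintype F] (hF : Fintype.card F = 16) where
  /-- first coordinate -/
  a : F
  /-- second coordinate -/
  b : F
  ok : b + b ^ 4 + a * a ^ 4 = 0

namespace UU

variable {hF : Fintype.card F = 16}

instance : One (UU F hF) := ⟨⟨0, 0, by simp⟩⟩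

instance : Mul (UU F hF) := ⟨fun x y => ⟨x.a + y.a, x.b + y.b + x.a * y.a ^ 4, by
  rw [sixteen_add hF, sixteen_add hF, sixteen_add hF, mul_pow, sixteen_pow hF]
  linear_combination x.ok + y.ok + (x.a * y.a ^ 4 + x.a ^ 4 * y.a) * sixteen_two hF⟩⟩

instance : Inv (UU F hF) := ⟨fun x => ⟨x.a, x.b ^ 4, by
  rw [sixteen_pow hF]; linear_combination x.ok⟩⟩

theorem mul_a (x y : UU F hF) : (x * y).a = x.a + y.a := rfl
theorem mul_b (x y : UU F hF) : (x * y).b = x.b + y.b + x.a * y.a ^ 4 := rfl
theorem one_a : (1 : UU F hF).a = 0 := rfl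
theorem one_b : (1 : UU F hF).b = 0 := rfl

instance : Group (UU F hF) := Group.ofLeftAxioms
  (fun x y z => by
    ext
    · simp [mul_a, add_assoc]
    · simp only [mul_a, mul_b, sixteen_add hF]; ring)
  (fun x => by ext <;> simp [mul_a, mul_b, one_a, one_b])
  (fun x => by
    ext
    · show x.a + x.a = 0
      linear_combination x.a * sixteen_two hF
    · show x.b ^ 4 + x.b + x.a * x.a ^ 4 = 0
      linear_combination x.ok)

theorem comm_iff (x y : UU F hF) : x * y = y * x ↔ x.a * y.a ^ 4 = y.a * x.a ^ 4 := by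
  constructor
  · intro h
    have h' := congrArg UU.b h
    rw [mul_b, mul_b] at h'
    linear_combination h'
  · intro h
    ext
    · simp [mul_a, add_comm]
    · rw [mul_b, mul_b]; linear_combination h

theorem sq_a (x : UU F hF) : (x ^ 2).a = 0 := by
  rw [pow_two, mul_a]; linear_combination x.a * sixteen_two hF

theorem sq_b (x : UU F hF) : (x ^ 2).b = x.a * x.a ^ 4 := by
  rw [pow_two, mul_b]; linear_combination x.b * sixteen_two hF

theorem exists_b (hF : Fintype.card F = 16) (t : F) (ht : t ^ 4 = t) :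
    Nat.card {c : F // c + c ^ 4 = t} = 4 := by
  have h := CfsgLib.Geom.card_trace_fibre (F := F) (q := 4) (by rw [hF]; norm_num) (t := t)
    (by rw [qFrob_apply]; exact ht)
  simpa [qFrob_apply] using h

theorem card_eq : Nat.card (UU F hF) = 64 := by
  classical
  let e : UU F hF ≃ Σ a : F, {c : F // c + c ^ 4 = a * a ^ 4} :=
    { toFun := fun x => ⟨x.a, x.b, by linear_combination x.ok + (-(x.a * x.a ^ 4)) * sixteen_two hF⟩
      invFun := fun p => ⟨p.1, p.2.1, by linear_combination p.2.2 + (p.1 * p.1 ^ 4) * sixteen_two hF⟩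
      left_inv := fun _ => rfl
      right_inv := fun _ => rfl }
  rw [Nat.card_congr e, Nat.card_sigma]
  have : ∀ a : F, Nat.card {c : F // c + c ^ 4 = a * a ^ 4} = 4 := fun a =>
    exists_b hF _ (by rw [mul_pow, sixteen_pow hF, mul_comm])
  rw [Finset.sum_congr rfl fun a _ => this a]
  simp [hF]

theorem mem_center_iff {x : UU F hF} : x ∈ Subgroup.center (UU F hF) ↔ x.a = 0 := by
  rw [Subgroup.mem_center_iff]
  constructor
  · intro h
    by_contra ha
    -- some element of `F` is not fixed by the fourth power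
    obtain ⟨l, hl⟩ : ∃ l : F, l ^ 4 ≠ l := by
      by_contra hall
      push Not at hall
      have hc := exists_b hF 0 (by simp)
      have : Nat.card {c : F // c + c ^ 4 = 0} = 16 := by
        rw [Nat.card_congr (Equiv.subtypeUnivEquiv fun c => by
          rw [hall]; linear_combination c * sixteen_two hF), Nat.card_eq_fintype_card, hF]
      omega
    obtain ⟨⟨b, hb⟩⟩ : Nonempty {c : F // c + c ^ 4 = (x.a * l) * (x.a * l) ^ 4} := by
      have h4 := exists_b hF ((x.a * l) * (x.a * l) ^ 4) (by rw [mul_pow, sixteen_pow hF, mul_comm])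
      exact (Nat.card_pos_iff.1 (by omega)).1
    let y : UU F hF := ⟨x.a * l, b, by
      linear_combination hb + ((x.a * l) * (x.a * l) ^ 4) * sixteen_two hF⟩
    have h' := (comm_iff y x).1 (h y)
    have h'' : x.a * x.a ^ 4 * l = x.a * x.a ^ 4 * l ^ 4 := by
      simp only [y] at h'
      linear_combination h'
    exact hl (mul_left_cancel₀ (mul_ne_zero ha (pow_ne_zero _ ha)) h'').symm
  · intro ha y
    rw [comm_iff, ha]; simp

theorem card_center : Nat.card (Subgroup.center (UU F hF)) = 4 := by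
  let e : Subgroup.center (UU F hF) ≃ {c : F // c + c ^ 4 = 0} :=
    { toFun := fun x => ⟨x.1.b, by
        have h := x.1.ok
        rw [mem_center_iff.1 x.2] at h
        simpa using h⟩
      invFun := fun c => ⟨⟨0, c.1, by simpa using c.2⟩, mem_center_iff.2 rfl⟩
      left_inv := fun x => Subtype.ext (UU.ext (mem_center_iff.1 x.2).symm rfl)
      right_inv := fun _ => rfl }
  rw [Nat.card_congr e, exists_b hF 0 (by simp)]

theorem sq_eq_one_of_center {x : UU F hF} (hx : x.a = 0) : x ^ 2 = 1 := by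
  ext
  · rw [sq_a, one_a]
  · rw [sq_b, hx, one_b, zero_mul]

theorem orderOf_two {x : UU F hF} (hx : orderOf x = 2) : x.a = 0 := by
  have h : (x ^ 2).b = 0 := by rw [← hx, pow_orderOf_eq_one, one_b]
  rw [sq_b, mul_eq_zero, pow_eq_zero_iff (by norm_num : (4 : ℕ) ≠ 0), or_self] at h
  exact h

theorem center_le_commutator : Subgroup.center (UU F hF) ≤ commutator (UU F hF) := by
  intro z hz
  have ha := mem_center_iff.1 hz
  have hzb : z.b + z.b ^ 4 = 0 := by
    have h := z.ok
    rw [ha] at h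
    simpa using h
  have hfix : z.b ^ 4 = z.b := by
    linear_combination hzb + (-z.b) * sixteen_two hF
  obtain ⟨⟨s, hs⟩⟩ : Nonempty {c : F // c + c ^ 4 = z.b} := by
    have := exists_b hF z.b hfix
    exact (Nat.card_pos_iff.1 (by omega)).1
  obtain ⟨⟨b1, hb1⟩⟩ : Nonempty {c : F // c + c ^ 4 = s * s ^ 4} := by
    have := exists_b hF (s * s ^ 4) (by rw [mul_pow, sixteen_pow hF, mul_comm])
    exact (Nat.card_pos_iff.1 (by omega)).1
  obtain ⟨⟨b2, hb2⟩⟩ : Nonempty {c : F // c + c ^ 4 = (1 : F) * 1 ^ 4} := by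
    have := exists_b hF ((1 : F) * 1 ^ 4) (by simp)
    exact (Nat.card_pos_iff.1 (by omega)).1
  let u : UU F hF := ⟨s, b1, by linear_combination hb1 + (s * s ^ 4) * sixteen_two hF⟩
  let v : UU F hF := ⟨1, b2, by linear_combination hb2 + sixteen_two hF⟩
  have e : z * (v * u) = u * v := by
    ext
    · simp only [mul_a, u, v, ha]; ring
    · simp only [mul_a, mul_b, u, v, ha]
      linear_combination (-hs) + (s ^ 4) * sixteen_two hF
  have : z = ⁅u, v⁆ := by
    rw [commutatorElement_def]
    calc z = z * (v * u) * (v * u)⁻¹ := by rw [mul_inv_cancel_right]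
      _ = u * v * u⁻¹ * v⁻¹ := by rw [e]; group
  rw [this, commutator_def]
  exact Subgroup.commutator_mem_commutator (Subgroup.mem_top _) (Subgroup.mem_top _)

theorem commutator_le_center : commutator (UU F hF) ≤ Subgroup.center (UU F hF) := by
  rw [commutator_def, Subgroup.commutator_le]
  intro u _ v _
  rw [mem_center_iff, commutatorElement_def]
  show u.a + v.a + u.a + v.a = 0
  linear_combination (u.a + v.a) * sixteen_two hF

/-- The properties of the group, stated for any group isomorphic to it. -/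
theorem properties {S : Type*} [Group S] (e : S ≃* UU F hF) :
    Nat.card S = 64 ∧ IsKleinFour (Subgroup.center S) ∧
      Subgroup.center S = Subgroup.closure {x : S | orderOf x = 2} ∧
      Subgroup.center S = commutator S ∧ Nat.card (S ⧸ Subgroup.center S) = 16 ∧
      ∀ x : S ⧸ Subgroup.center S, x ^ 2 = 1 := by
  haveI : Finite S := Nat.finite_of_card_ne_zero (by rw [Nat.card_congr e.toEquiv, card_eq]; norm_num)
  have hmap : (Subgroup.center S).map e.toMonoidHom = Subgroup.center (UU F hF) := by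
    ext x
    constructor
    · rintro ⟨y, hy, rfl⟩
      rw [Subgroup.mem_center_iff]
      intro g
      obtain ⟨g, rfl⟩ := e.surjective g
      show e g * e y = e y * e g
      rw [← map_mul, ← map_mul, Subgroup.mem_center_iff.1 hy g]
    · intro hx
      refine ⟨e.symm x, Subgroup.mem_center_iff.2 fun g => e.injective ?_, e.apply_symm_apply x⟩
      rw [map_mul, map_mul, e.apply_symm_apply]
      exact Subgroup.mem_center_iff.1 hx _
  have hmem : ∀ s : S, s ∈ Subgroup.center S ↔ (e s).a = 0 := by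
    intro s
    rw [← mem_center_iff, ← hmap]
    exact (Subgroup.mem_map_iff_mem (f := e.toMonoidHom) e.injective).symm
  have hcard : Nat.card (Subgroup.center S) = 4 := by
    rw [← Subgroup.card_map_of_injective (f := e.toMonoidHom) e.injective, hmap, card_center]
  have hsq : ∀ s ∈ Subgroup.center S, s ^ 2 = 1 := fun s hs => e.injective (by
    rw [map_pow, map_one]; exact sq_eq_one_of_center ((hmem s).1 hs))
  refine ⟨by rw [Nat.card_congr e.toEquiv, card_eq], ⟨hcard, ?_⟩, ?_, ?_, ?_, ?_⟩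
  · refine Nat.dvd_antisymm (Monoid.exponent_dvd_of_forall_pow_eq_one fun s =>
      Subtype.ext (hsq s s.2)) ?_
    haveI : Nontrivial (Subgroup.center S) := Finite.one_lt_card_iff_nontrivial.1 (by omega)
    obtain ⟨s, hs⟩ := exists_ne (1 : Subgroup.center S)
    have := Monoid.order_dvd_exponent s
    rwa [orderOf_eq_prime (Subtype.ext (hsq s s.2)) hs] at this
  · refine le_antisymm (fun s hs => ?_) ?_
    · by_cases h1 : s = 1
      · rw [h1]; exact one_mem _
      · exact Subgroup.subset_closure (orderOf_eq_prime (hsq s hs) h1)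
    · rw [Subgroup.closure_le]
      intro s hs
      exact (hmem s).2 (orderOf_two (by rw [MulEquiv.orderOf_eq]; exact hs))
  · apply Subgroup.map_injective (f := e.toMonoidHom) e.injective
    rw [hmap, commutator_def S, Subgroup.map_commutator,
      Subgroup.map_top_of_surjective e.toMonoidHom e.surjective, ← commutator_def]
    exact le_antisymm center_le_commutator commutator_le_center
  · have h := Subgroup.card_eq_card_quotient_mul_card_subgroup (Subgroup.center S)
    rw [hcard, Nat.card_congr e.toEquiv, card_eq] at h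
    omega
  · intro x
    obtain ⟨s, rfl⟩ := QuotientGroup.mk_surjective x
    rw [← QuotientGroup.mk_pow, QuotientGroup.eq_one_iff, hmem, map_pow, sq_a]

/-- Coordinate change from the standard form to the anti-diagonal one. -/
def chg (x : F) : Matrix (Fin 3) (Fin 3) F := !![1, 0, x; 1, 0, 1 + x; 0, 1, 0]

/-- The matrix of `(a, b)` in the hyperbolic basis. -/
def mat (p : UU F hF) : Matrix (Fin 3) (Fin 3) F := !![1, p.a, p.b; 0, 1, p.a ^ 4; 0, 0, 1]

theorem mat_mul (p r : UU F hF) : mat (p * r) = mat p * mat r := by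
  ext i j
  fin_cases i <;> fin_cases j <;>
    simp [mat, mul_a, mul_b, Matrix.mul_apply, Fin.sum_univ_three, sixteen_add hF] <;> ring

theorem mat_one : mat (1 : UU F hF) = 1 := by
  ext i j
  fin_cases i <;> fin_cases j <;> simp [mat, one_a, one_b]

theorem mat_injective : Function.Injective (mat (F := F) (hF := hF)) := by
  intro p r h
  have h1 := congrFun (congrFun h 0) 1
  have h2 := congrFun (congrFun h 0) 2
  simp [mat] at h1 h2
  exact UU.ext h1 h2

theorem exists_embedding (hF : Fintype.card F = 16) :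
    ∃ f : UU F hF →* Cfsg.SU 3 F 4, Function.Injective f := by
  obtain ⟨⟨x, hx⟩⟩ : Nonempty {c : F // c + c ^ 4 = 1} := by
    have := exists_b hF 1 (by simp)
    exact (Nat.card_pos_iff.1 (by omega)).1
  have hdet : (chg x).det ≠ 0 := by
    have : (chg x).det = -1 := by
      simp [chg, det_fin_three]
    rw [this]; exact neg_ne_zero.2 one_ne_zero
  let P : GL (Fin 3) F := Matrix.GeneralLinearGroup.mkOfDetNeZero _ hdet
  have hP : ∀ u v : Fin 3 → F, Cfsg.hermForm 3 F 4 ((P : Matrix (Fin 3) (Fin 3) F) *ᵥ u)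
      ((P : Matrix (Fin 3) (Fin 3) F) *ᵥ v) = u 0 * v 2 ^ 4 + u 1 * v 1 ^ 4 + u 2 * v 0 ^ 4 := by
    intro u v
    simp [P, chg, Cfsg.hermForm, Fin.sum_univ_three, Matrix.mulVec, dotProduct, sixteen_add hF, mul_pow]
    linear_combination (u 2 * v 2 ^ 4) * hx
      + (u 0 * v 0 ^ 4 + u 2 * v 0 ^ 4 * x + u 0 * v 2 ^ 4 * x ^ 4
          + u 2 * v 2 ^ 4 * (x * x ^ 4 + 1)) * sixteen_two hF
  let f0 : UU F hF → Matrix (Fin 3) (Fin 3) F := fun p =>
    (P : Matrix (Fin 3) (Fin 3) F) * mat p * ((P⁻¹ : GL (Fin 3) F) : Matrix (Fin 3) (Fin 3) F)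
  have hdet0 : ∀ p, (f0 p).det = 1 := by
    intro p
    show det (_ * _ * _) = 1
    rw [det_mul, det_mul, mul_right_comm, ← det_mul, ← Units.val_mul, mul_inv_cancel, Units.val_one,
      det_one, one_mul]
    simp [mat, det_fin_three]
  have hmem : ∀ p, (⟨f0 p, hdet0 p⟩ : Matrix.SpecialLinearGroup (Fin 3) F) ∈ Cfsg.SU 3 F 4 := by
    intro p u v
    have hu : (P : Matrix (Fin 3) (Fin 3) F) *ᵥ (((P⁻¹ : GL (Fin 3) F) : Matrix _ _ F) *ᵥ u) = u := by
      rw [mulVec_mulVec, ← Units.val_mul, mul_inv_cancel, Units.val_one, one_mulVec]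
    have hv : (P : Matrix (Fin 3) (Fin 3) F) *ᵥ (((P⁻¹ : GL (Fin 3) F) : Matrix _ _ F) *ᵥ v) = v := by
      rw [mulVec_mulVec, ← Units.val_mul, mul_inv_cancel, Units.val_one, one_mulVec]
    show Cfsg.hermForm 3 F 4 (f0 p *ᵥ u) (f0 p *ᵥ v) = _
    simp only [f0]
    rw [← mulVec_mulVec, ← mulVec_mulVec, ← mulVec_mulVec, ← mulVec_mulVec, hP]
    conv_rhs => rw [← hu, ← hv, hP]
    generalize (((P⁻¹ : GL (Fin 3) F) : Matrix (Fin 3) (Fin 3) F) *ᵥ u) = w
    generalize (((P⁻¹ : GL (Fin 3) F) : Matrix (Fin 3) (Fin 3) F) *ᵥ v) = z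
    simp [mat, Matrix.mulVec, dotProduct, Fin.sum_univ_three, sixteen_add hF, mul_pow, sixteen_pow hF]
    linear_combination (w 2 * z 2 ^ 4) * p.ok
      + (p.a * w 1 * z 2 ^ 4 + p.a ^ 4 * w 2 * z 1 ^ 4) * sixteen_two hF
  refine ⟨{ toFun := fun p => ⟨⟨f0 p, hdet0 p⟩, hmem p⟩,
            map_one' := Subtype.ext (Subtype.ext ?_), map_mul' := fun p r => Subtype.ext (Subtype.ext ?_) },
    fun p r h => mat_injective ?_⟩
  · show f0 1 = 1
    simp only [f0]
    rw [mat_one, mul_one, ← Units.val_mul, mul_inv_cancel, Units.val_one]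
  · show f0 (p * r) = f0 p * f0 r
    simp only [f0]
    rw [mat_mul]
    simp only [mul_assoc]
    rw [← mul_assoc ((P⁻¹ : GL (Fin 3) F) : Matrix (Fin 3) (Fin 3) F), ← Units.val_mul, inv_mul_cancel,
      Units.val_one, one_mul]
  · have h' : f0 p = f0 r := congrArg (fun s : Cfsg.SU 3 F 4 => (s.1 : Matrix (Fin 3) (Fin 3) F)) h
    simp only [f0] at h'
    exact mul_left_cancel₀' h'
where
  mul_left_cancel₀' {P : GL (Fin 3) F} {A B : Matrix (Fin 3) (Fin 3) F}
      (h : (P : Matrix (Fin 3) (Fin 3) F) * A * ((P⁻¹ : GL (Fin 3) F) : Matrix (Fin 3) (Fin 3) F) =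
        (P : Matrix (Fin 3) (Fin 3) F) * B * ((P⁻¹ : GL (Fin 3) F) : Matrix (Fin 3) (Fin 3) F)) : A = B :=
    P.isUnit.mul_left_cancel ((P⁻¹).isUnit.mul_right_cancel h)

theorem sylow_equiv (hF : Fintype.card F = 16) (S : Sylow 2 (Cfsg.PSU 3 F 4)) :
    Nonempty ((S : Subgroup (Cfsg.PSU 3 F 4)) ≃* UU F hF) := by
  obtain ⟨f, hf⟩ := exists_embedding hF
  have hz : Nat.card (Subgroup.center (Cfsg.SU 3 F 4)) = 1 := by
    rw [CfsgLib.Classical.card_center_su (q := 4) (by rw [hF]; norm_num) (by norm_num)]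
    rfl
  have hbot : Subgroup.center (Cfsg.SU 3 F 4) = ⊥ := Subgroup.card_eq_one.1 hz
  let π : Cfsg.SU 3 F 4 →* Cfsg.PSU 3 F 4 := QuotientGroup.mk' _
  have hπ : Function.Injective π := by
    rw [← MonoidHom.ker_eq_bot_iff, QuotientGroup.ker_mk', hbot]
  have hcard : Nat.card (Cfsg.PSU 3 F 4) = 62400 := by
    have h := CfsgLib.Classical.card_psu_mul (F := F) (q := 4) (by rw [hF]; norm_num) (n := 3) (by norm_num)
    rw [Cfsg.Agent.S0277.result (by rw [hF]; norm_num) 3] at h
    norm_num [Finset.prod_range_succ, Nat.even_iff] at h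
    omega
  haveI : Fact (Nat.Prime 2) := ⟨Nat.prime_two⟩
  have hfac : (Nat.card (Cfsg.PSU 3 F 4)).factorization 2 = 6 := by
    rw [hcard, show (62400 : ℕ) = 2 ^ 6 * 975 by norm_num, Nat.factorization_mul (by norm_num) (by norm_num),
      Finsupp.add_apply, Nat.Prime.factorization_pow Nat.prime_two, Finsupp.single_eq_same,
      Nat.factorization_eq_zero_of_not_dvd (by norm_num : ¬ 2 ∣ 975)]
  have hr : Nat.card (π.comp f).range = 2 ^ (Nat.card (Cfsg.PSU 3 F 4)).factorization 2 := by
    rw [hfac, ← Nat.card_congr (MonoidHom.ofInjective (hπ.comp hf : Function.Injective (π.comp f))).toEquiv,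
      card_eq]
    norm_num
  exact ⟨((Sylow.equiv S (Sylow.ofCard _ hr)).trans (MulEquiv.subgroupCongr (Sylow.coe_ofCard _ _))).trans
    (MonoidHom.ofInjective (hπ.comp hf : Function.Injective (π.comp f))).symm⟩

end UU

end CfsgLib.Invol
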