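import Mathlib.GroupTheory.SpecificGroups.Quaternion
import Mathlib.GroupTheory.Nilpotent
import Cfsg.Agent.Lib.Invol.Dihedral

/-!
# Small facts for 2-groups: recognising quaternion subgroups, maximal subgroups
-/

namespace CfsgLib.Invol

variable {G : Type*} [Group G]

/-- An element `r` of order `2n` and an element `q` outside `⟨r⟩` inverting it with square `r ^ n`
generate a copy of `QuaternionGroup n`. -/
theorem exists_mulEquiv_quaternion {n : ℕ} [NeZero n] {r q : G} (hr : orderOf r = 2 * n)
    (hq : q * q = r ^ n) (hqr : q * r * q⁻¹ = r⁻¹) (hnot : q ∉ Subgroup.zpowers r) :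
    Nonempty (↥(Subgroup.closure ({r, q} : Set G)) ≃* QuaternionGroup n) := by
  let p : ZMod (2 * n) → G := fun i => r ^ i.val
  have padd : ∀ i j, p (i + j) = p i * p j := by
    intro i j
    simp only [p]
    rw [← pow_add, ← pow_mod_orderOf r (i.val + j.val), hr, ZMod.val_add]
  have pneg : ∀ i, p (-i) = (p i)⁻¹ := by
    intro i
    rw [eq_inv_iff_mul_eq_one, ← padd, neg_add_cancel]
    simp [p]
  have pn : p (n : ZMod (2 * n)) = r ^ n := by
    simp only [p]
    rw [ZMod.val_natCast, Nat.mod_eq_of_lt]
    have := NeZero.pos n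
    omega
  have pq : ∀ i, p i * q = q * p (-i) := by
    intro i
    have h := conj_pow_inv hqr i.val
    have h' : q * (p i)⁻¹ * q⁻¹ = p i := by rw [← conj_inv, h, inv_inv]
    rw [pneg]
    exact (mul_inv_eq_iff_eq_mul.1 h').symm
  let F : QuaternionGroup n → G := fun d => match d with
    | QuaternionGroup.a i => p i
    | QuaternionGroup.xa i => q * p i
  have Fmul : ∀ a b, F (a * b) = F a * F b := by
    rintro (i | i) (j | j)
    · exact padd i j
    · show q * p (j - i) = p i * (q * p j)
      rw [← mul_assoc, pq, mul_assoc, ← padd]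
      congr 2
      ring
    · show q * p (i + j) = q * p i * p j
      rw [padd, mul_assoc]
    · show p ((n : ZMod (2 * n)) + j - i) = q * p i * (q * p j)
      rw [mul_assoc, ← mul_assoc (p i) q, pq, mul_assoc, ← padd, ← mul_assoc, hq, ← pn, ← padd]
      congr 1
      ring
  let φ : QuaternionGroup n →* G := MonoidHom.mk' F Fmul
  have hinj : Function.Injective φ := by
    rw [injective_iff_map_eq_one]
    rintro (i | i) h
    · have hd : orderOf r ∣ i.val := orderOf_dvd_of_pow_eq_one h
      rw [hr] at hd
      have h0 := Nat.eq_zero_of_dvd_of_lt hd i.val_lt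
      rw [ZMod.val_eq_zero] at h0
      rw [h0]
      exact QuaternionGroup.a_zero
    · exfalso
      apply hnot
      have h' : q * r ^ i.val = 1 := h
      rw [eq_inv_of_mul_eq_one_left h']
      exact inv_mem (pow_mem (Subgroup.mem_zpowers r) _)
  have hrange : φ.range = Subgroup.closure ({r, q} : Set G) := by
    apply le_antisymm
    · rintro _ ⟨d, rfl⟩
      have h1 : r ∈ Subgroup.closure ({r, q} : Set G) := Subgroup.subset_closure (by simp)
      have h2 : q ∈ Subgroup.closure ({r, q} : Set G) := Subgroup.subset_closure (by simp)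
      rcases d with i | i
      · exact pow_mem h1 _
      · exact mul_mem h2 (pow_mem h1 _)
    · rw [Subgroup.closure_le]
      rintro z (rfl | rfl)
      · refine ⟨QuaternionGroup.a 1, ?_⟩
        show z ^ ((1 : ZMod (2 * n))).val = z
        rw [ZMod.val_one_eq_one_mod, ← hr, pow_mod_orderOf, pow_one]
      · refine ⟨QuaternionGroup.xa 0, ?_⟩
        show z * r ^ ((0 : ZMod (2 * n))).val = z
        simp
  exact ⟨((MulEquiv.subgroupCongr hrange.symm).trans (MonoidHom.ofInjective hinj).symm)⟩

theorem isCoatom_of_index_two {M : Subgroup G} (h : M.index = 2) : IsCoatom M := by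
  refine ⟨fun htop => by simp [htop] at h, fun K hK => ?_⟩
  have hd : M.relIndex K * K.index = 2 := by rw [Subgroup.relIndex_mul_index hK.le, h]
  have h1 : M.relIndex K ≠ 1 := fun h1 => hK.not_ge (Subgroup.relIndex_eq_one.1 h1)
  rw [← Subgroup.index_eq_one]
  rcases (Nat.dvd_prime Nat.prime_two).1 ⟨_, hd.symm⟩ with h2 | h2
  · exact absurd h2 h1
  · rw [h2] at hd; omega

/-- A subgroup containing all squares and an element outside of which the products fall in it. -/
theorem sq_mem_of_index_two {M : Subgroup G} (h : M.index = 2) (g : G) : g * g ∈ M :=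
  Subgroup.mul_self_mem_of_index_two h g

/-- In a finite 2-group every maximal subgroup has index 2. -/
theorem index_two_of_isCoatom [Finite G] (hG : IsPGroup 2 G) {M : Subgroup G} (hM : IsCoatom M) :
    M.index = 2 := by
  obtain ⟨n, hn⟩ := hG.exists_card_eq
  obtain ⟨k, hk⟩ := (hG.to_subgroup M).exists_card_eq
  have hkn : k < n := by
    by_contra hle
    push Not at hle
    refine hM.1 (Subgroup.eq_top_of_le_card _ ?_)
    rw [hn, hk]; exact Nat.pow_le_pow_right (by norm_num) hle
  obtain ⟨K, hK, hMK⟩ := Sylow.exists_subgroup_card_pow_succ (p := 2) (n := k)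
    (hn ▸ pow_dvd_pow 2 hkn) hk
  have hlt : M < K := lt_of_le_of_ne hMK fun e => by
    rw [← e, hk] at hK
    exact absurd (Nat.pow_right_injective le_rfl hK) (by omega)
  have htop := hM.2 K hlt
  have h := M.card_mul_index
  rw [← Subgroup.card_top (G := G), ← htop, hK, hk, pow_succ] at h
  exact Nat.eq_of_mul_eq_mul_left (by positivity) h

end CfsgLib.Invol
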