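import Cfsg.Prelude.Def_Solvable
import Cfsg.Agent.Lib.Invol.Basic

/-!
# The Baer–Suzuki theorem (Alperin–Lyons proof)
-/

namespace CfsgLib.Invol

open scoped Pointwise

variable {G : Type*} [Group G] [Finite G] {p : ℕ} [Fact p.Prime]

omit [Finite G] [Fact p.Prime] in
theorem map_conj_sSup (g : G) (E : Set (Subgroup G)) :
    (sSup E).map (MulAut.conj g).toMonoidHom =
      ⨆ A ∈ E, A.map (MulAut.conj g).toMonoidHom := by
  rw [sSup_eq_iSup, Subgroup.map_iSup]
  simp only [Subgroup.map_iSup]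

/-- A proper subfamily of conjugation-closed members of a `p`-group is normalised by a member
outside it. -/
theorem exists_normalizing_member {D : Set (Subgroup G)}
    (hconj : ∀ A ∈ D, ∀ g : G, A.map (MulAut.conj g).toMonoidHom ∈ D) {P : Subgroup G}
    (hP : IsPGroup p P) {R : Subgroup G}
    (hR : R = sSup {A ∈ D | A ≤ R ∧ A ≤ P}) (hne : ∃ A ∈ D, A ≤ P ∧ ¬ A ≤ R) :
    ∃ Y ∈ D, Y ≤ P ∧ ¬ Y ≤ R ∧ Y ≤ Subgroup.normalizer (R : Set G) := by
  by_contra hcon
  push Not at hcon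
  obtain ⟨A, hAD, hAP, hAR⟩ := hne
  have hRP : R ≤ P := hR ▸ sSup_le fun B hB => hB.2.2
  -- the normaliser of `R` in `P` is proper, so something moves it inside itself
  have hlt : (Subgroup.normalizer (R : Set G)).subgroupOf P < ⊤ := by
    refine lt_top_iff_ne_top.2 fun h => hcon A hAD hAP hAR (le_trans hAP ?_)
    exact Subgroup.subgroupOf_eq_top.1 h
  have : Group.IsNilpotent P := hP.isNilpotent
  have hgrow := Group.normalizerCondition_of_isNilpotent _ hlt
  obtain ⟨g, hg, hgR⟩ := SetLike.exists_of_lt hgrow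
  have hgR' : (g : G) ∉ Subgroup.normalizer (R : Set G) := hgR
  -- conjugates by `g` of the members inside `R` normalise `R`
  have hmove : ∀ B ∈ D, B ≤ R → B.map (MulAut.conj (g : G)).toMonoidHom ≤
      Subgroup.normalizer (R : Set G) ∧ B.map (MulAut.conj (g : G)).toMonoidHom ≤ P := by
    intro B _ hB
    constructor
    · rintro _ ⟨b, hb, rfl⟩
      have hbP : b ∈ P := hRP (hB hb)
      have h1 : (⟨b, hbP⟩ : P) ∈ (Subgroup.normalizer (R : Set G)).subgroupOf P :=
        Subgroup.le_normalizer (hB hb)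
      exact (Subgroup.mem_normalizer_iff.1 hg _).1 h1
    · rintro _ ⟨b, hb, rfl⟩
      exact mul_mem (mul_mem g.2 (hRP (hB hb))) (inv_mem g.2)
  refine hgR' ?_
  have hle : R.map (MulAut.conj (g : G)).toMonoidHom ≤ R := by
    conv_lhs => rw [hR]
    rw [map_conj_sSup]
    refine iSup₂_le fun B hB => ?_
    by_contra hBR
    obtain ⟨h1, h2⟩ := hmove B hB.1 hB.2.1
    exact hcon _ (hconj B hB.1 g) h2 hBR h1
  have heq : R.map (MulAut.conj (g : G)).toMonoidHom = R :=
    Subgroup.eq_of_le_of_card_ge hle (le_of_eq (Nat.card_congr (Subgroup.equivMapOfInjective R _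
      (MulEquiv.injective (MulAut.conj (g : G)))).toEquiv))
  rw [Subgroup.mem_normalizer_iff]
  intro b
  constructor
  · intro hb; rw [← heq]; exact ⟨b, hb, rfl⟩
  · intro hb
    rw [← heq] at hb
    obtain ⟨c, hc, hcb⟩ := hb
    exact (MulAut.conj (g : G)).injective hcb ▸ hc

/-- Baer–Suzuki: a conjugation-closed family of subgroups, any two of which generate a `p`-group,
generates a `p`-group. -/
theorem isPGroup_sSup_of_pairs {D : Set (Subgroup G)}
    (hconj : ∀ A ∈ D, ∀ g : G, A.map (MulAut.conj g).toMonoidHom ∈ D)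
    (hpair : ∀ A ∈ D, ∀ B ∈ D, IsPGroup p ↥(A ⊔ B)) :
    IsPGroup p ↥(sSup D) := by
  classical
  let f : Sylow p G → Set (Subgroup G) := fun P => {A ∈ D | A ≤ (P : Subgroup G)}
  by_cases hall : ∀ P Q : Sylow p G, f P = f Q
  · obtain ⟨P⟩ := (inferInstance : Nonempty (Sylow p G))
    refine P.2.to_le (sSup_le fun A hA => ?_)
    obtain ⟨Q, hQ⟩ := ((hpair A hA A hA).to_le le_sup_left : IsPGroup p A).exists_le_sylow
    have : A ∈ f Q := ⟨hA, hQ⟩
    rw [← hall P Q] at this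
    exact this.2
  exfalso
  push Not at hall
  -- all `f P` have the same cardinality
  have hcard : ∀ P Q : Sylow p G, (f P).ncard = (f Q).ncard := by
    have key : ∀ P Q : Sylow p G, (f P).ncard ≤ (f Q).ncard := by
      intro P Q
      obtain ⟨g, rfl⟩ := MulAction.exists_smul_eq G P Q
      refine Set.ncard_le_ncard_of_injOn (fun A => A.map (MulAut.conj g).toMonoidHom) ?_
        (fun A _ B _ h => Subgroup.map_injective (MulEquiv.injective (MulAut.conj g)) h)
      rintro A ⟨hA, hAP⟩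
      refine ⟨hconj A hA g, ?_⟩
      rintro _ ⟨a, ha, rfl⟩
      exact Subgroup.smul_mem_pointwise_smul a (MulAut.conj g) _ (hAP ha)
    exact fun P Q => le_antisymm (key P Q) (key Q P)
  -- choose two Sylow subgroups with different families and largest common part
  obtain ⟨P₀, Q₀, hPQ₀⟩ := hall
  have hne : {s : Sylow p G × Sylow p G | f s.1 ≠ f s.2}.Nonempty := ⟨(P₀, Q₀), hPQ₀⟩
  obtain ⟨⟨P, Q⟩, hPQ, hmax⟩ := Set.Finite.exists_maximalFor
    (fun s : Sylow p G × Sylow p G => (f s.1 ∩ f s.2).ncard) _ (Set.toFinite _) hne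
  simp only [Set.mem_setOf_eq] at hPQ hmax
  set E := f P ∩ f Q with hE
  set R := sSup E with hRdef
  have hRP : R ≤ P := sSup_le fun A hA => hA.1.2
  have hRQ : R ≤ Q := sSup_le fun A hA => hA.2.2
  have hinR : ∀ A ∈ D, A ≤ R → A ∈ E := fun A hA h =>
    ⟨⟨hA, h.trans hRP⟩, ⟨hA, h.trans hRQ⟩⟩
  have side : ∀ T : Sylow p G, R ≤ T → ¬ f T ⊆ E →
      ∃ Y ∈ D, Y ≤ T ∧ ¬ Y ≤ R ∧ Y ≤ Subgroup.normalizer (R : Set G) := by
    intro T hRT hsub
    refine exists_normalizing_member hconj T.2 ?_ ?_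
    · apply le_antisymm
      · refine sSup_le fun A hA => le_sSup ⟨hA.1.1, le_sSup hA, ?_⟩
        exact le_trans (le_sSup hA) hRT
      · exact sSup_le fun A hA => hA.2.1
    · obtain ⟨A, hA, hAE⟩ := Set.not_subset.1 hsub
      exact ⟨A, hA.1, hA.2, fun h => hAE (hinR A hA.1 h)⟩
  have hPsub : ¬ f P ⊆ E := fun h => hPQ (Set.eq_of_subset_of_ncard_le
    (fun A hA => (h hA).2) (le_of_eq (hcard Q P)))
  have hQsub : ¬ f Q ⊆ E := fun h => hPQ (Set.eq_of_subset_of_ncard_le
    (fun A hA => (h hA).1) (le_of_eq (hcard P Q))).symm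
  obtain ⟨Y, hY, hYP, hYR, hYN⟩ := side P hRP hPsub
  obtain ⟨Z, hZ, hZQ, hZR, hZN⟩ := side Q hRQ hQsub
  obtain ⟨T, hT⟩ := ((hpair Y hY Z hZ).to_sup_of_normal_right' (P.2.to_le hRP)
    (sup_le hYN hZN)).exists_le_sylow
  have hET : E ⊆ f T := fun A hA => ⟨hA.1.1, (le_sSup hA).trans (le_sup_right.trans hT)⟩
  have hYT : Y ∈ f T := ⟨hY, le_sup_left.trans (le_sup_left.trans hT)⟩
  have hZT : Z ∈ f T := ⟨hZ, le_sup_right.trans (le_sup_left.trans hT)⟩
  have grow : ∀ (U : Sylow p G) (W : Subgroup G), W ∈ D → W ≤ (U : Subgroup G) → W ∈ f T →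
      ¬ W ≤ R → E ⊆ f U → f U = f T := by
    intro U W hW hWU hWT hWR hEU
    by_contra hne'
    have hlt : E.ncard < (f U ∩ f T).ncard := by
      refine Set.ncard_lt_ncard ((Set.ssubset_iff_of_subset (Set.subset_inter hEU hET)).2
        ⟨W, ⟨⟨hW, hWU⟩, hWT⟩, fun hWE => hWR (le_sSup hWE)⟩) (Set.toFinite _)
    have := hmax (j := (U, T)) hne' (le_of_lt hlt)
    simp only at this
    omega
  have h1 := grow P Y hY hYP hYT hYR Set.inter_subset_left
  have h2 := grow Q Z hZ hZQ hZT hZR Set.inter_subset_right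
  exact hPQ (h1.trans h2.symm)

omit [Finite G] [Fact p.Prime] in
theorem sSup_conj_normal (X : Subgroup G) :
    (sSup {A : Subgroup G | ∃ g : G, A = X.map (MulAut.conj g).toMonoidHom}).Normal := by
  refine ⟨fun n hn g => ?_⟩
  have : g * n * g⁻¹ ∈ (sSup {A : Subgroup G | ∃ g : G, A = X.map (MulAut.conj g).toMonoidHom}).map
      (MulAut.conj g).toMonoidHom := ⟨n, hn, rfl⟩
  rw [map_conj_sSup] at this
  refine SetLike.le_def.1 (iSup₂_le ?_) this
  rintro _ ⟨a, rfl⟩
  refine le_sSup ⟨g * a, ?_⟩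
  rw [Subgroup.map_map]
  congr 1
  ext w
  simp [mul_assoc]

/-- Baer–Suzuki for subgroups. -/
theorem baer_suzuki (X : Subgroup G)
    (h : ∀ g : G, IsPGroup p ↥(X ⊔ X.map (MulAut.conj g).toMonoidHom)) :
    ∃ N : Subgroup G, N.Normal ∧ IsPGroup p N ∧ X ≤ N := by
  refine ⟨sSup {A : Subgroup G | ∃ g : G, A = X.map (MulAut.conj g).toMonoidHom},
    sSup_conj_normal X, isPGroup_sSup_of_pairs ?_ ?_, le_sSup ⟨1, ?_⟩⟩
  · rintro _ ⟨a, rfl⟩ g
    refine ⟨g * a, ?_⟩
    rw [Subgroup.map_map]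
    congr 1
    ext w
    simp [mul_assoc]
  · rintro _ ⟨a, rfl⟩ _ ⟨b, rfl⟩
    have := (h (a⁻¹ * b)).map (MulAut.conj a).toMonoidHom
    rw [Subgroup.map_sup, Subgroup.map_map] at this
    have e : (MulAut.conj a).toMonoidHom.comp (MulAut.conj (a⁻¹ * b)).toMonoidHom =
        (MulAut.conj b).toMonoidHom := by
      ext w
      simp [mul_assoc]
    rw [e] at this
    exact this
  · ext w
    simp

/-- Baer–Suzuki for elements: `x` lies in `O_p(G)` if it generates a `p`-group with each of its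
conjugates. -/
theorem baer_suzuki_mem_pCore {x : G}
    (h : ∀ g : G, IsPGroup p ↥(Subgroup.closure ({x, g * x * g⁻¹} : Set G))) :
    x ∈ Cfsg.pCore p G := by
  obtain ⟨N, hN, hNp, hxN⟩ := baer_suzuki (p := p) (Subgroup.zpowers x) (fun g => by
    have e : Subgroup.zpowers x ⊔ (Subgroup.zpowers x).map (MulAut.conj g).toMonoidHom =
        Subgroup.closure ({x, g * x * g⁻¹} : Set G) := by
      rw [MonoidHom.map_zpowers, Subgroup.zpowers_eq_closure, Subgroup.zpowers_eq_closure,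
        ← Subgroup.closure_union, Set.singleton_union]
      simp
    rw [e]; exact h g)
  exact le_sSup (s := {N : Subgroup G | N.Normal ∧ IsPGroup p N}) ⟨hN, hNp⟩
    (hxN (Subgroup.mem_zpowers x))

end CfsgLib.Invol
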