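import Cfsg.Agent.Lib.Invol.Strong
import Cfsg.Agent.S0727
import Mathlib.LinearAlgebra.Matrix.GeneralLinearGroup.Projective

/-!
Groups in which the involution centralisers are elementary abelian 2-groups.
-/

set_option autoImplicit false

namespace CfsgLib.Invol

variable {G : Type*} [Group G] [Finite G]

/-- The standing hypothesis: Sylow 2-subgroup neither cyclic nor normal, involution centralisers
elementary abelian. -/
structure CAHyp (T : Sylow 2 G) : Prop where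
  not_cyclic : ¬ IsCyclic (T : Subgroup G)
  not_normal : ¬ (T : Subgroup G).Normal
  cent : ∀ t : G, orderOf t = 2 → IsMulCommutative (Subgroup.centralizer ({t} : Set G)) ∧
    ∀ c ∈ Subgroup.centralizer ({t} : Set G), c ^ 2 = 1

/-- The normaliser of the Sylow 2-subgroup. -/
abbrev NH (T : Sylow 2 G) : Subgroup G := Subgroup.normalizer ((T : Subgroup G) : Set G)

/-- The two-point stabiliser. -/
def twoStab (T : Sylow 2 G) (y : G ⧸ NH T) : Subgroup G := NH T ⊓ MulAction.stabilizer G y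

/-- The base point. -/
abbrev pt (T : Sylow 2 G) : G ⧸ NH T := ((1 : G) : G ⧸ NH T)

variable {T : Sylow 2 G}

theorem smul_pt_iff {g : G} : g • pt T = pt T ↔ g ∈ NH T := by
  rw [fix_coset_iff]; simp

theorem smul_pt (g : G) : g • pt T = (g : G ⧸ NH T) := by
  rw [MulAction.Quotient.smul_coe, smul_eq_mul, mul_one]

theorem mem_twoStab {y : G ⧸ NH T} {d : G} :
    d ∈ twoStab T y ↔ d • pt T = pt T ∧ d • y = y := by
  rw [twoStab, Subgroup.mem_inf, smul_pt_iff, MulAction.mem_stabilizer_iff]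

namespace CAHyp

variable (h : CAHyp T)
include h

theorem sq_eq_one {a : G} (ha : a ∈ (T : Subgroup G)) : a ^ 2 = 1 := by
  haveI : Nontrivial (T : Subgroup G) :=
    not_subsingleton_iff_nontrivial.1 fun hs => h.not_cyclic inferInstance
  have hc := IsPGroup.center_nontrivial T.isPGroup'
  have hev : Even (Nat.card (Subgroup.center (T : Subgroup G))) := by
    obtain ⟨n, hn⟩ := IsPGroup.iff_card.1 (T.isPGroup'.to_subgroup (Subgroup.center (T : Subgroup G)))
    rw [hn, Nat.even_pow]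
    refine ⟨even_two, ?_⟩
    rintro rfl
    have := Finite.one_lt_card_iff_nontrivial.2 hc
    omega
  obtain ⟨z, hz, hz2⟩ := exists_invol_mem hev
  have hzG : orderOf (z : G) = 2 := by rwa [Subgroup.orderOf_coe]
  refine (h.cent _ hzG).2 a ?_
  rw [Subgroup.mem_centralizer_singleton_iff]
  exact congrArg Subtype.val (Subgroup.mem_center_iff.1 hz ⟨a, ha⟩)

theorem invol {a : G} (ha : a ∈ (T : Subgroup G)) (ha1 : a ≠ 1) : orderOf a = 2 :=
  invol_of_mul_self (by rw [← pow_two]; exact h.sq_eq_one ha) ha1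

theorem comm {a b : G} (ha : a ∈ (T : Subgroup G)) (hb : b ∈ (T : Subgroup G)) : Commute a b := by
  have e1 := h.sq_eq_one (mul_mem ha hb)
  have e2 := h.sq_eq_one ha
  have e3 := h.sq_eq_one hb
  rw [pow_two] at e1 e2 e3
  have ha' : a⁻¹ = a := inv_eq_of_mul_eq_one_right e2
  have hb' : b⁻¹ = b := inv_eq_of_mul_eq_one_right e3
  calc a * b = (a * b)⁻¹ := (inv_eq_of_mul_eq_one_right e1).symm
    _ = b * a := by rw [mul_inv_rev, ha', hb']

theorem centralizer_eq {t : G} (ht : t ∈ (T : Subgroup G)) (ht1 : t ≠ 1) :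
    Subgroup.centralizer ({t} : Set G) = (T : Subgroup G) := by
  refine T.is_maximal' ?_ ?_
  · intro c
    exact ⟨1, Subtype.ext (by simpa using (h.cent t (h.invol ht ht1)).2 _ c.2)⟩
  · intro a ha
    rw [Subgroup.mem_centralizer_singleton_iff]
    exact h.comm ha ht

theorem mem_NH {g t : G} (ht : t ∈ (T : Subgroup G)) (ht1 : t ≠ 1)
    (hg : g * t * g⁻¹ ∈ (T : Subgroup G)) : g ∈ NH T := by
  have h1 : g * t * g⁻¹ ≠ 1 := by simpa using ht1
  rw [Subgroup.mem_normalizer_iff]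
  intro a
  rw [← h.centralizer_eq ht ht1]
  conv_rhs => rw [h.centralizer_eq ht ht1, ← h.centralizer_eq hg h1]
  rw [Subgroup.mem_centralizer_singleton_iff, Subgroup.mem_centralizer_singleton_iff]
  constructor
  · intro e
    calc g * a * g⁻¹ * (g * t * g⁻¹) = g * (a * t) * g⁻¹ := by group
      _ = g * (t * a) * g⁻¹ := by rw [e]
      _ = _ := by group
  · intro e
    refine mul_left_cancel (a := g) (mul_right_cancel (b := g⁻¹) ?_)
    calc g * (a * t) * g⁻¹ = g * a * g⁻¹ * (g * t * g⁻¹) := by group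
      _ = g * t * g⁻¹ * (g * a * g⁻¹) := e
      _ = _ := by group

omit h in
theorem T_le_NH : (T : Subgroup G) ≤ NH T := Subgroup.le_normalizer

omit h in
theorem mem_T_of_sq {i : G} (hi : i ∈ NH T) (h2 : i * i = 1) : i ∈ (T : Subgroup G) := by
  have hp : IsPGroup 2 (Subgroup.zpowers i) := by
    by_cases h1 : i = 1
    · subst h1; exact isPGroup_zpowers_of_sq_one
    · exact isPGroup_zpowers_of_invol (invol_of_mul_self h2 h1)
  have hle : Subgroup.zpowers i ≤ NH T := by rwa [Subgroup.zpowers_le]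
  have hsup := T.isPGroup'.to_sup_of_normal_left' hp hle
  have := T.is_maximal' hsup le_sup_left
  rw [← this]
  exact Subgroup.mem_sup_right (Subgroup.mem_zpowers i)
where
  isPGroup_zpowers_of_sq_one : IsPGroup 2 (Subgroup.zpowers (1 : G)) := by
    rw [Subgroup.zpowers_one_eq_bot]; exact IsPGroup.of_bot

omit h in
theorem conj_mem {d a : G} (hd : d ∈ NH T) (ha : a ∈ (T : Subgroup G)) :
    d * a * d⁻¹ ∈ (T : Subgroup G) := (Subgroup.mem_normalizer_iff.1 hd a).1 ha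

theorem stronglyEmbedded : Cfsg.IsStronglyEmbedded (NH T) := by
  refine ⟨fun e => h.not_normal (Subgroup.normalizer_eq_top_iff.1 e), ?_, ?_⟩
  · haveI : Nontrivial (T : Subgroup G) :=
      not_subsingleton_iff_nontrivial.1 fun hs => h.not_cyclic inferInstance
    obtain ⟨a, ha⟩ := exists_ne (1 : (T : Subgroup G))
    exact even_card_of_invol_mem (h.invol a.2 (fun e => ha (Subtype.ext e))) (T_le_NH a.2)
  · intro g hg
    by_contra hodd
    rw [Nat.not_odd_iff_even] at hodd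
    obtain ⟨i, ⟨hiH, k, hk, hki⟩, hi⟩ := exists_invol_mem hodd
    have hki' : g * k * g⁻¹ = i := hki
    have hk2 : orderOf k = 2 := by rw [← orderOf_conj_eq g k, hki', hi]
    refine hg (h.mem_NH (mem_T_of_sq hk (invol_mul_self hk2)) (invol_ne_one hk2) ?_)
    rw [hki']
    exact mem_T_of_sq hiH (invol_mul_self hi)

theorem fix_of_T {a : G} (ha : a ∈ (T : Subgroup G)) (ha1 : a ≠ 1) {y : G ⧸ NH T}
    (hy : a • y = y) : y = pt T :=
  se_fix_eq h.stronglyEmbedded (h.invol ha ha1) hy (smul_pt_iff.2 (T_le_NH ha))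

theorem T_inj {a b : G} (ha : a ∈ (T : Subgroup G)) (hb : b ∈ (T : Subgroup G)) {y : G ⧸ NH T}
    (hy : y ≠ pt T) (hab : a • y = b • y) : a = b := by
  by_contra hne
  refine hy (h.fix_of_T (mul_mem (inv_mem hb) ha) (fun e => hne (inv_mul_eq_one.1 e).symm) ?_)
  rw [mul_smul, hab, inv_smul_smul]

theorem odd_twoStab {y : G ⧸ NH T} (hy : y ≠ pt T) : Odd (Nat.card (twoStab T y)) := by
  obtain ⟨g, rfl⟩ := QuotientGroup.mk_surjective y
  have hg : g ∉ NH T := fun hg => hy (by rw [← smul_pt, smul_pt_iff.2 hg])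
  have e : twoStab T (g : G ⧸ NH T) = NH T ⊓ (NH T).map (MulAut.conj g).toMonoidHom := by
    ext d; rw [mem_twoStab, mem_inter_conj_iff]
  rw [e]
  exact h.stronglyEmbedded.2.2 g hg

theorem odd_orderOf {y : G ⧸ NH T} (hy : y ≠ pt T) {d : G} (hd : d ∈ twoStab T y) :
    Odd (orderOf d) :=
  Odd.of_dvd_nat (h.odd_twoStab hy) (Subgroup.orderOf_dvd_natCard _ hd)

theorem semireg {y : G ⧸ NH T} (hy : y ≠ pt T) {d s : G} (hd : d ∈ twoStab T y)
    (hs : s ∈ (T : Subgroup G)) (hs1 : s ≠ 1) (hc : Commute d s) : d = 1 := by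
  have hdT : d ∈ (T : Subgroup G) := by
    rw [← h.centralizer_eq hs hs1, Subgroup.mem_centralizer_singleton_iff]; exact hc
  exact eq_one_of_sq_of_odd (by rw [← pow_two]; exact h.sq_eq_one hdT) (h.odd_orderOf hy hd)

theorem twoStab_trans {y : G ⧸ NH T} (hy : y ≠ pt T) {s t : G} (hs : s ∈ (T : Subgroup G))
    (hs1 : s ≠ 1) (ht : t ∈ (T : Subgroup G)) (ht1 : t ≠ 1) :
    ∃ d ∈ twoStab T y, d * s * d⁻¹ = t := by
  obtain ⟨d, h1, h2, h3⟩ := se_stab_transitive h.stronglyEmbedded hy.symm (h.invol hs hs1)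
    (h.invol ht ht1) (smul_pt_iff.2 (T_le_NH hs)) (smul_pt_iff.2 (T_le_NH ht))
  exact ⟨d, mem_twoStab.2 ⟨h1, h2⟩, h3⟩

theorem exists_ne_one : ∃ s ∈ (T : Subgroup G), s ≠ 1 := by
  by_contra hc
  push Not at hc
  haveI : Subsingleton (T : Subgroup G) :=
    ⟨fun a b => Subtype.ext ((hc a.1 a.2).trans (hc b.1 b.2).symm)⟩
  exact h.not_cyclic inferInstance

theorem card_twoStab {y : G ⧸ NH T} (hy : y ≠ pt T) :
    Nat.card (twoStab T y) + 1 = Nat.card (T : Subgroup G) := by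
  classical
  obtain ⟨s, hs, hs1⟩ := h.exists_ne_one
  haveI := Fintype.ofFinite (T : Subgroup G)
  let f : twoStab T y → {a : (T : Subgroup G) // a ≠ 1} := fun d =>
    ⟨⟨d.1 * s * d.1⁻¹, conj_mem d.2.1 hs⟩, fun e => hs1 (by
      simpa using congrArg Subtype.val e)⟩
  have hf : Function.Bijective f := by
    constructor
    · intro d d' e
      have e' : d.1 * s * d.1⁻¹ = d'.1 * s * d'.1⁻¹ := congrArg (fun a => (a.1 : G)) e
      have := h.semireg hy (mul_mem (inv_mem d'.2) d.2) hs hs1 (by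
        show d'.1⁻¹ * d.1 * s = s * (d'.1⁻¹ * d.1)
        calc d'.1⁻¹ * d.1 * s = d'.1⁻¹ * (d.1 * s * d.1⁻¹) * d.1 := by group
          _ = d'.1⁻¹ * (d'.1 * s * d'.1⁻¹) * d.1 := by rw [e']
          _ = _ := by group)
      exact Subtype.ext (inv_mul_eq_one.1 this).symm
    · rintro ⟨⟨t, ht⟩, ht1⟩
      obtain ⟨d, hd, hdt⟩ := h.twoStab_trans hy hs hs1 ht (fun e => ht1 (Subtype.ext e))
      exact ⟨⟨d, hd⟩, Subtype.ext (Subtype.ext hdt)⟩
  rw [Nat.card_congr (Equiv.ofBijective f hf), Nat.card_eq_fintype_card,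
    Nat.card_eq_fintype_card, Fintype.card_subtype_compl, Fintype.card_subtype_eq]
  exact Nat.sub_add_cancel Fintype.card_pos

theorem four_le_card : 4 ≤ Nat.card (T : Subgroup G) := by
  obtain ⟨n, hn⟩ := IsPGroup.iff_card.1 T.isPGroup'
  rcases le_or_gt 2 n with h2 | h2
  · rw [hn]; exact Nat.pow_le_pow_right two_pos h2 |>.trans' (by norm_num)
  · exfalso
    refine h.not_cyclic ?_
    interval_cases n
    · haveI : Subsingleton (T : Subgroup G) := (Nat.card_eq_one_iff_unique.1 (by simpa using hn)).1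
      infer_instance
    · haveI : Fact (Nat.Prime 2) := ⟨Nat.prime_two⟩
      exact isCyclic_of_prime_card (p := 2) (by simpa using hn)

theorem exists_twoStab_ne_one {y : G ⧸ NH T} (hy : y ≠ pt T) :
    ∃ d ∈ twoStab T y, d ≠ 1 := by
  by_contra hc
  push Not at hc
  have e : twoStab T y = ⊥ := (Subgroup.eq_bot_iff_forall _).2 hc
  have h1 := h.card_twoStab hy
  rw [e, Subgroup.card_bot] at h1
  have := h.four_le_card
  omega

/-- The orbit of `y` under the point stabiliser is its orbit under `T`. -/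
theorem orbit_T {y : G ⧸ NH T} (hy : y ≠ pt T) {g : G} (hg : g ∈ NH T) :
    ∃ a ∈ (T : Subgroup G), g • y = a • y := by
  obtain ⟨s, hs, hs1⟩ := h.exists_ne_one
  obtain ⟨d, hd, hdt⟩ := h.twoStab_trans hy hs hs1 (conj_mem hg hs) (by simpa using hs1)
  have hdH : d ∈ NH T := hd.1
  have ha : d⁻¹ * g ∈ (T : Subgroup G) := by
    rw [← h.centralizer_eq hs hs1, Subgroup.mem_centralizer_singleton_iff]
    calc d⁻¹ * g * s = d⁻¹ * (g * s * g⁻¹) * g := by group
      _ = d⁻¹ * (d * s * d⁻¹) * g := by rw [hdt]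
      _ = s * (d⁻¹ * g) := by group
  refine ⟨d * (d⁻¹ * g) * d⁻¹, conj_mem hdH ha, ?_⟩
  have hy' : d⁻¹ • y = y := inv_smul_eq_iff.2 ((mem_twoStab.1 hd).2).symm
  rw [mul_smul, hy', mul_inv_cancel_left]

theorem invert_pt {y : G ⧸ NH T} (hy : y ≠ pt T) {w d : G} (hw : orderOf w = 2)
    (hwy : w • pt T = y) (hd : d ∈ twoStab T y) : w * d * w⁻¹ = d⁻¹ := by
  classical
  have hset : Nat.card {t : G // orderOf t = 2 ∧ t ∈ NH T} + 1 = Nat.card (T : Subgroup G) := by
    haveI := Fintype.ofFinite (T : Subgroup G)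
    let e : {t : G // orderOf t = 2 ∧ t ∈ NH T} ≃ {a : (T : Subgroup G) // a ≠ 1} :=
      { toFun := fun t => ⟨⟨t.1, mem_T_of_sq t.2.2 (invol_mul_self t.2.1)⟩,
          fun e => invol_ne_one t.2.1 (congrArg Subtype.val e)⟩
        invFun := fun a => ⟨a.1.1, h.invol a.1.2 (fun e => a.2 (Subtype.ext e)), T_le_NH a.1.2⟩
        left_inv := fun _ => rfl
        right_inv := fun _ => rfl }
    rw [Nat.card_congr e, Nat.card_eq_fintype_card, Nat.card_eq_fintype_card,
      Fintype.card_subtype_compl, Fintype.card_subtype_eq]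
    exact Nat.sub_add_cancel Fintype.card_pos
  let f : {i : G // orderOf i = 2 ∧ i • pt T = y} → twoStab T y := fun i =>
    ⟨i.1 * w, mem_twoStab.2 ⟨by rw [mul_smul, hwy, invol_smul_swap i.2.1 i.2.2],
      by rw [mul_smul, invol_smul_swap hw hwy, i.2.2]⟩⟩
  have hinj : Function.Injective f := fun i j e =>
    Subtype.ext (mul_right_cancel (congrArg Subtype.val e))
  have hbij : Function.Bijective f := hinj.bijective_of_nat_card_le (by
    rw [se_card_swap h.stronglyEmbedded hy.symm]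
    have := h.card_twoStab hy
    omega)
  obtain ⟨⟨i, hi, hiy⟩, hid⟩ := hbij.2 ⟨d, hd⟩
  rw [show d = i * w from (congrArg Subtype.val hid).symm, mul_inv_rev, invol_inv hi, invol_inv hw,
    mul_assoc, mul_assoc, invol_mul_self hw, mul_one]

theorem invert {x y : G ⧸ NH T} (hxy : x ≠ y) {w d : G} (hw : orderOf w = 2) (hwy : w • x = y)
    (hdx : d • x = x) (hdy : d • y = y) : w * d * w⁻¹ = d⁻¹ := by
  obtain ⟨g, rfl⟩ := QuotientGroup.mk_surjective x
  have hg : g⁻¹ • (g : G ⧸ NH T) = pt T := by rw [← smul_pt, inv_smul_smul]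
  have e := h.invert_pt (y := g⁻¹ • y) (w := g⁻¹ * w * g) (d := g⁻¹ * d * g)
    (fun e => hxy (by rw [← smul_pt, ← e, smul_inv_smul]))
    (by rw [orderOf_conj_inv_eq, hw]) (by rw [mul_smul, mul_smul, smul_pt, hwy])
    (mem_twoStab.2 ⟨by rw [mul_smul, mul_smul, smul_pt, hdx, hg],
      by rw [mul_smul, mul_smul, smul_inv_smul, hdy]⟩)
  calc w * d * w⁻¹ = g * (g⁻¹ * w * g * (g⁻¹ * d * g) * (g⁻¹ * w * g)⁻¹) * g⁻¹ := by group
    _ = g * (g⁻¹ * d * g)⁻¹ * g⁻¹ := by rw [e]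
    _ = d⁻¹ := by group

theorem eq_one_of_commute_invol {y : G ⧸ NH T} (hy : y ≠ pt T) {i d : G} (hi : orderOf i = 2)
    (hd : d ∈ twoStab T y) (hc : Commute i d) : d = 1 :=
  eq_one_of_sq_of_odd (by
    rw [← pow_two]; exact (h.cent i hi).2 d (Subgroup.mem_centralizer_singleton_iff.2 hc.symm))
    (h.odd_orderOf hy hd)

/-- A nontrivial element of a two-point stabiliser fixes exactly these two points. -/
theorem fix_two {y p : G ⧸ NH T} (hy : y ≠ pt T) {d : G} (hd : d ∈ twoStab T y) (hd1 : d ≠ 1)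
    (hp : d • p = p) : p = pt T ∨ p = y := by
  classical
  by_contra hne
  push Not at hne
  obtain ⟨hp1, hpy⟩ := hne
  obtain ⟨hdx, hdy⟩ := mem_twoStab.1 hd
  set C := Subgroup.centralizer ({d} : Set G)
  -- transitivity of `C` on the fixed points of `d`
  have hstep : ∀ a b r : G ⧸ NH T, a ≠ r → r ≠ b → d • a = a → d • b = b → d • r = r →
      ∃ c ∈ C, c • a = b := by
    intro a b r har hrb ha hb hr
    obtain ⟨w1, hw1, hw1a⟩ := se_swap_exists h.stronglyEmbedded har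
    obtain ⟨w2, hw2, hw2a⟩ := se_swap_exists h.stronglyEmbedded hrb
    refine ⟨w2 * w1, ?_, by rw [mul_smul, hw1a, hw2a]⟩
    rw [Subgroup.mem_centralizer_singleton_iff]
    have e1 := h.invert har hw1 hw1a ha hr
    have e2 := h.invert hrb hw2 hw2a hr hb
    calc w2 * w1 * d = w2 * (w1 * d * w1⁻¹) * w1 := by group
      _ = (w2 * d * w2⁻¹)⁻¹ * (w2 * w1) := by rw [e1]; group
      _ = d * (w2 * w1) := by rw [e2, inv_inv]
  have hfix : ∀ q, d • q = q → q ∈ MulAction.orbit C (pt T) := by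
    intro q hq
    by_cases hq1 : q = pt T
    · rw [hq1]; exact MulAction.mem_orbit_self _
    obtain ⟨r, hr, hr1, hrq⟩ : ∃ r, d • r = r ∧ pt T ≠ r ∧ r ≠ q := by
      by_cases hqy : q = y
      · exact ⟨p, hp, hp1.symm, hqy ▸ hpy⟩
      · exact ⟨y, hdy, hy.symm, Ne.symm hqy⟩
    obtain ⟨c, hc, hcq⟩ := hstep _ q r hr1 hrq hdx hq hr
    exact ⟨⟨c, hc⟩, hcq⟩
  have horb : ∀ q, q ∈ MulAction.orbit C (pt T) ↔ d • q = q := by
    refine fun q => ⟨?_, hfix q⟩
    rintro ⟨⟨c, hc⟩, rfl⟩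
    show d • c • pt T = c • pt T
    rw [← mul_smul, ← Subgroup.mem_centralizer_singleton_iff.1 hc, mul_smul, hdx]
  have hCodd : Odd (Nat.card C) := Nat.not_even_iff_odd.1 fun hev => by
    obtain ⟨i, hiC, hi⟩ := exists_invol_mem hev
    exact hd1 (h.eq_one_of_commute_invol hy hi hd (Subgroup.mem_centralizer_singleton_iff.1 hiC))
  haveI := Fintype.ofFinite (G ⧸ NH T)
  have hodd : Odd (Nat.card (MulAction.orbit C (pt T))) := by
    refine Odd.of_dvd_nat hCodd ?_
    rw [Nat.card_coe_set_eq, ← MulAction.index_stabilizer]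
    exact Subgroup.index_dvd_card _
  obtain ⟨w, hw, hwy⟩ := se_swap_exists h.stronglyEmbedded hy.symm
  have hwd : w * d * w⁻¹ = d⁻¹ := h.invert_pt hy hw hwy hd
  have hmap : ∀ q : G ⧸ NH T, d • q = q → d • w • q = w • q := by
    intro q hq
    have e : d * w = w * d⁻¹ := by
      calc d * w = (w * d * w⁻¹)⁻¹ * w := by rw [hwd, inv_inv]
        _ = w * d⁻¹ := by group
    rw [← mul_smul, e, mul_smul, inv_smul_eq_iff.2 hq.symm]
  let σ : Equiv.Perm {q : G ⧸ NH T // d • q = q} :=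
    ⟨fun q => ⟨w • q.1, hmap _ q.2⟩, fun q => ⟨w • q.1, hmap _ q.2⟩,
      fun q => Subtype.ext (show w • w • q.1 = q.1 by rw [← mul_smul, invol_mul_self hw, one_smul]),
      fun q => Subtype.ext (show w • w • q.1 = q.1 by rw [← mul_smul, invol_mul_self hw, one_smul])⟩
  haveI : Fact (Nat.Prime 2) := ⟨Nat.prime_two⟩
  obtain ⟨⟨r, hr⟩, hrfix⟩ := Equiv.Perm.exists_fixed_point_of_prime (p := 2) (n := 1) (σ := σ)
    (by
      rw [← Nat.card_eq_fintype_card, ← Nat.card_congr (Equiv.subtypeEquivRight horb)]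
      exact fun h2 => Nat.not_even_iff_odd.2 hodd (even_iff_two_dvd.2 h2))
    (by
      ext q
      simp [σ, pow_two, ← mul_smul, invol_mul_self hw])
  have hwr : w • r = r := congrArg Subtype.val hrfix
  obtain ⟨g, rfl⟩ := QuotientGroup.mk_surjective r
  have hw' : g⁻¹ * w * g ∈ NH T := (fix_coset_iff _ _).1 hwr
  have hd' : g⁻¹ * d * g ∈ NH T := (fix_coset_iff _ _).1 hr
  have hwT := mem_T_of_sq hw' (invol_mul_self (by rw [orderOf_conj_inv_eq, hw]))
  have e := h.sq_eq_one (mul_mem hwT (conj_mem hd' hwT))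
  have e2 : g⁻¹ * w * g * (g⁻¹ * d * g * (g⁻¹ * w * g) * (g⁻¹ * d * g)⁻¹) =
      g⁻¹ * (d * d)⁻¹ * g := by
    calc _ = g⁻¹ * ((w * d * w⁻¹) * (w * w) * d⁻¹) * g := by group
      _ = _ := by rw [hwd, invol_mul_self hw, mul_one, mul_inv_rev]
  rw [e2, pow_two] at e
  have e3 : (d * d) * (d * d) = 1 := by
    have : g⁻¹ * ((d * d) * (d * d))⁻¹ * g = 1 := by
      rw [← e]; group
    have e4 := congrArg (fun x => g * x⁻¹ * g⁻¹) this
    simpa [mul_assoc] using e4
  have h1 : d * d = 1 := by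
    refine eq_one_of_sq_of_odd e3 (Odd.of_dvd_nat (h.odd_orderOf hy hd) ?_)
    rw [← pow_two]
    exact orderOf_pow_dvd 2
  exact hd1 (eq_one_of_sq_of_odd h1 (h.odd_orderOf hy hd))

theorem three_fix_pt {y p : G ⧸ NH T} (hy : y ≠ pt T) (hp : p ≠ pt T) (hpy : p ≠ y) {g : G}
    (h1 : g • pt T = pt T) (h2 : g • y = y) (h3 : g • p = p) : g = 1 := by
  by_contra hg
  exact (h.fix_two hy (mem_twoStab.2 ⟨h1, h2⟩) hg h3).elim hp hpy

theorem three_fix {g : G} {x y z : G ⧸ NH T} (hxy : x ≠ y) (hxz : x ≠ z) (hyz : y ≠ z)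
    (h1 : g • x = x) (h2 : g • y = y) (h3 : g • z = z) : g = 1 := by
  obtain ⟨k, rfl⟩ := QuotientGroup.mk_surjective x
  have e := h.three_fix_pt (g := k⁻¹ * g * k) (y := k⁻¹ • y) (p := k⁻¹ • z)
    (fun e => hxy (by rw [← smul_pt, ← e, smul_inv_smul]))
    (fun e => hxz (by rw [← smul_pt, ← e, smul_inv_smul]))
    (fun e => hyz (MulAction.injective k⁻¹ e).symm)
    (by rw [mul_smul, mul_smul, smul_pt, h1, ← smul_pt, inv_smul_smul])
    (by rw [mul_smul, mul_smul, smul_inv_smul, h2])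
    (by rw [mul_smul, mul_smul, smul_inv_smul, h3])
  calc g = k * (k⁻¹ * g * k) * k⁻¹ := by group
    _ = 1 := by rw [e]; group

theorem T_transitive {y p : G ⧸ NH T} (hy : y ≠ pt T) (hp : p ≠ pt T) :
    ∃ a ∈ (T : Subgroup G), a • p = y := by
  obtain ⟨d, hd, hd1⟩ := h.exists_twoStab_ne_one hy
  obtain ⟨a, ha, hap⟩ := h.orbit_T hp (g := d) hd.1
  let f : ↥(T : Subgroup G) → ↥(T : Subgroup G) := fun c =>
    ⟨c.1⁻¹ * (d * c.1 * d⁻¹), mul_mem (inv_mem c.2) (conj_mem hd.1 c.2)⟩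
  have hinj : Function.Injective f := by
    intro c c' e
    have e' : c.1⁻¹ * (d * c.1 * d⁻¹) = c'.1⁻¹ * (d * c'.1 * d⁻¹) := congrArg Subtype.val e
    by_contra hne
    refine hd1 (h.semireg hy hd (mul_mem c.2 (inv_mem c'.2))
      (fun e1 => hne (Subtype.ext (mul_inv_eq_one.1 e1))) ?_)
    have hce : c.1 * c'.1⁻¹ = d * c.1 * d⁻¹ * (d * c'.1 * d⁻¹)⁻¹ := by
      calc c.1 * c'.1⁻¹ = c.1 * (c'.1⁻¹ * (d * c'.1 * d⁻¹)) * (d * c'.1 * d⁻¹)⁻¹ := by group
        _ = _ := by rw [← e']; group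
    show d * (c.1 * c'.1⁻¹) = c.1 * c'.1⁻¹ * d
    calc d * (c.1 * c'.1⁻¹) = d * c.1 * d⁻¹ * (d * c'.1 * d⁻¹)⁻¹ * d := by group
      _ = _ := by rw [← hce]
  obtain ⟨c, hc⟩ := (Finite.injective_iff_surjective.1 hinj) ⟨a⁻¹, inv_mem ha⟩
  have hc' : c.1⁻¹ * (d * c.1 * d⁻¹) = a⁻¹ := congrArg Subtype.val hc
  have hfix : d • c.1 • p = c.1 • p := by
    calc d • c.1 • p = (d * c.1 * d⁻¹) • d • p := by simp [← mul_smul]
      _ = (c.1 * (c.1⁻¹ * (d * c.1 * d⁻¹))) • a • p := by rw [hap, mul_inv_cancel_left]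
      _ = _ := by rw [hc', mul_smul, inv_smul_smul]
  refine ⟨c.1, c.2, (h.fix_two hy hd hd1 hfix).resolve_left fun e => hp ?_⟩
  rw [eq_inv_smul_iff.2 e, smul_pt_iff]
  exact inv_mem (T_le_NH c.2)

theorem existsUnique_T {x y : G ⧸ NH T} (hx : x ≠ pt T) (hy : y ≠ pt T) :
    ∃! t : G, t ∈ T ∧ t • x = y := by
  obtain ⟨a, ha, hax⟩ := h.T_transitive hy hx
  exact ⟨a, ⟨ha, hax⟩, fun b hb => h.T_inj hb.1 ha hx (hb.2.trans hax.symm)⟩

theorem card_points : Nat.card (G ⧸ NH T) = Nat.card (T : Subgroup G) + 1 := by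
  classical
  haveI := Fintype.ofFinite (G ⧸ NH T)
  obtain ⟨g, -, hg⟩ := SetLike.exists_of_lt h.stronglyEmbedded.1.lt_top
  have hy : (g : G ⧸ NH T) ≠ pt T := fun e => hg (smul_pt_iff.1 ((smul_pt g).trans e))
  let f : ↥(T : Subgroup G) → {q : G ⧸ NH T // q ≠ pt T} := fun a =>
    ⟨a.1 • (g : G ⧸ NH T), fun e => hy (MulAction.injective a.1
      (e.trans (smul_pt_iff.2 (T_le_NH a.2)).symm))⟩
  have hf : Function.Bijective f := by
    refine ⟨fun a b e => Subtype.ext (h.T_inj a.2 b.2 hy (congrArg Subtype.val e)), ?_⟩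
    rintro ⟨q, hq⟩
    obtain ⟨a, ha, e⟩ := h.T_transitive hq hy
    exact ⟨⟨a, ha⟩, Subtype.ext e⟩
  rw [Nat.card_congr (Equiv.ofBijective f hf), Nat.card_eq_fintype_card, Nat.card_eq_fintype_card,
    Fintype.card_subtype_compl, Fintype.card_subtype_eq]
  exact (Nat.sub_add_cancel Fintype.card_pos).symm

theorem twoStab_transitive {y p q : G ⧸ NH T} (hy : y ≠ pt T) (hp : p ≠ pt T) (hpy : p ≠ y)
    (hq : q ≠ pt T) (hqy : q ≠ y) : ∃ d ∈ twoStab T y, d • p = q := by
  classical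
  haveI := Fintype.ofFinite (G ⧸ NH T)
  let f : twoStab T y → {r : G ⧸ NH T // r ∉ ({pt T, y} : Finset (G ⧸ NH T))} := fun d =>
    ⟨d.1 • p, by
      obtain ⟨h1, h2⟩ := mem_twoStab.1 d.2
      simp only [Finset.mem_insert, Finset.mem_singleton, not_or]
      exact ⟨fun e => hp (MulAction.injective d.1 (e.trans h1.symm)),
        fun e => hpy (MulAction.injective d.1 (e.trans h2.symm))⟩⟩
  have hinj : Function.Injective f := by
    intro a b e
    obtain ⟨h1, h2⟩ := mem_twoStab.1 (mul_mem (inv_mem b.2) a.2)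
    have e' : a.1 • p = b.1 • p := congrArg Subtype.val e
    have := h.three_fix_pt hy hp hpy h1 h2 (by rw [mul_smul, e', inv_smul_smul])
    exact Subtype.ext (inv_mul_eq_one.1 this).symm
  have hbij := hinj.bijective_of_nat_card_le (by
    rw [Nat.card_eq_fintype_card (α := {r : G ⧸ NH T // r ∉ ({pt T, y} : Finset (G ⧸ NH T))}),
      Fintype.card_subtype_compl, Fintype.card_coe, Finset.card_pair hy.symm]
    have h1 := h.card_twoStab hy
    have h2 := h.card_points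
    rw [Nat.card_eq_fintype_card] at h2
    omega)
  obtain ⟨d, hd⟩ := hbij.2 ⟨q, by simp [hq, hqy]⟩
  exact ⟨d.1, d.2, congrArg Subtype.val hd⟩

theorem triple_to_std {y p x₁ x₂ x₃ : G ⧸ NH T} (hy : y ≠ pt T) (hp : p ≠ pt T) (hpy : p ≠ y)
    (h12 : x₁ ≠ x₂) (h13 : x₁ ≠ x₃) (h23 : x₂ ≠ x₃) :
    ∃ g : G, g • x₁ = pt T ∧ g • x₂ = y ∧ g • x₃ = p := by
  obtain ⟨k, rfl⟩ := QuotientGroup.mk_surjective x₁
  have h2 : k⁻¹ • x₂ ≠ pt T := fun e => h12 (by rw [← smul_pt, ← e, smul_inv_smul])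
  obtain ⟨a, ha, hax⟩ := h.T_transitive hy h2
  have e1 : (a * k⁻¹) • (k : G ⧸ NH T) = pt T := by
    rw [mul_smul, ← smul_pt k, inv_smul_smul, smul_pt_iff.2 (T_le_NH ha)]
  have e2 : (a * k⁻¹) • x₂ = y := by rw [mul_smul, hax]
  obtain ⟨d, hd, hdp⟩ := h.twoStab_transitive (p := (a * k⁻¹) • x₃) (q := p) hy
    (fun e => h13 (MulAction.injective (a * k⁻¹) (e1.trans e.symm)))
    (fun e => h23 (MulAction.injective (a * k⁻¹) (e2.trans e.symm))) hp hpy
  obtain ⟨hd1, hd2⟩ := mem_twoStab.1 hd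
  exact ⟨d * (a * k⁻¹), by rw [mul_smul, e1, hd1], by rw [mul_smul, e2, hd2],
    by rw [mul_smul, hdp]⟩

theorem three_trans {x₁ x₂ x₃ y₁ y₂ y₃ : G ⧸ NH T} (h12 : x₁ ≠ x₂) (h13 : x₁ ≠ x₃)
    (h23 : x₂ ≠ x₃) (k12 : y₁ ≠ y₂) (k13 : y₁ ≠ y₃) (k23 : y₂ ≠ y₃) :
    ∃ g : G, g • x₁ = y₁ ∧ g • x₂ = y₂ ∧ g • x₃ = y₃ := by
  classical
  haveI := Fintype.ofFinite (G ⧸ NH T)
  obtain ⟨y, p, hy, hp, hpy⟩ : ∃ y p : G ⧸ NH T, y ≠ pt T ∧ p ≠ pt T ∧ p ≠ y := by
    obtain ⟨g, h1, h2, h3⟩ : ∃ g : G ⧸ NH T, True ∧ True ∧ g ≠ pt T := by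
      by_cases e : x₁ = pt T
      · exact ⟨x₂, trivial, trivial, fun e' => h12 (e.trans e'.symm)⟩
      · exact ⟨x₁, trivial, trivial, e⟩
    obtain ⟨r, hr⟩ : ∃ r, r ∉ ({pt T, g} : Finset (G ⧸ NH T)) := by
      by_contra hall
      push Not at hall
      have hle := Finset.card_le_card (s := Finset.univ) fun r _ => hall r
      have := Finset.card_le_two (a := pt T) (b := g)
      have h4 := h.four_le_card
      have h5 := h.card_points
      rw [Nat.card_eq_fintype_card, ← Finset.card_univ] at h5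
      omega
    simp only [Finset.mem_insert, Finset.mem_singleton, not_or] at hr
    exact ⟨g, r, h3, hr.1, hr.2⟩
  obtain ⟨g, g1, g2, g3⟩ := h.triple_to_std hy hp hpy h12 h13 h23
  obtain ⟨k, k1, k2, k3⟩ := h.triple_to_std hy hp hpy k12 k13 k23
  exact ⟨k⁻¹ * g, by rw [mul_smul, g1, ← k1, inv_smul_smul],
    by rw [mul_smul, g2, ← k2, inv_smul_smul], by rw [mul_smul, g3, ← k3, inv_smul_smul]⟩

theorem fix_twoStab_iff {y p : G ⧸ NH T} (hy : y ≠ pt T) :
    (∀ d ∈ twoStab T y, d • p = p) ↔ p = pt T ∨ p = y := by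
  refine ⟨fun hp => ?_, ?_⟩
  · obtain ⟨d, hd, hd1⟩ := h.exists_twoStab_ne_one hy
    exact h.fix_two hy hd hd1 (hp d hd)
  · rintro (rfl | rfl) d hd
    exacts [(mem_twoStab.1 hd).1, (mem_twoStab.1 hd).2]

theorem normalizer_twoStab {y : G ⧸ NH T} (hy : y ≠ pt T) {u : G} (hu : orderOf u = 2)
    (huy : u • pt T = y) :
    Subgroup.normalizer (twoStab T y : Set G) = twoStab T y ⊔ Subgroup.zpowers u := by
  refine le_antisymm ?_ (sup_le Subgroup.le_normalizer ?_)
  · intro g hg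
    have key : ∀ r, (r = pt T ∨ r = y) → g • r = pt T ∨ g • r = y := by
      intro r hr
      rw [← h.fix_twoStab_iff hy]
      intro d hd
      have hd' : g⁻¹ * d * g ∈ twoStab T y := by
        have := (Subgroup.mem_normalizer_iff.1 (inv_mem hg) d).1 hd
        simpa using this
      have := (h.fix_twoStab_iff hy).2 hr _ hd'
      rw [mul_smul, mul_smul, inv_smul_eq_iff] at this
      exact this
    have huy' : u • y = pt T := invol_smul_swap hu huy
    rcases key _ (Or.inl rfl) with e1 | e1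
    · have e2 : g • y = y := (key _ (Or.inr rfl)).resolve_left
        fun e => hy (MulAction.injective g (e.trans e1.symm))
      exact Subgroup.mem_sup_left (mem_twoStab.2 ⟨e1, e2⟩)
    · have e2 : g • y = pt T := (key _ (Or.inr rfl)).resolve_right
        fun e => hy (MulAction.injective g (e.trans e1.symm))
      have hmem : u * g ∈ twoStab T y :=
        mem_twoStab.2 ⟨by rw [mul_smul, e1, huy'], by rw [mul_smul, e2, huy]⟩
      rw [show g = u⁻¹ * (u * g) by group]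
      exact mul_mem (Subgroup.mem_sup_right (inv_mem (Subgroup.mem_zpowers u)))
        (Subgroup.mem_sup_left hmem)
  · rw [Subgroup.zpowers_le, Subgroup.mem_normalizer_iff]
    intro d
    constructor
    · intro hd
      rw [h.invert_pt hy hu huy hd]
      exact inv_mem hd
    · intro hd
      have e := h.invert_pt hy hu huy hd
      rw [invol_inv hu] at e hd
      have e' : u * (u * d * u) * u = d := by
        rw [← mul_assoc, ← mul_assoc, invol_mul_self hu, one_mul, mul_assoc, invol_mul_self hu,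
          mul_one]
      rw [e'] at e
      rw [e]
      exact inv_mem hd

end CAHyp

open MulAction in
theorem pretransitive_three_of {G α : Type*} [Group G] [MulAction G α]
    (h : ∀ a b c a' b' c' : α, a ≠ b → a ≠ c → b ≠ c → a' ≠ b' → a' ≠ c' → b' ≠ c' →
      ∃ g : G, g • a = a' ∧ g • b = b' ∧ g • c = c') :
    IsMultiplyPretransitive G α 3 := by
  refine ⟨fun x y => ?_⟩
  have hn : ∀ (z : Fin 3 ↪ α) (i j : Fin 3), i ≠ j → z i ≠ z j := fun z i j hij e => hij (z.injective e)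
  obtain ⟨g, g1, g2, g3⟩ := h (x 0) (x 1) (x 2) (y 0) (y 1) (y 2) (hn x 0 1 (by decide))
    (hn x 0 2 (by decide)) (hn x 1 2 (by decide)) (hn y 0 1 (by decide)) (hn y 0 2 (by decide))
    (hn y 1 2 (by decide))
  refine ⟨g, ?_⟩
  ext i
  fin_cases i <;> assumption

open Matrix in
theorem psl_toPGL_bijective_char_two {F : Type*} [Field F] [Fintype F] (h2 : ringChar F = 2) :
    Function.Bijective
      (Matrix.ProjectiveSpecialLinearGroup.toPGL (n := Fin 2) (R := F)) := by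
  refine ⟨Matrix.ProjectiveSpecialLinearGroup.toPGL_injective, fun x => ?_⟩
  obtain ⟨g, rfl⟩ := Matrix.ProjGenLinGroup.mk_surjective x
  obtain ⟨c, hc⟩ := FiniteField.isSquare_of_char_two h2 (g.1.det)
  have hg0 : g.1.det ≠ 0 := g.det_ne_zero
  have hc0 : c ≠ 0 := by rintro rfl; simp [hc] at hg0
  let s : Matrix.SpecialLinearGroup (Fin 2) F := ⟨c⁻¹ • g.1, by
    rw [det_smul, Fintype.card_fin, hc]; field_simp⟩
  refine ⟨(s : Matrix.ProjectiveSpecialLinearGroup (Fin 2) F), ?_⟩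
  rw [Matrix.ProjectiveSpecialLinearGroup.toPGL_mk, Matrix.ProjGenLinGroup.mk_eq_mk_iff]
  refine ⟨Units.mk0 c hc0, Units.ext ?_⟩
  show (c⁻¹ • g.1) * Matrix.diagonal (fun _ => c) = g.1
  ext i j
  simp [Matrix.mul_diagonal]
  field_simp

theorem CAHyp.exists_psl {G : Type*} [Group G] [Finite G] {T : Sylow 2 G} (h : CAHyp T) :
    ∃ (F : Type) (_ : Field F) (_ : Fintype F), Fintype.card F = Nat.card T ∧
      Nonempty (G ≃* Matrix.ProjectiveSpecialLinearGroup (Fin 2) F) := by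
  classical
  haveI := Fintype.ofFinite (G ⧸ NH T)
  obtain ⟨f, hf⟩ := IsPGroup.iff_card.1 T.isPGroup'
  have h4 := h.four_le_card
  have hf1 : 1 ≤ f := by
    by_contra hc
    rw [hf, show f = 0 by omega] at h4
    norm_num at h4
  have hα : Fintype.card (G ⧸ NH T) = 2 ^ f + 1 := by
    rw [← Nat.card_eq_fintype_card, h.card_points, hf]
  let φ : G →* Equiv.Perm (G ⧸ NH T) := MulAction.toPermHom G _
  have hφ : Function.Injective φ := by
    rw [injective_iff_map_eq_one]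
    intro g hg
    have hfix : ∀ q : G ⧸ NH T, g • q = q := fun q => Equiv.Perm.congr_fun hg q
    obtain ⟨a, b, c, hab, hac, hbc⟩ := Fintype.two_lt_card_iff.1
      (show 2 < Fintype.card (G ⧸ NH T) by rw [hα, ← hf]; omega)
    exact h.three_fix hab hac hbc (hfix a) (hfix b) (hfix c)
  have h3 : MulAction.IsMultiplyPretransitive φ.range (G ⧸ NH T) 3 := by
    refine pretransitive_three_of fun a b c a' b' c' h1 h2 h3 k1 k2 k3 => ?_
    obtain ⟨g, g1, g2, g3⟩ := h.three_trans h1 h2 h3 k1 k2 k3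
    exact ⟨⟨φ g, g, rfl⟩, g1, g2, g3⟩
  have hsharp : ∀ x : Fin 3 ↪ G ⧸ NH T, MulAction.stabilizer φ.range x = ⊥ := by
    intro x
    rw [Subgroup.eq_bot_iff_forall]
    rintro ⟨_, g, rfl⟩ hg
    have hx : ∀ i, g • x i = x i := fun i => congrArg (fun e : Fin 3 ↪ _ => e i) hg
    have hn : ∀ (i j : Fin 3), i ≠ j → x i ≠ x j := fun i j hij e => hij (x.injective e)
    have := h.three_fix (hn 0 1 (by decide)) (hn 0 2 (by decide)) (hn 1 2 (by decide))
      (hx 0) (hx 1) (hx 2)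
    exact Subtype.ext (by simp [this])
  obtain ⟨F, hF, hFF, hcard, ⟨e⟩⟩ := Cfsg.Agent.S0727.result hf1 hα φ.range h3 hsharp
  have h2 : ringChar F = 2 := FiniteField.even_card_iff_char_two.2 (by
    rw [hcard]
    obtain ⟨k, rfl⟩ := Nat.exists_eq_add_of_le hf1
    rw [pow_add, pow_one, Nat.mul_mod_right])
  refine ⟨F, hF, hFF, hcard.trans hf.symm, ⟨((MonoidHom.ofInjective hφ).trans e).trans
    (MulEquiv.ofBijective _ (psl_toPGL_bijective_char_two h2)).symm⟩⟩

end CfsgLib.Invol
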