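import Cfsg.Prelude.Def_Involutions
import Mathlib.Combinatorics.Enumerative.DoubleCounting
import Cfsg.Agent.Lib.Invol.Basic

/-!
# Strongly embedded subgroups

Each involution fixes exactly one coset; all involutions are conjugate; Bender's count of the
involutions interchanging two cosets.
-/

namespace CfsgLib.Invol

variable {G : Type*} [Group G] {H : Subgroup G}

theorem se_mem_of_conj [Finite G] (hH : Cfsg.IsStronglyEmbedded H) {u g : G} (hu : orderOf u = 2)
    (huH : u ∈ H) (hg : g * u * g⁻¹ ∈ H) : g ∈ H := by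
  by_contra hgH
  have hodd := hH.2.2 g hgH
  refine (Nat.not_even_iff_odd.2 hodd) (even_card_of_invol_mem (x := g * u * g⁻¹) ?_ ?_)
  · rw [orderOf_conj_eq, hu]
  · exact ⟨hg, ⟨u, huH, rfl⟩⟩

theorem se_mem_of_commute [Finite G] (hH : Cfsg.IsStronglyEmbedded H) {u g : G} (hu : orderOf u = 2)
    (huH : u ∈ H) (hg : Commute g u) : g ∈ H :=
  se_mem_of_conj hH hu huH (by rwa [hg.eq, mul_inv_cancel_right])

theorem se_centralizer_le [Finite G] (hH : Cfsg.IsStronglyEmbedded H) {u : G} (hu : orderOf u = 2)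
    (huH : u ∈ H) : Subgroup.centralizer ({u} : Set G) ≤ H := fun g hg =>
  se_mem_of_commute hH hu huH (Subgroup.mem_centralizer_singleton_iff.1 hg)

theorem fix_coset_iff (u g : G) : u • (g : G ⧸ H) = g ↔ g⁻¹ * u * g ∈ H := by
  rw [MulAction.Quotient.smul_coe, smul_eq_mul, eq_comm, QuotientGroup.eq, mul_assoc]

theorem se_exists_invol [Finite G] (hH : Cfsg.IsStronglyEmbedded H) :
    ∃ t ∈ H, orderOf t = 2 := exists_invol_mem hH.2.1

theorem se_exists_invol_notMem [Finite G] (hH : Cfsg.IsStronglyEmbedded H) :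
    ∃ u, u ∉ H ∧ orderOf u = 2 := by
  obtain ⟨t, htH, ht⟩ := se_exists_invol hH
  obtain ⟨g, -, hg⟩ := SetLike.exists_of_lt hH.1.lt_top
  exact ⟨g * t * g⁻¹, fun h => hg (se_mem_of_conj hH ht htH h), by rw [orderOf_conj_eq, ht]⟩

theorem se_isConj_mem_notMem [Finite G] (hH : Cfsg.IsStronglyEmbedded H) {s u : G}
    (hs : orderOf s = 2) (hsH : s ∈ H) (hu : orderOf u = 2) (huH : u ∉ H) : IsConj s u := by
  refine isConj_of_odd hs hu (Nat.not_even_iff_odd.1 fun heven => ?_)
  obtain ⟨z, hz, hzs, hzu⟩ := exists_commute_both hs hu heven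
  exact huH (se_mem_of_commute hH hz (se_mem_of_commute hH hs hsH hzs) hzu.symm)

theorem se_isConj [Finite G] (hH : Cfsg.IsStronglyEmbedded H) {a b : G} (ha : orderOf a = 2)
    (hb : orderOf b = 2) : IsConj a b := by
  obtain ⟨s, hsH, hs⟩ := se_exists_invol hH
  obtain ⟨u, huH, hu⟩ := se_exists_invol_notMem hH
  have key : ∀ t, orderOf t = 2 → IsConj s t := fun t ht => by
    by_cases htH : t ∈ H
    · exact (se_isConj_mem_notMem hH hs hsH hu huH).trans
        (se_isConj_mem_notMem hH ht htH hu huH).symm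
    · exact se_isConj_mem_notMem hH hs hsH ht htH
  exact (key a ha).symm.trans (key b hb)

theorem se_existsUnique_fix [Finite G] (hH : Cfsg.IsStronglyEmbedded H) {u : G}
    (hu : orderOf u = 2) : ∃! x : G ⧸ H, u • x = x := by
  obtain ⟨t, htH, ht⟩ := se_exists_invol hH
  obtain ⟨g, rfl⟩ := isConj_iff.1 (se_isConj hH ht hu)
  refine ⟨(g : G ⧸ H), (fix_coset_iff _ _).2 (by simpa [mul_assoc] using htH), fun x hx => ?_⟩
  induction x using QuotientGroup.induction_on with
  | _ k =>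
    rw [fix_coset_iff] at hx
    have hk : (k⁻¹ * g) * t * (k⁻¹ * g)⁻¹ ∈ H := by simpa [mul_assoc] using hx
    exact QuotientGroup.eq.2 (se_mem_of_conj hH ht htH hk)

theorem se_fix_eq [Finite G] (hH : Cfsg.IsStronglyEmbedded H) {u : G} (hu : orderOf u = 2)
    {x y : G ⧸ H} (hx : u • x = x) (hy : u • y = y) : x = y :=
  (se_existsUnique_fix hH hu).unique hx hy

theorem se_fix_of_commute [Finite G] (hH : Cfsg.IsStronglyEmbedded H) {u g : G}
    (hu : orderOf u = 2) (hg : Commute g u) {x : G ⧸ H} (hx : u • x = x) : g • x = x := by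
  refine se_fix_eq hH hu ?_ hx
  rw [← mul_smul, ← hg.eq, mul_smul, hx]

/-- An element centralised by one involution and inverted by another with a different fixed coset
has square one. -/
theorem se_inverted_centralized [Finite G] (hH : Cfsg.IsStronglyEmbedded H) {s i j : G}
    (hs : orderOf s = 2) (hi : orderOf i = 2) (hsj : Commute s j) (hij : i * j * i⁻¹ = j⁻¹)
    {x : G ⧸ H} (hsx : s • x = x) (hix : i • x ≠ x) : j * j = 1 := by
  have hodd : Odd (orderOf (s * i)) := Nat.not_even_iff_odd.1 fun heven => by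
    obtain ⟨z, hz, hzs, hzi⟩ := exists_commute_both hs hi heven
    exact hix (se_fix_of_commute hH hz hzi.symm (se_fix_of_commute hH hs hzs hsx))
  obtain ⟨d, hd, hdi⟩ := exists_conj_of_odd hs hi hodd
  obtain ⟨k, rfl⟩ := hd
  have hsj' : s * j * s⁻¹ = j := by rw [hsj.eq, mul_inv_cancel_right]
  have hact : (s * i) * j * (s * i)⁻¹ = j⁻¹ := by
    calc (s * i) * j * (s * i)⁻¹ = s * (i * j * i⁻¹) * s⁻¹ := by group
      _ = (s * j * s⁻¹)⁻¹ := by rw [hij]; group
      _ = j⁻¹ := by rw [hsj']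
  -- `(s i)` inverts `j`, so each power of it maps `j` to `j` or `j⁻¹`
  have hpow : ∀ n : ℕ, (s * i) ^ n * j * ((s * i) ^ n)⁻¹ = j ∨
      (s * i) ^ n * j * ((s * i) ^ n)⁻¹ = j⁻¹ := by
    intro n
    induction n with
    | zero => left; simp
    | succ n ih =>
      have e : (s * i) ^ (n + 1) * j * ((s * i) ^ (n + 1))⁻¹
          = (s * i) ^ n * ((s * i) * j * (s * i)⁻¹) * ((s * i) ^ n)⁻¹ := by
        rw [pow_succ]; group
      rw [e, hact]
      have e2 : (s * i) ^ n * j⁻¹ * ((s * i) ^ n)⁻¹ = ((s * i) ^ n * j * ((s * i) ^ n)⁻¹)⁻¹ := by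
        group
      rw [e2]
      rcases ih with h | h <;> rw [h]
      · exact Or.inr rfl
      · exact Or.inl (inv_inv j)
  obtain ⟨n, hn⟩ : ∃ n : ℕ, (s * i) ^ k = (s * i) ^ n := by
    refine ⟨(k % orderOf (s * i)).toNat, ?_⟩
    rw [← zpow_natCast, Int.toNat_of_nonneg (Int.emod_nonneg _ (by
      exact_mod_cast (orderOf_pos (s * i)).ne')), zpow_mod_orderOf]
  simp only [hn] at hdi
  have hcomm : ∀ w : G, (w = j ∨ w = j⁻¹) → i * w * i⁻¹ = w → j * j = 1 := by
    rintro w (rfl | rfl) hw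
    · rw [hij] at hw
      nth_rewrite 1 [← hw]
      exact inv_mul_cancel _
    · rw [← conj_inv, hij, inv_inv] at hw
      nth_rewrite 1 [hw]
      exact inv_mul_cancel _
  refine hcomm _ (hpow n) ?_
  generalize (s * i) ^ n = c at hdi ⊢
  rw [← hdi]
  calc _ = c * (s * j * s⁻¹) * c⁻¹ := by group
    _ = _ := by rw [hsj']

open Classical in
theorem se_card_invol_fix [Finite G] (hH : Cfsg.IsStronglyEmbedded H) (x : G ⧸ H) :
    Nat.card {t : G // orderOf t = 2 ∧ t • x = x} =
      Nat.card {t : G // orderOf t = 2 ∧ t ∈ H} := by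
  induction x using QuotientGroup.induction_on with
  | _ g =>
    refine Nat.card_congr
      ((MulAut.conj g⁻¹).toEquiv.subtypeEquiv fun t => ?_)
    show (orderOf t = 2 ∧ t • (g : G ⧸ H) = g) ↔
      (orderOf (g⁻¹ * t * g⁻¹⁻¹) = 2 ∧ g⁻¹ * t * g⁻¹⁻¹ ∈ H)
    rw [orderOf_conj_eq, fix_coset_iff, inv_inv]

theorem invol_smul_swap {α : Type*} [MulAction G α] {i : G} (hi : orderOf i = 2) {x y : α}
    (h : i • x = y) : i • y = x := by
  rw [← h, ← mul_smul, invol_mul_self hi, one_smul]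

section Count

variable [Finite G]

theorem se_fix_map {x y : G ⧸ H} {i w s : G} (hi : orderOf i = 2) (hw : orderOf w = 2)
    (hs : orderOf s = 2) (hix : i • x = y) (hwx : w • x = y) (hsx : s • x = x) :
    orderOf ((i * w) * s * (i * w)⁻¹) = 2 ∧ ((i * w) * s * (i * w)⁻¹) • x = x := by
  refine ⟨by rw [orderOf_conj_eq, hs], ?_⟩
  have h1 : (i * w) • x = x := by rw [mul_smul, hwx, invol_smul_swap hi hix]
  have h2 : (i * w)⁻¹ • x = x := inv_smul_eq_iff.2 h1.symm
  rw [mul_smul, mul_smul, h2, hsx, h1]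

/-- Bender's injection from the involutions mapping `x` to `y` into those fixing `x`. -/
theorem se_swap_map_inj (hH : Cfsg.IsStronglyEmbedded H) {x y : G ⧸ H} (hxy : x ≠ y)
    {i i' w s : G} (hi : orderOf i = 2) (hi' : orderOf i' = 2) (hw : orderOf w = 2)
    (hs : orderOf s = 2) (hix : i • x = y) (hi'x : i' • x = y) (hwx : w • x = y)
    (hsx : s • x = x) (heq : (i * w) * s * (i * w)⁻¹ = (i' * w) * s * (i' * w)⁻¹) : i = i' := by
  by_contra hne
  have hj : (i' * i) * (w * s * w⁻¹) * (i' * i)⁻¹ = w * s * w⁻¹ := by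
    have e : i' * (i' * w * s * (i' * w)⁻¹) * i'⁻¹ = w * s * w⁻¹ := by
      rw [← mul_assoc, ← mul_assoc, ← mul_assoc, invol_mul_self hi', one_mul, mul_inv_rev,
        mul_assoc _ (w⁻¹ * i'⁻¹), mul_assoc w⁻¹, ← mul_inv_rev, invol_mul_self hi', inv_one, mul_one]
    rw [← heq] at e
    refine Eq.trans ?_ e
    group
  set s' := w * s * w⁻¹
  have hs' : orderOf s' = 2 := by rw [orderOf_conj_eq, hs]
  have hs'y : s' • y = y := by
    show (w * s * w⁻¹) • y = y
    rw [mul_smul, mul_smul, invol_inv hw, invol_smul_swap hw hwx, hsx, hwx]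
  have hcomm : Commute s' (i' * i) := (mul_inv_eq_iff_eq_mul.1 hj).symm
  have hjy : (i' * i) • y = y := by rw [mul_smul, invol_smul_swap hi hix, hi'x]
  have hjx : (i' * i) • x = x := by rw [mul_smul, hix, invol_smul_swap hi' hi'x]
  have hi'y : i' • y ≠ y := by rw [invol_smul_swap hi' hi'x]; exact hxy
  have hsq := se_inverted_centralized hH hs' hi' hcomm (conj_left_mul hi' hi) hs'y hi'y
  have hne1 : i' * i ≠ 1 := fun h => hne (by
    rw [← invol_inv hi', eq_inv_of_mul_eq_one_right h])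
  exact hxy (se_fix_eq hH (invol_of_mul_self hsq hne1) hjx hjy)

open Classical in
theorem se_card_swap_le (hH : Cfsg.IsStronglyEmbedded H) {x y : G ⧸ H} (hxy : x ≠ y) :
    Nat.card {i : G // orderOf i = 2 ∧ i • x = y} ≤
      Nat.card {t : G // orderOf t = 2 ∧ t • x = x} := by
  rcases isEmpty_or_nonempty {i : G // orderOf i = 2 ∧ i • x = y} with h | ⟨⟨w, hw, hwx⟩⟩
  · simp
  obtain ⟨s0, hs0H, hs0⟩ := se_exists_invol hH
  obtain ⟨g, rfl⟩ := QuotientGroup.mk_surjective x
  have hs : orderOf (g * s0 * g⁻¹) = 2 := by rw [orderOf_conj_eq, hs0]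
  have hsx : (g * s0 * g⁻¹) • (g : G ⧸ H) = g :=
    (fix_coset_iff _ _).2 (by simpa [mul_assoc] using hs0H)
  refine Nat.card_le_card_of_injective
    (fun i => ⟨(i.1 * w) * (g * s0 * g⁻¹) * (i.1 * w)⁻¹,
      se_fix_map i.2.1 hw hs i.2.2 hwx hsx⟩) ?_
  intro i i' h
  exact Subtype.ext (se_swap_map_inj hH hxy i.2.1 i'.2.1 hw hs i.2.2 i'.2.2 hwx hsx
    (congrArg Subtype.val h))

open Classical in
/-- Bender: for cosets `x ≠ y` the involutions mapping `x` to `y` are as many as those in `H`. -/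
theorem se_card_swap (hH : Cfsg.IsStronglyEmbedded H) {x y : G ⧸ H} (hxy : x ≠ y) :
    Nat.card {i : G // orderOf i = 2 ∧ i • x = y} =
      Nat.card {t : G // orderOf t = 2 ∧ t ∈ H} := by
  have : Fintype G := Fintype.ofFinite G
  have : Fintype (G ⧸ H) := Fintype.ofFinite _
  set h := Nat.card {t : G // orderOf t = 2 ∧ t ∈ H}
  let I : Finset G := Finset.univ.filter fun i => orderOf i = 2
  let a : G ⧸ H → G ⧸ H → ℕ := fun p q => (I.filter fun i => i • p = q).card
  have ha : ∀ p q, a p q = Nat.card {i : G // orderOf i = 2 ∧ i • p = q} := by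
    intro p q
    rw [Nat.card_eq_fintype_card, Fintype.card_subtype]
    simp [a, I, Finset.filter_filter]
  have hrow : ∀ p, ∑ q, a p q = I.card := fun p => (Finset.card_eq_sum_card_fiberwise
    (fun i _ => Finset.mem_univ (i • p))).symm
  have hdiag : ∀ p, a p p = h := fun p => by rw [ha]; exact se_card_invol_fix hH p
  have hle : ∀ p q, a p q ≤ h := by
    intro p q
    by_cases hpq : p = q
    · rw [hpq, hdiag]
    · rw [ha, ← hdiag p, ha]
      exact se_card_swap_le hH hpq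
  have hfix : ∀ i ∈ I, (Finset.univ.filter fun p : G ⧸ H => i • p = p).card = 1 := by
    intro i hi
    obtain ⟨x0, hx0, huniq⟩ := se_existsUnique_fix hH (Finset.mem_filter.1 hi).2
    rw [Finset.card_eq_one]
    refine ⟨x0, Finset.eq_singleton_iff_unique_mem.2 ⟨?_, ?_⟩⟩
    · simpa using hx0
    · intro p hp; exact huniq p (by simpa using hp)
  have hI : I.card = Fintype.card (G ⧸ H) * h := by
    have h1 : ∑ p, a p p = Fintype.card (G ⧸ H) * h := by
      simp [hdiag]
    have h2 : ∑ p, a p p = ∑ i ∈ I, (Finset.univ.filter fun p : G ⧸ H => i • p = p).card :=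
      Finset.sum_card_bipartiteAbove_eq_sum_card_bipartiteBelow
        (fun (p : G ⧸ H) (i : G) => i • p = p) (s := Finset.univ) (t := I)
    rw [← h1, h2, Finset.sum_congr rfl hfix]
    simp
  have hall : ∑ q, a x q = ∑ _q : G ⧸ H, h := by
    rw [hrow, hI]; simp
  have := (Finset.sum_eq_sum_iff_of_le fun q _ => hle x q).1 hall y (Finset.mem_univ y)
  rw [← ha]; exact this

theorem se_swap_exists (hH : Cfsg.IsStronglyEmbedded H) {x y : G ⧸ H} (hxy : x ≠ y) :
    ∃ i : G, orderOf i = 2 ∧ i • x = y := by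
  obtain ⟨t, htH, ht⟩ := se_exists_invol hH
  have : Nonempty {t : G // orderOf t = 2 ∧ t ∈ H} := ⟨⟨t, ht, htH⟩⟩
  have h := se_card_swap hH hxy
  have hpos : 0 < Nat.card {i : G // orderOf i = 2 ∧ i • x = y} := h ▸ Nat.card_pos
  obtain ⟨⟨i, hi⟩⟩ := (Nat.card_pos_iff.1 hpos).1
  exact ⟨i, hi⟩

/-- Bender: the two-point stabiliser is transitive on the involutions fixing the first point. -/
theorem se_stab_transitive (hH : Cfsg.IsStronglyEmbedded H) {x y : G ⧸ H} (hxy : x ≠ y)
    {s t : G} (hs : orderOf s = 2) (ht : orderOf t = 2) (hsx : s • x = x) (htx : t • x = x) :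
    ∃ d : G, d • x = x ∧ d • y = y ∧ d * s * d⁻¹ = t := by
  obtain ⟨w, hw, hwx⟩ := se_swap_exists hH hxy
  let f : {i : G // orderOf i = 2 ∧ i • x = y} → {t : G // orderOf t = 2 ∧ t • x = x} :=
    fun i => ⟨(i.1 * w) * s * (i.1 * w)⁻¹, se_fix_map i.2.1 hw hs i.2.2 hwx hsx⟩
  have hinj : Function.Injective f := fun i i' h =>
    Subtype.ext (se_swap_map_inj hH hxy i.2.1 i'.2.1 hw hs i.2.2 i'.2.2 hwx hsx
      (congrArg Subtype.val h))
  have hbij : Function.Bijective f := by
    refine hinj.bijective_of_nat_card_le ?_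
    rw [se_card_invol_fix hH x, se_card_swap hH hxy]
  obtain ⟨⟨i, hi, hix⟩, hieq⟩ := hbij.2 ⟨t, ht, htx⟩
  refine ⟨i * w, ?_, ?_, congrArg Subtype.val hieq⟩
  · rw [mul_smul, hwx, invol_smul_swap hi hix]
  · rw [mul_smul, invol_smul_swap hw hwx, hix]

theorem mem_inter_conj_iff {u d : G} :
    d ∈ H ⊓ H.map (MulAut.conj u).toMonoidHom ↔
      d • ((1 : G) : G ⧸ H) = ((1 : G) : G ⧸ H) ∧ d • (u : G ⧸ H) = (u : G ⧸ H) := by
  rw [Subgroup.mem_inf, fix_coset_iff, fix_coset_iff]
  simp only [inv_one, one_mul, mul_one]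
  refine and_congr Iff.rfl ?_
  constructor
  · rintro ⟨h, hh, rfl⟩
    simpa [mul_assoc] using hh
  · intro hd
    exact ⟨_, hd, by simp [mul_assoc]⟩

end Count

end CfsgLib.Invol
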