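import Cfsg.Agent.Lib.Invol.Basic
import Cfsg.Agent.Lib.Block.PPart
import Cfsg.Agent.Lib.BlockA.Regular
import Cfsg.Agent.Lib.Char.Brauer
import Cfsg.Agent.Lib.Char.Inner
import Cfsg.Agent.Lib.OddLocal.FittingHall
import Cfsg.Agent.Lib.BlockB.ClassMul
import Mathlib.GroupTheory.Nilpotent

/-!
Class functions of the 2-part, sums over sections, generalized characters of small norm.
-/

set_option autoImplicit false
set_option linter.unusedSectionVars false

namespace CfsgLib.Invol

open Cfsg
open scoped ComplexConjugate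

universe u

variable {G : Type u} [Group G] [Finite G]

/-- The 2-part of an element. -/
noncomputable def twoPart (g : G) : G :=
  (CfsgLib.Block.exists_isPPart (G := G) Nat.prime_two g).choose

theorem twoPart_spec (g : G) : IsPPart 2 g (twoPart g) :=
  (CfsgLib.Block.exists_isPPart (G := G) Nat.prime_two g).choose_spec

theorem twoPart_eq {g x : G} (h : IsPPart 2 g x) : twoPart g = x :=
  CfsgLib.Block.isPPart_unique Nat.prime_two (twoPart_spec g) h

theorem twoPart_conj (a g : G) : twoPart (a * g * a⁻¹) = a * twoPart g * a⁻¹ :=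
  twoPart_eq (CfsgLib.Block.isPPart_conj (twoPart_spec g) a)

theorem twoPart_coe {H : Subgroup G} (h : H) : twoPart (h : G) = ((twoPart h : H) : G) :=
  twoPart_eq (CfsgLib.Block.isPPart_map (f := H.subtype) H.subtype_injective (twoPart_spec h))

theorem twoPart_of_odd {g : G} (h : Odd (orderOf g)) : twoPart g = 1 :=
  twoPart_eq (CfsgLib.Block.isPPart_one_of_regular fun h2 =>
    Nat.not_even_iff_odd.2 h (even_iff_two_dvd.2 h2))

theorem twoPart_self {g : G} (h : ∃ k : ℕ, orderOf g = 2 ^ k) : twoPart g = g :=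
  twoPart_eq (CfsgLib.Block.isPPart_self h Nat.prime_two)

theorem exists_orderOf_twoPart (g : G) : ∃ k : ℕ, orderOf (twoPart g) = 2 ^ k := by
  obtain ⟨y, -, -, hk, -⟩ := twoPart_spec g
  exact hk

theorem twoPart_commute {g a : G} (h : Commute g a) : Commute (twoPart g) a :=
  CfsgLib.Block.isPPart_commute Nat.prime_two (twoPart_spec g) h

theorem twoPart_commute_self (g : G) : Commute (twoPart g) g := twoPart_commute (Commute.refl g)

theorem odd_orderOf_twoPart_inv_mul (g : G) : Odd (orderOf ((twoPart g)⁻¹ * g)) := by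
  obtain ⟨y, hy, -, -, hy'⟩ := twoPart_spec g
  conv => enter [1, 1, 2]; rw [← hy]
  rw [inv_mul_cancel_left, ← Nat.not_even_iff_odd, even_iff_two_dvd]
  exact hy'

theorem twoPart_mul {s v : G} (hc : Commute s v) (hs : ∃ k : ℕ, orderOf s = 2 ^ k)
    (hv : Odd (orderOf v)) : twoPart (s * v) = s :=
  twoPart_eq (CfsgLib.Block.isPPart_mul hc hs fun h =>
    Nat.not_even_iff_odd.2 hv (even_iff_two_dvd.2 h))

theorem twoPart_eq_one_iff (g : G) : twoPart g = 1 ↔ Odd (orderOf g) := by
  refine ⟨fun h => ?_, twoPart_of_odd⟩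
  have := odd_orderOf_twoPart_inv_mul g
  rwa [h, inv_one, one_mul] at this

/-! ### The projection onto the 2-part in elementary groups -/

theorem isNilpotent_of_isElementary {E : Type*} [Group E] [Finite E] {q : ℕ} (hq : q.Prime)
    (hE : Cfsg.IsElementary q E) : Group.IsNilpotent E := by
  obtain ⟨x, hx, -, k, hk⟩ := hE
  have := Fact.mk hq
  have h : IsPGroup q (E ⧸ Subgroup.center E) := by
    have hd : (Subgroup.center E).index ∣ q ^ k :=
      hk ▸ Subgroup.index_dvd_of_le (Subgroup.zpowers_le.2 hx)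
    obtain ⟨j, -, hj⟩ := (Nat.dvd_prime_pow hq).1 hd
    exact IsPGroup.of_card (n := j) (by rw [← Subgroup.index_eq_card, hj])
  exact Group.of_quotient_center_nilpotent h.isNilpotent

theorem twoPart_mul_of_nilpotent {E : Type*} [Group E] [Finite E] (hE : Group.IsNilpotent E)
    {R : Subgroup E} (hR : ∀ y : E, y ∈ R ↔ ¬ 2 ∣ orderOf y) (a b : E) : twoPart (a * b) = twoPart a * twoPart b := by
  have hcomm : ∀ s v : E, (∃ k, orderOf s = 2 ^ k) → Odd (orderOf v) → Commute s v := by
    rintro s v ⟨k, hk⟩ hv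
    refine CfsgLib.OddLocal.commute_of_coprime_of_isNilpotent hE ?_
    rw [hk]
    exact Nat.Coprime.pow_left k (Nat.coprime_two_left.2 hv)
  have hsyl : ∀ s t : E, (∃ k, orderOf s = 2 ^ k) → (∃ k, orderOf t = 2 ^ k) →
      ∃ k, orderOf (s * t) = 2 ^ k := by
    intro s t hs ht
    obtain ⟨P⟩ := (inferInstance : Nonempty (Sylow 2 E))
    have : (P : Subgroup E).Normal := by
      have := ((Group.isNilpotent_of_finite_tfae (G := E)).out 0 3).mp hE
      exact this 2 inferInstance P
    have hmem : ∀ w : E, (∃ k, orderOf w = 2 ^ k) → w ∈ (P : Subgroup E) := by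
      rintro w ⟨k, hk⟩
      obtain ⟨Q, hQ⟩ := (IsPGroup.of_card (p := 2) (n := k) (G := Subgroup.zpowers w)
        (by rw [Nat.card_zpowers, hk])).exists_le_sylow
      have : Unique (Sylow 2 E) := Sylow.unique_of_normal P inferInstance
      rw [Subsingleton.elim P Q]
      exact hQ (Subgroup.mem_zpowers w)
    obtain ⟨k, hk⟩ := (IsPGroup.iff_orderOf.1 P.2) ⟨s * t, mul_mem (hmem s hs) (hmem t ht)⟩
    exact ⟨k, by rw [← hk, Subgroup.orderOf_mk]⟩
  have hodd : ∀ v w : E, Odd (orderOf v) → Odd (orderOf w) → Odd (orderOf (v * w)) := by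
    have key : ∀ y : E, y ∈ R ↔ Odd (orderOf y) := fun y => by
      rw [hR, ← Nat.not_even_iff_odd, even_iff_two_dvd]
    intro v w hv hw
    exact (key _).1 (mul_mem ((key v).2 hv) ((key w).2 hw))
  set s := twoPart a
  set t := twoPart b
  have hs := exists_orderOf_twoPart a
  have ht := exists_orderOf_twoPart b
  have hv := odd_orderOf_twoPart_inv_mul a
  have hw := odd_orderOf_twoPart_inv_mul b
  have e : a * b = (s * t) * ((s⁻¹ * a) * (t⁻¹ * b)) := by
    calc a * b = s * (s⁻¹ * a) * (t * (t⁻¹ * b)) := by group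
      _ = s * ((s⁻¹ * a) * t) * (t⁻¹ * b) := by group
      _ = s * (t * (s⁻¹ * a)) * (t⁻¹ * b) := by rw [(hcomm t _ ht hv).eq]
      _ = _ := by group
  rw [e]
  exact twoPart_mul (hcomm _ _ (hsyl s t hs ht) (hodd _ _ hv hw)) (hsyl s t hs ht) (hodd _ _ hv hw)

theorem isGeneralized_comp {H : Type u} [Group H] {θ : G → ℂ}
    (h : IsGeneralizedCharacter G θ) (f : H →* G) : IsGeneralizedCharacter H (θ ∘ f) := by
  obtain ⟨a, b, ha, hb, rfl⟩ := h
  exact ⟨a ∘ f, b ∘ f, CfsgLib.Char.isCharacter_comp ha f, CfsgLib.Char.isCharacter_comp hb f, rfl⟩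

/-- A class function of the 2-part which is a generalized character on every 2-subgroup is a
generalized character. -/
theorem isGeneralized_sectFn {w : G → ℂ} (hw : IsClassFunction G w)
    (hP : ∀ P : Subgroup G, IsPGroup 2 P → IsGeneralizedCharacter P (fun x : P => w x)) :
    IsGeneralizedCharacter G (fun g => w (twoPart g)) := by
  have := Fintype.ofFinite G
  refine CfsgLib.Char.brauer_characterization (fun g h => ?_) fun E q hq hE => ?_
  · simp only [twoPart_conj]; exact hw _ _
  have hnil := isNilpotent_of_isElementary hq hE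
  obtain ⟨R, hR⟩ := CfsgLib.BlockA.exists_regular_subgroup (p := 2) hq hE
  let π : E →* G :=
    { toFun := fun e => ((twoPart e : E) : G)
      map_one' := by simp [twoPart_of_odd]
      map_mul' := fun a b => by simp [twoPart_mul_of_nilpotent hnil hR] }
  have hrange : IsPGroup 2 π.range := by
    rintro ⟨_, e, rfl⟩
    obtain ⟨k, hk⟩ := exists_orderOf_twoPart e
    refine ⟨k, Subtype.ext ?_⟩
    show ((twoPart e : E) : G) ^ 2 ^ k = 1
    rw [← SubmonoidClass.coe_pow, ← hk, pow_orderOf_eq_one, OneMemClass.coe_one]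
  have := isGeneralized_comp (hP π.range hrange) π.rangeRestrict
  convert this using 1
  ext e
  simp [π, twoPart_coe]

/-! ### Sums over sections -/

/-- Summation over a section of a class function. -/
theorem sum_section [Fintype G] [DecidableEq G] (s : G) [DecidablePred fun g : G => IsConj s (twoPart g)] {F : G → ℂ}
    (hF : IsClassFunction G F) :
    ∑ g ∈ Finset.univ.filter (fun g => IsConj s (twoPart g)), F g =
      ((Subgroup.centralizer ({s} : Set G)).index : ℂ) *
        ∑ g ∈ Finset.univ.filter (fun g => twoPart g = s), F g := by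
  classical
  rw [← Finset.sum_fiberwise_of_maps_to (g := twoPart)
    (t := Finset.univ.filter fun w => IsConj s w) (fun g hg => by simpa using hg)]
  rw [Finset.sum_congr rfl (g := fun _ => ∑ g ∈ Finset.univ.filter (fun g => twoPart g = s), F g)]
  · rw [Finset.sum_const, nsmul_eq_mul]
    congr 2
    rw [← CfsgLib.Char.natCard_carrier_eq_index, Nat.card_eq_fintype_card, Fintype.card_of_subtype]
    intro x
    simp only [Finset.mem_filter, Finset.mem_univ, true_and, ConjClasses.mem_carrier_iff_mk_eq,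
      ConjClasses.mk_eq_mk_iff_isConj]
    exact isConj_comm
  · intro w hw
    obtain ⟨a, ha⟩ := isConj_iff.1 (Finset.mem_filter.1 hw).2
    rw [Finset.filter_filter]
    refine Finset.sum_nbij' (fun g => a⁻¹ * g * a) (fun g => a * g * a⁻¹) ?_ ?_ ?_ ?_ ?_
    · intro g hg
      simp only [Finset.mem_coe, Finset.mem_filter, Finset.mem_univ, true_and] at hg ⊢
      have := twoPart_conj a⁻¹ g
      rw [inv_inv, hg.2, ← ha] at this
      rw [this]; group
    · intro g hg
      simp only [Finset.mem_coe, Finset.mem_filter, Finset.mem_univ, true_and] at hg ⊢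
      rw [twoPart_conj, hg, ha]
      exact ⟨isConj_iff.2 ⟨a, ha⟩, rfl⟩
    · intro g _; group
    · intro g _; group
    · intro g _
      conv_lhs => rw [show g = a * (a⁻¹ * g * a) * a⁻¹ by group]
      exact hF _ _

/-- The fibre of the 2-part over a central element. -/
theorem sum_fiber_coe [Fintype G] [DecidableEq G] (H : Subgroup G) [Fintype H] [DecidableEq H]
    (s : H) (hs : Subgroup.centralizer ({(s : G)} : Set G) ≤ H) (F : G → ℂ) :
    ∑ g ∈ Finset.univ.filter (fun g => twoPart g = (s : G)), F g =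
      ∑ h ∈ Finset.univ.filter (fun h : H => twoPart h = s), F h := by
  refine (Finset.sum_bij (fun (h : H) _ => (h : G)) ?_ ?_ ?_ ?_).symm
  · intro h hh
    simp only [Finset.mem_filter, Finset.mem_univ, true_and] at hh ⊢
    rw [twoPart_coe, hh]
  · intro a _ b _ h; exact Subtype.ext h
  · intro g hg
    simp only [Finset.mem_filter, Finset.mem_univ, true_and] at hg
    have hgH : g ∈ H := hs (Subgroup.mem_centralizer_singleton_iff.2
      (hg ▸ (twoPart_commute_self g).eq.symm))
    refine ⟨⟨g, hgH⟩, ?_, rfl⟩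
    simp only [Finset.mem_filter, Finset.mem_univ, true_and]
    exact Subtype.ext (by rw [← hg, ← twoPart_coe])
  · intro a _; rfl

/-! ### Generalized characters of small norm -/

/-- A generalized character of norm at most three is a signed sum of distinct irreducible
characters. -/
theorem exists_signed [Fintype G] {θ : G → ℂ} (hθ : IsGeneralizedCharacter G θ) {n : ℕ}
    (hn : classInner θ θ = n) (hn3 : n ≤ 3) :
    ∃ (T : Finset (IrrCharacter G)) (a : IrrCharacter G → ℤ), T.card = n ∧
      (∀ χ ∈ T, a χ = 1 ∨ a χ = -1) ∧ (∀ χ ∉ T, a χ = 0) ∧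
      (∀ χ : IrrCharacter G, classInner θ (χ : G → ℂ) = a χ) ∧
      θ = ∑ χ ∈ T, (a χ : ℂ) • (χ : G → ℂ) := by
  classical
  have := Fintype.ofFinite (IrrCharacter G)
  have hcf := CfsgLib.Char.isGeneralized_isClassFunction hθ
  have hint : ∀ χ : IrrCharacter G, ∃ k : ℤ, classInner θ (χ : G → ℂ) = k := fun χ =>
    CfsgLib.Char.classInner_isGeneralized_int hθ
      (CfsgLib.Char.isGeneralized_of_isCharacter (CfsgLib.Char.irr_isCharacter χ.2))
  choose a ha using hint
  have hsum : ∑ χ : IrrCharacter G, a χ * a χ = (n : ℤ) := by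
    have h := CfsgLib.Char.classInner_eq_sum_mul hcf θ
    rw [hn] at h
    simp only [ha, map_intCast] at h
    exact_mod_cast h.symm
  set T : Finset (IrrCharacter G) := Finset.univ.filter fun χ => a χ ≠ 0
  have hbound : ∀ χ, a χ * a χ ≤ n := fun χ => hsum ▸
    Finset.single_le_sum (f := fun χ => a χ * a χ) (fun χ _ => mul_self_nonneg _) (Finset.mem_univ χ)
  have hsign : ∀ χ ∈ T, a χ = 1 ∨ a χ = -1 := by
    intro χ hχ
    have h0 : a χ ≠ 0 := (Finset.mem_filter.1 hχ).2
    have h1 := hbound χ
    have h2 : a χ ≤ 1 := by nlinarith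
    have h3 : -1 ≤ a χ := by nlinarith
    omega
  have hzero : ∀ χ ∉ T, a χ = 0 := fun χ hχ => by
    by_contra h; exact hχ (Finset.mem_filter.2 ⟨Finset.mem_univ _, h⟩)
  refine ⟨T, a, ?_, hsign, hzero, ha, ?_⟩
  · have h1 : ∑ χ ∈ T, a χ * a χ = (n : ℤ) := by
      rw [← hsum]
      exact Finset.sum_subset (Finset.subset_univ _) fun χ _ hχ => by rw [hzero χ hχ, mul_zero]
    rw [Finset.sum_congr rfl (g := fun _ => (1 : ℤ)) (fun χ hχ => by
      rcases hsign χ hχ with h | h <;> rw [h] <;> norm_num), Finset.sum_const, nsmul_one] at h1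
    exact_mod_cast h1
  · conv_lhs => rw [CfsgLib.Char.classFunction_eq_sum hcf]
    simp only [ha]
    exact (Finset.sum_subset (Finset.subset_univ _) fun χ _ hχ => by
      rw [hzero χ hχ]; simp).symm

/-- Inner product with a signed sum. -/
theorem classInner_signed [Fintype G] (T : Finset (IrrCharacter G)) (a : IrrCharacter G → ℤ)
    (η : G → ℂ) (b : IrrCharacter G → ℤ)
    (hb : ∀ χ : IrrCharacter G, classInner η (χ : G → ℂ) = b χ) :
    classInner (∑ χ ∈ T, (a χ : ℂ) • (χ : G → ℂ)) η = ((∑ χ ∈ T, a χ * b χ : ℤ) : ℂ) := by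
  rw [CfsgLib.Char.classInner_sum_left]
  push_cast
  refine Finset.sum_congr rfl fun χ _ => ?_
  rw [CfsgLib.Char.classInner_smul_left, ← CfsgLib.Char.classInner_conj_symm η (χ : G → ℂ), hb,
    map_intCast]

end CfsgLib.Invol
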