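import Cfsg.Prelude.Def_TwoFusion
import Cfsg.Agent.Lib.Invol.Basic

/-!
# Isolated involutions
-/

namespace CfsgLib.Invol

variable {G : Type*} [Group G]

/-- Two involutions from a set closed under conjugation in which commuting means equal have a
product of odd order. -/
theorem odd_of_isolated [Finite G] {z : G} (hz : Cfsg.IsIsolatedInvolution z) {a b : G}
    (ha : IsConj z a) (hb : IsConj z b) : Odd (orderOf (a * b)) := by
  have hao : orderOf a = 2 := by rw [orderOf_eq_of_isConj ha, hz.1]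
  have hbo : orderOf b = 2 := by rw [orderOf_eq_of_isConj hb, hz.1]
  rw [← Nat.not_even_iff_odd]
  intro heven
  set w := (a * b) ^ (orderOf (a * b) / 2) with hw
  have hwo : orderOf w = 2 := orderOf_pow_half heven
  have hwa : Commute w a := commute_pow_half_left hao hbo heven
  -- `w * a` is conjugate to `a` or to `b`, hence to `z`, and commutes with `a`
  have hconj : IsConj z (w * a) := by
    obtain ⟨k, hk | hk⟩ := Int.even_or_odd' ((orderOf (a * b) / 2 : ℕ) : ℤ)
    · refine ha.trans (isConj_iff.2 ⟨(a * b) ^ k, ?_⟩)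
      rw [zpow_conj_left hao hbo, ← hk, zpow_natCast]
    · refine hb.trans (isConj_iff.2 ⟨(a * b) ^ (k + 1), ?_⟩)
      conv_lhs => arg 1; arg 2; rw [← right_eq hao hbo]
      rw [← mul_assoc, ← zpow_add, ← zpow_neg, mul_assoc, left_mul_zpow hao hbo, neg_neg,
        ← mul_assoc, ← zpow_add, hw, ← zpow_natCast, hk]
      congr 2
      omega
  obtain ⟨g, hg⟩ := isConj_iff.1 ha
  obtain ⟨g', hg'⟩ := isConj_iff.1 hconj
  have hcomm : Commute z (g⁻¹ * g' * z * (g⁻¹ * g')⁻¹) := by
    have h1 : Commute a (w * a) := (hwa.symm.mul_right (Commute.refl a))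
    rw [← hg'] at h1
    rw [← hg] at h1
    have h2 := h1.map (MulAut.conj g⁻¹).toMonoidHom
    simpa [mul_assoc] using h2
  have heq := hz.2 (g⁻¹ * g') hcomm
  have h3 : w * a = a := by
    rw [← hg', ← hg]
    nth_rewrite 2 [← heq]
    group
  exact invol_ne_one hwo (mul_eq_right.1 h3)

theorem isolated_conj [Finite G] {z : G} (hz : Cfsg.IsIsolatedInvolution z) (g : G) :
    Cfsg.IsIsolatedInvolution (g * z * g⁻¹) := by
  refine ⟨by rw [orderOf_conj_eq, hz.1], fun k hk => ?_⟩
  have h2 := hk.map (MulAut.conj g⁻¹).toMonoidHom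
  simp only [MulEquiv.coe_toMonoidHom, MulAut.conj_apply] at h2
  have h3 : Commute z (g⁻¹ * k * g * z * (g⁻¹ * k * g)⁻¹) := by simpa [mul_assoc] using h2
  have h4 := congrArg (fun w => g * w * g⁻¹) (hz.2 _ h3)
  simpa [mul_assoc] using h4

theorem isolated_eq_of_commute [Finite G] {z : G} (hz : Cfsg.IsIsolatedInvolution z) {a b : G}
    (ha : IsConj z a) (hb : IsConj z b) (h : Commute a b) : a = b := by
  have hao : orderOf a = 2 := by rw [orderOf_eq_of_isConj ha, hz.1]
  have hbo : orderOf b = 2 := by rw [orderOf_eq_of_isConj hb, hz.1]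
  have h1 : a * b = 1 := eq_one_of_sq_of_odd
    (by nth_rewrite 2 [h.eq]; rw [mul_assoc, ← mul_assoc b b, invol_mul_self hbo, one_mul,
      invol_mul_self hao])
    (odd_of_isolated hz ha hb)
  rw [← invol_inv hbo, ← eq_inv_of_mul_eq_one_left h1]

/-- Two conjugates of an isolated involution are conjugate by an element of the group they
generate. -/
theorem isolated_exists_conj [Finite G] {z : G} (hz : Cfsg.IsIsolatedInvolution z) {a b : G}
    (ha : IsConj z a) (hb : IsConj z b) :
    ∃ d ∈ Subgroup.zpowers (a * b), d * a * d⁻¹ = b :=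
  exists_conj_of_odd (by rw [orderOf_eq_of_isConj ha, hz.1]) (by rw [orderOf_eq_of_isConj hb, hz.1])
    (odd_of_isolated hz ha hb)

theorem isolated_odd_mul_conj [Finite G] {z : G} (hz : Cfsg.IsIsolatedInvolution z) (g : G) :
    Odd (orderOf (z * (g * z * g⁻¹))) :=
  odd_of_isolated hz (IsConj.refl z) (isConj_iff.2 ⟨g, rfl⟩)

theorem isolated_exists_conj' [Finite G] {z : G} (hz : Cfsg.IsIsolatedInvolution z) (g : G) :
    ∃ d ∈ Subgroup.zpowers (z * (g * z * g⁻¹)), d * z * d⁻¹ = g * z * g⁻¹ :=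
  isolated_exists_conj hz (IsConj.refl z) (isConj_iff.2 ⟨g, rfl⟩)

theorem refl_sq {x y : G} (hx : orderOf x = 2) (hy : orderOf y = 2) (k : ℤ) :
    (x * y) ^ k * x * ((x * y) ^ k * x) = 1 := by
  by_cases h : (x * y) ^ k * x = 1
  · rw [h, one_mul]
  · exact invol_mul_self (left_mul_pow_invol hx hy k h)

/-- An involution whose only conjugate in some Sylow 2-subgroup is itself is isolated. -/
theorem isolated_of_sylow [Finite G] (P : Sylow 2 G) {u : G} (hu : orderOf u = 2) (huP : u ∈ P)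
    (hiso : ∀ g : G, g * u * g⁻¹ ∈ P → g * u * g⁻¹ = u) : Cfsg.IsIsolatedInvolution u := by
  refine ⟨hu, fun g hc => ?_⟩
  set v := g * u * g⁻¹ with hv
  have hv2 : orderOf v = 2 := by rw [orderOf_conj_eq, hu]
  have hord : (u * v) ^ 2 = 1 := by
    rw [hc.mul_pow, pow_two, pow_two, invol_mul_self hu, invol_mul_self hv2, one_mul]
  have hK : IsPGroup 2 (Subgroup.closure ({u, v} : Set G)) := by
    rintro ⟨x, hx⟩
    refine ⟨1, Subtype.ext ?_⟩
    obtain ⟨k, rfl | rfl⟩ := (mem_closure_pair hu hv2).1 hx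
    · simp only [pow_one, SubmonoidClass.mk_pow, OneMemClass.coe_one]
      rw [← zpow_natCast, ← zpow_mul, mul_comm, zpow_mul, zpow_natCast, hord, one_zpow]
    · simp only [pow_one, SubmonoidClass.mk_pow, OneMemClass.coe_one]
      rw [pow_two]
      exact refl_sq hu hv2 k
  obtain ⟨a, ha⟩ := exists_conj_mem_sylow P hK
  have e1 := hiso a (ha u (Subgroup.subset_closure (by simp)))
  have e2 : a * g * u * (a * g)⁻¹ = u := hiso (a * g) (by
    have := ha v (Subgroup.subset_closure (by simp))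
    simpa [hv, mul_assoc] using this)
  calc v = a⁻¹ * (a * g * u * (a * g)⁻¹) * a := by rw [hv]; group
    _ = a⁻¹ * (a * u * a⁻¹) * a := by rw [e2, e1]
    _ = u := by group

theorem eq_of_mem_sylow_of_isolated [Finite G] (P : Sylow 2 G) {u : G}
    (hu : Cfsg.IsIsolatedInvolution u) {a b : G} (ha : IsConj u a) (hb : IsConj u b)
    (haP : a ∈ P) (hbP : b ∈ P) : a = b := by
  obtain ⟨k, hk⟩ := P.2 ⟨a * b, mul_mem haP hbP⟩
  have hk' : (a * b) ^ 2 ^ k = 1 := by simpa using congrArg Subtype.val hk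
  have h1 : orderOf (a * b) = 1 := Nat.eq_one_of_dvd_coprimes
    (Nat.Coprime.pow_right k (Nat.coprime_two_right.2 (odd_of_isolated hu ha hb))) dvd_rfl
    (orderOf_dvd_of_pow_eq_one hk')
  rw [eq_inv_of_mul_eq_one_left (orderOf_eq_one_iff.1 h1),
    invol_inv (by rw [orderOf_eq_of_isConj hb, hu.1])]

/-- A square root of an element of odd order is unique among elements of odd order. -/
theorem sq_injective_of_odd {a b : G} (ha : Odd (orderOf a)) (hb : Odd (orderOf b))
    (h : a ^ 2 = b ^ 2) : a = b := by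
  obtain ⟨m, hm⟩ := ha
  obtain ⟨n, hn⟩ := hb
  have ea : ∀ k, a ^ (k * orderOf a + 1) = a := fun k => by
    rw [pow_succ, mul_comm k, pow_mul, pow_orderOf_eq_one, one_pow, one_mul]
  have eb : ∀ k, b ^ (k * orderOf b + 1) = b := fun k => by
    rw [pow_succ, mul_comm k, pow_mul, pow_orderOf_eq_one, one_pow, one_mul]
  have key : orderOf b * orderOf a + 1 = 2 * (2 * m * n + m + n + 1) := by rw [hm, hn]; ring
  calc a = a ^ (orderOf b * orderOf a + 1) := (ea _).symm
    _ = (a ^ 2) ^ (2 * m * n + m + n + 1) := by rw [key, pow_mul]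
    _ = (b ^ 2) ^ (2 * m * n + m + n + 1) := by rw [h]
    _ = b ^ (orderOf a * orderOf b + 1) := by rw [← pow_mul, ← key, mul_comm (orderOf b)]
    _ = b := eb _

/-- Every conjugate of an isolated involution `z` is `k z k⁻¹` for a unique element `k` of odd
order inverted by `z`. -/
theorem isolated_existsUnique [Finite G] {z : G} (hz : Cfsg.IsIsolatedInvolution z) {w : G}
    (hw : IsConj z w) :
    ∃! k : G, (Odd (orderOf k) ∧ z * k * z⁻¹ = k⁻¹) ∧ k * z * k⁻¹ = w := by
  have hwo : orderOf w = 2 := by rw [orderOf_eq_of_isConj hw, hz.1]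
  obtain ⟨d, hd, hdw⟩ := isolated_exists_conj hz (IsConj.refl z) hw
  have hodd := odd_of_isolated hz (IsConj.refl z) hw
  have hinv : z * d * z⁻¹ = d⁻¹ := by
    obtain ⟨i, rfl⟩ := hd
    exact conj_zpow_inv (conj_left_mul hz.1 hwo) i
  have hsq : ∀ k : G, z * k * z⁻¹ = k⁻¹ → k * z * k⁻¹ = k ^ 2 * z := fun k hk => by
    rw [← hk, pow_two, invol_inv hz.1]
    simp only [mul_assoc]
    rw [← mul_assoc z z, invol_mul_self hz.1, one_mul]
  refine ⟨d, ⟨⟨?_, hinv⟩, hdw⟩, ?_⟩
  · exact hodd.of_dvd_nat (orderOf_dvd_of_mem_zpowers hd)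
  · rintro k ⟨⟨hk, hki⟩, hkw⟩
    refine sq_injective_of_odd hk (hodd.of_dvd_nat (orderOf_dvd_of_mem_zpowers hd)) ?_
    have h1 := hsq k hki
    have h2 := hsq d hinv
    rw [hkw] at h1; rw [hdw] at h2
    exact mul_right_cancel (h1.symm.trans h2)

end CfsgLib.Invol

namespace CfsgLib.Invol

variable {G : Type*} [Group G] [Finite G] {z : G}

/-- If a product of two distinct conjugates of an isolated involution commutes with a third
conjugate, the two are equal. -/
theorem isolated_eq_of_commute_mul (hz : Cfsg.IsIsolatedInvolution z) {w a b : G}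
    (hw : IsConj z w) (ha : IsConj z a) (hb : IsConj z b) (h : Commute (a * b) w) : a = b := by
  have hao : orderOf a = 2 := by rw [orderOf_eq_of_isConj ha, hz.1]
  have hwo : orderOf w = 2 := by rw [orderOf_eq_of_isConj hw, hz.1]
  have hbo : orderOf b = 2 := by rw [orderOf_eq_of_isConj hb, hz.1]
  obtain ⟨d, hd, hda⟩ := isolated_exists_conj hz hw ha
  have hwj : w * (a * b) * w⁻¹ = a * b := by rw [← h.eq, mul_inv_cancel_right]
  have haj := conj_left_mul hao hbo
  -- `w * a` inverts `a * b`; so every power of it maps `a * b` to itself or its inverse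
  have hact : (w * a) * (a * b) * (w * a)⁻¹ = (a * b)⁻¹ := by
    calc _ = w * (a * (a * b) * a⁻¹) * w⁻¹ := by group
      _ = (w * (a * b) * w⁻¹)⁻¹ := by rw [haj]; group
      _ = _ := by rw [hwj]
  have hpm : ∀ c ∈ Subgroup.zpowers (w * a), c * (a * b) * c⁻¹ = a * b ∨
      c * (a * b) * c⁻¹ = (a * b)⁻¹ := by
    intro c hc
    obtain ⟨n, rfl⟩ := (Submonoid.mem_powers_iff _ _).1
      (mem_powers_iff_mem_zpowers.2 hc)
    induction n with
    | zero => left; simp
    | succ n ih =>
      have e : (w * a) ^ (n + 1) * (a * b) * ((w * a) ^ (n + 1))⁻¹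
          = (w * a) ^ n * ((w * a) * (a * b) * (w * a)⁻¹) * ((w * a) ^ n)⁻¹ := by
        rw [pow_succ]; group
      rw [e, hact, ← conj_inv]
      rcases ih (pow_mem (Subgroup.mem_zpowers _) n) with h | h <;> rw [h]
      · exact Or.inr rfl
      · exact Or.inl (inv_inv _)
  -- hence `a = d w d⁻¹` also centralises `a * b`, which therefore equals its inverse
  have hfix : a * (d * (a * b) * d⁻¹) * a⁻¹ = d * (a * b) * d⁻¹ := by
    generalize a * b = j at hwj ⊢
    rw [← hda]
    calc _ = d * (w * j * w⁻¹) * d⁻¹ := by group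
      _ = _ := by rw [hwj]
  have hsq : (a * b) * (a * b) = 1 := by
    rcases hpm d hd with e | e <;> rw [e] at hfix
    · rw [haj] at hfix
      nth_rewrite 1 [← hfix]
      exact inv_mul_cancel _
    · rw [← conj_inv, haj, inv_inv] at hfix
      nth_rewrite 1 [hfix]
      exact inv_mul_cancel _
  have h1 : a * b = 1 := eq_one_of_sq_of_odd hsq (odd_of_isolated hz ha hb)
  rw [eq_inv_of_mul_eq_one_left h1, invol_inv hbo]

/-- The midpoint of two conjugates of an isolated involution. -/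
theorem isolated_midpoint (hz : Cfsg.IsIsolatedInvolution z) {w v : G}
    (hw : IsConj z w) (hv : IsConj z v) :
    ∃! x : G, IsConj z x ∧ x * w * x⁻¹ = v := by
  have hwo : orderOf w = 2 := by rw [orderOf_eq_of_isConj hw, hz.1]
  have hvo : orderOf v = 2 := by rw [orderOf_eq_of_isConj hv, hz.1]
  obtain ⟨m, hm⟩ := odd_of_isolated hz hw hv
  refine ⟨(w * v) ^ (2 * ((m * (m + 1) : ℕ) : ℤ)) * w, ⟨hw.trans (isConj_iff.2
    ⟨_, zpow_conj_left hwo hvo _⟩), ?_⟩, ?_⟩
  · rw [refl_conj_left hwo hvo]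
    conv_rhs => rw [← right_eq hwo hvo]
    congr 1
    rw [zpow_eq_zpow_iff_modEq, Int.modEq_iff_dvd]
    refine ⟨-(orderOf (w * v) : ℤ), ?_⟩
    have h4 : (orderOf (w * v) : ℤ) = 2 * m + 1 := by exact_mod_cast hm
    rw [h4]; push_cast; ring
  · rintro x ⟨hx, hxw⟩
    set x₀ := (w * v) ^ (2 * ((m * (m + 1) : ℕ) : ℤ)) * w with hx₀
    have hx₀c : IsConj z x₀ := hw.trans (isConj_iff.2 ⟨_, zpow_conj_left hwo hvo _⟩)
    have hx₀o : orderOf x₀ = 2 := by rw [orderOf_eq_of_isConj hx₀c, hz.1]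
    have h2 : x₀ * w * x₀⁻¹ = v := by
      rw [hx₀, refl_conj_left hwo hvo]
      conv_rhs => rw [← right_eq hwo hvo]
      congr 1
      rw [zpow_eq_zpow_iff_modEq, Int.modEq_iff_dvd]
      refine ⟨-(orderOf (w * v) : ℤ), ?_⟩
      have h4 : (orderOf (w * v) : ℤ) = 2 * m + 1 := by exact_mod_cast hm
      rw [h4]; push_cast; ring
    refine isolated_eq_of_commute_mul hz hw hx hx₀c ?_
    have hxo : orderOf x = 2 := by rw [orderOf_eq_of_isConj hx, hz.1]
    have e : x * x₀ * w * (x * x₀)⁻¹ = w := by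
      calc _ = x * (x₀ * w * x₀⁻¹) * x⁻¹ := by group
        _ = x * (x * w * x⁻¹) * x⁻¹ := by rw [h2, hxw]
        _ = _ := by rw [← mul_assoc, ← mul_assoc, invol_mul_self hxo, one_mul, mul_assoc,
              ← mul_inv_rev, invol_mul_self hxo, inv_one, mul_one]
    exact mul_inv_eq_iff_eq_mul.1 e

end CfsgLib.Invol
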