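import Cfsg.Agent.Lib.Invol.WreathedFusion

/-!
Local indices, classes and residual in groups with wreathed Sylow 2-subgroups.
-/

set_option autoImplicit false
set_option linter.unusedSectionVars false

namespace CfsgLib.Invol

open Subgroup

universe u

variable {G : Type u} [Group G] [Finite G] (S : Sylow 2 G) (D : WrData (S : Subgroup G))

theorem wt_involution : orderOf (wt S D) = 2 := by
  refine (Subgroup.orderOf_coe _).trans (invol_of_mul_self ?_ ?_)
  · rw [D.sq_el_t]; simp [D.el_zero]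
  · exact fun h => D.el_t_ne 0 0 0 0 (h.trans D.el_zero.symm)

theorem we_involution : orderOf (wel S D D.h 0) = 2 := by
  refine (Subgroup.orderOf_coe _).trans (invol_of_mul_self (D.sq_el_eq_one_iff.2 ⟨dvd_rfl, dvd_zero _⟩) ?_)
  exact fun h => D.not_N_dvd_h (D.el_eq_one_iff.1 h).1

theorem wz_involution : orderOf (D.z : G) = 2 := (Subgroup.orderOf_coe _).trans D.orderOf_z

theorem isConj_e2 : IsConj (wel S D 0 D.h) (wel S D D.h 0) :=
  isConj_iff.2 ⟨wt S D, congrArg Subtype.val (D.conj_el_by_t 0 0 0 D.h)⟩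

theorem invol_cases {s : (S : Subgroup G)} (hs : orderOf s = 2) :
    s = D.z ∨ s = D.el D.h 0 ∨ s = D.el 0 D.h ∨ ∃ a b, D.N ∣ a + b ∧ s = D.el a b * D.t := by
  rcases D.cases s with ⟨a, b, rfl⟩ | ⟨a, b, rfl⟩
  · rcases D.invol_mem_A (D.el_mem_A a b) (invol_mul_self hs) with e | e | e | e
    · exact absurd e (invol_ne_one hs)
    · exact Or.inl e
    · exact Or.inr (Or.inl e)
    · exact Or.inr (Or.inr (Or.inl e))
  · have h := invol_mul_self hs
    rw [D.sq_el_t, D.el_eq_one_iff] at h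
    exact Or.inr (Or.inr (Or.inr ⟨a, b, h.1, rfl⟩))

theorem isConj_t {a b : ℤ} (h : D.N ∣ a + b) :
    IsConj ((D.el a b * D.t : (S : Subgroup G)) : G) (wt S D) :=
  isConj_iff.2 ⟨wel S D (-a) 0, congrArg Subtype.val (D.conj_invol_to_t h)⟩

theorem invol_classes {t : G} (ht : orderOf t = 2) :
    IsConj t (D.z : G) ∨ IsConj t (wel S D D.h 0) ∨ IsConj t (wt S D) := by
  obtain ⟨g, hg⟩ := exists_conj_invol_mem_sylow S ht
  have hgt : IsConj t (g * t * g⁻¹) := isConj_iff.2 ⟨g, rfl⟩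
  have ho : orderOf (⟨_, hg⟩ : (S : Subgroup G)) = 2 := by
    rw [← Subgroup.orderOf_coe]; exact (orderOf_conj_eq g t).trans ht
  rcases invol_cases S D ho with e | e | e | ⟨a, b, hab, e⟩ <;>
    have e' : g * t * g⁻¹ = _ := congrArg Subtype.val e <;> rw [e'] at hgt
  · exact Or.inl hgt
  · exact Or.inr (Or.inl hgt)
  · exact Or.inr (Or.inl (hgt.trans (isConj_e2 S D)))
  · exact Or.inr (Or.inr (hgt.trans (isConj_t S D hab)))

theorem wZ_cases {p : G} (hp : p ∈ wV S D) : p ∈ cst (wZ S) 1 ∨ p ∈ cst (wZ S) (wel S D D.h 0) ∨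
    p ∈ cst (wZ S) (wt S D) ∨ p ∈ cst (wZ S) (wel S D D.h 0 * wt S D) := by
  obtain ⟨p, ⟨a, b, hab, hform⟩, rfl⟩ := hp
  have key : ∀ (u : (S : Subgroup G)) (d : ℤ), p = D.el d d * u →
      ((p : G) ∈ cst (wZ S) (u : G)) := fun u d h => by
    show (u : G)⁻¹ * (p : G) ∈ wZ S
    rw [h, Subgroup.coe_mul, ← mul_assoc, ← (wel_commute S D d (inv_mem u.2)).eq]
    simpa using wel_mem_wZ S D d
  rcases hform with e | e <;> rcases D.h_dvd_sub_cases hab with h | h
  · exact Or.inl (key 1 b (by rw [e, h, mul_one]))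
  · exact Or.inr (Or.inl (key _ b (e.trans h)))
  · refine Or.inr (Or.inr (Or.inl (key (D.el 0 0 * D.t) b ?_)))
    rw [e, h, D.el_mul_t, add_zero]
  · refine Or.inr (Or.inr (Or.inr (key (D.el D.h 0 * (D.el 0 0 * D.t)) b ?_)))
    rw [e, h, D.el_mul_t, add_zero, add_zero, mul_assoc]

/-- The three nontrivial cosets of the centre in `Q Z(S)`. -/
def wCosets : Set (Set G) :=
  {cst (wZ S) (wel S D D.h 0), cst (wZ S) (wt S D), cst (wZ S) (wel S D D.h 0 * wt S D)}

theorem wCosets_ne : wel S D D.h 0 ∉ wZ S ∧ wt S D ∉ wZ S ∧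
    (wel S D D.h 0)⁻¹ * wt S D ∉ wZ S ∧ (wt S D)⁻¹ * (wel S D D.h 0 * wt S D) ∉ wZ S := by
  have key : ∀ {a b : ℤ}, ¬ D.N ∣ a - b → D.el a b ∉ Subgroup.center (S : Subgroup G) := by
    intro a b h hc
    obtain ⟨i, hi⟩ := D.mem_center_iff.1 hc
    obtain ⟨h1, h2⟩ := D.el_eq_iff.1 hi
    exact h ((dvd_sub h1 h2).trans (dvd_of_eq (by ring)))
  have keyt : ∀ {a b : ℤ}, D.el a b * D.t ∉ Subgroup.center (S : Subgroup G) := fun {a b} hc => by
    obtain ⟨i, hi⟩ := D.mem_center_iff.1 hc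
    exact D.el_t_ne _ _ _ _ hi
  refine ⟨fun h => key (a := D.h) (b := 0) ?_ ((coe_mem_wS S).1 h), fun h => keyt ((coe_mem_wS S).1 h),
    fun h => ?_, fun h => ?_⟩
  · rw [sub_zero]; exact D.not_N_dvd_h
  · have h' : (D.el D.h 0)⁻¹ * (D.el 0 0 * D.t) ∈ Subgroup.center (S : Subgroup G) :=
      (coe_mem_wS S).1 (by push_cast; exact h)
    rw [D.el_inv, D.el_mul_t] at h'
    exact keyt h'
  · have h' : (D.el 0 0 * D.t)⁻¹ * (D.el D.h 0 * (D.el 0 0 * D.t)) ∈ Subgroup.center (S : Subgroup G) :=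
      (coe_mem_wS S).1 (by push_cast; exact h)
    rw [D.inv_t, D.el_mul_t, D.mul_t_mul_t] at h'
    exact key (fun hd => D.not_N_dvd_h (hd.neg_right.trans (dvd_of_eq (by ring)))) h'

theorem card_wCosets : Nat.card (wCosets S D) = 3 := by
  obtain ⟨h1, h2, h3, h4⟩ := wCosets_ne S D
  rw [Nat.card_coe_set_eq, Set.ncard_eq_three]
  refine ⟨_, _, _, fun h => h3 (cst_eq_iff.1 h), fun h => h2 ?_, fun h => h4 (cst_eq_iff.1 h), rfl⟩
  simpa [← mul_assoc] using cst_eq_iff.1 h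

theorem normalizer_wV_Z {n z : G} (hn : n ∈ normalizer (wV S D : Set G)) (hz : z ∈ wZ S) :
    n * z * n⁻¹ ∈ wZ S := by
  have hzV : z ∈ wV S D := map_mono D.center_le_V0 hz
  obtain ⟨p, hp, hpe⟩ := (mem_normalizer_iff.1 hn z).1 hzV
  change (p : G) = n * z * n⁻¹ at hpe
  have key : ∀ q : (S : Subgroup G), q ∈ D.V0 → Commute p q := fun q hq => Subtype.ext (by
    obtain ⟨r, hr, hre⟩ := (mem_normalizer_iff.1 (inv_mem hn) (q : G)).1 ⟨q, hq, rfl⟩
    have hc : Commute z (r : G) := wZ_commute S hz r.2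
    have hc' := hc.map (MulAut.conj n).toMonoidHom
    have hre' : (r : G) = n⁻¹ * (q : G) * n⁻¹⁻¹ := hre
    simp only [MulEquiv.coe_toMonoidHom, MulAut.conj_apply, ← hpe, hre'] at hc'
    rw [show n * (n⁻¹ * (q : G) * n⁻¹⁻¹) * n⁻¹ = (q : G) by group] at hc'
    exact hc'.eq)
  rw [← hpe]
  exact (coe_mem_wS S).2 (D.center_of_commute_V0 hp (key _ D.e1_mem_V0) (key _ D.t_mem_V0))

theorem normalizer_wV_fix_c {n : G} (hn : n ∈ normalizer (wV S D : Set G)) (hodd : Odd (orderOf n))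
    {z : G} (hz : z ∈ wZ S) : n * z * n⁻¹ = z := by
  have hN : n ∈ normalizer (zpowers (wel S D 1 1) : Set G) := by
    rw [← wZ_eq S D]
    exact mem_normalizer_iff_of_finite fun w hw => normalizer_wV_Z S D hn hw
  have hc := odd_fix_cyclic (wc_order S D) hN hodd
  rw [wZ_eq S D] at hz
  obtain ⟨i, rfl⟩ := hz
  simp only
  rw [conj_zpow_eq, hc]

theorem wCosets_inv (n : G) (hn : n ∈ normalizer (wV S D : Set G)) (X : Set G) (hX : X ∈ wCosets S D) :
    {p | n⁻¹ * p * n ∈ X} ∈ wCosets S D := by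
  obtain ⟨h1, h2, h3, h4⟩ := wCosets_ne S D
  have hconj : ∀ u : G, {p | n⁻¹ * p * n ∈ cst (wZ S) u} = cst (wZ S) (n * u * n⁻¹) := by
    intro u
    ext p
    show u⁻¹ * (n⁻¹ * p * n) ∈ wZ S ↔ (n * u * n⁻¹)⁻¹ * p ∈ wZ S
    constructor
    · intro h
      have := normalizer_wV_Z S D hn h
      simpa [mul_assoc] using this
    · intro h
      have := normalizer_wV_Z S D (inv_mem hn) h
      simpa [mul_assoc] using this
  have key : ∀ u ∈ wV S D, u ∉ wZ S → cst (wZ S) (n * u * n⁻¹) ∈ wCosets S D := by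
    intro u hu hu'
    have hm := (mem_normalizer_iff.1 hn u).1 hu
    have hout : n * u * n⁻¹ ∉ wZ S := fun h => hu' (by
      have := normalizer_wV_Z S D (inv_mem hn) h
      simpa [mul_assoc] using this)
    have hgo : ∀ v, v⁻¹ * (n * u * n⁻¹) ∈ wZ S → cst (wZ S) v ∈ wCosets S D →
        cst (wZ S) (n * u * n⁻¹) ∈ wCosets S D := fun v h hv => (cst_eq_iff.2 h) ▸ hv
    rcases wZ_cases S D hm with h | h | h | h
    · exact absurd (by simpa [cst] using h) hout
    all_goals exact hgo _ h (by simp [wCosets])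
  have he : wel S D D.h 0 ∈ wV S D := ⟨_, D.e1_mem_V0, rfl⟩
  have ht : wt S D ∈ wV S D := ⟨_, D.t_mem_V0, rfl⟩
  rcases hX with rfl | rfl | rfl <;> rw [hconj]
  · exact key _ he h1
  · exact key _ ht h2
  · refine key _ (mul_mem he ht) fun h => h3 ?_
    have e1 : (wel S D D.h 0)⁻¹ = wel S D D.h 0 := invol_inv (we_involution S D)
    rwa [e1]

/-- The action of the normalizer of `Q Z(S)` on the three cosets. -/
noncomputable def wPhi : normalizer (wV S D : Set G) →* Equiv.Perm (wCosets S D) :=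
  restrictPerm (fun (n : normalizer (wV S D : Set G)) (X : Set G) => {p | (n : G)⁻¹ * p * n ∈ X})
    (fun X => by simp) (fun n k X => by
      ext p
      show ((n : G) * (k : G))⁻¹ * p * ((n : G) * (k : G)) ∈ X ↔
        (k : G)⁻¹ * ((n : G)⁻¹ * p * (n : G)) * (k : G) ∈ X
      simp [mul_assoc])
    (wCosets S D) (fun (n : normalizer (wV S D : Set G)) => wCosets_inv S D n n.2)

theorem wPhi_fix_iff (n : normalizer (wV S D : Set G)) {u : G} (hu : cst (wZ S) u ∈ wCosets S D) :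
    wPhi S D n ⟨_, hu⟩ = ⟨_, hu⟩ ↔ u⁻¹ * ((n : G) * u * (n : G)⁻¹) ∈ wZ S := by
  rw [Subtype.ext_iff]
  show {p | (n : G)⁻¹ * p * n ∈ cst (wZ S) u} = cst (wZ S) u ↔ _
  constructor
  · intro h
    have h1 : (n : G) * u * (n : G)⁻¹ ∈ {p | (n : G)⁻¹ * p * n ∈ cst (wZ S) u} := by
      show u⁻¹ * ((n : G)⁻¹ * ((n : G) * u * (n : G)⁻¹) * n) ∈ wZ S
      simp [mul_assoc]
    rw [h] at h1
    exact h1
  · intro h
    ext p
    show u⁻¹ * ((n : G)⁻¹ * p * n) ∈ wZ S ↔ u⁻¹ * p ∈ wZ S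
    rw [show u⁻¹ * p = u⁻¹ * ((n : G) * u * (n : G)⁻¹) * ((n : G) * (u⁻¹ * ((n : G)⁻¹ * p * n)) * (n : G)⁻¹) by group,
      mul_mem_cancel_left h]
    constructor
    · exact normalizer_wV_Z S D n.2
    · intro h'
      have := normalizer_wV_Z S D (inv_mem n.2) h'
      simpa [mul_assoc] using this

theorem ker_wPhi : (wPhi S D).ker = (wV S D ⊔ centralizer (wV S D : Set G)).subgroupOf
    (normalizer (wV S D : Set G)) := by
  set N := normalizer (wV S D : Set G)
  obtain ⟨h1, h2, h3, h4⟩ := wCosets_ne S D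
  have he : wel S D D.h 0 ∈ wV S D := ⟨_, D.e1_mem_V0, rfl⟩
  have ht : wt S D ∈ wV S D := ⟨_, D.t_mem_V0, rfl⟩
  have hiff : ∀ n : N, n ∈ (wPhi S D).ker ↔ ∀ u : G, cst (wZ S) u ∈ wCosets S D →
      u⁻¹ * ((n : G) * u * (n : G)⁻¹) ∈ wZ S := by
    intro n
    rw [MonoidHom.mem_ker]
    refine ⟨fun h u hu => (wPhi_fix_iff S D n hu).1 (by rw [h]; rfl), fun h => ?_⟩
    ext ⟨X, hX⟩ : 1
    obtain rfl | rfl | rfl := hX <;>
      exact (wPhi_fix_iff S D n (by simp [wCosets])).2 (h _ (by simp [wCosets]))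
  have hCN : centralizer (wV S D : Set G) ≤ N := centralizer_le_normalizer _
  have hcstV : ∀ u : G, cst (wZ S) u ∈ wCosets S D → u ∈ wV S D := by
    intro u hu
    have h : ∀ v ∈ wV S D, cst (wZ S) u = cst (wZ S) v → u ∈ wV S D := fun v hv e => by
      have := map_mono D.center_le_V0 (cst_eq_iff.1 e.symm)
      exact (mul_mem_cancel_left (inv_mem hv)).1 this
    obtain e | e | e := hu
    exacts [h _ he e, h _ ht e, h _ (mul_mem he ht) e]
  have hVtriv : ∀ v ∈ wV S D, ∀ u : G, cst (wZ S) u ∈ wCosets S D →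
      u⁻¹ * (v * u * v⁻¹) ∈ wZ S := by
    intro v hv u hu
    obtain ⟨q, hq, rfl⟩ := hcstV u hu
    obtain ⟨r, hr, rfl⟩ := hv
    have := (coe_mem_wS S).2 (D.V0_comm (inv_mem hq) hr)
    simpa [mul_assoc] using this
  rw [subgroupOf_sup le_normalizer hCN]
  apply le_antisymm
  · -- split into elements of odd order and a Sylow subgroup
    set K := (wPhi S D).ker
    set L := (wV S D).subgroupOf N ⊔ (centralizer (wV S D : Set G)).subgroupOf N
    have hVK : (wV S D).subgroupOf N ≤ K := fun p hp => (hiff p).2 fun u hu => hVtriv _ hp u hu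
    have hVp : IsPGroup 2 ((wV S D).subgroupOf N) :=
      (S.2.to_le (map_subtype_le _)).comap_subtype
    obtain ⟨T, hT⟩ := (hVp.comap_subtype (K := K)).exists_le_sylow
    obtain ⟨g, hg⟩ := exists_conj_mem_sylow (p := 2) S ((T.2.map K.subtype).map N.subtype)
    obtain ⟨s, hs, hsg⟩ := exists_adjust_V S D (g := g) fun p hp => by
      have hpN : (⟨p, le_normalizer hp⟩ : N) ∈ (wV S D).subgroupOf N := hp
      exact hg p ⟨⟨p, le_normalizer hp⟩, ⟨⟨_, hVK hpN⟩, hT hpN, rfl⟩, rfl⟩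
    have htop := top_le_of_odd_of_sylow (L := L.subgroupOf K) T ?_ ?_
    · exact fun p hp => htop (mem_top ⟨p, hp⟩)
    · rintro ⟨m, hm⟩ hodd
      rw [Subgroup.orderOf_mk] at hodd
      refine mem_sup_right (mem_centralizer_iff.2 fun p hp => ?_)
      have hm' := (hiff m).1 hm
      have hfix : ∀ z ∈ wZ S, (m : G) * z * (m : G)⁻¹ = z := fun z hz =>
        normalizer_wV_fix_c S D m.2 (by rwa [Subgroup.orderOf_coe]) hz
      have hu : ∀ u : G, cst (wZ S) u ∈ wCosets S D → Commute (m : G) u := by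
        intro u hu
        set d := u⁻¹ * ((m : G) * u * (m : G)⁻¹) with hd
        have hdZ : d ∈ wZ S := hm' u hu
        have hpow : ∀ r : ℕ, (m : G) ^ r * u * ((m : G) ^ r)⁻¹ = u * d ^ r := by
          intro r
          induction r with
          | zero => simp
          | succ r ih =>
            calc (m : G) ^ (r + 1) * u * ((m : G) ^ (r + 1))⁻¹ =
                (m : G) * ((m : G) ^ r * u * ((m : G) ^ r)⁻¹) * (m : G)⁻¹ := by rw [pow_succ']; group
              _ = (m : G) * u * (m : G)⁻¹ * ((m : G) * d * (m : G)⁻¹) ^ r := by rw [ih, conj_pow]; group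
              _ = u * d * d ^ r := by rw [hfix d hdZ, hd, mul_inv_cancel_left]
              _ = u * d ^ (r + 1) := by rw [pow_succ', mul_assoc]
        have h5 := hpow (orderOf m)
        rw [← Subgroup.coe_pow, pow_orderOf_eq_one, Subgroup.coe_one, one_mul, inv_one, mul_one,
          left_eq_mul] at h5
        obtain ⟨i, hi⟩ := (S.2.to_le (Subgroup.map_subtype_le (Subgroup.center (S : Subgroup G))))
          ⟨d, hdZ⟩
        have h6 : d ^ 2 ^ i = 1 := congrArg Subtype.val hi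
        have h7 : d = 1 := by
          rw [← orderOf_eq_one_iff]
          exact Nat.eq_one_of_dvd_coprimes (Nat.Coprime.pow_right i (Nat.coprime_two_right.2 hodd))
            (orderOf_dvd_of_pow_eq_one h5) (orderOf_dvd_of_pow_eq_one h6)
        rw [hd, inv_mul_eq_one] at h7
        exact mul_inv_eq_iff_eq_mul.1 h7.symm
      have hce := hu _ (by simp [wCosets] : cst (wZ S) (wel S D D.h 0) ∈ wCosets S D)
      have hct := hu _ (by simp [wCosets] : cst (wZ S) (wt S D) ∈ wCosets S D)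
      have hcz : ∀ z ∈ wZ S, Commute (m : G) z := fun z hz => mul_inv_eq_iff_eq_mul.1 (hfix z hz)
      refine (?_ : Commute (m : G) p).eq.symm
      have hsplit : ∀ v, Commute (m : G) v → v⁻¹ * p ∈ wZ S → Commute (m : G) p := fun v hv hvp => by
        rw [← mul_inv_cancel_left v p]
        exact hv.mul_right (hcz _ hvp)
      rcases wZ_cases S D hp with h | h | h | h
      exacts [hsplit 1 (Commute.one_right _) h, hsplit _ hce h, hsplit _ hct h,
        hsplit _ (hce.mul_right hct) h]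
    · intro t htT
      have hgt : g * ((t : N) : G) * g⁻¹ ∈ (S : Subgroup G) := hg _ ⟨t.1, ⟨t, htT, rfl⟩, rfl⟩
      set n : N := ⟨s * g, hsg⟩
      have hmem : n * t.1 * n⁻¹ ∈ K := (MonoidHom.normal_ker _).conj_mem _ t.2 _
      have hin : ((n * t.1 * n⁻¹ : N) : G) ∈ (S : Subgroup G) := by
        have := mul_mem (mul_mem hs hgt) (inv_mem hs)
        simpa [n, mul_assoc] using this
      have hV : ((n * t.1 * n⁻¹ : N) : G) ∈ wV S D := by
        refine (mem_wS S hin).2 (D.mem_V0_of_trivial ((coe_mem_wS S).1 ?_))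
        have h5 := (hiff _).1 hmem (wt S D) (by simp [wCosets])
        have h6 := normalizer_wV_Z S D (le_normalizer ht) h5
        simpa [mul_assoc] using h6
      refine mem_sup_left ?_
      have := (mem_normalizer_iff.1 (n⁻¹).2 _).1 hV
      simpa [mem_subgroupOf, mul_assoc] using this
  · refine sup_le (fun p hp => (hiff p).2 fun u hu => hVtriv _ hp u hu)
      (fun p hp => (hiff p).2 fun u hu => ?_)
    have h5 : u * (p : G) = (p : G) * u := mem_centralizer_iff.1 hp u (hcstV u hu)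
    rw [← h5, mul_inv_cancel_right, inv_mul_cancel]
    exact one_mem _

theorem wV_index : ((wV S D ⊔ centralizer (wV S D : Set G)).relIndex (normalizer (wV S D : Set G)) = 2 ∨
      (wV S D ⊔ centralizer (wV S D : Set G)).relIndex (normalizer (wV S D : Set G)) = 6) ∧
    ((wV S D ⊔ centralizer (wV S D : Set G)).relIndex (normalizer (wV S D : Set G)) = 6 ↔
      IsConj (wt S D) (wel S D D.h 0)) ∧
    ((∃ b : (S : Subgroup G), b ∉ D.A ∧ ∃ g : G, g * (b : G) * g⁻¹ ∈ wA S D) →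
      IsConj (wt S D) (wel S D D.h 0)) ∧
    ((wV S D ⊔ centralizer (wV S D : Set G)).relIndex (normalizer (wV S D : Set G)) = 6 →
      ((D.el D.h 0 * D.t : (S : Subgroup G)) : G) ∈ Cfsg.pResidual 2 G) := by
  classical
  set N := normalizer (wV S D : Set G)
  set φ := wPhi S D
  have hidx : (wV S D ⊔ centralizer (wV S D : Set G)).relIndex N = φ.ker.index := by
    rw [ker_wPhi]; rfl
  rw [hidx]
  obtain ⟨h1, h2, h3, h4⟩ := wCosets_ne S D
  have hE : cst (wZ S) (wel S D D.h 0) ∈ wCosets S D := by simp [wCosets]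
  have hT : cst (wZ S) (wt S D) ∈ wCosets S D := by simp [wCosets]
  have hN2 := D.N_eq_two_h
  have hk2 := D.h_eq_two_k
  set σ : (S : Subgroup G) := D.el D.k 0
  have hσN : (σ : G) ∈ N := by
    refine mem_normalizer_iff_of_finite ?_
    rintro _ ⟨p, ⟨a, b, hab, rfl | rfl⟩, rfl⟩
    · refine ⟨D.el a b, D.el_mem_V0.2 hab, ?_⟩
      exact (congrArg Subtype.val (D.conj_el D.k 0 a b)).symm
    · refine ⟨D.el (a + D.k - 0) (b + 0 - D.k) * D.t, D.el_t_mem_V0.2 ?_, ?_⟩
      · rw [show a + D.k - 0 - (b + 0 - D.k) = a - b + D.h by linarith]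
        exact dvd_add hab dvd_rfl
      · exact (congrArg Subtype.val (D.conj_t_by_el D.k 0 a b)).symm
  set n₀ : N := ⟨_, hσN⟩
  have hfix : φ n₀ ⟨_, hE⟩ = ⟨_, hE⟩ := (wPhi_fix_iff S D n₀ hE).2 (by
    show (wel S D D.h 0)⁻¹ * ((σ : G) * wel S D D.h 0 * (σ : G)⁻¹) ∈ wZ S
    rw [show (σ : G) * wel S D D.h 0 * (σ : G)⁻¹ = wel S D D.h 0 from
      congrArg Subtype.val (D.conj_el D.k 0 D.h 0), inv_mul_cancel]
    exact one_mem _)
  have hmove : φ n₀ ⟨_, hT⟩ ≠ ⟨_, hT⟩ := by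
    intro h
    have h5 : (D.el 0 0 * D.t)⁻¹ * (σ * (D.el 0 0 * D.t) * σ⁻¹) ∈ Subgroup.center (S : Subgroup G) :=
      (coe_mem_wS S).1 ((wPhi_fix_iff S D n₀ hT).1 h)
    rw [D.conj_t_by_el, D.inv_t, D.mul_t_mul_t, D.mem_center_iff] at h5
    obtain ⟨c, hc⟩ := h5
    obtain ⟨h6, h7⟩ := D.el_eq_iff.1 hc
    exact D.not_N_dvd_h ((dvd_sub h7 h6).trans (dvd_of_eq (by linarith)))
  have heven : 2 ∣ φ.ker.index := by
    rw [Subgroup.index_ker]
    have hne : φ n₀ ≠ 1 := fun h => hmove (by rw [h]; rfl)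
    have hsq : φ n₀ * φ n₀ = 1 := by
      rw [← map_mul, ← MonoidHom.mem_ker, ker_wPhi, mem_subgroupOf]
      refine mem_sup_left ⟨D.el D.h 0, D.e1_mem_V0, ?_⟩
      exact congrArg Subtype.val (show D.el D.h 0 = σ * σ by
        rw [D.el_mul, D.el_eq_iff]; exact ⟨⟨0, by linarith⟩, ⟨0, by ring⟩⟩)
    have h5 : orderOf (φ n₀) = 2 := invol_of_mul_self hsq hne
    rw [← h5]
    exact φ.range.orderOf_dvd_natCard ⟨n₀, rfl⟩
  -- from a conjugation to index six
  have hsix : (∃ b : (S : Subgroup G), b ∉ D.A ∧ ∃ g : G, g * (b : G) * g⁻¹ ∈ wA S D) →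
      φ.ker.index = 6 := by
    rintro ⟨b, hb, g, hg⟩
    obtain ⟨k, hkc, hkt⟩ := exists_t_to_e S D hb hg
    set B := wZ S ⊔ zpowers (wel S D D.h 0)
    have hkZ : ∀ z ∈ wZ S, k * z * k⁻¹ = z := fun z hz => by
      rw [wZ_eq S D] at hz
      obtain ⟨i, rfl⟩ := hz
      simp only
      rw [conj_zpow_eq, hkc]
    have hnormB : ∀ w : G, (∀ z ∈ wZ S, w * z * w⁻¹ ∈ wZ S) →
        w * wel S D D.h 0 * w⁻¹ ∈ B → w ∈ normalizer (B : Set G) := by
      intro w hwZ hwe
      refine mem_normalizer_iff_of_finite ?_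
      have hle : B ≤ B.comap (MulAut.conj w).toMonoidHom := sup_le
        (fun z hz => show w * z * w⁻¹ ∈ B from mem_sup_left (hwZ z hz)) (zpowers_le.2 hwe)
      exact fun x hx => hle hx
    have hSB : (S : Subgroup G) ≤ normalizer (B : Set G) := fun w hw => by
      have hwz : ∀ z ∈ wZ S, w * z * w⁻¹ = z := fun z hz => by
        rw [← (wZ_commute S hz hw).eq, mul_inv_cancel_right]
      refine hnormB w (fun z hz => (hwz z hz).symm ▸ hz) ?_
      rcases D.cases ⟨w, hw⟩ with ⟨a, c, e⟩ | ⟨a, c, e⟩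
      · rw [show w * wel S D D.h 0 * w⁻¹ = wel S D D.h 0 from congrArg Subtype.val
          (show (⟨w, hw⟩ : (S : Subgroup G)) * D.el D.h 0 * (⟨w, hw⟩)⁻¹ = D.el D.h 0 by rw [e, D.conj_el])]
        exact mem_sup_right (mem_zpowers _)
      · rw [show w * wel S D D.h 0 * w⁻¹ = wel S D D.h D.h * wel S D D.h 0 from congrArg Subtype.val
          (show (⟨w, hw⟩ : (S : Subgroup G)) * D.el D.h 0 * (⟨w, hw⟩)⁻¹ = D.el D.h D.h * D.el D.h 0 by
            rw [e, D.conj_el_by_t, D.el_mul, D.el_eq_iff]; exact ⟨⟨-1, by linarith⟩, ⟨0, by ring⟩⟩)]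
        exact mul_mem (mem_sup_left (wel_mem_wZ S D _)) (mem_sup_right (mem_zpowers _))
    have hWB : (wV S D).map (MulAut.conj k).toMonoidHom ≤ normalizer (B : Set G) := by
      rintro _ ⟨p, hp, rfl⟩
      obtain ⟨p, hp, rfl⟩ := hp
      refine hnormB _ (fun z hz => ?_) ?_
      · show k * (p : G) * k⁻¹ * z * (k * (p : G) * k⁻¹)⁻¹ ∈ wZ S
        nth_rewrite 1 [← hkZ z hz]
        rw [show k * (p : G) * k⁻¹ * (k * z * k⁻¹) * (k * (p : G) * k⁻¹)⁻¹ = k * ((p : G) * z * (p : G)⁻¹) * k⁻¹ by group,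
          ← (wZ_commute S hz p.2).eq, mul_inv_cancel_right, hkZ z hz]
        exact hz
      · show k * (p : G) * k⁻¹ * wel S D D.h 0 * (k * (p : G) * k⁻¹)⁻¹ ∈ B
        have hzc := (coe_mem_wS S).2 (D.V0_comm hp D.t_mem_V0)
        have h5 : k * (p : G) * k⁻¹ * (k * wt S D * k⁻¹) * (k * (p : G) * k⁻¹)⁻¹ =
            k * ((p : G) * wt S D * (p : G)⁻¹ * (wt S D)⁻¹) * k⁻¹ * (k * wt S D * k⁻¹) := by group
        rw [hkt] at h5
        rw [h5, hkZ _ (by push_cast at hzc; exact hzc)]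
        exact mul_mem (mem_sup_left (by push_cast at hzc; exact hzc)) (mem_sup_right (mem_zpowers _))
    obtain ⟨l, hl⟩ := exists_conj_mem_sylow (p := 2) (S.subtype hSB)
      (H := ((wV S D).map (MulAut.conj k).toMonoidHom).subgroupOf (normalizer (B : Set G)))
      ((S.2.to_le (map_subtype_le _)).map _).comap_subtype
    obtain ⟨w, hw, hwN⟩ := exists_adjust_V S D (g := (l : G) * k) fun p hp => by
      have h5 : (l : G) * (k * p * k⁻¹) * (l : G)⁻¹ ∈ (S : Subgroup G) :=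
        hl ⟨_, hWB ⟨p, hp, rfl⟩⟩ ⟨p, hp, rfl⟩
      simpa [mul_assoc] using h5
    set n : N := ⟨_, hwN⟩
    have hnB : (n : G) * wt S D * (n : G)⁻¹ ∈ B := by
      rw [show (n : G) * wt S D * (n : G)⁻¹ = (w * l) * (k * wt S D * k⁻¹) * (w * l)⁻¹ by
        simp only [n]; group, hkt]
      exact (mem_normalizer_iff.1 (mul_mem (hSB hw) l.2) _).1 (mem_sup_right (mem_zpowers _))
    have hBin : B ≤ (D.V0 ⊓ D.A).map (S : Subgroup G).subtype := sup_le
      (map_mono fun z hz => ⟨D.center_le_V0 hz, (by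
        obtain ⟨i, rfl⟩ := D.mem_center_iff.1 hz; exact D.el_mem_A i i)⟩)
      (zpowers_le.2 ⟨_, ⟨D.e1_mem_V0, D.el_mem_A _ _⟩, rfl⟩)
    have hnout : (n : G) * wt S D * (n : G)⁻¹ ∉ wZ S := fun h => h2 (by
      have := normalizer_wV_Z S D (inv_mem n.2) h
      simpa [mul_assoc] using this)
    obtain ⟨q, ⟨hqV, a, c, rfl⟩, hq⟩ := hBin hnB
    change ((D.el a c : (S : Subgroup G)) : G) = _ at hq
    have hin : (wel S D D.h 0)⁻¹ * ((n : G) * wt S D * (n : G)⁻¹) ∈ wZ S := by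
      rcases D.h_dvd_sub_cases (D.el_mem_V0.1 hqV) with e | e
      · exfalso; apply hnout
        rw [← hq, e]; exact wel_mem_wZ S D c
      · rw [← hq, e, Subgroup.coe_mul, (wel_commute S D c (SetLike.coe_mem _)).eq, inv_mul_cancel_left]
        exact wel_mem_wZ S D c
    refine index_six_of_move φ (card_wCosets S D) hfix hmove (k := n⁻¹) fun h => ?_
    have h5 : (wel S D D.h 0)⁻¹ * ((n : G)⁻¹ * wel S D D.h 0 * (n : G)⁻¹⁻¹) ∈ wZ S :=
      (wPhi_fix_iff S D n⁻¹ hE).1 h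
    -- `n` maps the coset of `t` to the coset of `e`
    have h6 : (wel S D D.h 0)⁻¹ * ((n : G) * wel S D D.h 0 * (n : G)⁻¹) ∈ wZ S := by
      have h7 := inv_mem (normalizer_wV_Z S D n.2 h5)
      simpa [mul_assoc] using h7
    refine h3 ?_
    have h8 : ((n : G) * wel S D D.h 0 * (n : G)⁻¹)⁻¹ * ((n : G) * wt S D * (n : G)⁻¹) ∈ wZ S := by
      have := mul_mem (inv_mem h6) hin
      simpa [mul_assoc] using this
    have := normalizer_wV_Z S D (inv_mem n.2) h8
    simpa [mul_assoc] using this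
  have hconj : φ.ker.index = 6 → ∃ (n : G) (a b : ℤ), D.N ∣ a + b - D.h ∧ IsConj (wt S D) (wel S D D.h 0) ∧
      (Odd (orderOf n) ∧ (wel S D D.h 0)⁻¹ * (n * wel S D D.h 0 * n⁻¹) =
        ((D.el a b * D.t : (S : Subgroup G)) : G)) := by
    intro h6
    obtain ⟨n, hodd, hmov⟩ := exists_odd_move φ (card_wCosets S D) h6
    set u := (n : G) * wel S D D.h 0 * (n : G)⁻¹
    have hu : u ∈ wV S D := (mem_normalizer_iff.1 n.2 _).1 ⟨_, D.e1_mem_V0, rfl⟩
    have hne : (wel S D D.h 0)⁻¹ * u ∉ wZ S := fun h => hmov ⟨_, hE⟩ ((wPhi_fix_iff S D n hE).2 h)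
    have hu2 : orderOf u = 2 := (orderOf_conj_eq _ _).trans (we_involution S D)
    obtain ⟨v, hv, hvu⟩ := hu
    change (v : G) = u at hvu
    obtain ⟨a, b, hab, hform⟩ := hv
    have hv2 : orderOf v = 2 := by rw [← Subgroup.orderOf_coe, hvu]; exact hu2
    rcases hform with e | e
    · exfalso
      rw [← hvu, e] at hne
      rcases D.h_dvd_sub_cases hab with e' | e'
      · -- a central involution
        have h7 : u ∈ wZ S := by rw [← hvu, e, e']; exact wel_mem_wZ S D b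
        refine h1 ?_
        have := normalizer_wV_Z S D (inv_mem n.2) h7
        simpa [u, mul_assoc] using this
      · apply hne
        rw [e', Subgroup.coe_mul, (wel_commute S D b (SetLike.coe_mem _)).eq, inv_mul_cancel_left]
        exact wel_mem_wZ S D b
    · have hsq := invol_mul_self hv2
      rw [e, D.sq_el_t, D.el_eq_one_iff] at hsq
      refine ⟨n, a - D.h, b, ?_, (isConj_t S D hsq.1).symm.trans ?_, ?_⟩
      · exact (dvd_sub hsq.1 (dvd_refl D.N)).trans (dvd_of_eq (by linarith))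
      · refine (isConj_iff.2 ⟨(n : G), ?_⟩ : IsConj (wel S D D.h 0) _).symm
        rw [← e, hvu]
      · refine ⟨by rwa [Subgroup.orderOf_coe], ?_⟩
        show (wel S D D.h 0)⁻¹ * u = _
        rw [← hvu, e]
        exact congrArg Subtype.val (show (D.el D.h 0)⁻¹ * (D.el a b * D.t) = D.el (a - D.h) b * D.t by
          rw [D.el_inv, D.el_mul_t, D.el_t_eq_iff]; exact ⟨⟨0, by ring⟩, ⟨0, by ring⟩⟩)
  refine ⟨index_two_or_six φ (card_wCosets S D) heven, ⟨fun h6 => ?_, fun h => ?_⟩, fun h => ?_,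
    fun h6 => ?_⟩
  · obtain ⟨n, a, b, -, hc, -⟩ := hconj h6; exact hc
  · obtain ⟨g, hg⟩ := isConj_iff.1 h
    exact hsix ⟨D.el 0 0 * D.t, D.el_t_notMem_A 0 0, g, ⟨_, D.el_mem_A D.h 0, hg.symm⟩⟩
  · obtain ⟨n, a, b, -, hc, -⟩ := hconj (hsix h); exact hc
  · obtain ⟨n, a, b, hab, -, hodd, he⟩ := hconj h6
    have hR := CfsgLib.Transfer.pResidual_normal (G := G) (p := 2)
    have h5 := comm_mem_pResidual hodd (wel S D D.h 0)
    rw [he] at h5
    have h6 := congrArg Subtype.val (D.conj_same_sum (a := a) (b := b) (c := D.h) (d := 0)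
      (hab.trans (dvd_of_eq (by ring))))
    rw [← h6]
    exact hR.conj_mem _ h5 _

theorem wt_conj_z : wt S D * (D.z : G) * (wt S D)⁻¹ = D.z :=
  congrArg Subtype.val (D.conj_el_by_t 0 0 D.h D.h)

theorem wA_index : ((centralizer (wA S D : Set G)).relIndex (normalizer (wA S D : Set G)) = 2 ∨
      (centralizer (wA S D : Set G)).relIndex (normalizer (wA S D : Set G)) = 6) ∧
    ((centralizer (wA S D : Set G)).relIndex (normalizer (wA S D : Set G)) = 6 ↔
      IsConj (D.z : G) (wel S D D.h 0)) ∧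
    ((centralizer (wA S D : Set G)).relIndex (normalizer (wA S D : Set G)) = 6 →
      wA S D ≤ Cfsg.pResidual 2 G) := by
  classical
  set N := normalizer (wA S D : Set G)
  set s : Set G := {(D.z : G), wel S D D.h 0, wel S D 0 D.h}
  have hN2 := D.N_eq_two_h
  have hne1 : (D.z : G) ≠ wel S D D.h 0 := fun h =>
    D.not_N_dvd_h ((D.el_eq_iff.1 (Subtype.ext h : D.z = D.el D.h 0)).2.trans (dvd_of_eq (by ring)))
  have hne2 : (D.z : G) ≠ wel S D 0 D.h := fun h =>
    D.not_N_dvd_h ((D.el_eq_iff.1 (Subtype.ext h : D.z = D.el 0 D.h)).1.trans (dvd_of_eq (by ring)))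
  have hne3 : wel S D D.h 0 ≠ wel S D 0 D.h := fun h =>
    D.not_N_dvd_h ((D.el_eq_iff.1 (Subtype.ext h : D.el D.h 0 = D.el 0 D.h)).1.trans (dvd_of_eq (by ring)))
  have hcard : Nat.card s = 3 := by
    rw [Nat.card_coe_set_eq, Set.ncard_eq_three]
    exact ⟨_, _, _, hne1, hne2, hne3, rfl⟩
  have hzA : (D.z : G) ∈ wA S D := ⟨_, D.el_mem_A _ _, rfl⟩
  have heA : wel S D D.h 0 ∈ wA S D := ⟨_, D.el_mem_A _ _, rfl⟩
  have he2A : wel S D 0 D.h ∈ wA S D := ⟨_, D.el_mem_A _ _, rfl⟩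
  have hmem : ∀ u ∈ wA S D, u * u = 1 → u ≠ 1 → u ∈ s := by
    rintro _ ⟨u, hu, rfl⟩ hsq hne
    rcases D.invol_mem_A hu (Subtype.ext hsq) with e | e | e | e
    · exact absurd (by rw [e]; rfl) hne
    all_goals simp [s, e, wel]
  have hz2 : (D.z : G) * D.z = 1 := invol_mul_self (wz_involution S D)
  have he2 : wel S D D.h 0 * wel S D D.h 0 = 1 := invol_mul_self (we_involution S D)
  have he22 : wel S D 0 D.h * wel S D 0 D.h = 1 :=
    congrArg Subtype.val (D.sq_el_eq_one_iff.2 ⟨dvd_zero _, dvd_rfl⟩)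
  have hinv : ∀ n ∈ N, ∀ u ∈ s, n * u * n⁻¹ ∈ s := by
    intro n hn u hu
    have key : ∀ v ∈ wA S D, v * v = 1 → v ≠ 1 → n * v * n⁻¹ ∈ s := fun v hv hv2 hv1 =>
      hmem _ ((mem_normalizer_iff.1 hn v).1 hv) (by rw [conj_mul, hv2, mul_one, mul_inv_cancel])
        fun h => hv1 (conj_eq_one_iff.1 h)
    have h1 : wel S D 0 D.h ≠ 1 := fun h => D.not_N_dvd_h
      (D.el_eq_one_iff.1 (OneMemClass.coe_eq_one.1 h)).2
    obtain e | e | e := hu <;> rw [e]
    exacts [key _ hzA hz2 (invol_ne_one (wz_involution S D)),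
      key _ heA he2 (invol_ne_one (we_involution S D)), key _ he2A he22 h1]
  set φ := conjPerm N s hinv
  have hφ : ∀ n : N, n ∈ φ.ker ↔ ∀ u ∈ s, (n : G) * u * (n : G)⁻¹ = u := fun n =>
    mem_ker_restrictPerm (fun (n : N) (a : G) => (n : G) * a * (n : G)⁻¹) _ _ s _ n
  have hker : φ.ker = (centralizer (wA S D : Set G)).subgroupOf N := by
    apply le_antisymm
    · set K := φ.ker
      set L := (centralizer (wA S D : Set G)).subgroupOf N
      obtain ⟨T, hT⟩ := CfsgLib.Transfer.exists_sylow_eq_subgroupOf (S.subtype (S_le_normalizer_wA S D)) K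
      have htop := top_le_of_odd_of_sylow (L := L.subgroupOf K) T ?_ ?_
      · exact fun p hp => htop (mem_top ⟨p, hp⟩)
      · rintro ⟨m, hm⟩ hodd
        rw [Subgroup.orderOf_mk] at hodd
        refine mem_centralizer_iff.2 fun a ha => ?_
        refine (mul_inv_eq_iff_eq_mul.1 (odd_fix_of_fix_invol (fun a ha b hb => wA_commute S D ha hb)
          (S.2.to_le (wA_le S D)) m.2 (by rwa [Subgroup.orderOf_coe]) (fun e he' h2 => ?_) ha)).symm
        by_cases h1 : e = 1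
        · rw [h1, mul_one, mul_inv_cancel]
        · exact (hφ m).1 hm e (hmem e he' h2 h1)
      · intro t ht
        rw [hT] at ht
        have htS : ((t : N) : G) ∈ (S : Subgroup G) := ht
        rcases D.cases ⟨_, htS⟩ with ⟨a, b, e⟩ | ⟨a, b, e⟩
        · exact mem_centralizer_iff.2 fun p hp =>
            wA_commute S D hp ⟨_, D.el_mem_A a b, (congrArg Subtype.val e).symm⟩
        · exfalso
          have h5 := (hφ t).1 t.2 (wel S D D.h 0) (by simp [s])
          have h6 : ((t : N) : G) * wel S D D.h 0 * ((t : N) : G)⁻¹ = wel S D 0 D.h :=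
            congrArg Subtype.val (show (⟨_, htS⟩ : (S : Subgroup G)) * D.el D.h 0 * (⟨_, htS⟩)⁻¹ =
              D.el 0 D.h by rw [e, D.conj_el_by_t])
          exact hne3 (h5.symm.trans h6)
    · intro n hn
      refine (hφ n).2 fun u hu => ?_
      have huA : u ∈ wA S D := by obtain e | e | e := hu <;> rw [e] <;> assumption
      have h5 : u * (n : G) = (n : G) * u := mem_centralizer_iff.1 hn u huA
      rw [← h5, mul_inv_cancel_right]
  have hidx : (centralizer (wA S D : Set G)).relIndex N = φ.ker.index := by rw [hker]; rfl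
  rw [hidx]
  set n₀ : N := ⟨wt S D, S_le_normalizer_wA S D (SetLike.coe_mem _)⟩
  have hZs : (D.z : G) ∈ s := by simp [s]
  have hEs : wel S D D.h 0 ∈ s := by simp [s]
  have hfix : φ n₀ ⟨_, hZs⟩ = ⟨_, hZs⟩ := Subtype.ext
    (wt_conj_z S D)
  have hmove : φ n₀ ⟨_, hEs⟩ ≠ ⟨_, hEs⟩ := fun h => by
    have h5 : wt S D * wel S D D.h 0 * (wt S D)⁻¹ = wel S D D.h 0 := congrArg (fun u : s => (u : G)) h
    exact hne3 (h5.symm.trans (congrArg Subtype.val (D.conj_el_by_t 0 0 D.h 0)))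
  have heven : 2 ∣ φ.ker.index := by
    rw [Subgroup.index_ker]
    have hne : φ n₀ ≠ 1 := fun h => hmove (by rw [h]; rfl)
    have hsq : φ n₀ * φ n₀ = 1 := by
      rw [← map_mul, show n₀ * n₀ = 1 from Subtype.ext (invol_mul_self (wt_involution S D)), map_one]
    have h5 : orderOf (φ n₀) = 2 := invol_of_mul_self hsq hne
    rw [← h5]
    exact φ.range.orderOf_dvd_natCard ⟨n₀, rfl⟩
  refine ⟨index_two_or_six φ hcard heven, ⟨fun h6 => ?_, fun hconj => ?_⟩, fun h6 => ?_⟩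
  · obtain ⟨n, hn⟩ := transitive_of_index_six φ hcard h6 ⟨_, hZs⟩ ⟨_, hEs⟩
    exact isConj_iff.2 ⟨(n : G), congrArg (fun u : s => (u : G)) hn⟩
  · obtain ⟨g, hg⟩ := isConj_iff.1 hconj.symm
    obtain ⟨k, hk, hkA⟩ := exists_conj_extend S (fun w hw => wel_commute S D D.h hw) hg
      (S.2.to_le (wA_le S D)) (fun a ha => wA_commute S D ha heA)
    refine index_six_of_move φ hcard hfix hmove
      (k := (⟨k, mem_normalizer_of_le S D hkA⟩ : N)⁻¹) fun h => ?_
    have h5 : k⁻¹ * (D.z : G) * k⁻¹⁻¹ = D.z := congrArg (fun u : s => (u : G)) h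
    refine hne1 (h5.symm.trans ?_)
    rw [show (D.z : G) = k * wel S D D.h 0 * k⁻¹ from hk.symm]; group
  · obtain ⟨n, hodd, hmov⟩ := exists_odd_move φ hcard h6
    have hR := CfsgLib.Transfer.pResidual_normal (G := G) (p := 2)
    let f : wA S D → wA S D := fun a => ⟨(a : G)⁻¹ * ((n : G) * a * (n : G)⁻¹),
      mul_mem (inv_mem a.2) ((mem_normalizer_iff.1 n.2 _).1 a.2)⟩
    have hfinj : Function.Injective f := by
      rintro ⟨a, ha⟩ ⟨b, hb⟩ hab
      have hab' : a⁻¹ * ((n : G) * a * (n : G)⁻¹) = b⁻¹ * ((n : G) * b * (n : G)⁻¹) :=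
        congrArg Subtype.val hab
      have hd : (n : G) * (a * b⁻¹) * (n : G)⁻¹ = a * b⁻¹ := by
        have hn1 : (n : G) * a * (n : G)⁻¹ = a * b⁻¹ * ((n : G) * b * (n : G)⁻¹) := by
          rw [mul_assoc a, ← hab', mul_inv_cancel_left]
        rw [show (n : G) * (a * b⁻¹) * (n : G)⁻¹ = (n : G) * a * (n : G)⁻¹ *
          ((n : G) * b * (n : G)⁻¹)⁻¹ by group, hn1, mul_inv_cancel_right]
      -- a fixed element other than one has a fixed involution among its powers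
      by_contra hne
      have hne' : a * b⁻¹ ≠ 1 := fun h => hne (Subtype.ext (mul_inv_eq_one.1 h))
      obtain ⟨i, hi⟩ := (S.2.to_le (wA_le S D)) ⟨a * b⁻¹, mul_mem ha (inv_mem hb)⟩
      have h2 : 2 ∣ orderOf (a * b⁻¹) := by
        obtain ⟨j, -, hj⟩ := (Nat.dvd_prime_pow Nat.prime_two).1
          (orderOf_dvd_of_pow_eq_one (congrArg Subtype.val hi : (a * b⁻¹) ^ 2 ^ i = 1))
        rcases j with _ | j
        · exact absurd (orderOf_eq_one_iff.1 (hj.trans (pow_zero 2))) hne'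
        · exact hj ▸ dvd_pow_self 2 (Nat.succ_ne_zero j)
      set e := (a * b⁻¹) ^ (orderOf (a * b⁻¹) / 2)
      have he0 : orderOf e = 2 := by
        rw [orderOf_pow_of_dvd (Nat.div_pos (Nat.le_of_dvd (orderOf_pos _) h2) two_pos).ne'
          (Nat.div_dvd_of_dvd h2), Nat.div_div_self h2 (orderOf_pos _).ne']
      have hes : e ∈ s := hmem e (pow_mem (mul_mem ha (inv_mem hb)) _) (invol_mul_self he0)
        (invol_ne_one he0)
      refine hmov ⟨e, hes⟩ (Subtype.ext ?_)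
      show (n : G) * e * (n : G)⁻¹ = e
      rw [← conj_pow, hd]
    intro a ha
    obtain ⟨b, hb⟩ := (hfinj.bijective_of_nat_card_le le_rfl).2 ⟨a, ha⟩
    have hb' : (b : G)⁻¹ * ((n : G) * b * (n : G)⁻¹) = a := congrArg Subtype.val hb
    rw [← hb']
    exact comm_mem_pResidual (by rwa [Subgroup.orderOf_coe]) _

/-- Fusion in the abelian maximal subgroup when `z` does not fuse with `e₁`. -/
theorem wA_fusion (h : (centralizer (wA S D : Set G)).relIndex (normalizer (wA S D : Set G)) = 2)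
    {x g : G} (hx : x ∈ wA S D) (hg : g * x * g⁻¹ ∈ wA S D) :
    g * x * g⁻¹ = x ∨ g * x * g⁻¹ = wt S D * x * (wt S D)⁻¹ := by
  obtain ⟨m, hm, hmx⟩ := exists_normalizer_conj S D hx hg
  rw [← hmx]
  set N := normalizer (wA S D : Set G)
  set C := (centralizer (wA S D : Set G)).subgroupOf N
  have hC : C.index = 2 := h
  set t' : N := ⟨wt S D, S_le_normalizer_wA S D (SetLike.coe_mem _)⟩
  have ht' : t' ∉ C := fun ht => by
    have h5 : wel S D D.h 0 * wt S D = wt S D * wel S D D.h 0 :=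
      mem_centralizer_iff.1 ht _ ⟨_, D.el_mem_A _ _, rfl⟩
    have h6 : Commute (D.el D.h 0) (D.el 0 0 * D.t) := Subtype.ext h5
    exact D.not_N_dvd_h ((D.el_commute_t_iff.1 h6).trans (dvd_of_eq (sub_zero _)))
  by_cases hmC : (⟨m, hm⟩ : N) ∈ C
  · exact Or.inl (mul_inv_eq_iff_eq_mul.2 (mem_centralizer_iff.1 hmC x hx).symm)
  · have h5 : (t'⁻¹ * ⟨m, hm⟩ : N) ∈ C :=
      (mul_mem_iff_of_index_two hC).2 (iff_of_false (fun h => ht' (inv_mem_iff.1 h)) hmC)
    have h6 : x * ((wt S D)⁻¹ * m) = (wt S D)⁻¹ * m * x := mem_centralizer_iff.1 h5 x hx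
    refine Or.inr ?_
    rw [show m * x * m⁻¹ = wt S D * ((wt S D)⁻¹ * m * x) * m⁻¹ by group, ← h6]
    group

theorem wt_mul_el (a b : ℤ) : wt S D * wel S D a b * (wt S D)⁻¹ = wel S D b a :=
  congrArg Subtype.val (D.conj_el_by_t 0 0 a b)

/-- Squares of the elements outside the abelian maximal subgroup. -/
theorem sum_eq_of_conj_t
    (h : (centralizer (wA S D : Set G)).relIndex (normalizer (wA S D : Set G)) = 2) {a b c d : ℤ} {g : G}
    (hg : g * ((D.el a b * D.t : (S : Subgroup G)) : G) * g⁻¹ = ((D.el c d * D.t : (S : Subgroup G)) : G)) :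
    D.N ∣ a + b - (c + d) := by
  have h2 : g * wel S D (a + b) (a + b) * g⁻¹ = wel S D (c + d) (c + d) := by
    have e1 : wel S D (a + b) (a + b) =
        ((D.el a b * D.t : (S : Subgroup G)) : G) * ((D.el a b * D.t : (S : Subgroup G)) : G) :=
      congrArg Subtype.val (D.sq_el_t a b).symm
    rw [e1, ← conj_mul, hg]
    exact congrArg Subtype.val (D.sq_el_t c d)
  rcases wA_fusion S D h (x := wel S D (a + b) (a + b)) (g := g) ⟨_, D.el_mem_A _ _, rfl⟩
    (h2 ▸ ⟨_, D.el_mem_A _ _, rfl⟩) with e | e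
  · exact (D.el_eq_iff.1 (Subtype.ext (h2.symm.trans e) : D.el (c + d) (c + d) = D.el (a + b) (a + b))).1.neg_right.trans
      (dvd_of_eq (by ring))
  · rw [wt_mul_el] at e
    exact (D.el_eq_iff.1 (Subtype.ext (h2.symm.trans e) : D.el (c + d) (c + d) = D.el (a + b) (a + b))).1.neg_right.trans
      (dvd_of_eq (by ring))

/-- Both indices two: the Sylow subgroup controls fusion. -/
theorem wr_controls (h1 : (centralizer (wA S D : Set G)).relIndex (normalizer (wA S D : Set G)) = 2)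
    (h2 : ¬ IsConj (wt S D) (wel S D D.h 0)) {x g : G} (hx : x ∈ (S : Subgroup G))
    (hg : g * x * g⁻¹ ∈ (S : Subgroup G)) :
    ∃ s ∈ (S : Subgroup G), s * x * s⁻¹ = g * x * g⁻¹ := by
  have hW := (wV_index S D).2.2.1
  rcases D.cases ⟨x, hx⟩ with ⟨a, b, e⟩ | ⟨a, b, e⟩ <;>
    rcases D.cases ⟨_, hg⟩ with ⟨c, d, f⟩ | ⟨c, d, f⟩
  all_goals
    have e' : x = _ := congrArg Subtype.val e
    have f' : g * x * g⁻¹ = _ := congrArg Subtype.val f
  · rcases wA_fusion S D h1 (g := g) (x := x) (e' ▸ ⟨_, D.el_mem_A a b, rfl⟩)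
      (f' ▸ ⟨_, D.el_mem_A c d, rfl⟩) with r | r
    · exact ⟨1, one_mem _, by rw [r]; group⟩
    · exact ⟨wt S D, SetLike.coe_mem _, r.symm⟩
  · exact absurd (hW ⟨D.el c d * D.t, D.el_t_notMem_A c d, g⁻¹, by
      rw [← f']; exact ⟨_, D.el_mem_A a b, by rw [Subgroup.coe_subtype, ← e']; group⟩⟩) h2
  · exact absurd (hW ⟨D.el a b * D.t, D.el_t_notMem_A a b, g, by
      rw [← e']; exact ⟨_, D.el_mem_A c d, f'.symm⟩⟩) h2
  · have hsum := sum_eq_of_conj_t S D h1 (a := a) (b := b) (c := c) (d := d) (g := g) (by rw [← e', f'])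
    refine ⟨wel S D (c - a) 0, SetLike.coe_mem _, ?_⟩
    rw [f', e']
    exact congrArg Subtype.val (D.conj_same_sum hsum)

theorem wz_isolated (h1 : ¬ IsConj (D.z : G) (wel S D D.h 0))
    (h2 : IsConj (wt S D) (wel S D D.h 0)) : Cfsg.IsIsolatedInvolution (D.z : G) := by
  refine isolated_of_sylow S (wz_involution S D) (SetLike.coe_mem _) fun g hg => ?_
  have hc : IsConj (D.z : G) (g * (D.z : G) * g⁻¹) := isConj_iff.2 ⟨g, rfl⟩
  have ho : orderOf (⟨_, hg⟩ : (S : Subgroup G)) = 2 := by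
    rw [← Subgroup.orderOf_coe]; exact (orderOf_conj_eq g _).trans (wz_involution S D)
  rcases invol_cases S D ho with e | e | e | ⟨a, b, hab, e⟩
  · exact congrArg Subtype.val e
  all_goals
    have e' : g * (D.z : G) * g⁻¹ = _ := congrArg Subtype.val e
    rw [e'] at hc
    refine absurd ?_ h1
  · exact hc
  · exact hc.trans (isConj_e2 S D)
  · exact (hc.trans (isConj_t S D hab)).trans h2

theorem residual_le_Y0 (hz : Cfsg.IsIsolatedInvolution (D.z : G))
    (h1 : (centralizer (wA S D : Set G)).relIndex (normalizer (wA S D : Set G)) = 2) :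
    Cfsg.pResidual 2 G ⊓ (S : Subgroup G) ≤ D.Y0.map (S : Subgroup G).subtype := by
  have hN := D.N_eq_two_h
  -- the mixed case
  have mixed : ∀ (a b c d : ℤ) (g : G),
      g * ((D.el a b * D.t : (S : Subgroup G)) : G) * g⁻¹ = wel S D c d →
      D.N ∣ a + b + D.h - (c + d) := by
    intro a b c d g he
    have h2 : g * wel S D (a + b) (a + b) * g⁻¹ = wel S D (c + c) (d + d) := by
      rw [show wel S D (a + b) (a + b) = ((D.el a b * D.t : (S : Subgroup G)) : G) *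
        ((D.el a b * D.t : (S : Subgroup G)) : G) from congrArg Subtype.val (D.sq_el_t a b).symm,
        ← conj_mul, he]
      exact congrArg Subtype.val (D.el_mul c d c d)
    have h3 := isoElt_fix (isoElt_wel S D hz (a + b)) (g := g) (h2 ▸ SetLike.coe_mem _)
    obtain ⟨h4, h5⟩ := D.el_eq_iff.1 (Subtype.ext (h2.symm.trans h3) : D.el (c + c) (d + d) = D.el (a + b) (a + b))
    obtain ⟨w, hw⟩ := D.dvd_two_mul_iff.1 ((dvd_sub h5 h4).trans (dvd_of_eq (by ring)) : D.N ∣ 2 * (d - c))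
    rcases Int.even_or_odd' w with ⟨l, rfl | rfl⟩
    · -- then the image is central
      exfalso
      have hdc : D.el c d = D.el c c := D.el_eq_iff.2 ⟨⟨0, by ring⟩, ⟨l, by rw [hN]; linarith⟩⟩
      have he' : g * ((D.el a b * D.t : (S : Subgroup G)) : G) * g⁻¹ = wel S D c c := by
        rw [he]; exact congrArg Subtype.val hdc
      have h6 := isoElt_fix (isoElt_wel S D hz c) (g := g⁻¹) (by
        rw [← he']; simpa [mul_assoc] using SetLike.coe_mem (D.el a b * D.t))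
      refine D.el_t_ne a b c c (Subtype.ext (Eq.trans ?_ h6))
      rw [← he']; group
    · obtain ⟨u, hu⟩ := h4
      exact ⟨-u - l, by rw [hN] at hu ⊢; linarith⟩
  refine inf_pResidual_le S _ fun u hu g hg => ?_
  refine ⟨(⟨u, hu⟩ : (S : Subgroup G))⁻¹ * ⟨_, hg⟩, ?_, rfl⟩
  rcases D.cases ⟨u, hu⟩ with ⟨a, b, e⟩ | ⟨a, b, e⟩ <;>
    rcases D.cases ⟨_, hg⟩ with ⟨c, d, f⟩ | ⟨c, d, f⟩ <;>
    rw [e, f] <;>
    have e' : u = _ := congrArg Subtype.val e <;>
    have f' : g * u * g⁻¹ = _ := congrArg Subtype.val f <;>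
    rw [e'] at f'
  · rw [D.el_inv, D.el_mul]
    refine D.el_mem_Y0 ?_
    rcases wA_fusion S D h1 (g := g) (x := wel S D a b) ⟨_, D.el_mem_A _ _, rfl⟩
      (f' ▸ ⟨_, D.el_mem_A _ _, rfl⟩) with r | r
    · obtain ⟨p, q⟩ := D.el_eq_iff.1 (Subtype.ext (f'.symm.trans r) : D.el c d = D.el a b)
      exact (dvd_add p q).trans (dvd_of_eq (by ring))
    · rw [wt_mul_el] at r
      obtain ⟨p, q⟩ := D.el_eq_iff.1 (Subtype.ext (f'.symm.trans r) : D.el c d = D.el b a)
      exact (dvd_add p q).trans (dvd_of_eq (by ring))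
  · rw [D.el_inv, D.el_mul_t]
    refine D.el_t_mem_Y0 ?_
    have h5 := mixed c d a b g⁻¹ (by rw [← f']; group)
    exact (dvd_sub h5 (dvd_refl D.N)).trans (dvd_of_eq (by linarith))
  · rw [D.inv_t, D.mul_t_mul_el]
    refine D.el_t_mem_Y0 ?_
    exact (mixed a b c d g f').neg_right.trans (dvd_of_eq (by ring))
  · rw [D.inv_t, D.mul_t_mul_t]
    refine D.el_mem_Y0 ?_
    exact (sum_eq_of_conj_t S D h1 f').neg_right.trans (dvd_of_eq (by ring))

theorem residual_le_wA (h2 : ¬ IsConj (wt S D) (wel S D D.h 0)) :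
    Cfsg.pResidual 2 G ⊓ (S : Subgroup G) ≤ wA S D := by
  have hW := (wV_index S D).2.2.1
  refine inf_pResidual_le S _ fun u hu g hg => ?_
  refine ⟨(⟨u, hu⟩ : (S : Subgroup G))⁻¹ * ⟨_, hg⟩, ?_, rfl⟩
  by_cases h : (⟨u, hu⟩ : (S : Subgroup G)) ∈ D.A <;> by_cases k : (⟨_, hg⟩ : (S : Subgroup G)) ∈ D.A
  · exact mul_mem (inv_mem h) k
  · refine absurd (hW ⟨_, k, g⁻¹, ⟨_, h, ?_⟩⟩) h2
    show u = g⁻¹ * (g * u * g⁻¹) * g⁻¹⁻¹
    group
  · exact absurd (hW ⟨_, h, g, ⟨_, k, rfl⟩⟩) h2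
  · exact (D.mul_mem_A_iff (fun h' => h (inv_mem_iff.1 h'))).2 k

theorem Y0_le_residual (h : ((D.el D.h 0 * D.t : (S : Subgroup G)) : G) ∈ Cfsg.pResidual 2 G) :
    D.Y0.map (S : Subgroup G).subtype ≤ Cfsg.pResidual 2 G := by
  have hR := CfsgLib.Transfer.pResidual_normal (G := G) (p := 2)
  rw [map_le_iff_le_comap, WrData.Y0, closure_le]
  rintro w (rfl | rfl)
  · set K := (Cfsg.pResidual 2 G).comap (S : Subgroup G).subtype
    have hh : D.el D.h 0 * D.t ∈ K := h
    have h5 : D.el (-1) (1 - D.h) * D.t ∈ K := by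
      rw [← D.conj_same_sum (a := D.h) (b := 0) (c := -1) (d := 1 - D.h)
        ⟨1, by rw [D.N_eq_two_h]; ring⟩]
      exact hR.conj_mem _ hh _
    have h6 := mul_mem hh h5
    rw [D.mul_t_mul_t] at h6
    rw [show D.el 1 (-1) = D.el (D.h + (1 - D.h)) (0 + -1) by
      rw [D.el_eq_iff]; exact ⟨⟨0, by ring⟩, ⟨0, by ring⟩⟩]
    exact h6
  · exact h

theorem S_le_residual (h1 : wA S D ≤ Cfsg.pResidual 2 G)
    (h2 : ((D.el D.h 0 * D.t : (S : Subgroup G)) : G) ∈ Cfsg.pResidual 2 G) :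
    (S : Subgroup G) ≤ Cfsg.pResidual 2 G := by
  intro u hu
  rcases D.cases ⟨u, hu⟩ with ⟨a, b, e⟩ | ⟨a, b, e⟩
  · exact h1 ⟨_, D.el_mem_A a b, (congrArg Subtype.val e).symm⟩
  · have h5 : u = wel S D (a - D.h) b * ((D.el D.h 0 * D.t : (S : Subgroup G)) : G) :=
      congrArg Subtype.val (show (⟨u, hu⟩ : (S : Subgroup G)) = D.el (a - D.h) b * (D.el D.h 0 * D.t) by
        rw [e, D.el_mul_t, D.el_t_eq_iff]; exact ⟨⟨0, by ring⟩, ⟨0, by ring⟩⟩)
    rw [h5]
    exact mul_mem (h1 ⟨_, D.el_mem_A _ _, rfl⟩) h2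

/-- Identification of the data in the statements. -/
theorem wr_setup (n : ℕ) (hn : Nat.card S = 2 ^ (2 * n + 1)) (U : Subgroup G)
    (hUS : U ≤ (S : Subgroup G)) (hUab : IsMulCommutative U) (hUcard : Nat.card U = 2 ^ (2 * n))
    (Q : Subgroup G) (hQS : Q ≤ (S : Subgroup G)) (eQ : Q ≃* QuaternionGroup 2) :
    n = D.n ∧ U = wA S D ∧
      ((Q ⊔ wZ S) ⊔ centralizer ((Q ⊔ wZ S : Subgroup G) : Set G)).relIndex
        (normalizer ((Q ⊔ wZ S : Subgroup G) : Set G)) =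
      (wV S D ⊔ centralizer (wV S D : Set G)).relIndex (normalizer (wV S D : Set G)) := by
  have hnn : n = D.n := by
    have h := Nat.pow_right_injective le_rfl (hn.symm.trans D.card_eq)
    omega
  refine ⟨hnn, eq_wA S D hUS (fun a ha b hb => congrArg Subtype.val (hUab.is_comm.comm ⟨a, ha⟩ ⟨b, hb⟩))
    (hnn ▸ hUcard), ?_⟩
  obtain ⟨c, hc⟩ := D.quat_sup_center ((subgroupOfEquivOfLe hQS).trans eQ)
  have he : (Q ⊔ wZ S).map (MulAut.conj (wel S D c 0)).toMonoidHom = wV S D := by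
    rw [wV, ← hc, Subgroup.map_map, show (S : Subgroup G).subtype.comp (MulAut.conj (D.el c 0)).toMonoidHom =
      (MulAut.conj (wel S D c 0)).toMonoidHom.comp (S : Subgroup G).subtype from MonoidHom.ext fun _ => rfl,
      ← Subgroup.map_map, Subgroup.map_sup _ _ (S : Subgroup G).subtype, map_subgroupOf_eq_of_le hQS]
  rw [← index_conj_invariant (wel S D c 0) (Q ⊔ wZ S), he]

end CfsgLib.Invol
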