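import Cfsg.Agent.Lib.Block.MainTheorems
import Cfsg.Agent.Lib.Block.BrauerInd
import Cfsg.Agent.Lib.Solvable.PCore
import Cfsg.Agent.S0936
import Cfsg.Prelude.Def_Local

/-!
The principal block: normal p'-subgroups are in the kernel, and the values at `u * v`,
`u` a p-element and `v` in `O_{p'}(C(u))`.
-/

set_option autoImplicit false
set_option linter.unusedSectionVars false

namespace CfsgLib.Invol

open Cfsg MonoidAlgebra CfsgLib.Block

universe u

variable {G : Type u} [Group G] [Finite G] {p : ℕ} {M : Ideal AlgInt}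

theorem principal_normal_le_ker (hM : IsPModular p M) (N : Subgroup G) [N.Normal]
    (hN : ¬ p ∣ Nat.card N) {χ : IrrCharacter G} (hχ : χ ∈ principalBlock M G) {n : G}
    (hn : n ∈ N) (g : G) : (χ : G → ℂ) (n * g) = (χ : G → ℂ) g := by
  classical
  have := isPrime_of_pmodular hM
  have := Fintype.ofFinite G
  set e : MonoidAlgebra ℂ G := mkGA fun x => if x ∈ N then (Nat.card N : ℂ)⁻¹ else 0 with he
  have hcl : IsClassCoeff e := by
    intro x h
    simp only [he, coeff_mkGA]
    exact if_congr ⟨fun hx => by simpa [mul_assoc] using ‹N.Normal›.conj_mem _ hx h⁻¹,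
      fun hx => ‹N.Normal›.conj_mem _ hx h⟩ rfl rfl
  have hloc : IsLocalCentral M e := ⟨hcl, fun x => by
    simp only [he, coeff_mkGA]
    split
    · exact memLocalRing_inv_natCast hM hN
    · exact (lring M).zero_mem⟩
  have hmul : ∀ m ∈ N, ∀ x, e.coeff (m * x) = e.coeff x := by
    intro m hm x
    simp only [he, coeff_mkGA]
    exact if_congr (N.mul_mem_cancel_left hm) rfl rfl
  have hidem : e * e = e := by
    ext x
    rw [coeff_mul_eq, ← Finset.sum_filter_of_ne (p := fun y => y ∈ N)]
    · rw [Finset.sum_congr rfl (g := fun _ => (Nat.card N : ℂ)⁻¹ * e.coeff x)]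
      · have hc : (Finset.univ.filter fun y => y ∈ N).card = Nat.card N := by
          rw [Nat.card_eq_fintype_card, Fintype.card_subtype]
        rw [Finset.sum_const, hc, nsmul_eq_mul, ← mul_assoc,
          mul_inv_cancel₀ (Nat.cast_ne_zero.2 Nat.card_pos.ne'), one_mul]
      · intro y hy
        rw [hmul _ (inv_mem (Finset.mem_filter.1 hy).2)]
        simp [he, (Finset.mem_filter.1 hy).2]
    · intro y _ hne
      by_contra hy
      simp [he, hy] at hne
  have hval : ∀ ψ : IrrCharacter G, omegaC (ψ : G → ℂ) e = 0 ∨ omegaC (ψ : G → ℂ) e = 1 := by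
    intro ψ
    have h := omegaC_mul ψ.2 hcl e
    rw [hidem] at h
    rcases eq_or_ne (omegaC (ψ : G → ℂ) e) 0 with h0 | h0
    · exact Or.inl h0
    · exact Or.inr (mul_right_cancel₀ h0 (by rw [one_mul]; exact h.symm))
  let z : Subalgebra.center (kres M) (MonoidAlgebra (kres M) G) :=
    ⟨redA M e, isClassCoeff_iff_mem_center.1 (redA_isClassCoeff hcl)⟩
  have hlam := DFunLike.congr_fun
    (lam_eq_of_sameBlock (χ := χ) (ψ := trivIrr) (sameBlock_symm hχ)) z
  rw [lam_apply χ hloc z rfl, lam_apply trivIrr hloc z rfl] at hlam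
  have h1 : omegaC (trivIrr (G := G) : G → ℂ) e = 1 := by
    rw [omegaC_eq]
    simp only [trivIrr, mul_one, div_one, he, coeff_mkGA, ← Finset.sum_filter, Finset.sum_const,
      nsmul_eq_mul]
    rw [show (Finset.univ.filter fun y => y ∈ N).card = Nat.card N by
      rw [Nat.card_eq_fintype_card, Fintype.card_subtype]]
    exact mul_inv_cancel₀ (Nat.cast_ne_zero.2 Nat.card_pos.ne')
  rw [h1, redC_one] at hlam
  have hω : omegaC (χ : G → ℂ) e = 1 := (hval χ).resolve_left fun h0 => by
    rw [h0, redC_zero] at hlam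
    exact zero_ne_one hlam
  -- so `ρ(e) = 1` and `χ(e g) = χ(g)`
  have key : ∀ x, (χ : G → ℂ) x = chiExt (χ : G → ℂ) e x := fun x => by
    rw [← one_mul e, chiExt_mul_central χ.2 1 hcl, hω, one_mul, chiExt_one]
  rw [key, key g, chiExt_eq, chiExt_eq]
  refine Fintype.sum_equiv (Equiv.mulRight n) _ _ fun k => ?_
  simp only [Equiv.coe_mulRight]
  rw [mul_assoc]
  congr 1
  rw [show k * n = (k * n * k⁻¹) * k by group, hmul _ (‹N.Normal›.conj_mem n hn k)]

theorem principal_apply_eq_chiExt (hM : IsPModular p M) {x g : G}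
    (hg : IsPPart p g x) (hgC : g ∈ Subgroup.centralizer ({x} : Set G))
    {χ : IrrCharacter G} (hχ : χ ∈ principalBlock M G) :
    (χ : G → ℂ) g = chiExt (χ : G → ℂ) (inclSub (Subgroup.centralizer ({x} : Set G))
      (blockSum (principalBlock M (Subgroup.centralizer ({x} : Set G))))) g := by
  classical
  have := isPrime_of_pmodular hM
  have := Fact.mk hM.1
  have := Fintype.ofFinite G
  set H := Subgroup.centralizer ({x} : Set G)
  have hsum : ∑ b ∈ allBlocks M H, blockSum b = (1 : MonoidAlgebra ℂ H) := by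
    refine eq_of_omegaC_eq ?_ (isClassCoeff_iff_mem_center.2 (Subalgebra.one_mem _)) fun ψ => ?_
    · exact (isLocalCentral_sum (M := M) _ _
        fun b hb => isLocalCentral_blockSum hM (mem_allBlocks.1 hb)).1
    rw [omegaC_sum, omegaC_one (CfsgLib.Char.irr_apply_one_ne_zero ψ.2),
      Finset.sum_eq_single (blockOf M (ψ : H → ℂ))]
    · rw [omegaC_blockSum, if_pos (mem_blockOf_self ψ)]
    · intro b hb hne
      rw [omegaC_blockSum, if_neg]
      exact fun h => hne (isPBlock_eq_blockOf (mem_allBlocks.1 hb) h)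
    · exact fun h => absurd (mem_allBlocks.2 (isPBlock_blockOf ψ)) h
  obtain ⟨k, hk⟩ : ∃ k : ℕ, orderOf x = p ^ k := by
    obtain ⟨y, -, -, hk, -⟩ := hg
    exact hk
  have hPp : IsPGroup p (Subgroup.zpowers x) := by
    refine IsPGroup.of_card (n := k) ?_
    rw [Nat.card_zpowers, hk]
  have hP : Subgroup.zpowers x ≤ H :=
    Subgroup.zpowers_le.2 (Subgroup.mem_centralizer_singleton_iff.2 rfl)
  have hCH : Subgroup.centralizer (Subgroup.zpowers x : Set G) ≤ H :=
    Subgroup.centralizer_le (Set.singleton_subset_iff.2 (Subgroup.mem_zpowers x))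
  have hHN : H ≤ Subgroup.normalizer (Subgroup.zpowers x : Set G) := by
    intro h hh
    refine Subgroup.mem_normalizer_iff.2 fun w => ?_
    have hc : ∀ w' ∈ Subgroup.zpowers x, h * w' = w' * h := by
      rintro _ ⟨i, rfl⟩
      exact ((show Commute h x from Subgroup.mem_centralizer_singleton_iff.1 hh).zpow_right i).eq
    constructor
    · intro hw; rwa [hc w hw, mul_inv_cancel_right]
    · intro hw
      have e : h * w * h⁻¹ = w := mul_left_cancel (a := h) (by
        rw [hc _ hw, inv_mul_cancel_right])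
      rwa [← e]
  conv_lhs => rw [← chiExt_one (χ : G → ℂ) g]
  rw [← map_one (inclSub (k := ℂ) H), ← hsum, map_sum, chiExt_eq, chiExt_eq]
  simp only [coeff_sum, Finset.sum_apply', Finset.sum_mul]
  rw [Finset.sum_comm]
  refine Finset.sum_eq_single (principalBlock M H) (fun b hb hne => ?_)
    fun h => absurd (mem_allBlocks.2 isPBlock_principalBlock) h
  obtain ⟨B, hB⟩ := exists_isInducedBlock_of_normalizer hM hPp hP hCH hHN (mem_allBlocks.1 hb)
  have hBne : B ≠ principalBlock M G := fun h =>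
    hne ((Cfsg.Agent.S0936.result p M hM H b ⟨B, hB⟩).1 (h ▸ hB))
  have h0 := chiExt_inclSub_blockSum_eq_zero hM hB hgC hg le_rfl (χ := χ) fun h =>
    hBne (isPBlock_eq_of_mem hB.2.1 isPBlock_principalBlock h hχ)
  rw [chiExt_eq] at h0
  exact h0

/-- Values of principal block characters are constant on `u * O_{p'}(C(u))`. -/
theorem principal_const_on_core (hM : IsPModular p M) {x : G} (hx : ∃ k : ℕ, orderOf x = p ^ k)
    {v : G} (hv : v ∈ Cfsg.centralizerPPrimeCore p x) {χ : IrrCharacter G}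
    (hχ : χ ∈ principalBlock M G) : (χ : G → ℂ) (x * v) = (χ : G → ℂ) x := by
  classical
  have := isPrime_of_pmodular hM
  have := Fintype.ofFinite G
  set H := Subgroup.centralizer ({x} : Set G)
  obtain ⟨⟨v, hvH⟩, hvN, rfl⟩ := hv
  set N := Cfsg.pPrimeCore p H
  have hNn : N.Normal := CfsgLib.Solvable.pPrimeCore_normal p H
  have hNcop : ¬ p ∣ Nat.card N := hM.1.coprime_iff_not_dvd.1 (CfsgLib.Solvable.pPrimeCore_coprime p).symm
  have hxv : Commute x v := (Subgroup.mem_centralizer_singleton_iff.1 hvH).symm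
  have hpart : IsPPart p (x * v) x := ⟨v, rfl, hxv, hx, fun h => hNcop (h.trans (by
    rw [← Subgroup.orderOf_mk v hvH]
    exact Subgroup.orderOf_dvd_natCard N hvN))⟩
  have hpart1 : IsPPart p x x :=
    ⟨1, mul_one x, Commute.one_right x, hx, by rw [orderOf_one]; exact hM.1.not_dvd_one⟩
  have hxH : x ∈ H := Subgroup.mem_centralizer_singleton_iff.2 rfl
  simp only [Subgroup.subtype_apply]
  rw [principal_apply_eq_chiExt hM hpart (mul_mem hxH hvH) hχ,
    principal_apply_eq_chiExt hM hpart1 hxH hχ, chiExt_eq, chiExt_eq]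
  refine Fintype.sum_equiv (Equiv.mulRight v) _ _ fun k => ?_
  simp only [Equiv.coe_mulRight]
  rw [show k * (x * v) = k * v * x by rw [hxv.eq, mul_assoc]]
  congr 1
  by_cases hk : k ∈ H
  · rw [coeff_inclSub_of_mem H _ ⟨k, hk⟩,
      show k * v = (((⟨k, hk⟩ : H) * ⟨v, hvH⟩ : H) : G) from rfl, coeff_inclSub_of_mem]
    simp only [blockSum, coeff_mkGA, blockCoeff]
    congr 1
    refine finsum_congr fun ψ => finsum_congr fun hψ => ?_
    have h1 := principal_normal_le_ker hM N hNcop hψ (n := (⟨k, hk⟩ : H) * ⟨v, hvH⟩ * (⟨k, hk⟩ : H)⁻¹)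
      (hNn.conj_mem _ hvN _) ⟨k, hk⟩
    rw [inv_mul_cancel_right] at h1
    rw [h1]
  · rw [coeff_inclSub_of_not_mem H _ hk,
      coeff_inclSub_of_not_mem H _ fun h => hk (by simpa using mul_mem h (inv_mem hvH))]

end CfsgLib.Invol
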