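import Cfsg.Agent.Lib.Invol.Isolated
import Cfsg.Agent.Lib.Invol.PrincipalBlock
import Cfsg.Agent.Lib.BlockB.ClassMul
import Cfsg.Agent.Lib.BlockB.Codegree
import Cfsg.Agent.Lib.BlockB.PModular
import Cfsg.Agent.Lib.Transfer.Frobenius
import Cfsg.Agent.S1182
import Cfsg.Prelude.Def_CaseTheorems
import Mathlib.GroupTheory.SpecificGroups.KleinFour

/-!
Glauberman's Z*-theorem, from the Brauer-Suzuki theorem for groups of 2-rank one.
-/

set_option autoImplicit false
set_option linter.unusedSectionVars false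

namespace CfsgLib.Invol

open Cfsg CfsgLib.Block
open scoped ComplexConjugate

universe u

/-- The Brauer-Suzuki property: a group of even order without four-groups and without nontrivial
normal subgroups of odd order has a central involution. -/
def CentralInvolOfRankOne : Prop :=
  ∀ (K : Type u) [Group K] [Finite K], Even (Nat.card K) → (∀ E : Subgroup K, ¬ IsKleinFour E) →
    (∀ N : Subgroup K, N.Normal → Odd (Nat.card N) → N = ⊥) →
    ∃ z ∈ Subgroup.center K, orderOf z = 2

theorem odd_card_oddCore (G : Type*) [Group G] [Finite G] : Odd (Nat.card (Cfsg.oddCore G)) :=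
  Nat.coprime_two_right.1 (CfsgLib.Solvable.pPrimeCore_coprime (G := G) 2)

theorem le_oddCore {G : Type*} [Group G] {N : Subgroup G} (hN : N.Normal)
    (h : Odd (Nat.card N)) : N ≤ Cfsg.oddCore G :=
  CfsgLib.Solvable.le_pPrimeCore hN (Nat.coprime_two_right.2 h)

/-- The image of an isolated involution is an isolated involution, unless it is trivial. -/
theorem isolated_map {G K : Type*} [Group G] [Finite G] [Group K] {z : G}
    (hz : Cfsg.IsIsolatedInvolution z) (f : G →* K) (hf : Function.Surjective f) (h1 : f z ≠ 1) :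
    Cfsg.IsIsolatedInvolution (f z) := by
  have h2 : f z * f z = 1 := by rw [← map_mul, invol_mul_self hz.1, map_one]
  refine ⟨invol_of_mul_self h2 h1, fun k hk => ?_⟩
  obtain ⟨g, rfl⟩ := hf k
  have hodd := isolated_odd_mul_conj hz g
  have e : f (g * z * g⁻¹) = f g * f z * (f g)⁻¹ := by simp
  rw [← e] at hk ⊢
  have hsq : f (z * (g * z * g⁻¹)) * f (z * (g * z * g⁻¹)) = 1 := by
    have hw : f (g * z * g⁻¹) * f (g * z * g⁻¹) = 1 := by
      rw [← map_mul, invol_mul_self (by rw [orderOf_conj_eq, hz.1]), map_one]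
    rw [map_mul, mul_assoc, ← mul_assoc (f (g * z * g⁻¹)) (f z), ← hk.eq, mul_assoc (f z), hw,
      mul_one, h2]
  have h3 := eq_one_of_sq_of_odd hsq (hodd.of_dvd_nat (orderOf_map_dvd f _))
  rw [map_mul] at h3
  exact (eq_inv_of_mul_eq_one_right h3).trans (inv_eq_of_mul_eq_one_right h2)

/-- Isolated involutions stay isolated in subgroups. -/
theorem isolated_subtype {G : Type*} [Group G] {z : G} (hz : Cfsg.IsIsolatedInvolution z)
    (H : Subgroup G) (h : z ∈ H) : Cfsg.IsIsolatedInvolution (⟨z, h⟩ : H) := by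
  refine ⟨by rw [Subgroup.orderOf_mk, hz.1], fun g hg => Subtype.ext ?_⟩
  exact hz.2 g (congrArg Subtype.val hg.eq)

variable {G : Type u} [Group G] [Finite G]

/-- An element whose conjugates commute with it is central, if it is an isolated involution. -/
theorem isolated_mem_center_of_commute {z : G} (hz : Cfsg.IsIsolatedInvolution z)
    (h : ∀ g : G, Commute z (g * z * g⁻¹)) : z ∈ Subgroup.center G :=
  Subgroup.mem_center_iff.2 fun g => mul_inv_eq_iff_eq_mul.1 (hz.2 g (h g))

/-- The product of an isolated involution with a conjugate of a commuting involution: its 2-part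
is conjugate to the product, and the rest lies in the odd core of the centralizer. -/
theorem isolated_mul_conj_invol {z u t : G} (hz : Cfsg.IsIsolatedInvolution z)
    (hu : orderOf u = 2) (hzu : Commute z u) (hne : u ≠ z)
    (hind : ∀ i : G, orderOf i = 2 → Commute z i → IsConj (z * u) i →
      ∀ (hzC : z ∈ Subgroup.centralizer ({i} : Set G)) (r : Subgroup.centralizer ({i} : Set G)),
      (⟨z, hzC⟩ : Subgroup.centralizer ({i} : Set G)) * r * ⟨z, hzC⟩⁻¹ * r⁻¹ ∈
        Cfsg.oddCore (Subgroup.centralizer ({i} : Set G))) :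
    ∃ i v : G, IsConj (z * u) i ∧ v ∈ Cfsg.centralizerPPrimeCore 2 i ∧
      z * (t * u * t⁻¹) = i * v := by
  set u' := t * u * t⁻¹ with hu'
  have hu'o : orderOf u' = 2 := by rw [orderOf_conj_eq, hu]
  set y := z * u' with hy
  have heven : Even (orderOf y) := by
    rw [← Nat.not_odd_iff_even]
    intro hodd
    have h1 : IsConj z u' := isConj_of_odd hz.1 hu'o hodd
    have h2 : IsConj z u := h1.trans (isConj_iff.2 ⟨t⁻¹, by rw [hu']; group⟩)
    exact hne (isolated_eq_of_commute hz (IsConj.refl z) h2 hzu).symm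
  obtain ⟨m, hm⟩ := heven
  have hn := orderOf_pos y
  set i := y ^ m with hi
  have hio : orderOf i = 2 := by
    rw [hi, orderOf_pow' y (by omega), Nat.gcd_eq_right ⟨2, by omega⟩, hm, ← two_mul,
      Nat.mul_div_cancel _ (by omega)]
  have hyz : z * y * z⁻¹ = y⁻¹ := conj_left_mul hz.1 hu'o
  have hii : i⁻¹ = i := invol_inv hio
  have hzi : Commute z i := by
    refine mul_inv_eq_iff_eq_mul.1 ?_
    rw [hi, conj_pow_inv hyz, ← hi]
    exact hii
  -- `m` is odd
  have hmodd : Odd m := by
    rw [← Nat.not_even_iff_odd]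
    rintro ⟨l, hl⟩
    have hconj : (y ^ l)⁻¹ * z * y ^ l = z * i := by
      have h1 : z * y ^ l = (y ^ l)⁻¹ * z := by
        rw [← conj_pow_inv hyz l]; simp [mul_assoc]
      rw [← h1, mul_assoc, ← pow_add, ← hl, ← hi]
    have h2 := isolated_eq_of_commute hz (IsConj.refl z)
      (isConj_iff.2 ⟨(y ^ l)⁻¹, by rw [inv_inv, hconj]⟩ : IsConj z (z * i)) ((Commute.refl z).mul_right hzi)
    exact invol_ne_one hio (by simpa using h2.symm)
  obtain ⟨k, hk⟩ := hmodd
  -- `z i` is a conjugate of `u` commuting with `z`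
  have hzzi : z * i = (y ^ k)⁻¹ * u' * y ^ k := by
    have h1 : u' * y ^ k = (y ^ k)⁻¹ * u' := by
      have := conj_pow_inv (conj_right_mul hz.1 hu'o) k
      rw [← hy] at this
      rw [← this]; simp [mul_assoc]
    have h2 : u' = z * y := by rw [hy, ← mul_assoc, invol_mul_self hz.1, one_mul]
    rw [← h1, mul_assoc, ← pow_add, h2, mul_assoc, ← pow_succ', hi, hk, two_mul]
  obtain ⟨c, -, hc, hcu⟩ := Cfsg.Agent.S1182.result z hz ⊤ (Subgroup.mem_normalizer_iff.2 (by simp))
    u (z * i) (Subgroup.mem_top _) (Subgroup.mem_top _) hzu.symm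
    ((Commute.refl z).mul_left hzi.symm) ((y ^ k)⁻¹ * t) (Subgroup.mem_top _)
    (by rw [hzzi, hu']; group)
  have hiconj : IsConj (z * u) i := by
    refine isConj_iff.2 ⟨c, ?_⟩
    calc c * (z * u) * c⁻¹ = (c * z * c⁻¹) * (c * u * c⁻¹) := by group
      _ = z * (z * i) := by rw [hcu, hc.eq, mul_inv_cancel_right]
      _ = i := by rw [← mul_assoc, invol_mul_self hz.1, one_mul]
  -- the odd part
  have hzC : z ∈ Subgroup.centralizer ({i} : Set G) :=
    Subgroup.mem_centralizer_singleton_iff.2 hzi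
  have hyC : y ∈ Subgroup.centralizer ({i} : Set G) :=
    Subgroup.mem_centralizer_singleton_iff.2 ((Commute.refl y).pow_right m).eq
  refine ⟨i, y ^ (m + 1), hiconj, ?_, ?_⟩
  · have h := hind i hio hzi hiconj hzC (⟨y, hyC⟩ ^ (k + 1))
    refine ⟨⟨y, hyC⟩ ^ (m + 1), ?_, by simp⟩
    have e : (⟨z, hzC⟩ : Subgroup.centralizer ({i} : Set G)) * ⟨y, hyC⟩ ^ (k + 1) * ⟨z, hzC⟩⁻¹ *
        (⟨y, hyC⟩ ^ (k + 1))⁻¹ = (⟨y, hyC⟩ ^ (m + 1))⁻¹ := by
      refine Subtype.ext ?_
      simp only [Subgroup.coe_mul, InvMemClass.coe_inv, SubmonoidClass.coe_pow]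
      rw [conj_pow_inv hyz, ← mul_inv_rev, ← pow_add]
      congr 2
      omega
    rw [e, inv_mem_iff] at h
    exact h
  · rw [hi, ← pow_add, show m + (m + 1) = orderOf y + 1 by omega, pow_succ, pow_orderOf_eq_one,
      one_mul]

theorem re_eq_of_norm_le {n : ℝ} {w : ℂ} (h : ‖w‖ ≤ n) (hre : w.re = n) : w = (n : ℂ) := by
  refine Complex.ext hre ?_
  simp only [Complex.ofReal_im]
  have h1 := Complex.sq_norm w
  rw [Complex.normSq_apply, hre] at h1
  have h0 : 0 ≤ ‖w‖ := norm_nonneg w
  have h2 : ‖w‖ ^ 2 ≤ n ^ 2 := by gcongr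
  nlinarith [mul_self_nonneg w.im]

/-- If the square of a character value at an involution is the square of the degree then the
commutators of the involution lie in the kernel. -/
theorem commutator_mem_charKer (χ : IrrCharacter G) {z : G} (hzz : orderOf z = 2)
    (h : (χ : G → ℂ) z * (χ : G → ℂ) z = (χ : G → ℂ) 1 * (χ : G → ℂ) 1) (g : G) :
    (χ : G → ℂ) (z * g * z⁻¹ * g⁻¹) = (χ : G → ℂ) 1 := by
  have := Fintype.ofFinite G
  have hsum := CfsgLib.BlockB.sum_irr_mul_conj χ z z
  have hne : (χ : G → ℂ) 1 ≠ 0 := CfsgLib.Char.irr_apply_one_ne_zero χ.2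
  rw [mul_assoc, h, ← mul_assoc, mul_div_assoc, div_self hne, mul_one] at hsum
  obtain ⟨d, -, hd⟩ := CfsgLib.Char.irr_apply_one_pos χ.2
  have hle : ∀ w : G, ‖(χ : G → ℂ) w‖ ≤ (d : ℝ) := by
    intro w
    obtain ⟨n, ρ, hρ, hχ⟩ := χ.2
    have h1 := CfsgLib.Char.norm_char_le ρ w
    have h2 : (χ : G → ℂ) 1 = (Module.finrank ℂ (Fin n → ℂ) : ℂ) := by
      rw [← hχ, Representation.char_one]
    rw [hd] at h2
    rw [← hχ]
    exact h1.trans_eq (by exact_mod_cast h2.symm)
  have hre : ∑ t : G, ((χ : G → ℂ) (z * (t * z * t⁻¹))).re = ∑ _t : G, (d : ℝ) := by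
    have := congrArg Complex.re hsum
    rw [Complex.re_sum, hd, ← Nat.cast_mul, Complex.natCast_re] at this
    rw [this, Finset.sum_const, Finset.card_univ, nsmul_eq_mul, Nat.card_eq_fintype_card]
    push_cast
    ring
  have hall := (Finset.sum_eq_sum_iff_of_le (fun t _ => (Complex.re_le_norm _).trans (hle _))).1
    hre g (Finset.mem_univ g)
  have e : z * g * z⁻¹ * g⁻¹ = z * (g * z * g⁻¹) := by rw [invol_inv hzz]; simp [mul_assoc]
  rw [e, re_eq_of_norm_le (hle _) hall, hd]
  norm_cast

theorem zstar_step (hBS : CentralInvolOfRankOne.{u}) (hO : Cfsg.oddCore G = ⊥) {z : G}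
    (hz : Cfsg.IsIsolatedInvolution z)
    (ih : ∀ (K : Type u) [Group K] [Finite K], Nat.card K < Nat.card G → ∀ w : K,
      Cfsg.IsIsolatedInvolution w → ∀ g : K, w * g * w⁻¹ * g⁻¹ ∈ Cfsg.oddCore K) :
    z ∈ Subgroup.center G := by
  classical
  by_contra hzc
  have hnorm : ∀ N : Subgroup G, N.Normal → Odd (Nat.card N) → N = ⊥ := fun N hN h =>
    le_bot_iff.1 (hO ▸ le_oddCore hN h)
  -- no involution is central
  have hcen : ∀ u : G, orderOf u = 2 → u ∉ Subgroup.center G := by
    intro u hu huc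
    have hzu : z ≠ u := fun e => hzc (e ▸ huc)
    set U := Subgroup.zpowers u
    have hUn : U.Normal := ⟨fun w hw g => by
      obtain ⟨j, rfl⟩ := hw
      rw [conj_zpow_eq, ← Subgroup.mem_center_iff.1 huc g |>.symm, mul_inv_cancel_right]
      exact Subgroup.zpow_mem _ (Subgroup.mem_zpowers u) j⟩
    have hzU : z ∉ U := by
      intro h
      obtain ⟨j, hj⟩ := h
      simp only at hj
      rcases Int.even_or_odd j with ⟨l, rfl⟩ | ⟨l, rfl⟩
      · rw [← two_mul, zpow_mul, zpow_two, invol_mul_self hu, one_zpow] at hj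
        exact invol_ne_one hz.1 hj.symm
      · rw [zpow_add_one, zpow_mul, zpow_two, invol_mul_self hu, one_zpow, one_mul] at hj
        exact hzu hj.symm
    have hlt : Nat.card (G ⧸ U) < Nat.card G := by
      rw [Subgroup.card_eq_card_quotient_mul_card_subgroup U, Nat.card_zpowers, hu]
      have := Nat.card_pos (α := G ⧸ U)
      omega
    have hiso := isolated_map hz (QuotientGroup.mk' U) (QuotientGroup.mk'_surjective U)
      (fun h => hzU ((QuotientGroup.eq_one_iff z).1 h))
    set N := (Cfsg.oddCore (G ⧸ U)).comap (QuotientGroup.mk' U)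
    have hNn : N.Normal := (CfsgLib.Solvable.pPrimeCore_normal 2 (G ⧸ U)).comap _
    have hcomm : ∀ g, z * g * z⁻¹ * g⁻¹ ∈ N := fun g => by
      rw [Subgroup.mem_comap]
      simpa using ih _ hlt _ hiso (QuotientGroup.mk' U g)
    have hUN : U ≤ N := fun w hw => by
      rw [Subgroup.mem_comap, QuotientGroup.mk'_apply, (QuotientGroup.eq_one_iff w).2 hw]
      exact one_mem _
    -- `N` has a normal 2-complement
    have hcardN : Nat.card N = Nat.card (Cfsg.oddCore (G ⧸ U)) * 2 := by
      have h1 := N.card_mul_index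
      rw [Subgroup.index_comap_of_surjective _ (QuotientGroup.mk'_surjective U),
        Subgroup.card_eq_card_quotient_mul_card_subgroup U, Nat.card_zpowers, hu,
        ← (Cfsg.oddCore (G ⧸ U)).card_mul_index] at h1
      refine Nat.eq_of_mul_eq_mul_right (Nat.pos_of_ne_zero
        (Subgroup.FiniteIndex.index_ne_zero (H := Cfsg.oddCore (G ⧸ U)))) ?_
      rw [h1]; ring
    have hUN2 : Nat.card (U.subgroupOf N) = 2 := by
      rw [Nat.card_congr (Subgroup.subgroupOfEquivOfLe hUN).toEquiv, Nat.card_zpowers, hu]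
    let S : Sylow 2 N := Sylow.ofCard (U.subgroupOf N) (by
      rw [hUN2, hcardN, Nat.factorization_mul Nat.card_pos.ne' (by norm_num), Finsupp.add_apply,
        Nat.factorization_eq_zero_of_not_dvd (Nat.two_dvd_ne_zero.2
          (Nat.odd_iff.1 (odd_card_oddCore (G ⧸ U)))),
        Nat.Prime.factorization_self Nat.prime_two]
      rfl)
    have hcomp : Cfsg.HasNormalPComplement 2 N :=
      CfsgLib.Transfer.hasNormalPComplement_of_normalizer_le_centralizer S fun n _ => by
        refine Subgroup.mem_centralizer_iff.2 fun w hw => ?_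
        obtain ⟨j, hj⟩ := (show (w : G) ∈ U from hw)
        exact Subtype.ext (by
          simp only [Subgroup.coe_mul, ← hj]
          exact ((show Commute (n : G) u from Subgroup.mem_center_iff.1 huc n).zpow_right j).eq.symm)
    have hodd := CfsgLib.Transfer.hasNormalPComplement_iff_coprime_pResidual.1 hcomp
    have := CfsgLib.Transfer.pResidual_characteristic (G := N) (p := 2)
    have hRn : ((Cfsg.pResidual 2 N).map N.subtype).Normal := inferInstance
    have hbot := hnorm _ hRn (by
      rw [← Nat.card_congr ((Cfsg.pResidual 2 N).equivMapOfInjective _ N.subtype_injective).toEquiv]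
      exact Nat.coprime_two_right.1 hodd)
    refine hzc (Subgroup.mem_center_iff.2 fun g => ?_)
    have e : z * g * z⁻¹ * g⁻¹ = z * (g * z * g⁻¹) := by rw [invol_inv hz.1]; simp [mul_assoc]
    have hmem : (⟨_, hcomm g⟩ : N) ∈ Cfsg.pResidual 2 N := by
      refine CfsgLib.Transfer.mem_pResidual_of_coprime (Nat.coprime_two_right.2 ?_)
      rw [Subgroup.orderOf_mk, e]
      exact isolated_odd_mul_conj hz g
    have h1 : z * g * z⁻¹ * g⁻¹ = 1 := Subgroup.mem_bot.1 (hbot ▸ ⟨_, hmem, rfl⟩)
    exact (mul_inv_eq_iff_eq_mul.1 (mul_inv_eq_one.1 h1)).symm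
  -- the subgroup generated by the commutators of `z`
  set M := Subgroup.normalClosure (Set.range fun g : G => z * g * z⁻¹ * g⁻¹)
  have hMeven : Even (Nat.card M) := by
    rw [← Nat.not_odd_iff_even]
    intro hodd
    have hbot := hnorm M Subgroup.normalClosure_normal hodd
    refine hzc (Subgroup.mem_center_iff.2 fun g => ?_)
    have h1 : z * g * z⁻¹ * g⁻¹ = 1 := Subgroup.mem_bot.1 (hbot ▸ Subgroup.subset_normalClosure ⟨g, rfl⟩)
    exact (mul_inv_eq_iff_eq_mul.1 (mul_inv_eq_one.1 h1)).symm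
  obtain ⟨P, hP⟩ := (isPGroup_zpowers_of_invol hz.1).exists_le_sylow
  have hzP : z ∈ (P : Subgroup G) := hP (Subgroup.mem_zpowers z)
  have hzPc : ∀ x ∈ (P : Subgroup G), Commute x z := fun x hx => mul_inv_eq_iff_eq_mul.1
    (eq_of_mem_sylow_of_isolated P hz (isConj_iff.2 ⟨x, rfl⟩) (IsConj.refl z)
      (mul_mem (mul_mem hx hzP) (inv_mem hx)) hzP)
  obtain ⟨u, huM, huP, hu, hune⟩ : ∃ u, u ∈ M ∧ u ∈ (P : Subgroup G) ∧ orderOf u = 2 ∧ u ≠ z := by
    by_contra hno
    push Not at hno
    have hconj : ∀ w ∈ M, orderOf w = 2 → ∃ g : G, g * w * g⁻¹ = z := fun w hwM hw => by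
      obtain ⟨g, hg⟩ := exists_conj_invol_mem_sylow P hw
      exact ⟨g, hno _ (Subgroup.normalClosure_normal.conj_mem w hwM g) hg (by rw [orderOf_conj_eq, hw])⟩
    have hrank : ∀ E : Subgroup M, ¬ IsKleinFour E := by
      intro E hE
      obtain ⟨g, hg⟩ := exists_conj_mem_sylow (p := 2) P (H := E.map M.subtype)
        ((IsPGroup.of_card (n := 2) (by rw [hE.card_four]; rfl)).map _)
      have hall : ∀ e : M, e ∈ E → e ≠ 1 → g * (e : G) * g⁻¹ = z := fun e he he1 => by
        refine hno _ (Subgroup.normalClosure_normal.conj_mem _ e.2 g) (hg _ ⟨e, he, rfl⟩) ?_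
        rw [orderOf_conj_eq, Subgroup.orderOf_coe]
        exact invol_of_mul_self (congrArg Subtype.val (IsKleinFour.mul_self (⟨e, he⟩ : E))) he1
      have := Fintype.ofFinite E
      have hc : 2 < Fintype.card E := by rw [← Nat.card_eq_fintype_card, hE.card_four]; norm_num
      obtain ⟨a, b, c, hab, hac, hbc⟩ := Fintype.two_lt_card_iff.1 hc
      have key : ∀ p q : E, p ≠ 1 → q ≠ 1 → p = q := fun p q hp hq =>
        Subtype.ext (Subtype.ext ((MulAut.conj g).injective (by
          simp only [MulAut.conj_apply]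
          exact (hall p p.2 fun h => hp (Subtype.ext h)).trans
            (hall q q.2 fun h => hq (Subtype.ext h)).symm)))
      rcases eq_or_ne a 1 with rfl | ha
      · exact hbc (key b c hab.symm hac.symm)
      rcases eq_or_ne b 1 with rfl | hb
      · exact hac (key a c ha hbc.symm)
      · exact hab (key a b ha hb)
    obtain ⟨w, hwc, hw⟩ := hBS M hMeven hrank fun N hN hodd => by
      have hchar : ((Cfsg.oddCore M).map M.subtype).Normal := by
        have := CfsgLib.Solvable.pPrimeCore_characteristic 2 M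
        have : M.Normal := Subgroup.normalClosure_normal
        infer_instance
      have hb := hnorm _ hchar (by
        rw [← Nat.card_congr ((Cfsg.oddCore M).equivMapOfInjective _ M.subtype_injective).toEquiv]
        exact odd_card_oddCore M)
      rw [Subgroup.map_eq_bot_iff_of_injective _ M.subtype_injective] at hb
      exact le_bot_iff.1 (hb ▸ le_oddCore hN hodd)
    obtain ⟨g, hg⟩ := hconj w w.2 (by rw [Subgroup.orderOf_coe, hw])
    refine hzc (isolated_mem_center_of_commute hz fun h => ?_)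
    have hcw : ∀ x ∈ M, Commute x (w : G) := fun x hx =>
      congrArg Subtype.val (Subgroup.mem_center_iff.1 hwc ⟨x, hx⟩)
    have hzM : z ∈ M := hg ▸ Subgroup.normalClosure_normal.conj_mem _ w.2 g
    have h1 : h * z * h⁻¹ ∈ M := Subgroup.normalClosure_normal.conj_mem _ hzM h
    have h2 := (hcw _ (Subgroup.normalClosure_normal.conj_mem _ h1 g⁻¹)).map (MulAut.conj g).toMonoidHom
    simp only [MulEquiv.coe_toMonoidHom, MulAut.conj_apply, hg] at h2
    have e : g * (g⁻¹ * (h * z * h⁻¹) * g⁻¹⁻¹) * g⁻¹ = h * z * h⁻¹ := by group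
    rw [e] at h2
    exact h2.symm
  have hzu : Commute z u := (hzPc u huP).symm
  set w := z * u
  have hww : w * w = 1 := by
    calc z * u * (z * u) = z * (u * z) * u := by simp only [mul_assoc]
      _ = (z * z) * (u * u) := by rw [← hzu.eq]; simp only [mul_assoc]
      _ = 1 := by rw [invol_mul_self hz.1, invol_mul_self hu, one_mul]
  have hwo : orderOf w = 2 := invol_of_mul_self hww fun h => hune (by
    rw [eq_inv_of_mul_eq_one_right h, invol_inv hz.1])
  have hwne : w ≠ z := fun h => invol_ne_one hu (mul_eq_left.1 h)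
  -- character theory
  obtain ⟨Q, hQ⟩ := CfsgLib.BlockB.exists_isPModular (p := 2) Nat.prime_two
  have := isPrime_of_pmodular hQ
  have := Fintype.ofFinite G
  have key : ∀ v : G, orderOf v = 2 → Commute z v → v ≠ z → ∀ χ ∈ principalBlock Q G,
      (χ : G → ℂ) z * (χ : G → ℂ) v = (χ : G → ℂ) 1 * (χ : G → ℂ) (z * v) := by
    intro v hv hzv hvne χ hχ
    have hconst : ∀ t : G, (χ : G → ℂ) (z * (t * v * t⁻¹)) = (χ : G → ℂ) (z * v) := by
      intro t
      obtain ⟨i, r, hi, hr, he⟩ := isolated_mul_conj_invol (t := t) hz hv hzv hvne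
        fun i hio hzi _ hzC r => by
          refine ih _ ?_ _ (isolated_subtype hz _ hzC) r
          refine lt_of_le_of_ne (Subgroup.card_le_card_group _) fun e => hcen i hio ?_
          refine Subgroup.mem_center_iff.2 fun g => ?_
          exact Subgroup.mem_centralizer_singleton_iff.1
            ((Subgroup.card_eq_iff_eq_top _).1 e ▸ Subgroup.mem_top g)
      have hio : orderOf i = 2 := by
        have hzvv : z * v * (z * v) = 1 := by
          calc _ = z * (v * z) * v := by simp only [mul_assoc]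
            _ = (z * z) * (v * v) := by rw [← hzv.eq]; simp only [mul_assoc]
            _ = 1 := by rw [invol_mul_self hz.1, invol_mul_self hv, one_mul]
        rw [orderOf_eq_of_isConj hi]
        exact invol_of_mul_self hzvv fun h => hvne (by
          rw [eq_inv_of_mul_eq_one_right h, invol_inv hz.1])
      rw [he, principal_const_on_core hQ ⟨1, by rw [hio, pow_one]⟩ hr hχ]
      exact (CfsgLib.Char.isClassFunction_isConj (CfsgLib.Char.irr_isClassFunction χ.2) hi).symm
    have h := CfsgLib.BlockB.sum_irr_mul_conj χ z v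
    rw [Finset.sum_congr rfl (fun t _ => hconst t), Finset.sum_const, Finset.card_univ,
      nsmul_eq_mul, ← Nat.card_eq_fintype_card, mul_assoc, mul_div_assoc] at h
    have hne : (χ : G → ℂ) 1 ≠ 0 := CfsgLib.Char.irr_apply_one_ne_zero χ.2
    have h2 := mul_left_cancel₀ (CfsgLib.Char.natCard_ne_zero (G := G)) h
    rw [h2]
    field_simp
  have horth := sum_block_eq_zero_of_regular_singular hQ (isPBlock_principalBlock (M := Q) (G := G))
    (g := 1) (h := u) (by rw [orderOf_one]; norm_num) (by rw [hu])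
  have hterm : ∀ χ ∈ principalBlock Q G, (χ : G → ℂ) 1 * conj ((χ : G → ℂ) u) = 0 ∨
      (χ : G → ℂ) 1 * conj ((χ : G → ℂ) u) = (χ : G → ℂ) 1 * conj ((χ : G → ℂ) 1) := by
    intro χ hχ
    rcases eq_or_ne ((χ : G → ℂ) u) 0 with h0 | h0
    · exact Or.inl (by rw [h0, map_zero, mul_zero])
    refine Or.inr ?_
    have h1 := key u hu hzu hune χ hχ
    have h2 := key w hwo ((Commute.refl z).mul_right hzu) hwne χ hχ
    rw [show z * w = u by rw [← mul_assoc, invol_mul_self hz.1, one_mul]] at h2
    have h3 : (χ : G → ℂ) z * (χ : G → ℂ) z = (χ : G → ℂ) 1 * (χ : G → ℂ) 1 := by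
      refine mul_right_cancel₀ h0 ?_
      rw [mul_assoc, h1, mul_left_comm, h2, ← mul_assoc]
    have hM : M ≤ CfsgLib.BlockB.charKer χ := Subgroup.normalClosure_le_normal (by
      rintro _ ⟨g, rfl⟩
      exact commutator_mem_charKer χ hz.1 h3 g)
    rw [show (χ : G → ℂ) u = (χ : G → ℂ) 1 from hM huM]
  have := Fintype.ofFinite (IrrCharacter G)
  rw [finsum_mem_eq_sum_of_subset (s := principalBlock Q G)
    (t := Finset.univ.filter fun χ => χ ∈ principalBlock Q G)] at horth
  rotate_left
  · intro χ hχ; simpa using hχ.1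
  · intro χ hχ; simpa using hχ
  have hpos : 0 < (∑ χ ∈ Finset.univ.filter fun χ => χ ∈ principalBlock Q G,
      (χ : G → ℂ) 1 * conj ((χ : G → ℂ) u)).re := by
    rw [Complex.re_sum]
    refine Finset.sum_pos' (fun χ hχ => ?_) ⟨trivIrr,
      Finset.mem_filter.2 ⟨Finset.mem_univ _, one_mem_principalBlock⟩, ?_⟩
    · rcases hterm χ (by simpa using hχ) with h | h
      · rw [h]; simp
      · rw [h, Complex.mul_conj, Complex.ofReal_re]; exact Complex.normSq_nonneg _
    · simp [trivIrr]
  rw [horth] at hpos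
  simp at hpos

/-- Glauberman's Z*-theorem. -/
theorem zstar_of_centralInvol (hBS : CentralInvolOfRankOne.{u}) :
    ∀ (G : Type u) [Group G] [Finite G] (z : G), Cfsg.IsIsolatedInvolution z →
      ∀ g : G, z * g * z⁻¹ * g⁻¹ ∈ Cfsg.oddCore G := by
  intro G _ _
  induction hn : Nat.card G using Nat.strong_induction_on generalizing G with
  | _ n ih =>
    intro z hz g
    subst hn
    have ih' : ∀ (K : Type u) [Group K] [Finite K], Nat.card K < Nat.card G → ∀ w : K,
        Cfsg.IsIsolatedInvolution w → ∀ k : K, w * k * w⁻¹ * k⁻¹ ∈ Cfsg.oddCore K :=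
      fun K _ _ hlt => ih _ hlt K rfl
    by_cases hO : Cfsg.oddCore G = ⊥
    · have hc := zstar_step hBS hO hz ih'
      rw [show z * g * z⁻¹ * g⁻¹ = 1 by
        rw [← Subgroup.mem_center_iff.1 hc g]; group]
      exact one_mem _
    have hn : (Cfsg.oddCore G).Normal := CfsgLib.Solvable.pPrimeCore_normal 2 G
    have hlt : Nat.card (G ⧸ Cfsg.oddCore G) < Nat.card G := by
      rw [Subgroup.card_eq_card_quotient_mul_card_subgroup (Cfsg.oddCore G)]
      exact lt_mul_of_one_lt_right Nat.card_pos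
        ((Cfsg.oddCore G).one_lt_card_iff_ne_bot.2 hO)
    have hz1 : (QuotientGroup.mk' (Cfsg.oddCore G)) z ≠ 1 := fun h => by
      have h1 := (Cfsg.oddCore G).orderOf_dvd_natCard ((QuotientGroup.eq_one_iff z).1 h)
      rw [hz.1] at h1
      exact Nat.not_even_iff_odd.2 (odd_card_oddCore G) (even_iff_two_dvd.2 h1)
    have h := ih' _ hlt _ (isolated_map hz _ (QuotientGroup.mk'_surjective _) hz1)
      (QuotientGroup.mk' (Cfsg.oddCore G) g)
    have hbot : Cfsg.oddCore (G ⧸ Cfsg.oddCore G) = ⊥ :=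
      CfsgLib.Solvable.pPrimeCore_quotient_eq_bot 2
    rw [hbot, Subgroup.mem_bot, ← map_inv, ← map_inv, ← map_mul, ← map_mul, ← map_mul] at h
    exact (QuotientGroup.eq_one_iff _).1 h

end CfsgLib.Invol
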