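import Cfsg.Agent.Lib.Invol.QDClasses
import Cfsg.Agent.Lib.Invol.WreathedClasses
import Cfsg.Agent.Lib.Invol.ZStar
import Cfsg.Agent.Lib.Comp.PComponent

/-!
Groups with quasi-dihedral or wreathed Sylow 2-subgroups and no subgroup of index two.
-/

set_option autoImplicit false
set_option linter.unusedSectionVars false

namespace CfsgLib.Invol

open Subgroup

universe u

/-- Transport of quasi-dihedral generators along an isomorphism. -/
def QDData.congr {S S' : Type*} [Group S] [Group S'] (D : QDData S) (e : S ≃* S') : QDData S' where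
  m := D.m
  x := e D.x
  y := e D.y
  two_le := D.two_le
  even_m := D.even_m
  orderOf_x := by rw [MulEquiv.orderOf_eq, D.orderOf_x]
  orderOf_y := by rw [MulEquiv.orderOf_eq, D.orderOf_y]
  conj_x := by rw [← map_zpow, ← D.conj_x, map_mul, map_mul, map_inv]
  card_eq := by rw [← Nat.card_congr e.toEquiv, D.card_eq]

theorem QDData.congr_zpow {S S' : Type*} [Group S] [Group S'] (D : QDData S) (e : S ≃* S') (i : ℤ) :
    (D.congr e).x ^ i = e (D.x ^ i) := (map_zpow e D.x i).symm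

theorem QDData.congr_z {S S' : Type*} [Group S] [Group S'] (D : QDData S) (e : S ≃* S') :
    (D.congr e).z = e D.z := (map_zpow e D.x _).symm

theorem WrData.congr_z {S S' : Type*} [Group S] [Group S'] (D : WrData S) (e : S ≃* S') :
    (D.congr e).z = e D.z := D.congr_el e _ _

/-- The standard quaternion subgroup of a quasi-dihedral group. -/
def QDData.Q0 {S : Type*} [Group S] (D : QDData S) : Subgroup S :=
  closure {D.x ^ (D.m : ℤ), D.x ^ (1 : ℤ) * D.y}

theorem QDData.Q0_equiv {S : Type*} [Group S] (D : QDData S) : Nonempty (D.Q0 ≃* QuaternionGroup 2) := by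
  have h2 : D.x ^ (D.m : ℤ) * D.x ^ (D.m : ℤ) = D.z := by rw [← zpow_add, QDData.z, two_mul]
  refine exists_mulEquiv_quaternion ?_ ?_ ?_ ?_
  · refine orderOf_eq_prime_pow (p := 2) (n := 1) ?_ ?_
    · rw [pow_one, pow_two, h2]; exact invol_ne_one D.orderOf_z
    · rw [show 2 ^ (1 + 1) = 2 * 2 from rfl, pow_mul, pow_two (D.x ^ _), h2, pow_two,
        invol_mul_self D.orderOf_z]
  · rw [pow_two, h2, D.sq_odd_y odd_one]
  · obtain ⟨e, he⟩ := D.even_m
    have he' : (D.m : ℤ) = e + e := by exact_mod_cast he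
    rw [mul_inv_eq_iff_eq_mul, D.mul_rule_zy, ← zpow_neg, ← mul_assoc, ← zpow_add,
      D.zpow_mul_y_eq_iff]
    exact ⟨-(e : ℤ), by rw [he']; ring⟩
  · rintro ⟨i, hi⟩
    simp only [← zpow_mul] at hi
    exact D.zpow_mul_y_ne _ _ hi.symm

variable {G : Type u} [Group G] [Finite G]

theorem pResidual_eq_top_of_no_index_two (hG : ∀ H : Subgroup G, H.index ≠ 2) :
    Cfsg.pResidual 2 G = ⊤ := by
  by_contra hne
  set R := Cfsg.pResidual 2 G
  have : R.Normal := CfsgLib.Transfer.pResidual_normal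
  obtain ⟨n, hn⟩ := CfsgLib.Transfer.pResidual_index_eq_pow (G := G) (p := 2)
  have hp : IsPGroup 2 (G ⧸ R) := IsPGroup.of_card (n := n) (by rw [← Subgroup.index_eq_card, hn])
  have : Nontrivial (G ⧸ R) := by
    rw [← not_subsingleton_iff_nontrivial]
    exact fun h => hne (QuotientGroup.subsingleton_iff.1 h)
  obtain h | ⟨M, hM, -⟩ := IsCoatomic.eq_top_or_exists_le_coatom (⊥ : Subgroup (G ⧸ R))
  · exact bot_ne_top h
  · exact hG _ ((index_comap_of_surjective M (QuotientGroup.mk'_surjective R)).trans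
      (index_two_of_isCoatom hp hM))

section QD

variable (S : Sylow 2 G) (D : QDData (S : Subgroup G)) {k : ℕ} (hm : D.m = 2 ^ k)
  (hG : ∀ H : Subgroup G, H.index ≠ 2)
include hm hG

theorem qd_fuse : IsConj (qz S D) (qy S D) ∧ IsConj (qa S D) (qb S D) := by
  have hS : (S : Subgroup G) ≤ Cfsg.pResidual 2 G ⊓ (S : Subgroup G) := by
    rw [pResidual_eq_top_of_no_index_two hG, top_inf_eq]
  have key : ∀ M : Subgroup (S : Subgroup G), M.index = 2 →
      (S : Subgroup G) ≤ M.map (S : Subgroup G).subtype → False := by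
    intro M hM hle
    have := qd_relIndex_map S hM
    rw [relIndex_eq_one.2 hle] at this
    omega
  constructor
  · by_contra h
    exact key _ D.index_quatMax (hS.trans (qd_residual_quat S D hm h))
  · by_contra h
    exact key _ D.index_dihMax (hS.trans (qd_residual_dih S D hm h))

theorem qd_sylow_le_normal {N : Subgroup G} (hN : N.Normal) {t : G} (ht : orderOf t = 2)
    (htN : t ∈ N) : (S : Subgroup G) ≤ N := by
  obtain ⟨h2, h4⟩ := qd_fuse S D hm hG
  have hconj : ∀ {a b : G}, IsConj a b → a ∈ N → b ∈ N := fun h ha => by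
    obtain ⟨g, rfl⟩ := isConj_iff.1 h
    exact hN.conj_mem _ ha g
  obtain ⟨g, hg⟩ := exists_conj_invol_mem_sylow S ht
  have hy : qy S D ∈ N := by
    refine hconj ?_ (hN.conj_mem _ htN g)
    rcases qd_invol_cases S D (s := ⟨_, hg⟩) ((orderOf_conj_eq g t).trans ht) with e | e
    exacts [e.trans h2, e]
  set K := N.comap (S : Subgroup G).subtype
  have hyK : D.y ∈ K := hy
  have hx2 : D.x ^ (2 : ℤ) ∈ K := by
    obtain ⟨a, ha⟩ := D.exists_conj_shift (i := 0) (j := 2) ⟨1, by norm_num⟩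
    rw [zpow_zero, one_mul] at ha
    have h3 : D.x ^ (2 : ℤ) * D.y ∈ K := ha ▸ hN.conj_mem _ hy _
    have := mul_mem h3 (inv_mem hyK)
    rwa [mul_inv_cancel_right] at this
  have ha : qa S D ∈ N := by
    obtain ⟨e, he⟩ := D.even_m
    have h3 : D.x ^ (D.m : ℤ) ∈ K := by
      rw [show (D.m : ℤ) = 2 * (e : ℤ) by push_cast [he]; ring, zpow_mul]
      exact zpow_mem hx2 _
    exact h3
  have hb : D.x ^ (1 : ℤ) * D.y ∈ K := hconj h4 ha
  have htop : K = ⊤ := D.eq_top_of_mem (by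
    have := mul_mem hb (inv_mem hyK)
    rwa [mul_inv_cancel_right, zpow_one] at this) hyK
  exact fun s hs => (eq_top_iff.1 htop) (mem_top ⟨s, hs⟩)

theorem qd_centralizer :
    ∃ R : Sylow 2 ↥(centralizer ({qz S D} : Set G)), Nat.card R = Nat.card S ∧
      (∃ K : Subgroup ↥(centralizer ({qz S D} : Set G)), K.Normal ∧ (∃ a : ℕ, K.index = 2 ^ a) ∧
        (∀ H : Subgroup ↥K, H.index ≠ 2) ∧
        (∀ P : Sylow 2 ↥K, ∃ m : ℕ, 1 ≤ m ∧ Nonempty ((P : Subgroup ↥K) ≃* QuaternionGroup (2 ^ m)))) ∧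
      ∀ Z₀ : Subgroup ↥(centralizer ({qz S D} : Set G)),
        Z₀ ≤ (center (R : Subgroup ↥(centralizer ({qz S D} : Set G)))).map
          (R : Subgroup ↥(centralizer ({qz S D} : Set G))).subtype →
        Cfsg.IsWeaklyClosed Z₀ (R : Subgroup ↥(centralizer ({qz S D} : Set G))) := by
  set C := centralizer ({qz S D} : Set G)
  have hSC : (S : Subgroup G) ≤ C := fun s hs => mem_centralizer_singleton_iff.2 (qz_commute S D hs).eq.symm
  let P' : Sylow 2 C := S.subtype hSC
  let e : (S : Subgroup G) ≃* (P' : Subgroup C) := (subgroupOfEquivOfLe hSC).symm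
  let D' : QDData (P' : Subgroup C) := D.congr e
  have hz : ((qz P' D' : C) : G) = qz S D := by
    show (((D.congr e).z : (P' : Subgroup C)) : C).1 = _
    rw [QDData.congr_z]; rfl
  have hcen : ∀ g : C, g * qz P' D' * g⁻¹ = qz P' D' := fun g => Subtype.ext (by
    simp only [Subgroup.coe_mul, InvMemClass.coe_inv, hz]
    exact mul_inv_eq_iff_eq_mul.2 (mem_centralizer_singleton_iff.1 g.2))
  have hno : ¬ IsConj (qz P' D') (qy P' D') := fun h => by
    obtain ⟨g, hg⟩ := isConj_iff.1 h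
    rw [hcen] at hg
    have h5 : D'.z = D'.x ^ (0 : ℤ) * D'.y := by rw [zpow_zero, one_mul]; exact Subtype.ext hg
    exact D'.zpow_mul_y_ne 0 _ h5.symm
  have hab : IsConj (qa P' D') (qb P' D') := by
    obtain ⟨g, hg⟩ := isConj_iff.1 (qd_fuse S D hm hG).2
    have haa : qz S D = qa S D * qa S D := congrArg Subtype.val
      (show D.z = D.x ^ (D.m : ℤ) * D.x ^ (D.m : ℤ) by rw [← zpow_add, QDData.z, two_mul])
    have hgC : g ∈ C := by
      refine mem_centralizer_singleton_iff.2 (mul_inv_eq_iff_eq_mul.1 ?_)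
      rw [haa, ← conj_mul, hg, ← haa]
      exact congrArg Subtype.val (D.sq_odd_y odd_one)
    refine isConj_iff.2 ⟨⟨g, hgC⟩, Subtype.ext ?_⟩
    have ha' : ((qa P' D' : C) : G) = qa S D := by
      show (((D.congr e).x ^ (D.m : ℤ) : (P' : Subgroup C)) : C).1 = _
      rw [QDData.congr_zpow]; rfl
    have hb' : ((qb P' D' : C) : G) = qb S D := by
      show (((D.congr e).x ^ (1 : ℤ) * e D.y : (P' : Subgroup C)) : C).1 = _
      rw [QDData.congr_zpow, ← map_mul]; rfl
    simp only [Subgroup.coe_mul, InvMemClass.coe_inv, ha', hb', hg]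
  obtain ⟨eQ⟩ := D'.Q0_equiv
  have hQ := qd_Q P' D' (D'.Q0.map (P' : Subgroup C).subtype) (map_subtype_le _)
    ((D'.Q0.equivMapOfInjective _ (subtype_injective _)).symm.trans eQ)
  have hR : Cfsg.pResidual 2 C ⊓ (P' : Subgroup C) = D'.quatMax.map (P' : Subgroup C).subtype :=
    le_antisymm (qd_residual_quat P' D' hm hno)
      (le_inf (qd_quatMax_le P' D' (hQ.2.2 (hQ.2.1.2 hab))) (map_subtype_le _))
  obtain ⟨hKn, -, hKp, hK2⟩ := residual_package P' _ hR
  have hk : 1 ≤ k := by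
    rcases k with _ | k
    · have := D.two_le; rw [hm] at this; simp at this
    · omega
  refine ⟨P', Nat.card_congr e.symm.toEquiv, ⟨_, hKn, CfsgLib.Transfer.pResidual_index_eq_pow, hK2, fun P => ?_⟩,
    fun Z₀ hZ₀ => ⟨hZ₀.trans (map_subtype_le _), fun g _ => ?_⟩⟩
  · obtain ⟨eP⟩ := hKp P
    obtain ⟨f⟩ := D'.quatMax_equiv
    refine ⟨k, hk, ⟨eP.trans ((equivMapOfInjective _ _ (subtype_injective _)).symm.trans ?_)⟩⟩
    rw [← hm]; exact f
  · rw [D'.center_eq, MonoidHom.map_zpowers] at hZ₀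
    have hfix : ∀ z ∈ Z₀, g * z * g⁻¹ = z := fun z hz => by
      obtain ⟨i, hi⟩ := hZ₀ hz
      rw [← hi]
      show g * (qz P' D') ^ i * g⁻¹ = (qz P' D') ^ i
      rw [conj_zpow_eq, hcen]
    ext w
    exact ⟨fun ⟨z, hz₀, e⟩ => by rw [← e, MulEquiv.coe_toMonoidHom, MulAut.conj_apply, hfix z hz₀]; exact hz₀,
      fun hw => ⟨w, hw, hfix w hw⟩⟩

end QD

section Wreathed

variable (S : Sylow 2 G) (D : WrData (S : Subgroup G)) (hG : ∀ H : Subgroup G, H.index ≠ 2)
include hG

theorem wr_fuse : IsConj (D.z : G) (wel S D D.h 0) ∧ IsConj (wt S D) (wel S D D.h 0) := by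
  have hS : (S : Subgroup G) ≤ Cfsg.pResidual 2 G ⊓ (S : Subgroup G) := by
    rw [pResidual_eq_top_of_no_index_two hG, top_inf_eq]
  have ht : IsConj (wt S D) (wel S D D.h 0) := by
    by_contra h
    have h5 := (hS.trans (residual_le_wA S D h)) (SetLike.coe_mem (D.el 0 0 * D.t))
    exact D.el_t_notMem_A 0 0 ((coe_mem_wS S).1 h5)
  refine ⟨?_, ht⟩
  by_contra h
  have h1 := (wA_index S D).1.resolve_right fun h6 => h ((wA_index S D).2.1.1 h6)
  have h5 := hS.trans (residual_le_Y0 S D (wz_isolated S D h ht) h1)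
  have h6 : D.Y0.index = 1 := index_eq_one.2 (eq_top_iff.2 fun s _ => (coe_mem_wS S).1 (h5 s.2))
  rw [D.index_Y0] at h6
  exact (Nat.one_lt_two_pow (by have := D.two_le; omega)).ne' h6

include D in
theorem wr_sylow_le_normal {N : Subgroup G} (hN : N.Normal) {t : G} (ht : orderOf t = 2)
    (htN : t ∈ N) : (S : Subgroup G) ≤ N := by
  obtain ⟨hze, hte⟩ := wr_fuse S D hG
  have hconj : ∀ {a b : G}, IsConj a b → a ∈ N → b ∈ N := fun h ha => by
    obtain ⟨g, rfl⟩ := isConj_iff.1 h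
    exact hN.conj_mem _ ha g
  have he : wel S D D.h 0 ∈ N := by
    rcases invol_classes S D ht with h | h | h
    exacts [hconj (h.trans hze) htN, hconj h htN, hconj (h.trans hte) htN]
  have htt : wt S D ∈ N := hconj hte.symm he
  set K := N.comap (S : Subgroup G).subtype
  have htK : D.el 0 0 * D.t ∈ K := htt
  have hanti : ∀ a : ℤ, D.el a (-a) ∈ K := fun a => by
    have h1 : D.el a (-a) * D.t ∈ K := by
      refine hconj (isConj_t S D (a := a) (b := -a) ⟨0, by ring⟩).symm htt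
    have h2 := mul_mem h1 htK
    rwa [D.mul_t_mul_t, add_zero, add_zero] at h2
  -- a translate of `el 1 (-1)` under the normalizer of `A`
  obtain ⟨g, hg⟩ := isConj_iff.1 hze
  obtain ⟨m, hm, hmz⟩ := exists_normalizer_conj S D (x := (D.z : G)) (g := g) ⟨_, D.el_mem_A _ _, rfl⟩
    (hg.symm ▸ ⟨_, D.el_mem_A _ _, rfl⟩)
  rw [hg] at hmz
  obtain ⟨u, ⟨p, q, rfl⟩, hu⟩ := (mem_normalizer_iff.1 hm (wel S D 1 (-1))).1 ⟨_, D.el_mem_A _ _, rfl⟩
  change ((D.el p q : (S : Subgroup G)) : G) = m * wel S D 1 (-1) * m⁻¹ at hu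
  have hpq : D.el p q ∈ K := by
    show ((D.el p q : (S : Subgroup G)) : G) ∈ N
    rw [hu]; exact hN.conj_mem _ (hanti 1) m
  have hN2 := D.N_eq_two_h
  have hpow : D.el (p * D.h) (q * D.h) = D.el D.h 0 := by
    refine Subtype.ext ?_
    rw [← D.el_zpow, Subgroup.coe_zpow, hu, ← conj_zpow_eq]
    show m * ((D.el 1 (-1) : (S : Subgroup G)) : G) ^ D.h * m⁻¹ = wel S D D.h 0
    rw [← hmz, ← Subgroup.coe_zpow, D.el_zpow]
    congr 2
    exact congrArg Subtype.val (show D.el (1 * D.h) (-1 * D.h) = D.z by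
      rw [WrData.z, D.el_eq_iff]; exact ⟨⟨0, by ring⟩, ⟨-1, by rw [hN2]; ring⟩⟩)
  obtain ⟨h5, h6⟩ := D.el_eq_iff.1 hpow
  have hodd : Odd (p + q) := by
    rw [← Int.not_even_iff_odd]
    intro hev
    refine D.not_N_dvd_h ?_
    exact (dvd_sub (D.N_dvd_mul_h.2 hev) (dvd_add h5 h6)).trans (dvd_of_eq (by ring))
  have hx : D.el (p + q) 0 ∈ K := by
    have := mul_mem hpq (hanti q)
    rwa [D.el_mul, add_neg_cancel] at this
  have hall : ∀ a b : ℤ, D.el a b ∈ K := by
    have hcop : IsCoprime (p + q) D.N := (Int.isCoprime_two_right.2 hodd).pow_right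
    obtain ⟨u, v, huv⟩ := hcop
    intro a b
    have h7 := mul_mem (zpow_mem (zpow_mem hx u) (a + b)) (hanti (-b))
    rw [D.el_zpow, D.el_zpow, D.el_mul] at h7
    rw [show D.el a b = D.el ((p + q) * u * (a + b) + -b) (0 * u * (a + b) + - -b) by
      rw [D.el_eq_iff]
      exact ⟨⟨v * (a + b), by linear_combination -(a + b) * huv⟩, ⟨0, by ring⟩⟩]
    exact h7
  intro s hs
  rcases D.cases ⟨s, hs⟩ with ⟨a, b, e⟩ | ⟨a, b, e⟩
  · rw [show s = ((D.el a b : (S : Subgroup G)) : G) from congrArg Subtype.val e]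
    exact hall a b
  · have h8 := mul_mem (hall a b) htK
    rw [D.el_mul_t, add_zero, add_zero] at h8
    rw [show s = ((D.el a b * D.t : (S : Subgroup G)) : G) from congrArg Subtype.val e]
    exact h8

theorem wr_centralizer :
    ∃ R : Sylow 2 ↥(centralizer ({(D.z : G)} : Set G)), Nat.card R = Nat.card S ∧
      (∃ K : Subgroup ↥(centralizer ({(D.z : G)} : Set G)), K.Normal ∧ (∃ a : ℕ, K.index = 2 ^ a) ∧
        (∀ H : Subgroup ↥K, H.index ≠ 2) ∧
        (∀ P : Sylow 2 ↥K, ∃ m : ℕ, 1 ≤ m ∧ Nonempty ((P : Subgroup ↥K) ≃* QuaternionGroup (2 ^ m)))) ∧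
      ∀ Z₀ : Subgroup ↥(centralizer ({(D.z : G)} : Set G)),
        Z₀ ≤ (center (R : Subgroup ↥(centralizer ({(D.z : G)} : Set G)))).map
          (R : Subgroup ↥(centralizer ({(D.z : G)} : Set G))).subtype →
        Cfsg.IsWeaklyClosed Z₀ (R : Subgroup ↥(centralizer ({(D.z : G)} : Set G))) := by
  set C := centralizer ({(D.z : G)} : Set G)
  have hSC : (S : Subgroup G) ≤ C := fun s hs =>
    mem_centralizer_singleton_iff.2 (wel_commute S D D.h hs).eq.symm
  let P' : Sylow 2 C := S.subtype hSC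
  let e : (S : Subgroup G) ≃* (P' : Subgroup C) := (subgroupOfEquivOfLe hSC).symm
  let D' : WrData (P' : Subgroup C) := D.congr e
  have hel : ∀ i j, ((wel P' D' i j : C) : G) = wel S D i j := fun i j => by
    show (((D.congr e).el i j : (P' : Subgroup C)) : C).1 = _
    rw [WrData.congr_el]; rfl
  have ht' : ((wt P' D' : C) : G) = wt S D := by
    show (((D.congr e).el 0 0 * e D.t : (P' : Subgroup C)) : C).1 = _
    rw [WrData.congr_el, ← map_mul]; rfl
  have hcen : ∀ g : C, g * (D'.z : C) * g⁻¹ = D'.z := fun g => Subtype.ext (by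
    have h1 : (((D'.z : (P' : Subgroup C)) : C) : G) = (D.z : G) := hel _ _
    simp only [Subgroup.coe_mul, InvMemClass.coe_inv, h1]
    exact mul_inv_eq_iff_eq_mul.2 (mem_centralizer_singleton_iff.1 g.2))
  have hno : ¬ IsConj (D'.z : C) (wel P' D' D'.h 0) := fun h => by
    obtain ⟨g, hg⟩ := isConj_iff.1 h
    rw [hcen] at hg
    obtain ⟨-, h5⟩ := D'.el_eq_iff.1 (Subtype.ext hg : D'.z = D'.el D'.h 0)
    exact D'.not_N_dvd_h (h5.trans (dvd_of_eq (by ring)))
  have hte : IsConj (wt P' D') (wel P' D' D'.h 0) := by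
    obtain ⟨g, hg⟩ := isConj_iff.1 (wr_fuse S D hG).2
    obtain ⟨k, hkc, hkt⟩ := exists_t_to_e S D (D.el_t_notMem_A 0 0) (g := g)
      ⟨_, D.el_mem_A D.h 0, hg.symm⟩
    have hkC : k ∈ C := by
      refine mem_centralizer_singleton_iff.2 (mul_inv_eq_iff_eq_mul.1 ?_)
      have hz : (D.z : G) = wel S D 1 1 ^ D.h := by
        show _ = ((D.el 1 1 : (S : Subgroup G)) : G) ^ D.h
        rw [← Subgroup.coe_zpow, D.el_zpow, one_mul]; rfl
      rw [hz, conj_zpow_eq, hkc]
    refine isConj_iff.2 ⟨⟨k, hkC⟩, Subtype.ext ?_⟩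
    simp only [Subgroup.coe_mul, InvMemClass.coe_inv, hel]
    show k * ((wt P' D' : C) : G) * k⁻¹ = _
    rw [ht']
    exact hkt
  have hz := wz_isolated P' D' hno hte
  obtain ⟨hA1, hA2, -⟩ := wA_index P' D'
  obtain ⟨-, hV2, -, hV4⟩ := wV_index P' D'
  have hR : Cfsg.pResidual 2 C ⊓ (P' : Subgroup C) = D'.Y0.map (P' : Subgroup C).subtype :=
    le_antisymm (residual_le_Y0 P' D' hz (hA1.resolve_right fun h6 => hno (hA2.1 h6)))
      (le_inf (Y0_le_residual P' D' (hV4 (hV2.2 hte))) (map_subtype_le _))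
  obtain ⟨hKn, -, hKp, hK2⟩ := residual_package P' _ hR
  refine ⟨P', Nat.card_congr e.symm.toEquiv, ⟨_, hKn, CfsgLib.Transfer.pResidual_index_eq_pow, hK2, fun P => ?_⟩,
    fun Z₀ hZ₀ => ⟨hZ₀.trans (map_subtype_le _), fun g hg => ?_⟩⟩
  · obtain ⟨eP⟩ := hKp P
    obtain ⟨f⟩ := D'.Y0_equiv
    exact ⟨D'.n - 1, by have := D'.two_le; omega,
      ⟨eP.trans ((equivMapOfInjective _ _ (subtype_injective _)).symm.trans f)⟩⟩
  · have hfix : ∀ z ∈ Z₀, g * z * g⁻¹ = z := by
      intro z hz₀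
      obtain ⟨s, hs, rfl⟩ := hZ₀ hz₀
      obtain ⟨i, rfl⟩ := D'.mem_center_iff.1 hs
      exact isoElt_fix (isoElt_wel P' D' hz i) (hg ⟨_, hz₀, rfl⟩)
    ext w
    exact ⟨fun ⟨z, hz₀, e⟩ => by rw [← e, MulEquiv.coe_toMonoidHom, MulAut.conj_apply, hfix z hz₀]; exact hz₀,
      fun hw => ⟨w, hw, hfix w hw⟩⟩

end Wreathed

/-- Quasi-dihedral or wreathed. -/
def IsQW (S : Type u) [Group S] : Prop := Cfsg.IsQuasiDihedral S ∨ Cfsg.IsWreathed S

theorem IsQW.congr {S S' : Type u} [Group S] [Group S'] (e : S ≃* S') (h : IsQW S) : IsQW S' := by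
  rcases h with ⟨n, hn, hc, x, y, hx, hy, hxy⟩ | ⟨n, hn, hc, x, y, t, hx, hxy, hi, ht, htx⟩
  · refine Or.inl ⟨n, hn, by rw [← Nat.card_congr e.toEquiv, hc], e x, e y, ?_, ?_, ?_⟩
    · rw [MulEquiv.orderOf_eq, hx]
    · rw [MulEquiv.orderOf_eq, hy]
    · rw [← map_pow, ← hxy, map_mul, map_mul, map_inv]
  · refine Or.inr ⟨n, hn, by rw [← Nat.card_congr e.toEquiv, hc], e x, e y, e t, ?_, Commute.map (show Commute x y from hxy) e, ?_, ?_, ?_⟩
    · rw [MulEquiv.orderOf_eq, hx]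
    · have h := congrArg (Subgroup.map e.toMonoidHom) hi
      rw [Subgroup.map_inf _ _ _ e.injective, MonoidHom.map_zpowers, MonoidHom.map_zpowers,
        Subgroup.map_bot] at h
      exact h
    · rw [MulEquiv.orderOf_eq, ht]
    · rw [← map_inv, ← map_mul, ← map_mul, htx]

theorem qw_sylow_le_normal (S : Sylow 2 G) (hS : IsQW (S : Subgroup G))
    (hG : ∀ H : Subgroup G, H.index ≠ 2) {N : Subgroup G} (hN : N.Normal) {t : G}
    (ht : orderOf t = 2) (htN : t ∈ N) : (S : Subgroup G) ≤ N := by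
  rcases hS with h | h
  · obtain ⟨D, n, hn, hm, -⟩ := exists_qdData h
    exact qd_sylow_le_normal S D hm hG hN ht htN
  · obtain ⟨D⟩ := exists_wrData h
    exact wr_sylow_le_normal S D hG hN ht htN

theorem qw_center_ne (S : Sylow 2 G) (hS : IsQW (S : Subgroup G)) (hG : ∀ H : Subgroup G, H.index ≠ 2) :
    ¬ (S : Subgroup G).Normal ∧ ¬ IsMulCommutative (S : Subgroup G) := by
  have main : ∀ z y w : (S : Subgroup G), z ∈ Subgroup.center (S : Subgroup G) → ¬ Commute y w →
      IsConj (z : G) (y : G) → ¬ (S : Subgroup G).Normal ∧ ¬ IsMulCommutative (S : Subgroup G) := by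
    intro z y w hz hyw hconj
    refine ⟨fun hn => ?_, fun hc => hyw (hc.is_comm.comm y w)⟩
    obtain ⟨g, hg⟩ := isConj_iff.1 hconj
    refine hyw (Subtype.ext ?_)
    have h1 : Commute z ⟨g⁻¹ * (w : G) * g⁻¹⁻¹, hn.conj_mem _ w.2 g⁻¹⟩ :=
      ((Subgroup.mem_center_iff.1 hz) _).symm
    have h2 := ((h1.map (S : Subgroup G).subtype).map (MulAut.conj g).toMonoidHom).eq
    simp only [MulEquiv.coe_toMonoidHom, MulAut.conj_apply, Subgroup.coe_subtype] at h2
    rw [hg, show g * (g⁻¹ * (w : G) * g⁻¹⁻¹) * g⁻¹ = (w : G) by group] at h2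
    exact h2
  rcases hS with h | h
  · obtain ⟨D, n, hn, hm, -⟩ := exists_qdData h
    refine main D.z D.y D.x (Subgroup.mem_center_iff.2 fun w => (D.commute_z w).symm.eq) (fun hc => ?_)
      (qd_fuse S D hm hG).1
    have h5 : Commute (D.x ^ (1 : ℤ)) (D.x ^ (0 : ℤ) * D.y) := by
      rw [zpow_one, zpow_zero, one_mul]; exact hc.symm
    have h7 := Int.le_of_dvd one_pos (D.commute_y_iff.1 h5)
    have := D.two_le
    omega
  · obtain ⟨D⟩ := exists_wrData h
    refine main D.z (D.el 0 0 * D.t) (D.el D.h 0) (D.mem_center_iff.2 ⟨D.h, rfl⟩) (fun hc => ?_)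
      ((wr_fuse S D hG).1.trans (wr_fuse S D hG).2.symm)
    exact D.not_N_dvd_h ((D.el_commute_t_iff.1 hc.symm).trans (dvd_of_eq (sub_zero _)))

/-- The structure of a group with quasi-dihedral or wreathed Sylow 2-subgroup, no subgroup of
index two and trivial odd core. -/
theorem qw_exists_simple (S : Sylow 2 G) (hS : IsQW (S : Subgroup G))
    (hG : ∀ H : Subgroup G, H.index ≠ 2) (hO : Cfsg.oddCore G = ⊥) :
    ∃ L : Subgroup G, L.Normal ∧ Odd L.index ∧ IsSimpleGroup L ∧ ¬ IsMulCommutative L := by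
  obtain ⟨hSn, hSc⟩ := qw_center_ne S hS hG
  set L := normalClosure ((S : Subgroup G) : Set G)
  have hLn : L.Normal := normalClosure_normal
  have hSL : (S : Subgroup G) ≤ L := subset_normalClosure
  have hLmin : ∀ M : Subgroup G, M.Normal → (S : Subgroup G) ≤ M → L ≤ M := fun M hM hle =>
    have := hM
    normalClosure_le_normal hle
  have hS1 : (S : Subgroup G) ≠ ⊥ := fun h => hSn (h ▸ Subgroup.normal_bot)
  have hodd : Odd L.index := by
    rw [Nat.odd_iff, ← Nat.two_dvd_ne_zero]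
    exact fun h => S.not_dvd_index (h.trans (index_dvd_of_le hSL))
  -- normal subgroups of odd order of `L` are trivial
  have hLodd : ∀ N : Subgroup L, N.Normal → Odd (Nat.card N) → N = ⊥ := by
    intro N hN hoddN
    have hchar : (Cfsg.oddCore L).Characteristic := CfsgLib.Solvable.pPrimeCore_characteristic 2 L
    have h1 : (Cfsg.oddCore L).map L.subtype ≤ Cfsg.oddCore G := le_oddCore inferInstance (by
      rw [← Nat.card_congr ((Cfsg.oddCore L).equivMapOfInjective _ L.subtype_injective).toEquiv]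
      exact odd_card_oddCore L)
    rw [hO, le_bot_iff, map_eq_bot_iff_of_injective _ L.subtype_injective] at h1
    exact le_bot_iff.1 (h1 ▸ le_oddCore hN hoddN)
  have hinv : ∀ N : Subgroup L, N.Normal → N ≠ ⊥ → ∃ t : L, t ∈ N ∧ orderOf t = 2 := by
    intro N hN hne
    have : Fact (Nat.Prime 2) := ⟨Nat.prime_two⟩
    have h2 : 2 ∣ Nat.card N := even_iff_two_dvd.1
      (Nat.not_odd_iff_even.1 fun h => hne (hLodd N hN h))
    obtain ⟨t, ht⟩ := exists_prime_orderOf_dvd_card' 2 h2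
    exact ⟨t, t.2, (Subgroup.orderOf_coe t).trans ht⟩
  -- `L` has no subgroup of index two
  have hL2 : ∀ H : Subgroup L, H.index ≠ 2 := by
    intro H hH
    have : H.Normal := normal_of_index_eq_two hH
    have hR : Cfsg.pResidual 2 L ≤ H := CfsgLib.Transfer.pResidual_le_of_isPGroup_quotient
      (IsPGroup.of_card (n := 1) (by rw [← Subgroup.index_eq_card, hH, pow_one]))
    have : (Cfsg.pResidual 2 L).Characteristic := CfsgLib.Transfer.pResidual_characteristic
    set R := (Cfsg.pResidual 2 L).map L.subtype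
    by_cases hb : Cfsg.pResidual 2 L = ⊥
    · -- then `L` is a 2-group
      obtain ⟨a, ha⟩ := CfsgLib.Transfer.pResidual_index_eq_pow (G := L) (p := 2)
      rw [hb, index_bot] at ha
      exact hSn (S.is_maximal' (IsPGroup.of_card ha) hSL ▸ hLn)
    · obtain ⟨t, htR, ht⟩ := hinv _ inferInstance hb
      have hle : L ≤ R := hLmin _ inferInstance (qw_sylow_le_normal S hS hG (N := R) inferInstance
        (t := (t : G)) ((Subgroup.orderOf_coe t).trans ht) ⟨t, htR, rfl⟩)
      have htop : (⊤ : Subgroup L) ≤ H := fun x _ => by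
        obtain ⟨w, hw, hwx⟩ := hle x.2
        exact (Subtype.ext hwx : w = x) ▸ hR hw
      rw [top_le_iff.1 htop, index_top] at hH
      omega
  refine ⟨L, hLn, hodd, ?_, fun hc => ?_⟩
  · have : Nontrivial L := by
      rw [nontrivial_iff_ne_bot]
      exact fun h => hS1 (le_bot_iff.1 (h ▸ hSL))
    refine ⟨fun N hN => ?_⟩
    by_cases hne : N = ⊥
    · exact Or.inl hne
    right
    obtain ⟨t, htN, ht⟩ := hinv N hN hne
    -- the Sylow subgroups of `L` lie in every nontrivial normal subgroup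
    have hSN : ∀ T : Sylow 2 L, IsQW (T : Subgroup L) → (T : Subgroup L) ≤ N := fun T hT =>
      qw_sylow_le_normal T hT hL2 hN ht htN
    have hcore : (S : Subgroup G) ≤ (N.map L.subtype).normalCore := by
      intro s hs g
      have hgs : g * s * g⁻¹ ∈ L := hLn.conj_mem _ (hSL hs) g
      let T : Sylow 2 G := S.mapSurjective (f := (MulAut.conj g).toMonoidHom) (MulAut.conj g).surjective
      have hTL : (T : Subgroup G) ≤ L := by
        rintro _ ⟨w, hw, rfl⟩; exact hLn.conj_mem _ (hSL hw) g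
      have hT : IsQW ((T.subtype hTL : Sylow 2 L) : Subgroup L) :=
        hS.congr (((S : Subgroup G).equivMapOfInjective _ (MulAut.conj g).injective).trans
          (subgroupOfEquivOfLe hTL).symm)
      exact ⟨⟨_, hgs⟩, hSN _ hT (x := ⟨_, hgs⟩) ⟨s, hs, rfl⟩, rfl⟩
    rw [eq_top_iff]
    intro x _
    obtain ⟨w, hw, hwx⟩ := normalCore_le _ ((hLmin _ inferInstance hcore) x.2)
    exact (Subtype.ext hwx : w = x) ▸ hw
  · exact hSc ⟨⟨fun a b => Subtype.ext (congrArg (fun u : L => (u : G))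
      (hc.is_comm.comm (⟨a, hSL a.2⟩ : L) ⟨b, hSL b.2⟩))⟩⟩

theorem qw_centralizer (S : Sylow 2 G) (hS : IsQW (S : Subgroup G))
    (hG : ∀ H : Subgroup G, H.index ≠ 2) (x : G) (hx : orderOf x = 2) :
    ∃ R : Sylow 2 ↥(centralizer ({x} : Set G)), Nat.card R = Nat.card S ∧
      (∃ K : Subgroup ↥(centralizer ({x} : Set G)), K.Normal ∧ (∃ a : ℕ, K.index = 2 ^ a) ∧
        (∀ H : Subgroup ↥K, H.index ≠ 2) ∧
        (∀ P : Sylow 2 ↥K, ∃ m : ℕ, 1 ≤ m ∧ Nonempty ((P : Subgroup ↥K) ≃* QuaternionGroup (2 ^ m)))) ∧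
      ∀ Z₀ : Subgroup ↥(centralizer ({x} : Set G)),
        Z₀ ≤ (center (R : Subgroup ↥(centralizer ({x} : Set G)))).map
          (R : Subgroup ↥(centralizer ({x} : Set G))).subtype →
        Cfsg.IsWeaklyClosed Z₀ (R : Subgroup ↥(centralizer ({x} : Set G))) := by
  obtain ⟨g₀, hg₀⟩ := exists_conj_invol_mem_sylow S hx
  have hxc : IsConj x (g₀ * x * g₀⁻¹) := isConj_iff.2 ⟨g₀, rfl⟩
  rcases hS with h | h
  · obtain ⟨D, n, hn, hm, -⟩ := exists_qdData h
    obtain ⟨g, hg⟩ : ∃ g, g * qz S D * g⁻¹ = x := isConj_iff.1 (by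
      rcases qd_invol_cases S D (s := ⟨_, hg₀⟩) ((orderOf_conj_eq g₀ x).trans hx) with e | e
      · exact (hxc.trans e).symm
      · exact ((hxc.trans e).trans (qd_fuse S D hm hG).1.symm).symm)
    let T : Sylow 2 G := S.mapSurjective (f := (MulAut.conj g).toMonoidHom) (MulAut.conj g).surjective
    let e : (S : Subgroup G) ≃* (T : Subgroup G) :=
      (S : Subgroup G).equivMapOfInjective _ (MulAut.conj g).injective
    have hz : qz T (D.congr e) = x := by
      show (((D.congr e).z : (T : Subgroup G)) : G) = x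
      rw [QDData.congr_z]; exact hg
    obtain ⟨R, hR1, hR2⟩ := hz ▸ qd_centralizer T (D.congr e) hm hG
    exact ⟨R, hR1.trans (Nat.card_congr e.symm.toEquiv), hR2⟩
  · obtain ⟨D⟩ := exists_wrData h
    obtain ⟨g, hg⟩ : ∃ g, g * (D.z : G) * g⁻¹ = x := isConj_iff.1 (by
      rcases invol_classes S D hx with e | e | e
      · exact e.symm
      · exact (e.trans (wr_fuse S D hG).1.symm).symm
      · exact ((e.trans (wr_fuse S D hG).2).trans (wr_fuse S D hG).1.symm).symm)
    let T : Sylow 2 G := S.mapSurjective (f := (MulAut.conj g).toMonoidHom) (MulAut.conj g).surjective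
    let e : (S : Subgroup G) ≃* (T : Subgroup G) :=
      (S : Subgroup G).equivMapOfInjective _ (MulAut.conj g).injective
    have hz : (((D.congr e).z : (T : Subgroup G)) : G) = x := by
      rw [WrData.congr_z]; exact hg
    obtain ⟨R, hR1, hR2⟩ := hz ▸ wr_centralizer T (D.congr e) hG
    exact ⟨R, hR1.trans (Nat.card_congr e.symm.toEquiv), hR2⟩

end CfsgLib.Invol
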