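import Cfsg.Agent.Lib.Invol.FusionBasics
import Cfsg.Agent.Lib.Invol.Isolated
import Cfsg.Agent.Lib.Invol.QWGroups
import Mathlib.GroupTheory.Perm.Cycle.Type

/-!
Fusion of involutions in groups with dihedral Sylow 2-subgroups.
-/

set_option autoImplicit false
set_option linter.unusedSectionVars false

namespace CfsgLib.Invol

open Subgroup

universe u

/-- Generators of a dihedral 2-group of order `4 * h`. -/
structure DihData (S : Type*) [Group S] where
  h : ℕ
  r : S
  s : S
  h_pos : 0 < h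
  h_pow : ∃ k : ℕ, h = 2 ^ k
  orderOf_r : orderOf r = 2 * h
  orderOf_s : orderOf s = 2
  conj_r : s * r * s⁻¹ = r⁻¹
  s_notMem : s ∉ Subgroup.zpowers r
  cases : ∀ u : S, (∃ i : ℤ, u = r ^ i) ∨ ∃ i : ℤ, u = r ^ i * s
  card_eq : Nat.card S = 4 * h

theorem exists_dihData {S : Type*} [Group S] (hp : IsPGroup 2 S) {m : ℕ} (hm : 2 ≤ m)
    (e : S ≃* DihedralGroup m) : Nonempty (DihData S) := by
  have : NeZero m := ⟨by omega⟩
  have hcard : Nat.card S = 2 * m := by rw [Nat.card_congr e.toEquiv, DihedralGroup.nat_card]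
  have : Finite S := Nat.finite_of_card_ne_zero (by omega)
  obtain ⟨n, hn⟩ := hp.exists_card_eq
  obtain ⟨k, rfl⟩ : ∃ k, n = k + 2 := by
    refine ⟨n - 2, ?_⟩
    rcases n with _ | _ | n
    · rw [pow_zero] at hn; omega
    · rw [pow_one] at hn; omega
    · omega
  have hmk : m = 2 * 2 ^ k := by rw [hcard, pow_add] at hn; omega
  refine ⟨⟨2 ^ k, e.symm (DihedralGroup.r 1), e.symm (DihedralGroup.sr 0), by positivity, ⟨k, rfl⟩,
    ?_, ?_, ?_, ?_, ?_, ?_⟩⟩
  · rw [MulEquiv.orderOf_eq, DihedralGroup.orderOf_r_one, hmk]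
  · rw [MulEquiv.orderOf_eq, DihedralGroup.orderOf_sr]
  · rw [← map_inv, ← map_mul, ← map_mul, ← map_inv]
    congr 1
    simp
  · rintro ⟨i, hi⟩
    simp only [← map_zpow, EmbeddingLike.apply_eq_iff_eq] at hi
    simp at hi
  · intro u
    obtain ⟨w, rfl⟩ := e.symm.surjective u
    rcases w with i | i
    · refine Or.inl ⟨(i.val : ℤ), ?_⟩
      rw [← map_zpow]
      congr 1
      simp [DihedralGroup.r_one_pow]
    · refine Or.inr ⟨-(i.val : ℤ), ?_⟩
      rw [← map_zpow, ← map_mul]
      congr 1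
      simp [DihedralGroup.r_one_zpow]
  · rw [hcard, hmk]; ring

namespace DihData

variable {S : Type*} [Group S] (D : DihData S)

/-- The central involution. -/
def z : S := D.r ^ (D.h : ℤ)

theorem zpow_eq_one_iff {i : ℤ} : D.r ^ i = 1 ↔ 2 * (D.h : ℤ) ∣ i := by
  rw [← orderOf_dvd_iff_zpow_eq_one, D.orderOf_r]
  push_cast
  rfl

theorem zpow_eq_iff {i j : ℤ} : D.r ^ i = D.r ^ j ↔ 2 * (D.h : ℤ) ∣ j - i := by
  rw [← inv_mul_eq_one, ← zpow_neg, ← zpow_add, D.zpow_eq_one_iff, neg_add_eq_sub]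

theorem s_mul_zpow (i : ℤ) : D.s * D.r ^ i = D.r ^ (-i) * D.s := by
  rw [← mul_inv_eq_iff_eq_mul, conj_zpow_inv D.conj_r, zpow_neg]

theorem zy_mul_z (i j : ℤ) : D.r ^ i * D.s * D.r ^ j = D.r ^ (i - j) * D.s := by
  rw [mul_assoc, D.s_mul_zpow, ← mul_assoc, ← zpow_add, sub_eq_add_neg]

theorem zy_mul_zy (i j : ℤ) : D.r ^ i * D.s * (D.r ^ j * D.s) = D.r ^ (i - j) := by
  rw [← mul_assoc, D.zy_mul_z, mul_assoc, invol_mul_self D.orderOf_s, mul_one]

theorem ne_zpow (i j : ℤ) : D.r ^ i * D.s ≠ D.r ^ j := fun h => D.s_notMem (by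
  have : D.s = (D.r ^ i)⁻¹ * D.r ^ j := by rw [← h, inv_mul_cancel_left]
  rw [this, ← zpow_neg, ← zpow_add]
  exact zpow_mem (mem_zpowers _) _)

theorem zy_inv (i : ℤ) : (D.r ^ i * D.s)⁻¹ = D.r ^ i * D.s :=
  inv_eq_of_mul_eq_one_right (by rw [D.zy_mul_zy, sub_self, zpow_zero])

theorem orderOf_zy (i : ℤ) : orderOf (D.r ^ i * D.s) = 2 :=
  invol_of_mul_self (by rw [D.zy_mul_zy, sub_self, zpow_zero])
    fun h => D.ne_zpow i 0 (h.trans (zpow_zero _).symm)

theorem orderOf_z : orderOf D.z = 2 := by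
  refine invol_of_mul_self ?_ ?_
  · rw [z, ← zpow_add, D.zpow_eq_one_iff]; exact ⟨1, by ring⟩
  · rw [z, Ne, D.zpow_eq_one_iff]
    intro h
    have := D.h_pos
    have := Int.le_of_dvd (by omega) h
    omega

theorem commute_z (u : S) : Commute D.z u := by
  rcases D.cases u with ⟨i, rfl⟩ | ⟨i, rfl⟩
  · exact (Commute.refl D.r).zpow_zpow _ _
  · show D.r ^ (D.h : ℤ) * (D.r ^ i * D.s) = D.r ^ i * D.s * D.r ^ (D.h : ℤ)
    rw [← mul_assoc, ← zpow_add, D.zy_mul_z, mul_left_inj, D.zpow_eq_iff]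
    exact ⟨-1, by ring⟩

theorem eq_z_of_zpow {i : ℤ} (h : orderOf (D.r ^ i) = 2) : D.r ^ i = D.z := by
  have h1 := invol_mul_self h
  rw [← zpow_add, D.zpow_eq_one_iff] at h1
  obtain ⟨c, hc⟩ := h1
  rcases Int.even_or_odd' c with ⟨d, rfl | rfl⟩
  · refine absurd ?_ (invol_ne_one h)
    rw [D.zpow_eq_one_iff]
    exact ⟨d, by linarith⟩
  · rw [z, D.zpow_eq_iff]
    exact ⟨-d, by linarith⟩

theorem invol_cases {u : S} (hu : orderOf u = 2) : u = D.z ∨ ∃ i : ℤ, u = D.r ^ i * D.s := by
  rcases D.cases u with ⟨i, rfl⟩ | ⟨i, rfl⟩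
  · exact Or.inl (D.eq_z_of_zpow hu)
  · exact Or.inr ⟨i, rfl⟩

theorem conj_refl (a i : ℤ) :
    D.r ^ a * (D.r ^ i * D.s) * (D.r ^ a)⁻¹ = D.r ^ (i + 2 * a) * D.s := by
  rw [← zpow_neg, ← mul_assoc, ← zpow_add, D.zy_mul_z]
  congr 2; ring

/-- The four-group through a reflection. -/
def klein (j : ℤ) : Subgroup S where
  carrier := {u | u = 1 ∨ u = D.z ∨ u = D.r ^ j * D.s ∨ u = D.z * (D.r ^ j * D.s)}
  one_mem' := Or.inl rfl
  mul_mem' := by
    have hz := invol_mul_self D.orderOf_z
    have ht := invol_mul_self (D.orderOf_zy j)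
    have hc := (D.commute_z (D.r ^ j * D.s)).eq
    generalize D.r ^ j * D.s = t at *
    rintro a b (rfl | rfl | rfl | rfl) (rfl | rfl | rfl | rfl) <;>
      simp only [one_mul, mul_one, Set.mem_ofPred_eq, true_or, or_true, hz, ht]
    · right; right; left; rw [← mul_assoc, hz, one_mul]
    · right; right; right; exact hc.symm
    · right; left; rw [hc, ← mul_assoc, ht, one_mul]
    · right; right; left; rw [mul_assoc, ← hc, ← mul_assoc, hz, one_mul]
    · right; left; rw [mul_assoc, ht, mul_one]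
    · left; rw [mul_assoc, ← mul_assoc t, ← hc, mul_assoc, ht, mul_one, hz]
  inv_mem' := by
    have hz := invol_inv D.orderOf_z
    have ht := invol_inv (D.orderOf_zy j)
    rintro a (rfl | rfl | rfl | rfl)
    · exact Or.inl inv_one
    · exact Or.inr (Or.inl hz)
    · exact Or.inr (Or.inr (Or.inl ht))
    · refine Or.inr (Or.inr (Or.inr ?_))
      rw [mul_inv_rev, hz, ht, (D.commute_z _).eq]

theorem klein_isKleinFour (j : ℤ) : IsKleinFour (D.klein j) := by
  have hsq : ∀ u : D.klein j, u ^ 2 = 1 := by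
    rintro ⟨u, hu⟩
    refine Subtype.ext ?_
    show u ^ 2 = 1
    rw [pow_two]
    rcases hu with rfl | rfl | rfl | rfl
    · exact one_mul 1
    · exact invol_mul_self D.orderOf_z
    · exact invol_mul_self (D.orderOf_zy j)
    · rw [(D.commute_z (D.r ^ j * D.s)).symm.mul_mul_mul_comm, invol_mul_self D.orderOf_z,
        invol_mul_self (D.orderOf_zy j), one_mul]
  have hnz : D.z ≠ D.r ^ j * D.s := fun h => D.ne_zpow j _ h.symm
  have hcard : Nat.card (D.klein j) = 4 := by
    show Nat.card ({1, D.z, D.r ^ j * D.s, D.z * (D.r ^ j * D.s)} : Set S) = 4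
    rw [Nat.card_coe_set_eq, Set.ncard_insert_of_notMem, Set.ncard_insert_of_notMem, Set.ncard_pair]
    · exact fun h => invol_ne_one D.orderOf_z (mul_eq_right.1 h.symm)
    · simp only [Set.mem_insert_iff, Set.mem_singleton_iff, not_or]
      exact ⟨hnz, fun h => invol_ne_one (D.orderOf_zy j) (mul_eq_left.1 h.symm)⟩
    · simp only [Set.mem_insert_iff, Set.mem_singleton_iff, not_or]
      refine ⟨(invol_ne_one D.orderOf_z).symm, (invol_ne_one (D.orderOf_zy j)).symm, fun h => hnz ?_⟩
      rw [← invol_inv D.orderOf_z]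
      exact inv_eq_of_mul_eq_one_right h.symm
  refine ⟨hcard, Nat.dvd_antisymm (Monoid.exponent_dvd_of_forall_pow_eq_one hsq) ?_⟩
  have h1 := Monoid.order_dvd_exponent (⟨D.z, Or.inr (Or.inl rfl)⟩ : D.klein j)
  rwa [show orderOf (⟨D.z, Or.inr (Or.inl rfl)⟩ : D.klein j) = 2 from
    (Subgroup.orderOf_coe _).symm.trans D.orderOf_z] at h1

end DihData

variable {X : Type u} [Group X] [Finite X] (S : Sylow 2 X) (D : DihData (S : Subgroup X))

/-- The central involution. -/
abbrev dz : X := ((D.z : (S : Subgroup X)) : X)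
/-- A reflection. -/
abbrev dt (j : ℤ) : X := ((D.r ^ j * D.s : (S : Subgroup X)) : X)
/-- The four-group through a reflection. -/
abbrev dU (j : ℤ) : Subgroup X := (D.klein j).map (S : Subgroup X).subtype

theorem dz_commute {w : X} (hw : w ∈ (S : Subgroup X)) : Commute (dz S D) w :=
  (D.commute_z ⟨w, hw⟩).map (S : Subgroup X).subtype

theorem dU_isKleinFour (j : ℤ) : IsKleinFour (dU S D j) :=
  let e := (D.klein j).equivMapOfInjective _ (S : Subgroup X).subtype_injective
  have := D.klein_isKleinFour j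
  ⟨by rw [← Nat.card_congr e.toEquiv, IsKleinFour.card_four],
    by rw [← Monoid.exponent_eq_of_mulEquiv e, IsKleinFour.exponent_two]⟩

theorem isConj_dt {i j : ℤ} (h : Even (j - i)) : IsConj (dt S D i) (dt S D j) := by
  obtain ⟨a, ha⟩ := h
  refine isConj_iff.2 ⟨((D.r ^ a : (S : Subgroup X)) : X), congrArg Subtype.val
    (?_ : D.r ^ a * (D.r ^ i * D.s) * (D.r ^ a)⁻¹ = D.r ^ j * D.s)⟩
  rw [D.conj_refl]; congr 2; linarith

theorem invol_dih {t : X} (ht : orderOf t = 2) :
    IsConj t (dz S D) ∨ IsConj t (dt S D 0) ∨ IsConj t (dt S D 1) := by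
  obtain ⟨g, hg⟩ := exists_conj_invol_mem_sylow S ht
  have hgt : IsConj t (g * t * g⁻¹) := isConj_iff.2 ⟨g, rfl⟩
  rcases D.invol_cases (u := ⟨_, hg⟩) (by rw [← Subgroup.orderOf_coe]; exact (orderOf_conj_eq g t).trans ht)
    with e | ⟨i, e⟩ <;> have e' : g * t * g⁻¹ = _ := congrArg Subtype.val e <;> rw [e'] at hgt
  · exact Or.inl hgt
  · rcases Int.even_or_odd i with hi | hi
    · exact Or.inr (Or.inl (hgt.trans (isConj_dt S D (by rw [zero_sub]; exact hi.neg))))
    · exact Or.inr (Or.inr (hgt.trans (isConj_dt S D (odd_one.sub_odd hi))))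

/-- The key step: fusion of the centre with a reflection is seen in a four-group. -/
theorem exists_klein_move {j : ℤ} (h : IsConj (dz S D) (dt S D j)) :
    ∃ U : Subgroup X, U ≤ (S : Subgroup X) ∧ IsKleinFour U ∧
      ∃ n ∈ normalizer (U : Set X), n * dz S D * n⁻¹ ≠ dz S D := by
  have hzt : dz S D ≠ dt S D j := fun e => D.ne_zpow j _ (Subtype.ext e).symm
  rcases Nat.lt_or_ge D.h 2 with hh | hh
  · -- the Sylow subgroup is a four-group
    have hh1 : D.h = 1 := by have := D.h_pos; omega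
    obtain ⟨g, hg⟩ := isConj_iff.1 h
    have hrs : D.r = D.z := by rw [DihData.z, hh1, Nat.cast_one, zpow_one]
    have hcomm : ∀ a b : (S : Subgroup X), Commute a b := by
      intro a b
      have key : ∀ c : (S : Subgroup X), Commute D.r c := fun c => hrs ▸ D.commute_z c
      have hs : ∀ c : (S : Subgroup X), Commute D.s c := by
        intro c
        rcases D.cases c with ⟨i, rfl⟩ | ⟨i, rfl⟩
        · exact (key D.s).symm.zpow_right i
        · exact ((key D.s).symm.zpow_right i).mul_right (Commute.refl _)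
      rcases D.cases a with ⟨i, rfl⟩ | ⟨i, rfl⟩
      · exact (key b).zpow_left i
      · exact ((key b).zpow_left i).mul_left (hs b)
    obtain ⟨k, hk, hkS⟩ := exists_conj_extend S (fun w hw => dz_commute S D hw)
      (show g⁻¹ * dt S D j * g⁻¹⁻¹ = dz S D by rw [← hg]; group) S.2
      (fun a ha => (hcomm ⟨a, ha⟩ (D.r ^ j * D.s)).map (S : Subgroup X).subtype)
    have hUS : dU S D j = (S : Subgroup X) := by
      refine eq_of_le_of_card_ge (map_subtype_le _) ?_
      rw [(dU_isKleinFour S D j).card_four, D.card_eq, hh1]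
    refine ⟨dU S D j, le_of_eq hUS, dU_isKleinFour S D j, k⁻¹, ?_, fun e => ?_⟩
    · rw [hUS]
      exact inv_mem (mem_normalizer_iff_of_finite hkS)
    · rw [← hk] at e
      exact hzt (hk.symm.trans (e.symm.trans (by group)))
  · -- move `ρ = r ^ (h / 2)`
    obtain ⟨g, hg⟩ := isConj_iff.1 h
    obtain ⟨k, hk, hkU⟩ := exists_conj_extend S (fun w hw => dz_commute S D hw)
      (show g⁻¹ * dt S D j * g⁻¹⁻¹ = dz S D by rw [← hg]; group)
      (H := dU S D j) (S.2.to_le (map_subtype_le _)) (by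
        rintro _ ⟨a, ha, rfl⟩
        obtain rfl | rfl | rfl | rfl := ha
        · exact Commute.one_left _
        · exact dz_commute S D (SetLike.coe_mem _)
        · exact Commute.refl _
        · exact ((D.commute_z _).mul_left (Commute.refl _)).map (S : Subgroup X).subtype)
    set U' := (dU S D j).map (MulAut.conj k).toMonoidHom
    obtain ⟨e, he⟩ : 2 ∣ D.h := by
      obtain ⟨i, hi⟩ := D.h_pow
      rcases i with _ | i
      · rw [hi] at hh; simp at hh
      · exact hi ▸ dvd_pow_self 2 (Nat.succ_ne_zero i)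
    set ρ : (S : Subgroup X) := D.r ^ (e : ℤ)
    have hρt : ρ * (D.r ^ j * D.s) * ρ⁻¹ = D.z * (D.r ^ j * D.s) := by
      rw [D.conj_refl, DihData.z, ← mul_assoc, ← zpow_add]
      congr 2; push_cast [he]; ring
    have hρz : ρ * D.z * ρ⁻¹ = D.z := by rw [← (D.commute_z ρ).eq, mul_inv_cancel_right]
    have hρU : (ρ : X) ∈ normalizer (dU S D j : Set X) := by
      refine mem_normalizer_iff_of_finite ?_
      rintro _ ⟨a, ha, rfl⟩
      refine ⟨ρ * a * ρ⁻¹, ?_, rfl⟩
      rcases ha with rfl | rfl | rfl | rfl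
      · exact Or.inl (by group)
      · exact Or.inr (Or.inl hρz)
      · exact Or.inr (Or.inr (Or.inr hρt))
      · refine Or.inr (Or.inr (Or.inl ?_))
        rw [← conj_mul, hρz, hρt, ← mul_assoc, invol_mul_self D.orderOf_z, one_mul]
    refine ⟨U', ?_, ?_, k * ρ * k⁻¹, ?_, fun e0 => ?_⟩
    · rintro _ ⟨a, ha, rfl⟩; exact hkU a ha
    · have := dU_isKleinFour S D j
      let e1 := (dU S D j).equivMapOfInjective (MulAut.conj k).toMonoidHom (MulAut.conj k).injective
      exact ⟨by rw [← Nat.card_congr e1.toEquiv, this.card_four],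
        by rw [← Monoid.exponent_eq_of_mulEquiv e1, this.exponent_two]⟩
    · refine mem_normalizer_iff_of_finite ?_
      rintro _ ⟨a, ha, rfl⟩
      refine ⟨(ρ : X) * a * (ρ : X)⁻¹, (mem_normalizer_iff.1 hρU a).1 ha, ?_⟩
      simp [mul_assoc]
    · rw [← hk] at e0
      have e1 : (ρ : X) * dt S D j * (ρ : X)⁻¹ = dt S D j := by
        have := congrArg (fun w => k⁻¹ * w * k) e0
        simpa [mul_assoc] using this
      have e2 : D.z * (D.r ^ j * D.s) = D.r ^ j * D.s := hρt.symm.trans (Subtype.ext e1)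
      exact invol_ne_one D.orderOf_z (mul_eq_right.1 e2)

/-- With a four-group as Sylow subgroup, fusion of the centre with one reflection gives fusion with the other. -/
theorem four_group_fuse (hh : D.h = 1) {a : ℤ} (ha : IsConj (dz S D) (dt S D a)) :
    IsConj (dz S D) (dt S D (a + 1)) := by
  have hcomm : ∀ x : (S : Subgroup X), Commute x (D.r ^ a * D.s) := by
    intro x
    have hrs : D.r = D.z := by rw [DihData.z, hh, Nat.cast_one, zpow_one]
    have hc : Commute D.r (D.r ^ a * D.s) := by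
      have := D.commute_z (D.r ^ a * D.s); rwa [← hrs] at this
    have hs : Commute D.s (D.r ^ a * D.s) := by
      have : Commute D.r D.s := by have := D.commute_z D.s; rwa [← hrs] at this
      exact (this.symm.zpow_right a).mul_right (Commute.refl _)
    rcases D.cases x with ⟨i, rfl⟩ | ⟨i, rfl⟩
    · exact hc.zpow_left i
    · exact (hc.zpow_left i).mul_left hs
  obtain ⟨g, hg⟩ := isConj_iff.1 ha.symm
  obtain ⟨k, hk, hkS⟩ := exists_conj_extend S (fun w hw => dz_commute S D hw) hg S.2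
    (fun w hw => (hcomm ⟨w, hw⟩).map (S : Subgroup X).subtype)
  have hne : dt S D a ≠ dz S D := fun e => D.ne_zpow a _ (Subtype.ext e)
  have hkN : k ∈ normalizer ((S : Subgroup X) : Set X) := mem_normalizer_iff_of_finite hkS
  have hzm : k * dz S D * k⁻¹ ∈ (S : Subgroup X) := hkS _ (SetLike.coe_mem D.z)
  rcases D.invol_cases (u := ⟨_, hzm⟩) (by
    rw [← Subgroup.orderOf_coe]; exact (orderOf_conj_eq k _).trans ((Subgroup.orderOf_coe _).trans D.orderOf_z))
    with e | ⟨i, e⟩
  · exfalso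
    have e' : k * dz S D * k⁻¹ = dz S D := congrArg Subtype.val e
    exact hne ((MulAut.conj k).injective (show k * dt S D a * k⁻¹ = k * dz S D * k⁻¹ by rw [hk, e']))
  · have e' : k * dz S D * k⁻¹ = dt S D i := congrArg Subtype.val e
    rcases Int.even_or_odd (i - a) with hi | hi
    · -- an odd power of `k` is a 2-element swapping `z` and `t`
      exfalso
      have hit : dt S D i = dt S D a := congrArg Subtype.val (show D.r ^ i * D.s = D.r ^ a * D.s by
        rw [mul_left_inj, D.zpow_eq_iff, hh]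
        obtain ⟨c, hc⟩ := hi
        exact ⟨-c, by push_cast; linarith⟩)
      rw [hit] at e'
      obtain ⟨q, ⟨c, rfl⟩, hp⟩ := exists_odd_pow k
      have hmem : k ^ (2 * c + 1) ∈ (S : Subgroup X) := by
        have hle : zpowers (k ^ (2 * c + 1)) ≤ normalizer ((S : Subgroup X) : Set X) :=
          zpowers_le.2 (pow_mem hkN _)
        have hsup := S.is_maximal' (S.2.to_sup_of_normal_left' hp hle) le_sup_left
        exact hsup.le (mem_sup_right (mem_zpowers _))
      have hsq : ∀ c : ℕ, k ^ (2 * c) * dz S D * (k ^ (2 * c))⁻¹ = dz S D := by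
        intro c
        induction c with
        | zero => simp
        | succ c ih =>
          rw [show 2 * (c + 1) = 1 + 1 + 2 * c by ring, pow_add, pow_add, pow_one,
            show k * k * k ^ (2 * c) * dz S D * (k * k * k ^ (2 * c))⁻¹ =
              k * (k * (k ^ (2 * c) * dz S D * (k ^ (2 * c))⁻¹) * k⁻¹) * k⁻¹ by group, ih, e', hk]
      have h5 : k ^ (2 * c + 1) * dz S D * (k ^ (2 * c + 1))⁻¹ = dt S D a := by
        rw [pow_succ', show k * k ^ (2 * c) * dz S D * (k * k ^ (2 * c))⁻¹ =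
          k * (k ^ (2 * c) * dz S D * (k ^ (2 * c))⁻¹) * k⁻¹ by group, hsq, e']
      rw [← (dz_commute S D hmem).eq, mul_inv_cancel_right] at h5
      exact hne h5.symm
    · exact (isConj_iff.2 ⟨k, e'⟩).trans (isConj_dt S D (by
        rw [show a + 1 - i = 1 - (i - a) by ring]; exact odd_one.sub_odd hi))

/-- A cyclic intersection with the residual is trivial. -/
theorem hasNormalPComplement_of_cyclic_focal (C : Subgroup X) (hC : IsCyclic C)
    (h : Cfsg.pResidual 2 X ⊓ (S : Subgroup X) ≤ C) : Cfsg.HasNormalPComplement 2 X := by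
  rw [CfsgLib.Transfer.hasNormalPComplement_iff_pResidual_inf_eq_bot S]
  have := CfsgLib.Transfer.pResidual_normal (G := X) (p := 2)
  obtain ⟨P, hP⟩ := CfsgLib.Transfer.exists_sylow_eq_subgroupOf S (Cfsg.pResidual 2 X)
  have hcyc : IsCyclic P := by
    have h1 : IsCyclic (Cfsg.pResidual 2 X ⊓ (S : Subgroup X) : Subgroup X) :=
      isCyclic_of_injective (inclusion h) (inclusion_injective h)
    rw [show (Cfsg.pResidual 2 X ⊓ (S : Subgroup X) : Subgroup X) =
      ((P : Subgroup _)).map (Cfsg.pResidual 2 X).subtype by rw [hP, subgroupOf_map_subtype, inf_comm]] at h1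
    let eP := (P : Subgroup (Cfsg.pResidual 2 X)).equivMapOfInjective (Cfsg.pResidual 2 X).subtype
      (subtype_injective _)
    exact isCyclic_of_injective eP.toMonoidHom eP.injective
  by_contra hne
  have hPne : (P : Subgroup (Cfsg.pResidual 2 X)) ≠ ⊥ := by
    intro hb
    refine hne ?_
    rw [show (Cfsg.pResidual 2 X ⊓ (S : Subgroup X) : Subgroup X) =
      ((P : Subgroup _)).map (Cfsg.pResidual 2 X).subtype by rw [hP, subgroupOf_map_subtype, inf_comm],
      hb, Subgroup.map_bot]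
  have h2 : 2 ∣ Nat.card (Cfsg.pResidual 2 X) := by
    obtain ⟨n, hn⟩ := P.2.exists_card_eq
    rcases n with _ | n
    · exact absurd ((Subgroup.card_eq_one (H := (P : Subgroup (Cfsg.pResidual 2 X)))).1 (by rw [hn, pow_zero])) hPne
    · exact (dvd_pow_self 2 (Nat.succ_ne_zero n)).trans (hn ▸ card_subgroup_dvd_card _)
  have hNC := IsCyclic.normalizer_le_centralizer
    ((Nat.minFac_eq_two_iff _).2 h2) (P := P) hcyc
  have hc := MonoidHom.ker_transferSylow_isComplement' P hNC
  have h3 : Cfsg.pResidual 2 (Cfsg.pResidual 2 X) ≤ (MonoidHom.transferSylow P hNC).ker :=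
    CfsgLib.Transfer.pResidual_le_ker _ P.2
  rw [CfsgLib.Transfer.pResidual_pResidual, top_le_iff] at h3
  rw [h3] at hc
  exact hPne (isComplement'_top_left.1 hc)

/-- Upper bound on the residual from fusion: no reflection is conjugate to the centre. -/
theorem residual_le_rot (h0 : ¬ IsConj (dz S D) (dt S D 0)) (h1 : ¬ IsConj (dz S D) (dt S D 1)) :
    Cfsg.pResidual 2 X ⊓ (S : Subgroup X) ≤ (zpowers D.r).map (S : Subgroup X).subtype := by
  have key : ∀ (i : ℤ) (j : ℤ) (g : X), g * ((D.r ^ i : (S : Subgroup X)) : X) * g⁻¹ = dt S D j → False := by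
    intro i j g he
    have ho : orderOf (D.r ^ i) = 2 := by
      rw [← Subgroup.orderOf_coe, ← orderOf_conj_eq g, he, Subgroup.orderOf_coe, D.orderOf_zy]
    rw [D.eq_z_of_zpow ho] at he
    rcases Int.even_or_odd j with hj | hj
    · exact h0 ((isConj_iff.2 ⟨g, he⟩).trans (isConj_dt S D (by rw [zero_sub]; exact hj.neg)))
    · exact h1 ((isConj_iff.2 ⟨g, he⟩).trans (isConj_dt S D (odd_one.sub_odd hj)))
  refine inf_pResidual_le S _ fun u hu g hg => ?_
  refine ⟨(⟨u, hu⟩ : (S : Subgroup X))⁻¹ * ⟨_, hg⟩, ?_, rfl⟩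
  rcases D.cases ⟨u, hu⟩ with ⟨i, e⟩ | ⟨i, e⟩ <;>
    rcases D.cases ⟨_, hg⟩ with ⟨j, f⟩ | ⟨j, f⟩ <;>
    rw [e, f] <;>
    have e' : u = _ := congrArg Subtype.val e <;>
    have f' : g * u * g⁻¹ = _ := congrArg Subtype.val f <;>
    rw [e'] at f'
  · exact mul_mem (inv_mem (zpow_mem (mem_zpowers _) i)) (zpow_mem (mem_zpowers _) j)
  · exact (key i j g f').elim
  · exact (key j i g⁻¹ (by rw [← f']; show _ = dt S D i; group)).elim
  · rw [D.zy_inv, D.zy_mul_zy]; exact zpow_mem (mem_zpowers _) _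

/-- Upper bound on the residual when only one class of reflections fuses with the centre. -/
theorem residual_le_half (a : ℤ) (ha : IsConj (dz S D) (dt S D a))
    (h1 : ¬ IsConj (dz S D) (dt S D (a + 1))) :
    ∃ M : Subgroup (S : Subgroup X), M ≠ ⊤ ∧
      Cfsg.pResidual 2 X ⊓ (S : Subgroup X) ≤ M.map (S : Subgroup X).subtype := by
  refine ⟨closure {D.r ^ (2 : ℤ), D.r ^ a * D.s}, ?_, ?_⟩
  · intro htop
    have hmem : D.r ^ (a + 1) * D.s ∈ closure ({D.r ^ (2 : ℤ), D.r ^ a * D.s} : Set (S : Subgroup X)) :=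
      htop ▸ mem_top _
    have hgen : ∀ u ∈ closure ({D.r ^ (2 : ℤ), D.r ^ a * D.s} : Set (S : Subgroup X)),
        ∃ i : ℤ, u = D.r ^ (2 * i) ∨ u = D.r ^ (2 * i + a) * D.s := by
      intro u hu
      induction hu using Subgroup.closure_induction with
      | mem u hu =>
        rcases hu with rfl | rfl
        · exact ⟨1, Or.inl (by norm_num)⟩
        · exact ⟨0, Or.inr (by simp)⟩
      | one => exact ⟨0, Or.inl (by simp)⟩
      | mul x y _ _ ihx ihy =>
        obtain ⟨i, rfl | rfl⟩ := ihx <;> obtain ⟨l, rfl | rfl⟩ := ihy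
        · exact ⟨i + l, Or.inl (by rw [← zpow_add]; ring_nf)⟩
        · exact ⟨i + l, Or.inr (by rw [← mul_assoc, ← zpow_add]; ring_nf)⟩
        · exact ⟨i - l, Or.inr (by rw [D.zy_mul_z]; ring_nf)⟩
        · exact ⟨i - l, Or.inl (by rw [D.zy_mul_zy]; ring_nf)⟩
      | inv x _ ih =>
        obtain ⟨i, rfl | rfl⟩ := ih
        · exact ⟨-i, Or.inl (by rw [← zpow_neg]; ring_nf)⟩
        · exact ⟨i, Or.inr (D.zy_inv _)⟩
    obtain ⟨i, e | e⟩ := hgen _ hmem
    · exact D.ne_zpow _ _ e
    · rw [mul_left_inj, D.zpow_eq_iff] at e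
      obtain ⟨c, hc⟩ := e
      have : (1 : ℤ) = 2 * (i - (D.h : ℤ) * c) := by linarith
      omega
  · set M := closure ({D.r ^ (2 : ℤ), D.r ^ a * D.s} : Set (S : Subgroup X))
    have hev : ∀ i : ℤ, Even i → D.r ^ i ∈ M := by
      rintro i ⟨l, rfl⟩
      rw [← two_mul, zpow_mul]
      exact zpow_mem (subset_closure (by simp)) l
    refine inf_pResidual_le S _ fun u hu g hg => ?_
    refine ⟨(⟨u, hu⟩ : (S : Subgroup X))⁻¹ * ⟨_, hg⟩, ?_, rfl⟩
    set v : (S : Subgroup X) := ⟨_, hg⟩
    set w : (S : Subgroup X) := ⟨u, hu⟩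
    have hvw : orderOf v = orderOf w := by
      rw [← Subgroup.orderOf_coe, ← Subgroup.orderOf_coe w]; exact orderOf_conj_eq g u
    have hc : IsConj (w : X) (v : X) := isConj_iff.2 ⟨g, rfl⟩
    by_cases h2 : orderOf w = 2
    · -- involutions: either in the coset of `r ^ a * s` or central, or not fused with it
      have cls : ∀ x : (S : Subgroup X), orderOf x = 2 →
          (x ∈ M ∧ IsConj (x : X) (dz S D)) ∨
          (∃ i : ℤ, Odd (i - a) ∧ x = D.r ^ i * D.s ∧ IsConj (x : X) (dt S D (a + 1))) := by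
        intro x hx
        rcases D.invol_cases hx with rfl | ⟨i, rfl⟩
        · left
          rcases Nat.lt_or_ge D.h 2 with hh | hh
          · exfalso
            -- for a four-group the two reflection classes are everything
            exact h1 (four_group_fuse S D (by have := D.h_pos; omega) ha)
          · refine ⟨hev _ ?_, IsConj.refl _⟩
            obtain ⟨i, hi⟩ := D.h_pow
            rcases i with _ | i
            · rw [hi] at hh; simp at hh
            · exact ⟨(2 : ℤ) ^ i, by rw [hi]; push_cast; ring⟩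
        · rcases Int.even_or_odd (i - a) with hi | hi
          · left
            refine ⟨?_, (isConj_dt S D (by rw [← neg_sub]; exact hi.neg)).trans ha.symm⟩
            rw [show D.r ^ i * D.s = D.r ^ (i - a) * (D.r ^ a * D.s) by
              rw [← mul_assoc, ← zpow_add, sub_add_cancel]]
            exact mul_mem (hev _ hi) (subset_closure (by simp))
          · exact Or.inr ⟨i, hi, rfl, isConj_dt S D (by
              rw [show a + 1 - i = 1 - (i - a) by ring]; exact odd_one.sub_odd hi)⟩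
      rcases cls w h2 with ⟨hw, p⟩ | ⟨i, hi, ew, p⟩ <;>
        rcases cls v (hvw.trans h2) with ⟨hv, q⟩ | ⟨l, hl, ev, q⟩
      · exact mul_mem (inv_mem hw) hv
      · exact absurd (p.symm.trans (hc.trans q)) h1
      · exact absurd (q.symm.trans (hc.symm.trans p)) h1
      · rw [ew, ev, D.zy_inv, D.zy_mul_zy]
        refine hev _ ?_
        rw [show i - l = (i - a) - (l - a) by ring]
        exact hi.sub_odd hl
    · have rot : ∀ x : (S : Subgroup X), orderOf x ≠ 2 → ∃ i : ℤ, x = D.r ^ i := fun x hx => by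
        rcases D.cases x with h | ⟨i, rfl⟩
        · exact h
        · exact absurd (D.orderOf_zy i) hx
      obtain ⟨i, ew⟩ := rot w h2
      obtain ⟨l, ev⟩ := rot v (hvw ▸ h2)
      rw [ew, ev, ← zpow_neg, ← zpow_add]
      refine hev _ ?_
      rw [Int.even_add, even_neg]
      have keyp : ∀ p q : ℤ, orderOf (D.r ^ p) = orderOf (D.r ^ q) → Even q → Even p := by
        intro p q e hq
        obtain ⟨r', rfl⟩ := hq
        have h3 : (D.r ^ p) ^ D.h = 1 := orderOf_dvd_iff_pow_eq_one.1 (e ▸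
          orderOf_dvd_of_pow_eq_one (by
            rw [← zpow_natCast, ← zpow_mul, D.zpow_eq_one_iff]; exact ⟨r', by push_cast; ring⟩))
        rw [← zpow_natCast, ← zpow_mul, D.zpow_eq_one_iff] at h3
        obtain ⟨c, hc'⟩ := h3
        refine ⟨c, ?_⟩
        have := D.h_pos
        push_cast at hc'
        exact mul_left_cancel₀ (show (D.h : ℤ) ≠ 0 by omega) (by linarith)
      rw [ew, ev] at hvw
      exact ⟨keyp l i hvw, keyp i l hvw.symm⟩

/-- A normal complement makes the Sylow subgroup control its fusion, by a centralizing correction. -/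
theorem complement_split (h : Cfsg.HasNormalPComplement 2 X) (g : X) :
    ∃ k : X, ∃ p ∈ (S : Subgroup X), g = k * p ∧ ∀ x ∈ (S : Subgroup X),
      g * x * g⁻¹ ∈ (S : Subgroup X) → g * x * g⁻¹ = p * x * p⁻¹ ∧ Commute k (p * x * p⁻¹) := by
  obtain ⟨K, hK, hc⟩ := (CfsgLib.Transfer.hasNormalPComplement_iff_exists_isComplement' S).1 h
  obtain ⟨k, hk, p, hp, rfl⟩ := mem_sup_of_normal_left.1 (hc.sup_eq_top ▸ mem_top g)
  refine ⟨k, p, hp, rfl, fun x hx hgx => ?_⟩
  set w := p * x * p⁻¹
  have hw : w ∈ (S : Subgroup X) := mul_mem (mul_mem hp hx) (inv_mem hp)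
  have he : k * p * x * (k * p)⁻¹ = k * w * k⁻¹ := by simp only [w]; group
  rw [he] at hgx ⊢
  have h1 : k * w * k⁻¹ * w⁻¹ ∈ K ⊓ (S : Subgroup X) := by
    refine mem_inf.2 ⟨?_, mul_mem hgx (inv_mem hw)⟩
    rw [show k * w * k⁻¹ * w⁻¹ = k * (w * k⁻¹ * w⁻¹) by group]
    exact mul_mem hk (hK.conj_mem _ (inv_mem hk) w)
  rw [hc.disjoint.eq_bot, mem_bot, mul_inv_eq_one] at h1
  exact ⟨h1, mul_inv_eq_iff_eq_mul.1 h1⟩

theorem normalizer_eq_of_complement (h : Cfsg.HasNormalPComplement 2 X) {U : Subgroup X}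
    (hU : U ≤ (S : Subgroup X)) : normalizer (U : Set X) =
      centralizer (U : Set X) ⊔ ((S : Subgroup X) ⊓ normalizer (U : Set X)) := by
  refine le_antisymm (fun g hg => ?_) (sup_le (centralizer_le_normalizer _) inf_le_right)
  obtain ⟨k, p, hp, rfl, hkp⟩ := complement_split S h g
  have hkey : ∀ u ∈ U, k * p * u * (k * p)⁻¹ = p * u * p⁻¹ ∧ Commute k (p * u * p⁻¹) := fun u hu =>
    hkp u (hU hu) (hU ((mem_normalizer_iff.1 hg u).1 hu))
  have hpN : p ∈ normalizer (U : Set X) := mem_normalizer_iff_of_finite fun u hu => by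
    rw [← (hkey u hu).1]; exact (mem_normalizer_iff.1 hg u).1 hu
  refine mul_mem_sup (mem_centralizer_iff.2 fun u hu => ?_) ⟨hp, hpN⟩
  have h1 := (hkey (p⁻¹ * u * p⁻¹⁻¹) ((mem_normalizer_iff.1 (inv_mem hpN) u).1 hu)).2
  rw [show p * (p⁻¹ * u * p⁻¹⁻¹) * p⁻¹ = u by group] at h1
  exact h1.eq.symm

include D in
theorem hasNormalPComplement_of_klein (h : ∀ U : Subgroup X, U ≤ (S : Subgroup X) → IsKleinFour U →
    normalizer (U : Set X) = centralizer (U : Set X) ⊔ ((S : Subgroup X) ⊓ normalizer (U : Set X))) :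
    Cfsg.HasNormalPComplement 2 X := by
  have hno : ∀ j, ¬ IsConj (dz S D) (dt S D j) := by
    intro j hj
    obtain ⟨U, hU, hUK, n, hn, hne⟩ := exists_klein_move S D hj
    apply hne
    rw [h U hU hUK] at hn
    have hle : centralizer (U : Set X) ⊔ ((S : Subgroup X) ⊓ normalizer (U : Set X)) ≤
        centralizer ({dz S D} : Set X) := by
      refine sup_le ?_ fun w hw => mem_centralizer_singleton_iff.2 (dz_commute S D hw.1).eq.symm
      -- the centre lies in every four-group
      have hzU : dz S D ∈ U := by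
        by_contra hzU
        have hsub : (U : Set X) ⊆ insert 1 ((U : Set X) \ {1}) := fun u hu => by
          by_cases h1 : u = 1
          · exact Or.inl h1
          · exact Or.inr ⟨hu, h1⟩
        have hinv : ∀ u ∈ U, u ≠ 1 → ∃ i : ℤ, u = dt S D i := by
          intro u hu h1
          have : IsKleinFour U := hUK
          have hu2 : u * u = 1 := congrArg Subtype.val (IsKleinFour.mul_self (⟨u, hu⟩ : U))
          rcases D.invol_cases (u := ⟨u, hU hu⟩) (by
            rw [← Subgroup.orderOf_coe]; exact invol_of_mul_self hu2 h1) with e | ⟨i, e⟩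
          · exact absurd (by rw [← show u = dz S D from congrArg Subtype.val e]; exact hu) hzU
          · exact ⟨i, congrArg Subtype.val e⟩
        -- two reflections have a rotation as product
        have hle2 : Nat.card U ≤ 2 := by
          have hone : ∀ u ∈ U, ∀ v ∈ U, u ≠ 1 → v ≠ 1 → u = v := by
            intro u hu v hv h1 h2
            obtain ⟨i, rfl⟩ := hinv u hu h1
            obtain ⟨l, rfl⟩ := hinv v hv h2
            by_contra huv
            have hp : dt S D i * dt S D l = ((D.r ^ (i - l) : (S : Subgroup X)) : X) :=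
              congrArg Subtype.val (D.zy_mul_zy i l)
            have hne1 : dt S D i * dt S D l ≠ 1 := fun e => huv (by
              rw [mul_eq_one_iff_eq_inv, invol_inv ((Subgroup.orderOf_coe _).trans (D.orderOf_zy l))] at e
              exact e)
            obtain ⟨q, hq⟩ := hinv _ (mul_mem hu hv) hne1
            rw [hp] at hq
            exact D.ne_zpow q _ (Subtype.ext hq).symm
          rw [← SetLike.coe_sort_coe, Nat.card_coe_set_eq]
          refine (Set.ncard_le_ncard hsub).trans ((Set.ncard_insert_le _ _).trans ?_)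
          have : ((U : Set X) \ {1}).ncard ≤ 1 := (Set.ncard_le_one_iff (Set.toFinite _)).2
            fun hu hv => hone _ hu.1 _ hv.1 hu.2 hv.2
          omega
        rw [hUK.card_four] at hle2
        omega
      exact fun c hc => mem_centralizer_singleton_iff.2 (mem_centralizer_iff.1 hc _ hzU).symm
    exact mul_inv_eq_iff_eq_mul.2 (mem_centralizer_singleton_iff.1 (hle hn))
  exact hasNormalPComplement_of_cyclic_focal S ((zpowers D.r).map (S : Subgroup X).subtype)
    (by rw [MonoidHom.map_zpowers]; infer_instance) (residual_le_rot S D (hno 0) (hno 1))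

/-- An automizer of a four-group of order divisible by three is transitive. -/
theorem klein_transitive {U : Subgroup X} (hU : IsKleinFour U)
    (h3 : 3 ∣ (centralizer (U : Set X)).relIndex (normalizer (U : Set X))) {u v : X} (hu : u ∈ U)
    (hu1 : u ≠ 1) (hv : v ∈ U) (hv1 : v ≠ 1) : IsConj u v := by
  classical
  set N := normalizer (U : Set X)
  set s : Set X := {u | u ∈ U ∧ u ≠ 1}
  have hcard : Nat.card s = 3 := by
    rw [show s = (U : Set X) \ {1} from rfl, Nat.card_coe_set_eq,
      Set.ncard_sdiff_singleton_of_mem (one_mem U), ← Nat.card_coe_set_eq]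
    show Nat.card U - 1 = 3
    rw [hU.card_four]
  have hinv : ∀ n ∈ N, ∀ w ∈ s, n * w * n⁻¹ ∈ s := fun n hn w hw =>
    ⟨(mem_normalizer_iff.1 hn w).1 hw.1, fun h => hw.2 (conj_eq_one_iff.1 h)⟩
  set φ := conjPerm N s hinv
  have hker : φ.ker = (centralizer (U : Set X)).subgroupOf N := by
    ext n
    rw [mem_subgroupOf, mem_centralizer_iff]
    refine (mem_ker_restrictPerm ..).trans ⟨fun h w hw => ?_, fun h w hw => ?_⟩
    · by_cases hw1 : w = 1
      · simp [hw1]
      · exact (mul_inv_eq_iff_eq_mul.1 (h w ⟨hw, hw1⟩)).symm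
    · exact mul_inv_eq_iff_eq_mul.2 (h w hw.1).symm
  have h3' : 3 ∣ Nat.card φ.range := by
    rw [← Subgroup.index_ker, hker]; exact h3
  have : Fact (Nat.Prime 3) := ⟨Nat.prime_three⟩
  obtain ⟨⟨_, n, rfl⟩, hn⟩ := exists_prime_orderOf_dvd_card' 3 h3'
  rw [← Subgroup.orderOf_coe] at hn
  change orderOf (φ n) = 3 at hn
  by_cases huv : u = v
  · rw [huv]
  -- an element of order three of the symmetric group on three letters is a cycle
  obtain ⟨a, b, hab⟩ : ∃ a b : s, a = ⟨u, hu, hu1⟩ ∧ b = ⟨v, hv, hv1⟩ := ⟨_, _, rfl, rfl⟩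
  have := Fintype.ofFinite s
  have hcyc : (φ n).IsCycle := Equiv.Perm.isCycle_of_prime_order' (by rw [hn]; norm_num) (by
    rw [← Nat.card_eq_fintype_card, hcard, hn]; norm_num)
  have hfull : ∀ w : s, φ n w ≠ w := by
    have h5 : (φ n).support.card = 3 := by rw [← hcyc.orderOf, hn]
    have h6 : (φ n).support = Finset.univ := Finset.eq_univ_of_card _ (by
      rw [h5, ← Nat.card_eq_fintype_card, hcard])
    exact fun w => Equiv.Perm.mem_support.1 (h6 ▸ Finset.mem_univ w)
  obtain ⟨i, hi⟩ := hcyc.exists_zpow_eq (hfull a) (hfull b)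
  rw [← map_zpow, hab.1, hab.2] at hi
  exact isConj_iff.2 ⟨((n ^ i : N) : X), congrArg Subtype.val hi⟩

include D in
/-- Fusion simplicity from a single class of involutions. -/
theorem fusion_simple_of_one_class (h : ∀ a b : X, orderOf a = 2 → orderOf b = 2 → IsConj a b) :
    (∀ H : Subgroup X, H.index ≠ 2) ∧ ∀ z : X, ¬ Cfsg.IsIsolatedInvolution z := by
  have hz2 : orderOf (dz S D) = 2 := (Subgroup.orderOf_coe _).trans D.orderOf_z
  have ht2 : ∀ j, orderOf (dt S D j) = 2 := fun j => (Subgroup.orderOf_coe _).trans (D.orderOf_zy j)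
  have hzt : ∀ j, dz S D ≠ dt S D j := fun j e => D.ne_zpow j _ (Subtype.ext e).symm
  refine ⟨?_, fun w hw => ?_⟩
  · -- the residual contains an involution
    have hne : Cfsg.pResidual 2 X ⊓ (S : Subgroup X) ≠ ⊥ := by
      intro hb
      have hc := (CfsgLib.Transfer.hasNormalPComplement_iff_pResidual_inf_eq_bot S).2 hb
      obtain ⟨g, hg⟩ := isConj_iff.1 (h _ _ hz2 (ht2 0))
      obtain ⟨k, p, hp, rfl, hkp⟩ := complement_split S hc g
      have h5 := (hkp _ (SetLike.coe_mem D.z) (by rw [hg]; exact SetLike.coe_mem (D.r ^ (0 : ℤ) * D.s))).1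
      rw [hg, ← (dz_commute S D hp).eq, mul_inv_cancel_right] at h5
      exact hzt 0 h5.symm
    have hR := CfsgLib.Transfer.pResidual_normal (G := X) (p := 2)
    have h2 : 2 ∣ Nat.card (Cfsg.pResidual 2 X ⊓ (S : Subgroup X) : Subgroup X) := by
      obtain ⟨n, hn⟩ := (S.2.to_le (inf_le_right (a := Cfsg.pResidual 2 X))).exists_card_eq
      rcases n with _ | n
      · exact absurd (Subgroup.card_eq_one.1 (hn.trans (pow_zero 2))) hne
      · exact hn ▸ dvd_pow_self 2 (Nat.succ_ne_zero n)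
    have : Fact (Nat.Prime 2) := ⟨Nat.prime_two⟩
    obtain ⟨⟨w, hw⟩, hwo⟩ := exists_prime_orderOf_dvd_card' 2 h2
    rw [Subgroup.orderOf_mk] at hwo
    have hall : ∀ t, orderOf t = 2 → t ∈ Cfsg.pResidual 2 X := fun t ht => by
      obtain ⟨g, rfl⟩ := isConj_iff.1 (h w t hwo ht)
      exact hR.conj_mem _ hw.1 g
    refine fun H => no_index_two_of_le_residual S (fun u hu => ?_) H
    have hs : dt S D 0 ∈ Cfsg.pResidual 2 X := hall _ (ht2 0)
    have hr : ∀ i : ℤ, ((D.r ^ i : (S : Subgroup X)) : X) ∈ Cfsg.pResidual 2 X := fun i => by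
      have := mul_mem (hall _ (ht2 i)) hs
      rwa [show dt S D i * dt S D 0 = ((D.r ^ i : (S : Subgroup X)) : X) from
        congrArg Subtype.val (show D.r ^ i * D.s * (D.r ^ (0 : ℤ) * D.s) = D.r ^ i by
          rw [D.zy_mul_zy, sub_zero])] at this
    rcases D.cases ⟨u, hu⟩ with ⟨i, e⟩ | ⟨i, e⟩
    · rw [show u = ((D.r ^ i : (S : Subgroup X)) : X) from congrArg Subtype.val e]; exact hr i
    · rw [show u = dt S D i from congrArg Subtype.val e]; exact hall _ (ht2 i)
  · exact hzt 0 (isolated_eq_of_commute hw (h _ _ hw.1 hz2) (h _ _ hw.1 (ht2 0))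
      (dz_commute S D (SetLike.coe_mem _)))

include D in
/-- One class of involutions from the absence of a subgroup of index two. -/
theorem one_class_of_no_index_two (hG : ∀ H : Subgroup X, H.index ≠ 2) (a b : X) (ha : orderOf a = 2)
    (hb : orderOf b = 2) : IsConj a b := by
  have hS : (S : Subgroup X) ≤ Cfsg.pResidual 2 X ⊓ (S : Subgroup X) := by
    rw [pResidual_eq_top_of_no_index_two hG, top_inf_eq]
  have half : ∀ j, IsConj (dz S D) (dt S D j) → IsConj (dz S D) (dt S D (j + 1)) := by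
    intro j hj
    by_contra hno
    obtain ⟨M, hM, hle⟩ := residual_le_half S D j hj hno
    refine hM (eq_top_iff.2 fun u _ => ?_)
    obtain ⟨w, hw, he⟩ := hS.trans hle u.2
    exact (Subtype.ext he : w = u) ▸ hw
  have h0 : IsConj (dz S D) (dt S D 0) := by
    by_contra h0
    by_cases h1 : IsConj (dz S D) (dt S D 1)
    · exact h0 ((half 1 h1).trans (isConj_dt S D ⟨-1, by norm_num⟩))
    · obtain ⟨w, hw, he⟩ := hS.trans (residual_le_rot S D h0 h1) D.s.2
      exact D.s_notMem ((Subtype.ext he : w = D.s) ▸ hw)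
  have h1 : IsConj (dz S D) (dt S D 1) := by simpa using half 0 h0
  have key : ∀ t : X, orderOf t = 2 → IsConj t (dz S D) := fun t ht => by
    rcases invol_dih S D ht with e | e | e
    exacts [e, e.trans h0.symm, e.trans h1.symm]
  exact (key a ha).trans (key b hb).symm

include D in
/-- Transitive automizers give a single class. -/
theorem one_class_of_klein (h : ∀ U : Subgroup X, U ≤ (S : Subgroup X) → IsKleinFour U →
    3 ∣ (centralizer (U : Set X)).relIndex (normalizer (U : Set X))) (a b : X) (ha : orderOf a = 2)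
    (hb : orderOf b = 2) : IsConj a b := by
  have key : ∀ j, IsConj (dz S D) (dt S D j) := fun j =>
    klein_transitive (dU_isKleinFour S D j) (h _ (map_subtype_le _) (dU_isKleinFour S D j))
      ⟨_, Or.inr (Or.inl rfl), rfl⟩ (fun e => invol_ne_one D.orderOf_z (Subtype.ext e))
      ⟨_, Or.inr (Or.inr (Or.inl rfl)), rfl⟩ (fun e => invol_ne_one (D.orderOf_zy j) (Subtype.ext e))
  have key2 : ∀ t : X, orderOf t = 2 → IsConj t (dz S D) := fun t ht => by
    rcases invol_dih S D ht with e | e | e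
    exacts [e, e.trans (key 0).symm, e.trans (key 1).symm]
  exact (key2 a ha).trans (key2 b hb).symm

end CfsgLib.Invol
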