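import Cfsg.Agent.Lib.Invol.Basic
import Cfsg.Agent.Lib.Transfer.Focal
import Cfsg.Agent.Lib.Transfer.Frobenius
import Mathlib.GroupTheory.SpecificGroups.KleinFour

/-!
Finite groups with a Klein four Sylow 2-subgroup: classes of involutions.
-/

set_option autoImplicit false
set_option linter.unusedSectionVars false

namespace CfsgLib.Invol

variable {G : Type*} [Group G] [Finite G]

/-- An element normalising a Sylow subgroup `P` has a power of odd exponent inside `P`. -/
theorem exists_odd_pow_mem_sylow (P : Sylow 2 G) {n : G}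
    (hn : n ∈ Subgroup.normalizer ((P : Subgroup G) : Set G)) :
    ∃ j : ℕ, Odd j ∧ n ^ j ∈ (P : Subgroup G) := by
  set N := Subgroup.normalizer ((P : Subgroup G) : Set G)
  have hle : (P : Subgroup G) ≤ N := Subgroup.le_normalizer
  have hnorm : ((P : Subgroup G).subgroupOf N).Normal := Subgroup.normal_in_normalizer
  refine ⟨((P : Subgroup G).subgroupOf N).index, ?_, ?_⟩
  · rw [← Nat.not_even_iff_odd, even_iff_two_dvd]
    intro h
    refine P.not_dvd_index ?_
    have h2 := Subgroup.relIndex_dvd_index_of_le hle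
    exact h.trans h2
  · have h := Subgroup.pow_index_mem ((P : Subgroup G).subgroupOf N) ⟨n, hn⟩
    simpa using Subgroup.mem_subgroupOf.1 h

theorem klein_sq_eq_one {P : Subgroup G} (hP : IsKleinFour P) {a : G} (ha : a ∈ P) : a * a = 1 :=
  congrArg Subtype.val (IsKleinFour.mul_self (⟨a, ha⟩ : P))

theorem klein_orderOf {P : Subgroup G} (hP : IsKleinFour P) {a : G} (ha : a ∈ P) (ha1 : a ≠ 1) :
    orderOf a = 2 := invol_of_mul_self (klein_sq_eq_one hP ha) ha1

/-- In a Klein four-group any three distinct non-identity elements exhaust them. -/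
theorem klein_mem_of_ne {P : Subgroup G} (hP : IsKleinFour P) {a b x : G} (ha : a ∈ P)
    (hb : b ∈ P) (hx : x ∈ P) (ha1 : a ≠ 1) (hb1 : b ≠ 1) (hab : a ≠ b) (hx1 : x ≠ 1) :
    x = a ∨ x = b ∨ x = a * b := by
  by_contra h
  push Not at h
  obtain ⟨h1, h2, h3⟩ := h
  have hP4 := hP.card_four
  classical
  have hs : ({(1 : G), a, b, a * b, x} : Finset G).card = 5 := by
    have hne : a * b ≠ 1 := fun e => hab (by
      have := congrArg (· * b) e
      simpa [mul_assoc, klein_sq_eq_one hP hb] using this)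
    have hne2 : a ≠ a * b := fun e => hb1 (by simpa using e)
    have hne3 : b ≠ a * b := fun e => ha1 (by simpa using e)
    simp [Ne.symm ha1, Ne.symm hb1, hab, Ne.symm hne, Ne.symm hx1, hne2, hne3, Ne.symm h1,
      Ne.symm h2, Ne.symm h3]
  have hsub : (↑({(1 : G), a, b, a * b, x} : Finset G) : Set G) ⊆ (P : Set G) := by
    simp [Set.insert_subset_iff, ha, hb, hx, mul_mem ha hb, one_mem]
  have := Set.ncard_le_ncard hsub (Set.toFinite _)
  rw [Set.ncard_coe_finset, hs, ← Nat.card_coe_set_eq] at this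
  have h4 : Nat.card ((P : Set G) : Type _) = 4 := hP4
  omega

/-- The normaliser of a Klein four Sylow 2-subgroup fixes it pointwise or permutes its
involutions transitively. -/
theorem klein_normalizer_dichotomy (P : Sylow 2 G) (hP : IsKleinFour (P : Subgroup G)) :
    (∀ n ∈ Subgroup.normalizer ((P : Subgroup G) : Set G), ∀ a ∈ (P : Subgroup G),
      n * a * n⁻¹ = a) ∨
    (∀ a ∈ (P : Subgroup G), ∀ b ∈ (P : Subgroup G), a ≠ 1 → b ≠ 1 → IsConj a b) := by
  by_cases h : ∀ n ∈ Subgroup.normalizer ((P : Subgroup G) : Set G), ∀ a ∈ (P : Subgroup G),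
      n * a * n⁻¹ = a
  · exact Or.inl h
  refine Or.inr ?_
  push Not at h
  obtain ⟨n, hn, a, ha, hne⟩ := h
  have hcomm : ∀ u ∈ (P : Subgroup G), ∀ v ∈ (P : Subgroup G), u * v = v * u := fun u hu v hv =>
    congrArg Subtype.val ((IsKleinFour.isMulCommutative (G := (P : Subgroup G))).is_comm.comm
      ⟨u, hu⟩ ⟨v, hv⟩)
  have ha1 : a ≠ 1 := by rintro rfl; simp at hne
  have hmem : ∀ x ∈ (P : Subgroup G), n * x * n⁻¹ ∈ (P : Subgroup G) := fun x hx =>
    (Subgroup.mem_normalizer_iff.1 hn x).1 hx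
  set b := n * a * n⁻¹ with hb
  have hbP := hmem a ha
  have hb1 : b ≠ 1 := fun e => ha1 (conj_eq_one_iff.1 e)
  set c := n * b * n⁻¹ with hc
  have hcP := hmem b hbP
  have hc1 : c ≠ 1 := fun e => hb1 (conj_eq_one_iff.1 e)
  have hcb : c ≠ b := fun e => hne (MulAut.conj n |>.injective (by simpa [MulAut.conj_apply, ← hc] using e))
  -- `n` cannot just exchange `a` and `b`
  have hca : c ≠ a := by
    intro e
    obtain ⟨j, ⟨k, rfl⟩, hj⟩ := exists_odd_pow_mem_sylow P hn
    have hsq : Commute (n ^ 2) a := mul_inv_eq_iff_eq_mul.1 (by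
      calc n ^ 2 * a * (n ^ 2)⁻¹ = n * (n * a * n⁻¹) * n⁻¹ := by
            rw [pow_two, mul_inv_rev]; simp [mul_assoc]
        _ = a := e)
    have hfix : n ^ (2 * k + 1) * a * (n ^ (2 * k + 1))⁻¹ = a := by
      rw [hcomm _ hj a ha, mul_inv_cancel_right]
    apply hne
    calc b = n * a * n⁻¹ := rfl
      _ = n * ((n ^ 2) ^ k * a * ((n ^ 2) ^ k)⁻¹) * n⁻¹ := by
          rw [((hsq.pow_left k).eq), mul_inv_cancel_right]
      _ = n ^ (2 * k + 1) * a * (n ^ (2 * k + 1))⁻¹ := by
          rw [pow_succ' n (2 * k), pow_mul, mul_inv_rev]; simp [mul_assoc]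
      _ = a := hfix
  have key : ∀ x ∈ (P : Subgroup G), x ≠ 1 → IsConj a x := by
    intro x hx hx1
    have hab : IsConj a b := isConj_iff.2 ⟨n, rfl⟩
    have hac : IsConj a c := hab.trans (isConj_iff.2 ⟨n, rfl⟩)
    have hc' : c = a * b := by
      rcases klein_mem_of_ne hP ha hbP hcP ha1 hb1 (Ne.symm hne) hc1 with e | e | e
      exacts [absurd e hca, absurd e hcb, e]
    rcases klein_mem_of_ne hP ha hbP hx ha1 hb1 (Ne.symm hne) hx1 with e | e | e
    · exact e ▸ IsConj.refl a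
    · exact e ▸ hab
    · rw [e, ← hc']; exact hac
  exact fun x hx y hy hx1 hy1 => (key x hx hx1).symm.trans (key y hy hy1)

/-- Number of classes of involutions: one or three. -/
theorem klein_card_classes (P : Sylow 2 G) (hP : IsKleinFour (P : Subgroup G)) :
    ((∀ n ∈ Subgroup.normalizer ((P : Subgroup G) : Set G), ∀ a ∈ (P : Subgroup G),
        n * a * n⁻¹ = a) ∧
      Nat.card {C : ConjClasses G // ∃ t : G, orderOf t = 2 ∧ ConjClasses.mk t = C} = 3) ∨
    ((∀ a ∈ (P : Subgroup G), ∀ b ∈ (P : Subgroup G), a ≠ 1 → b ≠ 1 → IsConj a b) ∧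
      Nat.card {C : ConjClasses G // ∃ t : G, orderOf t = 2 ∧ ConjClasses.mk t = C} = 1) := by
  let f : {x : (P : Subgroup G) // x ≠ 1} →
      {C : ConjClasses G // ∃ t : G, orderOf t = 2 ∧ ConjClasses.mk t = C} := fun x =>
    ⟨ConjClasses.mk (x.1 : G), (x.1 : G),
      klein_orderOf hP x.1.2 (fun e => x.2 (Subtype.ext e)), rfl⟩
  have hsurj : Function.Surjective f := by
    rintro ⟨C, t, ht, rfl⟩
    obtain ⟨g, hg⟩ := exists_conj_invol_mem_sylow P ht
    refine ⟨⟨⟨_, hg⟩, fun e => invol_ne_one ht (conj_eq_one_iff.1 (congrArg Subtype.val e))⟩,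
      Subtype.ext ?_⟩
    exact ConjClasses.mk_eq_mk_iff_isConj.2 (isConj_iff.2 ⟨g, rfl⟩ : IsConj t (g * t * g⁻¹)).symm
  have h3 : Nat.card {x : (P : Subgroup G) // x ≠ 1} = 3 := by
    classical
    have := Fintype.ofFinite (P : Subgroup G)
    rw [Nat.card_eq_fintype_card, Fintype.card_subtype_compl, Fintype.card_subtype_eq,
      ← Nat.card_eq_fintype_card, hP.card_four]
  rcases klein_normalizer_dichotomy P hP with h | h
  · refine Or.inl ⟨h, ?_⟩
    rw [← h3]
    refine (Nat.card_eq_of_bijective f ⟨?_, hsurj⟩).symm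
    rintro ⟨⟨x, hx⟩, hx1⟩ ⟨⟨y, hy⟩, hy1⟩ e
    obtain ⟨g, hg⟩ := isConj_iff.1 (ConjClasses.mk_eq_mk_iff_isConj.1 (congrArg Subtype.val e))
    have := IsKleinFour.isMulCommutative (G := (P : Subgroup G))
    obtain ⟨v, hv, hvx⟩ := CfsgLib.Transfer.abelian_sylow_controls P x hx g (by rw [hg]; exact hy)
    rw [h v hv x hx, hg] at hvx
    exact Subtype.ext (Subtype.ext hvx)
  · refine Or.inr ⟨h, Nat.card_eq_one_iff_unique.2 ⟨⟨fun a b => ?_⟩, ?_⟩⟩
    · obtain ⟨⟨x, hx1⟩, rfl⟩ := hsurj a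
      obtain ⟨⟨y, hy1⟩, rfl⟩ := hsurj b
      exact Subtype.ext (ConjClasses.mk_eq_mk_iff_isConj.2
        (h x x.2 y y.2 (fun e => hx1 (Subtype.ext e)) (fun e => hy1 (Subtype.ext e))))
    · have : Nonempty {x : (P : Subgroup G) // x ≠ 1} := (Nat.card_pos_iff.1 (by omega)).1
      exact this.map f

end CfsgLib.Invol
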