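import Mathlib
import Cfsg.Prelude.Def_CaseTheorems
import Cfsg.Prelude.Def_LieClassical
import Cfsg.Agent.Lib.Classical.GLTwoSylow
import Cfsg.Agent.Lib.Classical.SLTwoSylowTwo
import Cfsg.Agent.Lib.Classical.HermOrder
import Cfsg.Agent.Lib.Geom.HermNorm

/-!
Quasi-dihedral and wreathed Sylow 2-subgroups of `GL_2(q)` and `GU_2(q)`, `q` odd.
-/

set_option autoImplicit false

namespace CfsgLib.Invol

open Matrix

section Criteria

variable {G : Type*} [Group G] [Finite G]

theorem mem_normalizer_zpowers {g x : G} (h1 : g * x * g⁻¹ ∈ Subgroup.zpowers x) :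
    g ∈ Subgroup.normalizer (Subgroup.zpowers x : Set G) := by
  rw [Subgroup.mem_normalizer_iff_conj_image_eq]
  have hsub : (MulAut.conj g '' (Subgroup.zpowers x : Set G)) ⊆ (Subgroup.zpowers x : Set G) := by
    rintro _ ⟨a, ⟨i, rfl⟩, rfl⟩
    show MulAut.conj g (x ^ i) ∈ Subgroup.zpowers x
    rw [map_zpow]
    exact zpow_mem h1 i
  refine Set.eq_of_subset_of_ncard_le hsub ?_ (Set.toFinite _)
  rw [Set.ncard_image_of_injective _ (MulAut.conj g).injective]

/-- If `G` has a quasi-dihedral configuration of full 2-order, its Sylow 2-subgroups are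
quasi-dihedral. -/
theorem sylow_isQuasiDihedral {n : ℕ} (hn : 3 ≤ n) {x y : G} (hx : orderOf x = 2 ^ n)
    (hy : orderOf y = 2) (hxy : y * x * y⁻¹ = x ^ (2 ^ (n - 1) - 1))
    (hcard : (Nat.card G).factorization 2 = n + 1) (P : Sylow 2 G) :
    Cfsg.IsQuasiDihedral (P : Subgroup G) := by
  have hpx : IsPGroup 2 (Subgroup.zpowers x) := IsPGroup.of_card (n := n) (by rw [Nat.card_zpowers, hx])
  have hpy : IsPGroup 2 (Subgroup.zpowers y) :=
    IsPGroup.of_card (n := 1) (by rw [Nat.card_zpowers, hy, pow_one])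
  have hnorm : Subgroup.zpowers y ≤ Subgroup.normalizer (Subgroup.zpowers x : Set G) := by
    rw [Subgroup.zpowers_le]
    exact mem_normalizer_zpowers (hxy ▸ Subgroup.pow_mem _ (Subgroup.mem_zpowers x) _)
  have hp : IsPGroup 2 (Subgroup.zpowers x ⊔ Subgroup.zpowers y : Subgroup G) :=
    hpx.to_sup_of_normal_left' hpy hnorm
  obtain ⟨Q, hQ⟩ := hp.exists_le_sylow
  have hxQ : x ∈ (Q : Subgroup G) := hQ (Subgroup.mem_sup_left (Subgroup.mem_zpowers x))
  have hyQ : y ∈ (Q : Subgroup G) := hQ (Subgroup.mem_sup_right (Subgroup.mem_zpowers y))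
  let e := Sylow.equiv Q P
  refine ⟨n, hn, ?_, e ⟨x, hxQ⟩, e ⟨y, hyQ⟩, ?_, ?_, ?_⟩
  · rw [P.card_eq_multiplicity, hcard]
  · rw [MulEquiv.orderOf_eq, Subgroup.orderOf_mk, hx]
  · rw [MulEquiv.orderOf_eq, Subgroup.orderOf_mk, hy]
  · rw [← map_inv, ← map_mul, ← map_mul, ← map_pow]
    exact congrArg e (Subtype.ext hxy)

/-- If `G` has a wreathed configuration of full 2-order, its Sylow 2-subgroups are wreathed. -/
theorem sylow_isWreathed {n : ℕ} (hn : 2 ≤ n) {x z : G} (hx : orderOf x = 2 ^ n)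
    (hz : orderOf z = 2) (hxy : Commute x (z * x * z⁻¹))
    (hdisj : Subgroup.zpowers x ⊓ Subgroup.zpowers (z * x * z⁻¹) = ⊥)
    (hcard : (Nat.card G).factorization 2 = 2 * n + 1) (P : Sylow 2 G) :
    Cfsg.IsWreathed (P : Subgroup G) := by
  set y := z * x * z⁻¹ with hydef
  have hy : orderOf y = 2 ^ n := by rw [hydef, orderOf_conj_eq, hx]
  have hpx : IsPGroup 2 (Subgroup.zpowers x) := IsPGroup.of_card (n := n) (by rw [Nat.card_zpowers, hx])
  have hpy : IsPGroup 2 (Subgroup.zpowers y) := IsPGroup.of_card (n := n) (by rw [Nat.card_zpowers, hy])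
  have hpz : IsPGroup 2 (Subgroup.zpowers z) :=
    IsPGroup.of_card (n := 1) (by rw [Nat.card_zpowers, hz, pow_one])
  have hny : Subgroup.zpowers y ≤ Subgroup.normalizer (Subgroup.zpowers x : Set G) := by
    rw [Subgroup.zpowers_le]
    exact mem_normalizer_zpowers (by
      rw [hxy.symm.eq, mul_inv_cancel_right]; exact Subgroup.mem_zpowers x)
  have hA : IsPGroup 2 (Subgroup.zpowers x ⊔ Subgroup.zpowers y : Subgroup G) :=
    hpx.to_sup_of_normal_left' hpy hny
  have hzz : z * z = 1 := by rw [← pow_two, ← hz, pow_orderOf_eq_one]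
  have hzi : z⁻¹ = z := inv_eq_of_mul_eq_one_right hzz
  have hnz : Subgroup.zpowers z ≤
      Subgroup.normalizer ((Subgroup.zpowers x ⊔ Subgroup.zpowers y : Subgroup G) : Set G) := by
    rw [Subgroup.zpowers_le]
    have himg : (Subgroup.zpowers x ⊔ Subgroup.zpowers y).map (MulAut.conj z).toMonoidHom =
        Subgroup.zpowers x ⊔ Subgroup.zpowers y := by
      rw [Subgroup.map_sup, MonoidHom.map_zpowers, MonoidHom.map_zpowers, sup_comm]
      have h1 : (MulAut.conj z).toMonoidHom x = y := rfl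
      have h2 : (MulAut.conj z).toMonoidHom y = x := by
        show z * y * z⁻¹ = x
        rw [hydef, hzi]
        simp [← mul_assoc, hzz]
        simp [mul_assoc, hzz]
      rw [h1, h2]
    rw [Subgroup.mem_normalizer_iff_conj_image_eq]
    conv_rhs => rw [← himg, Subgroup.coe_map]
    rfl
  have hp := hA.to_sup_of_normal_left' hpz hnz
  obtain ⟨Q, hQ⟩ := hp.exists_le_sylow
  have hxQ : x ∈ (Q : Subgroup G) :=
    hQ (Subgroup.mem_sup_left (Subgroup.mem_sup_left (Subgroup.mem_zpowers x)))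
  have hzQ : z ∈ (Q : Subgroup G) := hQ (Subgroup.mem_sup_right (Subgroup.mem_zpowers z))
  let f : (Q : Subgroup G) →* G := (Q : Subgroup G).subtype
  let e := Sylow.equiv Q P
  let x' : (Q : Subgroup G) := ⟨x, hxQ⟩
  let z' : (Q : Subgroup G) := ⟨z, hzQ⟩
  refine ⟨n, hn, ?_, e x', e (z' * x' * z'⁻¹), e z', ?_, ?_, ?_, ?_, ?_⟩
  · rw [P.card_eq_multiplicity, hcard]
  · rw [MulEquiv.orderOf_eq, Subgroup.orderOf_mk, hx]
  · rw [← map_mul, ← map_mul]
    exact congrArg e (Subtype.ext hxy.eq)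
  · rw [eq_bot_iff]
    rintro w ⟨h1, h2⟩
    obtain ⟨i, hi⟩ := h1
    obtain ⟨j, hj⟩ := h2
    simp only [← map_zpow] at hi hj
    have he : x' ^ i = (z' * x' * z'⁻¹) ^ j := e.injective (hi.trans hj.symm)
    have hG : x ^ i = y ^ j := by
      have h := congrArg Subtype.val he
      rw [Subgroup.coe_zpow, Subgroup.coe_zpow] at h
      exact h
    have hm : x ^ i ∈ Subgroup.zpowers x ⊓ Subgroup.zpowers y :=
      ⟨⟨i, rfl⟩, j, hG.symm⟩
    rw [hdisj, Subgroup.mem_bot] at hm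
    rw [Subgroup.mem_bot, ← hi, show x' ^ i = 1 from Subtype.ext (by simpa [x'] using hm), map_one]
  · rw [MulEquiv.orderOf_eq, Subgroup.orderOf_mk, hz]
  · simp

end Criteria

variable {F : Type*} [Field F] [Fintype F]

theorem orderOf_units_eq {M : Type*} [Monoid M] {N : Type*} [Monoid N] (f : M →* N)
    (hf : Function.Injective f) (x : M) : orderOf (f x) = orderOf x :=
  orderOf_injective f hf x

/-- `diag(u, v)` as an element of `GL_2`. -/
def diag2 : Fˣ × Fˣ →* GL (Fin 2) F where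
  toFun p := ⟨!![(p.1 : F), 0; 0, (p.2 : F)], !![((p.1⁻¹ : Fˣ) : F), 0; 0, ((p.2⁻¹ : Fˣ) : F)],
    by ext i j; fin_cases i <;> fin_cases j <;> simp [Matrix.mul_apply, Fin.sum_univ_two],
    by ext i j; fin_cases i <;> fin_cases j <;> simp [Matrix.mul_apply, Fin.sum_univ_two]⟩
  map_one' := by ext i j; fin_cases i <;> fin_cases j <;> simp
  map_mul' p r := by
    ext i j; fin_cases i <;> fin_cases j <;> simp [Matrix.mul_apply, Fin.sum_univ_two]

omit [Fintype F] in
theorem diag2_coe (p : Fˣ × Fˣ) :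
    (diag2 p : Matrix (Fin 2) (Fin 2) F) = !![(p.1 : F), 0; 0, (p.2 : F)] := rfl

omit [Fintype F] in
theorem diag2_injective : Function.Injective (diag2 (F := F)) := by
  intro p r h
  have h' := congrArg (fun g : GL (Fin 2) F => (g : Matrix (Fin 2) (Fin 2) F)) h
  have h0 := congrFun (congrFun h' 0) 0
  have h1 := congrFun (congrFun h' 1) 1
  simp [diag2_coe] at h0 h1
  exact Prod.ext (Units.ext h0) (Units.ext h1)

/-- The coordinate swap in `GL_2`. -/
def swap2 : GL (Fin 2) F :=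
  ⟨!![0, 1; 1, 0], !![0, 1; 1, 0],
    by ext i j; fin_cases i <;> fin_cases j <;> simp [Matrix.mul_apply, Fin.sum_univ_two],
    by ext i j; fin_cases i <;> fin_cases j <;> simp [Matrix.mul_apply, Fin.sum_univ_two]⟩

omit [Fintype F] in
theorem swap2_conj (p : Fˣ × Fˣ) : swap2 * diag2 p * swap2⁻¹ = diag2 (p.2, p.1) := by
  rw [mul_inv_eq_iff_eq_mul]
  ext i j
  fin_cases i <;> fin_cases j <;> simp [swap2, diag2_coe, Matrix.mul_apply, Fin.sum_univ_two]

omit [Fintype F] in
theorem orderOf_swap2 : orderOf (swap2 (F := F)) = 2 := by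
  refine orderOf_eq_prime ?_ ?_
  · rw [pow_two]
    ext i j
    fin_cases i <;> fin_cases j <;> simp [swap2, Matrix.mul_apply, Fin.sum_univ_two]
  · intro h
    have := congrFun (congrFun (congrArg (fun g : GL (Fin 2) F => (g : Matrix (Fin 2) (Fin 2) F)) h) 0) 0
    simp [swap2] at this

omit [Fintype F] in
theorem diag2_wreath_data {n : ℕ} {a : Fˣ} (ha : orderOf a = 2 ^ n) :
    orderOf (diag2 (a, 1)) = 2 ^ n ∧
      Commute (diag2 (a, 1)) (swap2 * diag2 (a, 1) * swap2⁻¹) ∧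
      Subgroup.zpowers (diag2 (a, 1)) ⊓ Subgroup.zpowers (swap2 * diag2 (a, 1) * swap2⁻¹) = ⊥ := by
  refine ⟨?_, ?_, ?_⟩
  · rw [orderOf_injective _ diag2_injective]
    exact (orderOf_injective (MonoidHom.inl Fˣ Fˣ) (fun _ _ h => congrArg Prod.fst h) a).trans ha
  · rw [swap2_conj]
    exact (Commute.all (a, (1 : Fˣ)) (1, a)).map diag2
  · rw [swap2_conj, eq_bot_iff]
    rintro w ⟨⟨i, rfl⟩, j, hj⟩
    have hij : ((1 : Fˣ), a) ^ j = (a, (1 : Fˣ)) ^ i := diag2_injective (by
      rw [map_zpow, map_zpow]; exact hj)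
    have h1 := congrArg Prod.fst hij
    simp at h1
    show diag2 (a, 1) ^ i ∈ (⊥ : Subgroup _)
    rw [Subgroup.mem_bot, ← map_zpow, show (a, (1 : Fˣ)) ^ i = 1 from Prod.ext (by simp [← h1]) (by simp),
      map_one]

theorem exists_unit_orderOf {d : ℕ} (h : d ∣ Fintype.card F - 1) :
    ∃ a : Fˣ, orderOf a = d := by
  classical
  obtain ⟨g, hg⟩ := IsCyclic.exists_generator (α := Fˣ)
  have hord : orderOf g = Fintype.card F - 1 := by
    rw [orderOf_eq_card_of_forall_mem_zpowers hg, Nat.card_eq_fintype_card, Fintype.card_units]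
  obtain ⟨e, he⟩ := h
  have hpos : 0 < Fintype.card F - 1 := Nat.sub_pos_of_lt Fintype.one_lt_card
  have he0 : e ≠ 0 := by rintro rfl; omega
  refine ⟨g ^ e, ?_⟩
  rw [orderOf_pow' g he0, hord, he, Nat.gcd_eq_right (dvd_mul_left e d),
    Nat.mul_div_cancel _ (Nat.pos_of_ne_zero he0)]

theorem exists_odd_cofactor {a k : ℕ} (ha : a ≠ 0) (h : a.factorization 2 = k) :
    ∃ j, a = 2 ^ k * (2 * j + 1) := by
  obtain ⟨d, hd⟩ := Nat.ordProj_dvd a 2
  have hd0 : d ≠ 0 := by rintro rfl; omega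
  have : ¬ 2 ∣ d := by
    intro h2
    obtain ⟨e, rfl⟩ := h2
    have h3 : 2 ^ (a.factorization 2 + 1) ∣ a := ⟨e, by rw [pow_succ, mul_assoc]; exact hd⟩
    exact Nat.pow_succ_factorization_not_dvd ha Nat.prime_two h3
  exact ⟨d / 2, by rw [← h]; nth_rewrite 1 [hd]; congr 1; omega⟩

theorem gl_two_sylow_wreathed (h4 : Fintype.card F % 4 = 1) (P : Sylow 2 (GL (Fin 2) F)) :
    Cfsg.IsWreathed (P : Subgroup (GL (Fin 2) F)) := by
  have hq : 1 < Fintype.card F := Fintype.one_lt_card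
  set q := Fintype.card F with hqdef
  set n := (q - 1).factorization 2 with hn
  obtain ⟨a, ha⟩ := exists_unit_orderOf (F := F) (d := 2 ^ n) (Nat.ordProj_dvd _ 2)
  obtain ⟨h1, h2, h3⟩ := diag2_wreath_data ha
  refine sylow_isWreathed (n := n)
    (CfsgLib.Classical.two_le_factorization_of_mod_four (by omega) (by omega))
    h1 orderOf_swap2 h2 h3 ?_ P
  rw [CfsgLib.Classical.card_gl_two, ← hqdef,
    Nat.factorization_mul (mul_ne_zero (by omega) (pow_ne_zero _ (by omega))) (by omega),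
    Nat.factorization_mul (by omega) (pow_ne_zero _ (by omega)), Nat.factorization_pow,
    Finsupp.add_apply, Finsupp.add_apply, Finsupp.smul_apply, smul_eq_mul, ← hn,
    Nat.factorization_eq_zero_of_not_dvd (n := q) (p := 2) (by omega),
    CfsgLib.Classical.factorization_two_of_mod_four (n := q + 1) (by omega)]
  omega

theorem gl_two_sylow_quasiDihedral (h4 : Fintype.card F % 4 = 3) (P : Sylow 2 (GL (Fin 2) F)) :
    Cfsg.IsQuasiDihedral (P : Subgroup (GL (Fin 2) F)) := by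
  have hq : 1 < Fintype.card F := Fintype.one_lt_card
  set q := Fintype.card F with hqdef
  set k := (q + 1).factorization 2 with hk
  have hk2 : 2 ≤ k := CfsgLib.Classical.two_le_factorization_of_mod_four (by omega) (by omega)
  obtain ⟨p, hp⟩ := CharP.exists F
  haveI : Fact p.Prime := ⟨CharP.char_is_prime F p⟩
  let E := FiniteField.Extension F p 2
  have hE : Nat.card Eˣ = (q + 1) * (q - 1) := by
    rw [Nat.card_units, FiniteField.natCard_extension, Nat.card_eq_fintype_card, ← hqdef]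
    simpa [sq] using Nat.sq_sub_sq q 1
  haveI : IsCyclic Eˣ := inferInstance
  obtain ⟨ζ, hζ⟩ := CfsgLib.Classical.exists_two_element (G := Eˣ) (k := k) (by
    rw [hE, Nat.factorization_mul (by omega) (by omega), Finsupp.add_apply, ← hk,
      CfsgLib.Classical.factorization_two_of_mod_four (n := q - 1) (by omega)])
  have hb : Module.finrank F E = 2 := FiniteField.finrank_extension F p 2
  let b : Module.Basis (Fin 2) F E := Module.finBasisOfFinrankEq F E hb
  let ψ : (Module.End F E)ˣ ≃* GL (Fin 2) F := Units.mapEquiv (algEquivMatrix b).toMulEquiv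
  let fr : E ≃ₐ[F] E := FiniteField.Extension.frob F p 2
  have hfr : ∀ w : E, fr w = w ^ q := fun w => by
    show FiniteField.Extension.frob F p 2 w = _
    rw [FiniteField.Extension.frob_apply, Nat.card_eq_fintype_card]
  have hfr2 : ∀ w : E, fr (fr w) = w := fun w => by
    haveI := Fintype.ofFinite E
    rw [hfr, hfr, ← pow_mul, ← sq, show q ^ 2 = Fintype.card E from by
      rw [Fintype.card_eq_nat_card, FiniteField.natCard_extension, Nat.card_eq_fintype_card],
      FiniteField.pow_card]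
  let yu : (Module.End F E)ˣ :=
    ⟨fr.toLinearMap, fr.toLinearMap, LinearMap.ext fun w => hfr2 w, LinearMap.ext fun w => hfr2 w⟩
  let mu : Eˣ →* (Module.End F E)ˣ := Units.map (Algebra.lmul F E : E →* Module.End F E)
  have hmu : Function.Injective mu := Units.map_injective fun u v h => by
    simpa using LinearMap.congr_fun h 1
  have hpow : ζ ^ q = ζ ^ (2 ^ k - 1) := by
    obtain ⟨j, hj⟩ := exists_odd_cofactor (a := q + 1) (by omega) hk.symm
    have e : q = 2 * 2 ^ k * j + (2 ^ k - 1) := by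
      have : 1 ≤ 2 ^ k := Nat.one_le_two_pow
      have : q + 1 = 2 * 2 ^ k * j + 2 ^ k := hj.trans (by ring)
      omega
    rw [e, pow_add, pow_mul, show ζ ^ (2 * 2 ^ k) = 1 by rw [← hζ, pow_orderOf_eq_one],
      one_pow, one_mul]
  refine sylow_isQuasiDihedral (n := k + 1) (x := ψ (mu ζ)) (y := ψ yu) (by omega) ?_ ?_ ?_ ?_ P
  · rw [MulEquiv.orderOf_eq, orderOf_injective mu hmu, hζ, pow_succ']
  · rw [MulEquiv.orderOf_eq]
    refine orderOf_eq_prime ?_ ?_
    · ext w; simpa [pow_two, yu] using hfr2 w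
    · intro h
      have h' : ∀ w : E, w ^ q = w := fun w => by
        rw [← hfr]; exact LinearMap.congr_fun (congrArg Units.val h) w
      have : ζ ^ q = ζ := Units.ext (by simpa using h' (ζ : E))
      rw [hpow] at this
      have h4k : 4 ≤ 2 ^ k := le_trans (by norm_num) (Nat.pow_le_pow_right two_pos hk2)
      have hmod := pow_inj_mod.1 (this.trans (pow_one ζ).symm)
      rw [hζ, Nat.mod_eq_of_lt (by omega), Nat.mod_eq_of_lt (by omega)] at hmod
      omega
  · rw [← map_inv, ← map_mul, ← map_mul, ← map_pow, ← map_pow, Nat.add_sub_cancel, ← hpow]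
    congr 1
    rw [mul_inv_eq_iff_eq_mul]
    ext w
    show fr ((ζ : E) * w) = ((ζ ^ q : Eˣ) : E) * fr w
    rw [map_mul, hfr, Units.val_pow_eq_pow_val]
  · rw [CfsgLib.Classical.card_gl_two, ← hqdef,
      Nat.factorization_mul (mul_ne_zero (by omega) (pow_ne_zero _ (by omega))) (by omega),
      Nat.factorization_mul (by omega) (pow_ne_zero _ (by omega)), Nat.factorization_pow,
      Finsupp.add_apply, Finsupp.add_apply, Finsupp.smul_apply, smul_eq_mul, ← hk,
      Nat.factorization_eq_zero_of_not_dvd (n := q) (p := 2) (by omega),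
      CfsgLib.Classical.factorization_two_of_mod_four (n := q - 1) (by omega)]
    omega

variable {q : ℕ}

theorem factorization_card_gu_two (hF : Fintype.card F = q ^ 2) (hq : Odd q) :
    (Nat.card (Cfsg.GU 2 F q)).factorization 2 =
      2 * (q + 1).factorization 2 + (q - 1).factorization 2 := by
  have h1 : 1 < q ^ 2 := hF ▸ Fintype.one_lt_card
  have hq1 : 1 < q := by
    by_contra hc
    have : q ^ 2 ≤ 1 ^ 2 := Nat.pow_le_pow_left (by omega) 2
    omega
  obtain ⟨m, hm⟩ := hq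
  have hsq : q ^ 2 - 1 = (q + 1) * (q - 1) := by simpa [sq] using Nat.sq_sub_sq q 1
  rw [CfsgLib.Classical.card_gu hF, Finset.prod_range_succ, Finset.prod_range_one,
    if_pos (by simp), if_neg (by simp)]
  norm_num
  rw [hsq, Nat.factorization_mul (by omega) (mul_ne_zero (by omega) (mul_ne_zero (by omega) (by omega))),
    Nat.factorization_mul (by omega) (mul_ne_zero (by omega) (by omega)),
    Nat.factorization_mul (by omega) (by omega),
    Finsupp.add_apply, Finsupp.add_apply, Finsupp.add_apply,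
    Nat.factorization_eq_zero_of_not_dvd (n := q) (p := 2) (by omega)]
  omega

theorem gu_two_sylow_wreathed (hF : Fintype.card F = q ^ 2) (h4 : q % 4 = 3)
    (P : Sylow 2 (Cfsg.GU 2 F q)) : Cfsg.IsWreathed (P : Subgroup (Cfsg.GU 2 F q)) := by
  have hsq : q ^ 2 - 1 = (q + 1) * (q - 1) := by simpa [sq] using Nat.sq_sub_sq q 1
  set n := (q + 1).factorization 2 with hn
  have hdvd : 2 ^ n ∣ q + 1 := Nat.ordProj_dvd _ 2
  obtain ⟨a, ha⟩ := exists_unit_orderOf (F := F) (d := 2 ^ n)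
    (by rw [hF, hsq]; exact hdvd.mul_right _)
  obtain ⟨h1, h2, h3⟩ := diag2_wreath_data ha
  have haq : (a : F) * (a : F) ^ q = 1 := by
    obtain ⟨e, he⟩ := hdvd
    have : a ^ (q + 1) = 1 := by rw [he, pow_mul, ← ha, pow_orderOf_eq_one, one_pow]
    rw [← pow_succ', ← Units.val_pow_eq_pow_val, this, Units.val_one]
  have hq0 : q ≠ 0 := by omega
  have hx : diag2 (a, 1) ∈ Cfsg.GU 2 F q := by
    intro u v
    show ∑ i, _ * _ ^ q = ∑ i, _ * _ ^ q
    simp [Units.coeHom_apply, diag2_coe, Fin.sum_univ_two, Matrix.mulVec, dotProduct, mul_pow]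
    linear_combination (u 0 * v 0 ^ q) * haq
  have hz : swap2 ∈ Cfsg.GU 2 F q := by
    intro u v
    show ∑ i, _ * _ ^ q = ∑ i, _ * _ ^ q
    simp [Units.coeHom_apply, swap2, Fin.sum_univ_two, Matrix.mulVec, dotProduct]
    ring
  let f := (Cfsg.GU 2 F q).subtype
  have hf : Function.Injective f := Subtype.val_injective
  refine sylow_isWreathed (n := n) (x := ⟨_, hx⟩) (z := ⟨_, hz⟩)
    (CfsgLib.Classical.two_le_factorization_of_mod_four (by omega) (by omega)) ?_ ?_ ?_ ?_ ?_ P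
  · rw [Subgroup.orderOf_mk, h1]
  · rw [Subgroup.orderOf_mk, orderOf_swap2]
  · exact Subtype.ext h2.eq
  · rw [← Subgroup.map_eq_bot_iff_of_injective _ hf, Subgroup.map_inf _ _ _ hf,
      MonoidHom.map_zpowers, MonoidHom.map_zpowers]
    exact h3
  · rw [factorization_card_gu_two hF (Nat.odd_iff.2 (by omega)), ← hn,
      CfsgLib.Classical.factorization_two_of_mod_four (n := q - 1) (by omega)]

theorem gu_two_sylow_quasiDihedral (hF : Fintype.card F = q ^ 2) (h4 : q % 4 = 1)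
    (P : Sylow 2 (Cfsg.GU 2 F q)) : Cfsg.IsQuasiDihedral (P : Subgroup (Cfsg.GU 2 F q)) := by
  have hq5 : 1 < q := by
    by_contra hc
    have h1 : 1 < q ^ 2 := hF ▸ Fintype.one_lt_card
    have : q ^ 2 ≤ 1 ^ 2 := Nat.pow_le_pow_left (by omega) 2
    omega
  have hsq : q ^ 2 - 1 = (q + 1) * (q - 1) := by simpa [sq] using Nat.sq_sub_sq q 1
  set k := (q - 1).factorization 2 with hk
  have hk2 : 2 ≤ k := CfsgLib.Classical.two_le_factorization_of_mod_four (by omega) (by omega)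
  have hdvd : 2 ^ (k + 1) ∣ Fintype.card F - 1 := by
    rw [hF, hsq, pow_succ']
    exact mul_dvd_mul (by omega) (Nat.ordProj_dvd _ 2)
  obtain ⟨ζ, hζ⟩ := exists_unit_orderOf (F := F) hdvd
  have hζq : (ζ : F) * (ζ : F) ≠ 0 := by simp
  have hqq : ∀ w : Fˣ, (w ^ q) ^ q = w := fun w => Units.ext (by
    rw [Units.val_pow_eq_pow_val, Units.val_pow_eq_pow_val, ← pow_mul, ← sq, ← hF,
      FiniteField.pow_card])
  obtain ⟨j, hj⟩ := exists_odd_cofactor (a := q - 1) (by omega) hk.symm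
  have hr : ζ ^ (2 ^ k - 1) = (ζ ^ q)⁻¹ := by
    have hk1 : 1 ≤ 2 ^ k := Nat.one_le_two_pow
    have e : 2 ^ k - 1 + q = 2 ^ (k + 1) * (j + 1) := by
      have : q - 1 = 2 * 2 ^ k * j + 2 ^ k := hj.trans (by ring)
      rw [pow_succ']
      nlinarith [Nat.sub_add_cancel hk1, Nat.sub_add_cancel hq5.le]
    rw [eq_inv_iff_mul_eq_one, ← pow_add, e, pow_mul, ← hζ, pow_orderOf_eq_one, one_pow]
  -- isotropic basis
  obtain ⟨c, hc⟩ := CfsgLib.Geom.exists_norm_eq (CfsgLib.Classical.qFrob_ne_id hF)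
    (CfsgLib.Classical.qFrob_qFrob hF) (c := (-1 : F)) (by simp)
  rw [CfsgLib.Classical.qFrob_apply] at hc
  have hqo : Odd q := Nat.odd_iff.2 (by omega)
  have h2 : (2 : F) ≠ 0 := Ring.two_ne_zero (by
    intro h
    have hev := FiniteField.even_card_of_char_two h
    rw [hF] at hev
    have := hqo.pow (n := 2)
    rw [Nat.odd_iff] at this
    omega)
  have hc0 : c ≠ 0 := by rintro rfl; simp at hc
  have hdet : (!![(1 : F), 1; c, -c]).det ≠ 0 := by
    rw [det_fin_two_of, show (1 : F) * -c - 1 * c = -(2 * c) by ring]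
    exact neg_ne_zero.2 (mul_ne_zero h2 hc0)
  let B : GL (Fin 2) F := Matrix.GeneralLinearGroup.mkOfDetNeZero _ hdet
  obtain ⟨p, hp⟩ := CharP.exists F
  haveI : Fact p.Prime := ⟨CharP.char_is_prime F p⟩
  have hadd : ∀ a b : F, (a + b) ^ q = a ^ q + b ^ q := fun a b => by
    simpa [CfsgLib.Classical.qFrob_apply] using map_add (CfsgLib.Classical.qFrob hF) a b
  have hsub : ∀ a b : F, (a - b) ^ q = a ^ q - b ^ q := fun a b => by
    simpa [CfsgLib.Classical.qFrob_apply] using map_sub (CfsgLib.Classical.qFrob hF) a b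
  have hB : ∀ u v : Fin 2 → F, Cfsg.hermForm 2 F q ((B : Matrix (Fin 2) (Fin 2) F) *ᵥ u)
      ((B : Matrix (Fin 2) (Fin 2) F) *ᵥ v) = 2 * (u 0 * v 1 ^ q + u 1 * v 0 ^ q) := by
    intro u v
    simp [B, Cfsg.hermForm, Fin.sum_univ_two, Matrix.mulVec, dotProduct]
    rw [← sub_eq_add_neg, ← sub_eq_add_neg, hadd, hsub, mul_pow, mul_pow]
    linear_combination (u 0 * v 0 ^ q - u 0 * v 1 ^ q - u 1 * v 0 ^ q + u 1 * v 1 ^ q) * hc
  have key : ∀ N : GL (Fin 2) F,
      (∀ u v : Fin 2 → F,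
        ((N : Matrix (Fin 2) (Fin 2) F) *ᵥ u) 0 * ((N : Matrix (Fin 2) (Fin 2) F) *ᵥ v) 1 ^ q +
          ((N : Matrix (Fin 2) (Fin 2) F) *ᵥ u) 1 * ((N : Matrix (Fin 2) (Fin 2) F) *ᵥ v) 0 ^ q =
        u 0 * v 1 ^ q + u 1 * v 0 ^ q) → MulAut.conj B N ∈ Cfsg.GU 2 F q := by
    intro N hN u v
    have hu : (B : Matrix (Fin 2) (Fin 2) F) *ᵥ (((B⁻¹ : GL (Fin 2) F) : Matrix _ _ F) *ᵥ u) = u := by
      rw [mulVec_mulVec, ← Units.val_mul, mul_inv_cancel, Units.val_one, one_mulVec]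
    have hv : (B : Matrix (Fin 2) (Fin 2) F) *ᵥ (((B⁻¹ : GL (Fin 2) F) : Matrix _ _ F) *ᵥ v) = v := by
      rw [mulVec_mulVec, ← Units.val_mul, mul_inv_cancel, Units.val_one, one_mulVec]
    show Cfsg.hermForm 2 F q ((MulAut.conj B N : GL (Fin 2) F).val *ᵥ u)
      ((MulAut.conj B N : GL (Fin 2) F).val *ᵥ v) = _
    rw [MulAut.conj_apply, Units.val_mul, Units.val_mul, ← mulVec_mulVec, ← mulVec_mulVec,
      ← mulVec_mulVec, ← mulVec_mulVec, hB, hN, ← hB, hu, hv]
  have hx : MulAut.conj B (diag2 (ζ, (ζ ^ q)⁻¹)) ∈ Cfsg.GU 2 F q := by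
    refine key _ fun u v => ?_
    have e1 : (ζ : F) * (((ζ ^ q)⁻¹ : Fˣ) : F) ^ q = 1 := by
      rw [← Units.val_pow_eq_pow_val, ← Units.val_mul, inv_pow, hqq, mul_inv_cancel, Units.val_one]
    have e2 : (((ζ ^ q)⁻¹ : Fˣ) : F) * (ζ : F) ^ q = 1 := by
      rw [← Units.val_pow_eq_pow_val, ← Units.val_mul, inv_mul_cancel, Units.val_one]
    revert e1 e2
    generalize (ζ ^ q)⁻¹ = w
    intro e1 e2
    simp [diag2_coe, Matrix.mulVec, dotProduct, Fin.sum_univ_two, mul_pow]
    linear_combination (u 0 * v 1 ^ q) * e1 + (u 1 * v 0 ^ q) * e2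
  have hy : MulAut.conj B swap2 ∈ Cfsg.GU 2 F q := by
    refine key _ fun u v => ?_
    simp [swap2, Matrix.mulVec, dotProduct, Fin.sum_univ_two]
    ring
  refine sylow_isQuasiDihedral (n := k + 1) (x := ⟨_, hx⟩) (y := ⟨_, hy⟩) (by omega) ?_ ?_ ?_ ?_ P
  · rw [Subgroup.orderOf_mk, MulEquiv.orderOf_eq, orderOf_injective _ diag2_injective,
      Prod.orderOf_mk, orderOf_inv, Nat.lcm_eq_left (orderOf_pow_dvd q), hζ]
  · rw [Subgroup.orderOf_mk, MulEquiv.orderOf_eq, orderOf_swap2]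
  · refine Subtype.ext ?_
    show MulAut.conj B swap2 * MulAut.conj B _ * (MulAut.conj B swap2)⁻¹ = (MulAut.conj B _) ^ _
    rw [← map_inv, ← map_mul, ← map_mul, ← map_pow, swap2_conj, ← map_pow]
    congr 2
    rw [Nat.add_sub_cancel, Prod.pow_mk, hr, inv_pow, ← pow_mul, mul_comm, pow_mul, hr,
      inv_pow, inv_inv, hqq]
  · rw [factorization_card_gu_two hF hqo, ← hk,
      CfsgLib.Classical.factorization_two_of_mod_four (n := q + 1) (by omega)]
    omega

end CfsgLib.Invol
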