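import Cfsg.Agent.Lib.Invol.Basic
import Cfsg.Agent.Lib.Transfer.Frobenius
import Cfsg.Agent.Lib.Transfer.Basic
import Mathlib.GroupTheory.Focal
import Mathlib.GroupTheory.SpecificGroups.Quaternion

/-!
Generalities for the determination of 2-fusion: actions on three items, focal subgroups, residuals.
-/

set_option autoImplicit false
set_option linter.unusedSectionVars false

namespace CfsgLib.Invol

open Subgroup

/-- An action of a group restricted to an invariant set, as permutations. -/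
def restrictPerm {N α : Type*} [Group N] (f : N → α → α) (h1 : ∀ a, f 1 a = a)
    (hmul : ∀ n k a, f (n * k) a = f n (f k a)) (s : Set α) (hs : ∀ n, ∀ a ∈ s, f n a ∈ s) :
    N →* Equiv.Perm s :=
  MonoidHom.mk' (fun n =>
    { toFun := fun a => ⟨f n a, hs n a a.2⟩
      invFun := fun a => ⟨f n⁻¹ a, hs n⁻¹ a a.2⟩
      left_inv := fun a => Subtype.ext (by show f n⁻¹ (f n a) = a; rw [← hmul, inv_mul_cancel, h1])
      right_inv := fun a => Subtype.ext (by show f n (f n⁻¹ a) = a; rw [← hmul, mul_inv_cancel, h1]) })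
    fun n k => Equiv.ext fun a => Subtype.ext (hmul n k a)

theorem restrictPerm_apply {N α : Type*} [Group N] (f : N → α → α) (h1 : ∀ a, f 1 a = a)
    (hmul : ∀ n k a, f (n * k) a = f n (f k a)) (s : Set α) (hs : ∀ n, ∀ a ∈ s, f n a ∈ s) (n : N)
    (a : s) : (restrictPerm f h1 hmul s hs n a : α) = f n a := rfl

theorem mem_ker_restrictPerm {N α : Type*} [Group N] (f : N → α → α) (h1 : ∀ a, f 1 a = a)
    (hmul : ∀ n k a, f (n * k) a = f n (f k a)) (s : Set α) (hs : ∀ n, ∀ a ∈ s, f n a ∈ s) (n : N) :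
    n ∈ (restrictPerm f h1 hmul s hs).ker ↔ ∀ a ∈ s, f n a = a := by
  rw [MonoidHom.mem_ker]
  exact ⟨fun h a ha => congrArg Subtype.val (Equiv.ext_iff.1 h ⟨a, ha⟩),
    fun h => Equiv.ext fun a => Subtype.ext (h a a.2)⟩

section Three

variable {N Ω : Type*} [Group N] [Finite Ω] (φ : N →* Equiv.Perm Ω) (hΩ : Nat.card Ω = 3)
include hΩ

theorem index_ker_dvd_six : φ.ker.index ∣ 6 := by
  have h := φ.range.card_subgroup_dvd_card
  rw [Nat.card_perm, hΩ] at h
  rw [Subgroup.index_ker]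
  exact h

theorem index_two_or_six (heven : 2 ∣ φ.ker.index) : φ.ker.index = 2 ∨ φ.ker.index = 6 := by
  have h := index_ker_dvd_six φ hΩ
  have h6 := Nat.le_of_dvd (by norm_num) h
  interval_cases φ.ker.index <;> omega

theorem transitive_of_index_six (h : φ.ker.index = 6) (a b : Ω) : ∃ n, φ n a = b := by
  classical
  have htop : φ.range = ⊤ := Subgroup.eq_top_of_card_eq _ (by
    rw [← Subgroup.index_ker, h, Nat.card_perm, hΩ]; rfl)
  obtain ⟨n, hn⟩ : Equiv.swap a b ∈ φ.range := htop ▸ Subgroup.mem_top _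
  exact ⟨n, by rw [hn, Equiv.swap_apply_left]⟩

/-- If some element moves a point fixed by an element inducing a transposition, the index is six. -/
theorem index_six_of_move {n k : N} {a b : Ω} (hna : φ n a = a) (hnb : φ n b ≠ b) (hka : φ k a ≠ a) :
    φ.ker.index = 6 := by
  have heven : ¬ φ.ker.index ∣ 3 := by
    intro h3
    -- the image of `n` fixes a point of three, so its square is trivial
    have h2 : φ n * φ n = 1 := by
      have := Fintype.ofFinite Ω
      refine Equiv.ext fun c => ?_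
      rw [Equiv.Perm.mul_apply, Equiv.Perm.one_apply]
      by_contra hc
      have hca : c ≠ a := fun h => hc (by rw [h, hna, hna])
      have h1 : φ n c ≠ a := fun h => hca ((φ n).injective (h.trans hna.symm))
      have h2 : φ n c ≠ c := fun h => hc (by rw [h, h])
      have h3 : φ n (φ n c) ≠ a := fun h => h1 ((φ n).injective (h.trans hna.symm))
      have h4 : φ n (φ n c) ≠ φ n c := fun h => h2 ((φ n).injective h)
      have hcard : Fintype.card Ω = 3 := by rw [← Nat.card_eq_fintype_card, hΩ]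
      classical
      have hsub : ({a, c, φ n c, φ n (φ n c)} : Finset Ω).card ≤ 3 := hcard ▸ Finset.card_le_univ _
      rw [Finset.card_insert_of_notMem (by simp [Ne.symm hca, Ne.symm h1, Ne.symm h3]),
        Finset.card_insert_of_notMem (by simp [Ne.symm h2, Ne.symm hc]),
        Finset.card_insert_of_notMem (by simp [Ne.symm h4]), Finset.card_singleton] at hsub
      omega
    have hord : orderOf (φ n) ∣ 2 := orderOf_dvd_of_pow_eq_one (by rw [pow_two]; exact h2)
    have hord3 : orderOf (φ n) ∣ 3 := by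
      refine dvd_trans ?_ h3
      rw [Subgroup.index_ker]
      exact φ.range.orderOf_dvd_natCard ⟨n, rfl⟩
    have h1 : orderOf (φ n) = 1 := Nat.eq_one_of_dvd_one (Nat.dvd_gcd hord hord3)
    exact hnb (by rw [orderOf_eq_one_iff.1 h1]; rfl)
  have h2 : φ.ker.index ≠ 2 := by
    intro h
    rw [Subgroup.index_ker] at h
    obtain ⟨x, y, hxy, huniv⟩ := Nat.card_eq_two_iff.1 h
    have key : ∀ p q : φ.range, p ≠ 1 → q ≠ 1 → p = q := by
      intro p q hp hq
      have hp' : p = x ∨ p = y := by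
        have := Set.mem_univ p; rw [← huniv] at this; simpa using this
      have hq' : q = x ∨ q = y := by
        have := Set.mem_univ q; rw [← huniv] at this; simpa using this
      have h1 : (1 : φ.range) = x ∨ (1 : φ.range) = y := by
        have := Set.mem_univ (1 : φ.range); rw [← huniv] at this; simpa using this
      rcases hp' with rfl | rfl <;> rcases hq' with rfl | rfl <;> first
        | rfl
        | (rcases h1 with e | e <;> first | exact absurd e.symm hp | exact absurd e.symm hq)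
    have := key ⟨φ n, n, rfl⟩ ⟨φ k, k, rfl⟩
      (fun e => hnb (by rw [show φ n = 1 from congrArg Subtype.val e]; rfl))
      (fun e => hka (by rw [show φ k = 1 from congrArg Subtype.val e]; rfl))
    exact hka (by rw [← show φ n = φ k from congrArg Subtype.val this]; exact hna)
  have h := index_ker_dvd_six φ hΩ
  have h6 := Nat.le_of_dvd (by norm_num) h
  interval_cases φ.ker.index <;> omega

theorem exists_odd_move [Finite N] (h : φ.ker.index = 6) :
    ∃ n, Odd (orderOf n) ∧ ∀ a, φ n a ≠ a := by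
  classical
  have := Fintype.ofFinite Ω
  have hcard : Fintype.card Ω = 3 := by rw [← Nat.card_eq_fintype_card, hΩ]
  have h3 : 3 ∣ Nat.card φ.range := by rw [← Subgroup.index_ker, h]; norm_num
  have : Fact (Nat.Prime 3) := ⟨Nat.prime_three⟩
  obtain ⟨⟨_, n, rfl⟩, hp⟩ := exists_prime_orderOf_dvd_card' 3 h3
  rw [← Subgroup.orderOf_coe] at hp
  change orderOf (φ n) = 3 at hp
  obtain ⟨a, q, hq, hord⟩ := Nat.exists_eq_pow_mul_and_not_dvd (orderOf_pos n).ne' 2 (by norm_num)
  have hodd : Odd q := Nat.odd_iff.2 (Nat.two_dvd_ne_zero.1 hq)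
  refine ⟨n ^ 2 ^ a, ?_, fun x hx => ?_⟩
  · rw [orderOf_pow' n (pow_ne_zero _ two_ne_zero), hord, Nat.gcd_mul_right_left,
      Nat.mul_div_cancel_left _ (by positivity)]
    exact hodd
  · -- an element of order three of the symmetric group on three letters fixes nothing
    have h5 : orderOf (φ (n ^ 2 ^ a)) = 3 := by
      rw [map_pow, (Nat.Coprime.orderOf_pow (by rw [hp]; exact Nat.Coprime.pow_right a (by norm_num)))]
      exact hp
    set σ := φ (n ^ 2 ^ a)
    have hs : σ.support.card ≤ 2 := by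
      have h6 : σ.support ⊆ (Finset.univ : Finset Ω).erase x := fun y hy =>
        Finset.mem_erase.2 ⟨fun e => Equiv.Perm.mem_support.1 hy (e ▸ hx), Finset.mem_univ _⟩
      have h7 := Finset.card_le_card h6
      rw [Finset.card_erase_of_mem (Finset.mem_univ x), Finset.card_univ, hcard] at h7
      exact h7
    have hne : σ ≠ 1 := fun e => by rw [e, orderOf_one] at h5; omega
    have h8 := Equiv.Perm.two_le_card_support_of_ne_one hne
    have h9 : σ.IsSwap := Equiv.Perm.card_support_eq_two.1 (by omega)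
    rw [h9.orderOf] at h5
    omega

end Three

variable {G : Type*} [Group G]

/-- The conjugation action of a normalizer on an invariant set of elements. -/
def conjPerm (N : Subgroup G) (s : Set G) (hs : ∀ n ∈ N, ∀ a ∈ s, n * a * n⁻¹ ∈ s) :
    N →* Equiv.Perm s :=
  restrictPerm (fun (n : N) (a : G) => (n : G) * a * (n : G)⁻¹) (fun a => by simp)
    (fun n k a => by simp [mul_assoc]) s (fun (n : N) => hs n n.2)

/-- The conjugation action of a normalizer on an invariant set of subgroups. -/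
def conjPermSub (N : Subgroup G) (s : Set (Subgroup G))
    (hs : ∀ n ∈ N, ∀ H ∈ s, H.map (MulAut.conj n).toMonoidHom ∈ s) : N →* Equiv.Perm s :=
  restrictPerm (fun (n : N) (H : Subgroup G) => H.map (MulAut.conj (n : G)).toMonoidHom)
    (fun H => by ext x; simp)
    (fun n k H => by
      rw [Subgroup.map_map]
      congr 1
      ext x
      simp [mul_assoc]) s (fun (n : N) => hs n n.2)

variable [Finite G]

/-- In a finite group one inclusion suffices for membership in a normalizer. -/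
theorem mem_normalizer_iff_of_finite {H : Subgroup G} {g : G} (h : ∀ x ∈ H, g * x * g⁻¹ ∈ H) :
    g ∈ normalizer (H : Set G) := by
  rw [mem_normalizer_iff_map_conj_eq]
  refine eq_of_le_of_card_ge ?_
    (Nat.card_congr (H.equivMapOfInjective _ (MulAut.conj g).injective).toEquiv).le
  rintro _ ⟨x, hx, rfl⟩
  exact h x hx

/-- A conjugation inside the normalizer of a cyclic subgroup normalised by a Sylow `2`-subgroup is
induced by the Sylow subgroup. -/
theorem exists_conj_eq_of_cyclic (S : Sylow 2 G) {u g : G} {k : ℕ} (hu : orderOf u = 2 ^ k)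
    (hS : (S : Subgroup G) ≤ normalizer (zpowers u : Set G))
    (hg : g ∈ normalizer (zpowers u : Set G)) :
    ∃ s ∈ (S : Subgroup G), s * u * s⁻¹ = g * u * g⁻¹ := by
  set N := normalizer (zpowers u : Set G)
  let f : N →* MulAut (zpowers u) := normalizerMonoidHom (zpowers u)
  have hrange : IsPGroup 2 f.range := by
    have hc : Nat.card (MulAut (zpowers u)) = Nat.totient (2 ^ k) := by
      rw [IsCyclic.card_mulAut, Nat.card_zpowers, hu]
    have hd := f.range.card_subgroup_dvd_card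
    rw [hc] at hd
    rcases k with _ | k
    · rw [pow_zero, Nat.totient_one, Nat.dvd_one] at hd
      exact IsPGroup.of_card (n := 0) (by rw [hd, pow_zero])
    · rw [Nat.totient_prime_pow_succ Nat.prime_two] at hd
      rw [show (2 : ℕ) - 1 = 1 from rfl, mul_one] at hd
      obtain ⟨j, -, hj⟩ := (Nat.dvd_prime_pow Nat.prime_two).1 hd
      exact IsPGroup.of_card hj
  let P : Sylow 2 f.range := (S.subtype hS).mapSurjective f.rangeRestrict_surjective
  have htop : (P : Subgroup f.range) = ⊤ :=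
    (P.is_maximal' (hrange.to_subgroup ⊤) le_top).symm
  have hmem : f.rangeRestrict ⟨g, hg⟩ ∈ (P : Subgroup f.range) := by rw [htop]; trivial
  obtain ⟨⟨s, hsN⟩, hs, he⟩ := hmem
  refine ⟨s, hs, ?_⟩
  have h1 : f ⟨s, hsN⟩ = f ⟨g, hg⟩ := congrArg Subtype.val he
  exact congrArg Subtype.val (DFunLike.congr_fun h1 ⟨u, mem_zpowers u⟩)

/-- A conjugation onto a central element of a Sylow subgroup may be chosen to take a centralizing
`p`-subgroup into it. -/
theorem exists_conj_extend {p : ℕ} [Fact p.Prime] (S : Sylow p G) {a b g : G}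
    (hcen : ∀ s ∈ (S : Subgroup G), Commute a s) (hg : g * b * g⁻¹ = a)
    {H : Subgroup G} (hH : IsPGroup p H) (hHb : ∀ h ∈ H, Commute h b) :
    ∃ k : G, k * b * k⁻¹ = a ∧ ∀ h ∈ H, k * h * k⁻¹ ∈ S := by
  have hSC : (S : Subgroup G) ≤ centralizer ({a} : Set G) := fun s hs =>
    mem_centralizer_singleton_iff.2 (hcen s hs).eq.symm
  have hHC : H.map (MulAut.conj g).toMonoidHom ≤ centralizer ({a} : Set G) := by
    rintro _ ⟨h, hh, rfl⟩
    refine mem_centralizer_singleton_iff.2 ?_
    rw [← hg]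
    exact ((hHb h hh).map (MulAut.conj g).toMonoidHom).eq
  obtain ⟨c, hc⟩ := exists_conj_mem_sylow (p := p) (S.subtype hSC)
    (H := (H.map (MulAut.conj g).toMonoidHom).subgroupOf _) (hH.map _).comap_subtype
  refine ⟨(c : G) * g, ?_, fun h hh => ?_⟩
  · rw [show (c : G) * g * b * ((c : G) * g)⁻¹ = c * (g * b * g⁻¹) * (c : G)⁻¹ by group, hg]
    exact mul_inv_eq_iff_eq_mul.2 (mem_centralizer_singleton_iff.1 c.2)
  · have := hc ⟨_, hHC ⟨h, hh, rfl⟩⟩ ⟨h, hh, rfl⟩
    have h9 : (c : G) * (g * h * g⁻¹) * (c : G)⁻¹ ∈ (S : Subgroup G) := this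
    show _ ∈ (S : Subgroup G)
    simpa [mul_assoc] using h9

theorem exists_odd_pow (g : G) : ∃ q : ℕ, Odd q ∧ IsPGroup 2 (Subgroup.zpowers (g ^ q)) := by
  obtain ⟨a, q, hq, hord⟩ := Nat.exists_eq_pow_mul_and_not_dvd (orderOf_pos g).ne' 2 (by norm_num)
  have hodd : Odd q := Nat.odd_iff.2 (Nat.two_dvd_ne_zero.1 hq)
  refine ⟨q, hodd, IsPGroup.of_card (n := a) ?_⟩
  rw [Nat.card_zpowers, orderOf_pow' g hodd.pos.ne', hord, Nat.gcd_mul_left_left,
    Nat.mul_div_cancel _ hodd.pos]

/-- Elements of a residual: commutators with elements of odd order. -/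
theorem comm_mem_pResidual {g : G} (hg : Odd (orderOf g)) (x : G) :
    x⁻¹ * (g * x * g⁻¹) ∈ Cfsg.pResidual 2 G := by
  have hn := CfsgLib.Transfer.pResidual_normal (G := G) (p := 2)
  have h1 := CfsgLib.Transfer.mem_pResidual_of_coprime (p := 2) (Nat.coprime_two_right.2 hg)
  have h2 := mul_mem (hn.conj_mem g h1 x⁻¹) (inv_mem h1)
  simpa [mul_assoc] using h2

/-- An upper bound on the residual from the fusion in a Sylow subgroup. -/
theorem inf_pResidual_le {p : ℕ} [Fact p.Prime] (P : Sylow p G) (M : Subgroup G)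
    (h : ∀ x ∈ (P : Subgroup G), ∀ g : G, g * x * g⁻¹ ∈ (P : Subgroup G) →
      x⁻¹ * (g * x * g⁻¹) ∈ M) :
    Cfsg.pResidual p G ⊓ (P : Subgroup G) ≤ M := by
  have h1 : Cfsg.pResidual p G ⊓ (P : Subgroup G) ≤ (P : Subgroup G).focalSubgroup := by
    rw [← ker_transferFocal_inf_eq_focalSubgroup P]
    exact inf_le_inf_right _ (CfsgLib.Transfer.pResidual_le_ker _ (P.2.to_quotient _))
  refine h1.trans ?_
  rw [Subgroup.focalSubgroup, closure_le]
  rintro _ ⟨hmem, x, hx, u, rfl⟩
  have hux : u * x⁻¹ * u⁻¹ ∈ (P : Subgroup G) := by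
    have := mul_mem (inv_mem hx) hmem
    simpa [commutatorElement_def, mul_assoc] using this
  have := h x⁻¹ (inv_mem hx) u hux
  simpa [commutatorElement_def, mul_assoc] using this

/-- The residual when its intersection with a Sylow subgroup is known. -/
theorem residual_package (P : Sylow 2 G) (M : Subgroup G)
    (hR : Cfsg.pResidual 2 G ⊓ (P : Subgroup G) = M) :
    (Cfsg.pResidual 2 G).Normal ∧ (Cfsg.pResidual 2 G).index = M.relIndex (P : Subgroup G) ∧
      (∀ Q : Sylow 2 (Cfsg.pResidual 2 G), Nonempty ((Q : Subgroup (Cfsg.pResidual 2 G)) ≃* M)) ∧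
      ∀ H : Subgroup (Cfsg.pResidual 2 G), H.index ≠ 2 := by
  set R := Cfsg.pResidual 2 G
  have hn : R.Normal := CfsgLib.Transfer.pResidual_normal
  refine ⟨hn, ?_, ?_, ?_⟩
  · have h1 : R.relIndex (R ⊔ (P : Subgroup G)) = R.relIndex (P : Subgroup G) := by
      rw [sup_comm, Subgroup.relIndex_sup_right]
    rw [CfsgLib.Transfer.pResidual_sup_sylow P, Subgroup.relIndex_top_right] at h1
    rw [h1, ← hR, Subgroup.inf_relIndex_right]
  · intro Q
    obtain ⟨Q₀, hQ₀⟩ := CfsgLib.Transfer.exists_sylow_eq_subgroupOf P R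
    refine ⟨(Sylow.equiv Q Q₀).trans ((MulEquiv.subgroupCongr hQ₀).trans ?_)⟩
    rw [← Subgroup.inf_subgroupOf_left, hR]
    exact Subgroup.subgroupOfEquivOfLe (hR ▸ inf_le_left)
  · intro H hH
    have := Subgroup.normal_of_index_eq_two hH
    have h2 : Cfsg.pResidual 2 R ≤ H :=
      CfsgLib.Transfer.pResidual_le_of_isPGroup_quotient (IsPGroup.of_card (n := 1) (by
        rw [← Subgroup.index_eq_card, hH, pow_one]))
    rw [CfsgLib.Transfer.pResidual_pResidual, top_le_iff] at h2
    rw [h2, Subgroup.index_top] at hH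
    omega

/-- Without an index two subgroup criterion: the residual contains a Sylow subgroup. -/
theorem no_index_two_of_le_residual (P : Sylow 2 G) (h : (P : Subgroup G) ≤ Cfsg.pResidual 2 G)
    (H : Subgroup G) : H.index ≠ 2 := by
  intro hH
  have := Subgroup.normal_of_index_eq_two hH
  have h1 : Cfsg.pResidual 2 G ≤ H :=
    CfsgLib.Transfer.pResidual_le_of_isPGroup_quotient (IsPGroup.of_card (n := 1) (by
      rw [← Subgroup.index_eq_card, hH, pow_one]))
  have h2 := CfsgLib.Transfer.pResidual_sup_sylow (p := 2) P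
  have h3 : (⊤ : Subgroup G) ≤ H := by
    rw [← h2]; exact sup_le h1 (h.trans h1)
  rw [top_le_iff.1 h3, Subgroup.index_top] at hH
  omega

/-! ### Quaternion groups of order eight -/

omit [Finite G] in
theorem q8_facts {Q : Subgroup G} (e : Q ≃* QuaternionGroup 2) {a b : G} (ha : a ∈ Q) (hb : b ∈ Q)
    (ha2 : a * a ≠ 1) (hb2 : b * b ≠ 1) (hab : b ≠ a) (hab' : b ≠ a⁻¹) :
    (∀ u ∈ Q, u = 1 ∨ u = a * a ∨ u = a ∨ u = a⁻¹ ∨ u = b ∨ u = b⁻¹ ∨ u = a * b ∨ u = (a * b)⁻¹) ∧
      b * a * b⁻¹ = a⁻¹ ∧ a * b * a⁻¹ = b⁻¹ ∧ (a * a) * (a * a) = 1 ∧ b * b = a * a ∧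
      a * b * (a * b) = a * a := by
  have key : ∀ v w : QuaternionGroup 2, v * v ≠ 1 → w * w ≠ 1 → w ≠ v → w ≠ v⁻¹ →
      (∀ u, u = 1 ∨ u = v * v ∨ u = v ∨ u = v⁻¹ ∨ u = w ∨ u = w⁻¹ ∨ u = v * w ∨ u = (v * w)⁻¹) ∧
      w * v * w⁻¹ = v⁻¹ ∧ v * w * v⁻¹ = w⁻¹ ∧ (v * v) * (v * v) = 1 ∧ w * w = v * v ∧
      v * w * (v * w) = v * v := by decide
  set f := e.symm.toMonoidHom
  have inj : ∀ p q : QuaternionGroup 2, ((f p : G) = f q) → p = q := fun p q h =>
    e.symm.injective (Subtype.ext h)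
  obtain ⟨v, rfl⟩ : ∃ v, (f v : G) = a := ⟨e ⟨a, ha⟩, by simp [f]⟩
  obtain ⟨w, rfl⟩ : ∃ w, (f w : G) = b := ⟨e ⟨b, hb⟩, by simp [f]⟩
  obtain ⟨k1, k2, k3, k4, k5, k6⟩ := key v w (fun h => ha2 (by rw [← Subgroup.coe_mul, ← map_mul, h]; simp))
    (fun h => hb2 (by rw [← Subgroup.coe_mul, ← map_mul, h]; simp)) (fun h => hab (by rw [h]))
    (fun h => hab' (by rw [h, map_inv, Subgroup.coe_inv]))
  refine ⟨fun u hu => ?_, ?_, ?_, ?_, ?_, ?_⟩
  · obtain ⟨p, rfl⟩ : ∃ p, (f p : G) = u := ⟨e ⟨u, hu⟩, by simp [f]⟩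
    rcases k1 p with h | h | h | h | h | h | h | h <;> rw [h] <;> simp
  all_goals simp only [← Subgroup.coe_mul, ← Subgroup.coe_inv, ← map_mul, ← map_inv]
  exacts [by rw [k2], by rw [k3], by rw [k4]; simp, by rw [k5], by rw [k6]]

omit [Finite G] in
theorem card_classes_one {p : G → Prop} {a : G} (ha : p a) (h : ∀ t, p t → IsConj t a) :
    Nat.card {C : ConjClasses G // ∃ t, p t ∧ ConjClasses.mk t = C} = 1 := by
  show Nat.card ({C : ConjClasses G | ∃ t, p t ∧ ConjClasses.mk t = C} : Set _) = 1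
  rw [show {C : ConjClasses G | ∃ t, p t ∧ ConjClasses.mk t = C} = {ConjClasses.mk a} from
    Set.ext fun C => ⟨fun ⟨t, ht, e⟩ => e ▸ ConjClasses.mk_eq_mk_iff_isConj.2 (h t ht),
      fun hC => ⟨a, ha, hC.symm⟩⟩]
  rw [Nat.card_coe_set_eq, Set.ncard_singleton]

omit [Finite G] in
theorem card_classes_two {p : G → Prop} {a b : G} (ha : p a) (hb : p b) (hab : ¬ IsConj a b)
    (h : ∀ t, p t → IsConj t a ∨ IsConj t b) :
    Nat.card {C : ConjClasses G // ∃ t, p t ∧ ConjClasses.mk t = C} = 2 := by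
  show Nat.card ({C : ConjClasses G | ∃ t, p t ∧ ConjClasses.mk t = C} : Set _) = 2
  rw [show {C : ConjClasses G | ∃ t, p t ∧ ConjClasses.mk t = C} =
      {ConjClasses.mk a, ConjClasses.mk b} from Set.ext fun C => ⟨fun ⟨t, ht, e⟩ => e ▸
        (h t ht).imp ConjClasses.mk_eq_mk_iff_isConj.2 ConjClasses.mk_eq_mk_iff_isConj.2,
      fun hC => hC.elim (fun e => ⟨a, ha, e.symm⟩) fun e => ⟨b, hb, e.symm⟩⟩]
  rw [Nat.card_coe_set_eq, Set.ncard_pair fun e => hab (ConjClasses.mk_eq_mk_iff_isConj.1 e)]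

omit [Finite G] in
theorem card_classes_three {p : G → Prop} {a b c : G} (ha : p a) (hb : p b) (hc : p c)
    (hab : ¬ IsConj a b) (hac : ¬ IsConj a c) (hbc : ¬ IsConj b c)
    (h : ∀ t, p t → IsConj t a ∨ IsConj t b ∨ IsConj t c) :
    Nat.card {C : ConjClasses G // ∃ t, p t ∧ ConjClasses.mk t = C} = 3 := by
  show Nat.card ({C : ConjClasses G | ∃ t, p t ∧ ConjClasses.mk t = C} : Set _) = 3
  rw [show {C : ConjClasses G | ∃ t, p t ∧ ConjClasses.mk t = C} =
      {ConjClasses.mk a, ConjClasses.mk b, ConjClasses.mk c} from Set.ext fun C => ⟨fun ⟨t, ht, e⟩ => e ▸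
        (h t ht).imp ConjClasses.mk_eq_mk_iff_isConj.2
          (Or.imp ConjClasses.mk_eq_mk_iff_isConj.2 ConjClasses.mk_eq_mk_iff_isConj.2),
      fun hC => hC.elim (fun e => ⟨a, ha, e.symm⟩) fun hC => hC.elim (fun e => ⟨b, hb, e.symm⟩)
        fun e => ⟨c, hc, e.symm⟩⟩]
  rw [Nat.card_coe_set_eq, Set.ncard_eq_three]
  exact ⟨_, _, _, fun e => hab (ConjClasses.mk_eq_mk_iff_isConj.1 e),
    fun e => hac (ConjClasses.mk_eq_mk_iff_isConj.1 e),
    fun e => hbc (ConjClasses.mk_eq_mk_iff_isConj.1 e), rfl⟩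

end CfsgLib.Invol
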