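import Cfsg.Agent.Lib.Invol.TransferChain
import Cfsg.Agent.Lib.Transfer.Focal
import Cfsg.Agent.Lib.Transfer.PPrimeAut
import Mathlib.Algebra.Group.ForwardDiff

/-!
The transfer argument for weakly closed subgroups: if the normalizer of a weakly closed subgroup
does not control transfer, then some iterated commutator with `p - 1` entries is large.
-/

set_option autoImplicit false
set_option linter.style.haveILetI false

open Subgroup
open scoped fwdDiff

namespace CfsgLib.Invol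

section

variable {p : ℕ} [Fact p.Prime]

/-- `(-1)^(p-1-k) C(p-1,k) = 1` modulo `p`. -/
theorem signed_choose_pred {k : ℕ} (hk : k ≤ p - 1) :
    (-1 : ZMod p) ^ (p - 1 - k) * ((p - 1).choose k : ZMod p) = 1 := by
  have hp := (Fact.out : p.Prime)
  have key : ∀ j, j ≤ p - 1 → ((p - 1).choose j : ZMod p) = (-1) ^ j := by
    intro j
    induction j with
    | zero => intro _; simp
    | succ j ih =>
      intro hj
      have h1 : (p.choose (j + 1) : ZMod p) = 0 :=
        (ZMod.natCast_eq_zero_iff _ _).2 (hp.dvd_choose_self (Nat.succ_ne_zero j) (by omega))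
      have h2 : p.choose (j + 1) = (p - 1).choose j + (p - 1).choose (j + 1) := by
        conv_lhs => rw [← Nat.sub_one_add_one hp.ne_zero]
        exact Nat.choose_succ_succ' _ _
      rw [h2, Nat.cast_add, ih (by omega)] at h1
      rw [pow_succ]
      linear_combination h1
  rw [key k hk, ← pow_add, Nat.sub_add_cancel hk]
  exact ZMod.pow_card_sub_one_eq_one (neg_ne_zero.2 one_ne_zero)

variable {P : Type*} [Group P] {A : Type*} [CommGroup A]

theorem conjPow_mem {M : Subgroup P} [M.Normal] {y : P} (hy : y ∈ M) (z : P) :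
    z⁻¹ * y * z ∈ M := by
  simpa using (inferInstance : M.Normal).conj_mem y hy z⁻¹

/-- An iterated commutator evaluated by a homomorphism to an elementary abelian `p`-group is the
product over the conjugates. -/
theorem iterate_comm_eq_prod (M : Subgroup P) [M.Normal] (χ : M →* A) (hA : ∀ a : A, a ^ p = 1)
    (z : P) (y : M) :
    ∃ hc : (fun v : P => v⁻¹ * z⁻¹ * v * z)^[p - 1] (y : P) ∈ M,
      χ ⟨_, hc⟩ = ∏ i ∈ Finset.range p, χ ⟨(z ^ i)⁻¹ * y * z ^ i, conjPow_mem y.2 (z ^ i)⟩ := by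
  have hp := (Fact.out : p.Prime)
  let D : M → M := fun w => w⁻¹ * ⟨z⁻¹ * w * z, conjPow_mem w.2 z⟩
  let f : P → P := fun v => v⁻¹ * z⁻¹ * v * z
  have hD : Function.Semiconj (fun w : M => (w : P)) D f := fun w => by
    show (w : P)⁻¹ * (z⁻¹ * w * z) = (w : P)⁻¹ * z⁻¹ * w * z
    simp [mul_assoc]
  have hDn : ((D^[p - 1] y : M) : P) = f^[p - 1] (y : P) := hD.iterate_right (p - 1) y
  refine ⟨hDn ▸ (D^[p - 1] y).2, ?_⟩
  let F : M → ℕ → Additive A := fun w i =>
    Additive.ofMul (χ ⟨(z ^ i)⁻¹ * w * z ^ i, conjPow_mem w.2 (z ^ i)⟩)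
  have hF : ∀ w, F (D w) = Δ_[1] (F w) := by
    intro w
    funext i
    show Additive.ofMul _ = Additive.ofMul _ - Additive.ofMul _
    rw [← ofMul_div, div_eq_inv_mul, ← map_inv, ← map_mul]
    congr 2
    refine Subtype.ext ?_
    show (z ^ i)⁻¹ * ((w : P)⁻¹ * (z⁻¹ * w * z)) * z ^ i =
      ((z ^ i)⁻¹ * w * z ^ i)⁻¹ * ((z ^ (i + 1))⁻¹ * w * z ^ (i + 1))
    simp only [pow_succ', mul_inv_rev, inv_inv, mul_assoc, mul_inv_cancel_left]
  have hFn : ∀ n, F (D^[n] y) = (fwdDiff (1 : ℕ))^[n] (F y) := by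
    intro n
    induction n with
    | zero => rfl
    | succ n ih => rw [Function.iterate_succ_apply', hF, ih, Function.iterate_succ_apply']
  have h0 := congrFun (hFn (p - 1)) 0
  rw [fwdDiff_iter_eq_sum_shift, Nat.sub_add_cancel hp.one_le] at h0
  have hsmul : ∀ k ∈ Finset.range p,
      ((-1 : ℤ) ^ (p - 1 - k) * ((p - 1).choose k : ℤ)) • F y (0 + k • 1) = F y k := by
    intro k hk
    rw [smul_eq_mul, mul_one, zero_add]
    have h1 : ((((-1 : ℤ) ^ (p - 1 - k) * ((p - 1).choose k : ℤ)) - 1 : ℤ) : ZMod p) = 0 := by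
      push_cast
      rw [signed_choose_pred (Nat.le_sub_one_of_lt (Finset.mem_range.1 hk)), sub_self]
    obtain ⟨d, hd⟩ := (ZMod.intCast_zmod_eq_zero_iff_dvd _ _).1 h1
    rw [sub_eq_iff_eq_add] at hd
    rw [hd, add_smul, one_smul, mul_comm, mul_smul, natCast_zsmul]
    have hz : p • F y k = 0 := by
      show p • Additive.ofMul _ = Additive.ofMul 1
      rw [← ofMul_pow, hA]
    rw [hz, smul_zero, zero_add]
  rw [Finset.sum_congr rfl hsmul] at h0
  have h1 : Additive.ofMul (χ ⟨_, (hDn ▸ (D^[p - 1] y).2 : f^[p - 1] (y : P) ∈ M)⟩) =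
      F (D^[p - 1] y) 0 := by
    show _ = Additive.ofMul _
    congr 2
    refine Subtype.ext ?_
    show f^[p - 1] (y : P) = (z ^ 0)⁻¹ * _ * z ^ 0
    rw [hDn, pow_zero, inv_one, one_mul, mul_one]
  apply Additive.ofMul.injective
  rw [h1, h0, ofMul_prod]

variable [Finite P]

/-- The `p`-group part of the transfer argument. -/
theorem engel_transfer_core (hP : IsPGroup p P) (W R : Subgroup P)
    [W.Normal] (hWR : ¬ W ≤ R) (φ : R →* A) (x : P) (hx : MonoidHom.transfer φ x ≠ 1)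
    (hmin : ∀ σ : R, orderOf (σ : P) < orderOf x → φ σ = 1) :
    ∃ (U : Subgroup P) (M : Subgroup U) (_ : M.Normal) (z : U) (y : M) (χ : M →* A),
      W ≤ U ∧ M.index = p ∧ (z : P) ∈ W ∧ z ∉ M ∧
        ∏ i ∈ Finset.range p, χ ⟨(z ^ i)⁻¹ * y * z ^ i, conjPow_mem y.2 (z ^ i)⟩ ≠ 1 := by
  have hp := (Fact.out : p.Prime)
  set U := R ⊔ W with hUdef
  have hRU : R ≤ U := le_sup_left
  have hWU : W ≤ U := le_sup_right
  rw [transfer_trans hRU] at hx
  obtain ⟨m, g₀, hm, hy1⟩ := exists_of_transfer_ne_one _ x hx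
  set y : U := ⟨_, hm⟩ with hydef
  have hyord : orderOf (y : P) ≤ orderOf x := by
    have h1 : orderOf (y : P) = orderOf (x ^ m) := by
      show orderOf (g₀⁻¹ * x ^ m * g₀) = _
      conv_lhs => rw [show g₀⁻¹ * x ^ m * g₀ = MulAut.conj g₀⁻¹ (x ^ m) by simp]
      exact MulEquiv.orderOf_eq (MulAut.conj g₀⁻¹) (x ^ m)
    rw [h1]
    exact Nat.le_of_dvd (orderOf_pos x) (orderOf_pow_dvd m)
  have hR' : R.subgroupOf U ≠ ⊤ := fun h => hWR (hWU.trans (subgroupOf_eq_top.1 h))
  obtain ⟨M, hM, hRM⟩ := (eq_top_or_exists_le_coatom (R.subgroupOf U)).resolve_left hR'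
  obtain ⟨hMn, hMi⟩ := CfsgLib.Transfer.coatom_index_eq_prime (hP.to_subgroup U) hM
  obtain ⟨z, hzW, hzM⟩ : ∃ z : U, (z : P) ∈ W ∧ z ∉ M := by
    by_contra hno
    push Not at hno
    refine hM.1 (top_le_iff.1 ?_)
    have h5 := subgroupOf_sup hRU hWU
    rw [← hUdef, subgroupOf_self] at h5
    rw [h5]
    exact sup_le hRM fun w hw => hno w hw
  have hyM : y ∈ M := by
    by_contra hyM
    obtain ⟨m', g₁, hm', hne⟩ := exists_of_transfer_ne_one _ y hy1
    apply hne
    refine hmin ⟨_, mem_subgroupOf.1 hm'⟩ (lt_of_lt_of_le ?_ hyord)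
    have h2 : y ^ m' ∈ M := by
      have := hMn.conj_mem _ (hRM hm') g₁
      simpa [mul_assoc] using this
    have hpm : p ∣ m' := by
      by_contra hc
      obtain ⟨n, hn⟩ := IsPGroup.iff_orderOf.1 (hP.to_subgroup U) y
      obtain ⟨l, hl⟩ := exists_pow_eq_self_of_coprime (x := y)
        (hn ▸ ((hp.coprime_iff_not_dvd.2 hc).symm.pow_right n))
      exact hyM (hl ▸ pow_mem h2 l)
    have hy_ne : (y : P) ≠ 1 := fun h => hyM (by rw [show y = 1 from Subtype.ext h]; exact one_mem M)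
    have hpdvd : p ∣ orderOf (y : P) := by
      obtain ⟨n, hn⟩ := IsPGroup.iff_orderOf.1 hP (y : P)
      rw [hn]
      refine dvd_pow_self p fun h0 => hy_ne ?_
      rwa [h0, pow_zero, orderOf_eq_one_iff] at hn
    obtain ⟨j, rfl⟩ := hpm
    show orderOf (((g₁⁻¹ * y ^ (p * j) * g₁ : U)) : P) < _
    rw [Subgroup.coe_mul, Subgroup.coe_mul, Subgroup.coe_inv, SubgroupClass.coe_pow,
      show (g₁ : P)⁻¹ * (y : P) ^ (p * j) * g₁ = MulAut.conj (g₁ : P)⁻¹ ((y : P) ^ (p * j)) by simp,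
      MulEquiv.orderOf_eq, pow_mul]
    refine lt_of_le_of_lt (Nat.le_of_dvd (orderOf_pos _) (orderOf_pow_dvd j)) ?_
    rw [orderOf_pow_of_dvd hp.ne_zero hpdvd]
    exact Nat.div_lt_self (orderOf_pos _) hp.one_lt
  refine ⟨U, M, hMn, z, ⟨y, hyM⟩,
    MonoidHom.transfer (innerHom (U := M) (innerHom (U := U) φ)), hWU, hMi, hzW, hzM, ?_⟩
  have hy2 : MonoidHom.transfer (MonoidHom.transfer (innerHom (U := M) (innerHom (U := U) φ)))
      ((⟨y, hyM⟩ : M) : U) ≠ 1 := by
    rw [← transfer_trans hRM]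
    exact hy1
  classical
  haveI := Fintype.ofFinite (U ⧸ M)
  let e : Fin p → U ⧸ M := fun i => QuotientGroup.mk (z ^ (i : ℕ))
  have hzpow : ∀ d : ℕ, 0 < d → d < p → z ^ d ∉ M := by
    intro d hd0 hdp h2
    obtain ⟨n, hn⟩ := IsPGroup.iff_orderOf.1 (hP.to_subgroup U) z
    obtain ⟨l, hl⟩ := exists_pow_eq_self_of_coprime (x := z) (n := d)
      (hn ▸ ((hp.coprime_iff_not_dvd.2 (Nat.not_dvd_of_pos_of_lt hd0 hdp)).symm.pow_right n))
    exact hzM (hl ▸ pow_mem h2 l)
  have key : ∀ i j : Fin p, (i : ℕ) < j → e i ≠ e j := by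
    intro i j hlt hij
    refine hzpow ((j : ℕ) - i) (by omega) (by omega) ?_
    have h3 := QuotientGroup.eq.1 hij
    rwa [show (z ^ (i : ℕ))⁻¹ * z ^ (j : ℕ) = z ^ ((j : ℕ) - i) by
      rw [inv_mul_eq_iff_eq_mul, ← pow_add, Nat.add_sub_cancel' (le_of_lt hlt)]] at h3
  have he : Function.Bijective e := by
    refine (Nat.bijective_iff_injective_and_card e).2 ⟨fun i j hij => ?_, ?_⟩
    · rcases lt_trichotomy (i : ℕ) j with hlt | heq | hlt
      · exact absurd hij (key i j hlt)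
      · exact Fin.ext heq
      · exact absurd hij.symm (key j i hlt)
    · rw [Nat.card_fin, ← index_eq_card, hMi]
  let E := Equiv.ofBijective e he
  let t : U ⧸ M → U := fun q => z ^ ((E.symm q : Fin p) : ℕ)
  have ht : ∀ q, (QuotientGroup.mk (t q) : U ⧸ M) = q := fun q => E.apply_symm_apply q
  rw [transfer_normal _ _ t ht, ← E.prod_comp] at hy2
  rw [← Fin.prod_univ_eq_prod_range
    (fun i => MonoidHom.transfer (innerHom (U := M) (innerHom (U := U) φ))
      ⟨(z ^ i)⁻¹ * y * z ^ i, conjPow_mem hyM (z ^ i)⟩) p]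
  refine fun h => hy2 ?_
  rw [← h]
  refine (Finset.prod_congr rfl fun i _ => ?_).symm
  congr 1
  refine Subtype.ext ?_
  show (z ^ (i : ℕ))⁻¹ * y * z ^ (i : ℕ) = (t (E i))⁻¹ * y * t (E i)
  simp [t]

end

section

universe u

variable {G : Type u} [Group G] [Finite G] {p : ℕ} [Fact p.Prime]

/-- A homomorphism of a subgroup of index prime to `p` onto an elementary abelian `p`-group, with
trivial transfer, not killing all of `P`. -/
theorem exists_hom_transfer_eq_one (P : Sylow p G) (H : Subgroup G) (hPH : (P : Subgroup G) ≤ H)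
    {g : G} (hgP : g ∈ (P : Subgroup G)) (hgG : g ∈ _root_.commutator G) (hgH : g ∉ ⁅H, H⁆) :
    ∃ (A : Type u) (_ : CommGroup A) (θ : H →* A), (∀ a : A, a ^ p = 1) ∧
      (∀ x : G, MonoidHom.transfer θ x = 1) ∧
      ∃ h : H, (h : G) ∈ (P : Subgroup G) ∧ θ h ≠ 1 := by
  classical
  have hp := (Fact.out : p.Prime)
  set gH : H := ⟨g, hPH hgP⟩
  have hof : Abelianization.of gH ≠ 1 := by
    intro h1
    apply hgH
    have h2 : gH ∈ _root_.commutator H := (Abelianization.ker_of H).le (MonoidHom.mem_ker.2 h1)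
    have h3 : (gH : G) ∈ (_root_.commutator H).map H.subtype := mem_map_of_mem _ h2
    rwa [_root_.commutator_def, map_commutator, ← MonoidHom.range_eq_map, range_subtype] at h3
  set n := Nat.card (Abelianization H) with hn
  have hn0 : n ≠ 0 := Nat.card_pos.ne'
  set k := n.factorization p with hk
  set m := ordCompl[p] n with hmdef
  have hkm : p ^ k * m = n := Nat.ordProj_mul_ordCompl_eq_self n p
  have hpm : ¬ p ∣ m := Nat.not_dvd_ordCompl hp hn0
  let η : H →* Abelianization H := (powMonoidHom m).comp Abelianization.of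
  have hηk : ∀ h : H, η h ^ p ^ k = 1 := fun h => by
    show (Abelianization.of h ^ m) ^ p ^ k = 1
    rw [← pow_mul, mul_comm, hkm]
    exact pow_card_eq_one'
  let V : G →* Abelianization H := MonoidHom.transfer η
  have hVk : ∀ x, V x ^ p ^ k = 1 := by
    intro x
    haveI := Fintype.ofFinite (G ⧸ H)
    show MonoidHom.transfer η x ^ p ^ k = 1
    rw [transfer_eq_prod_sect _ Quotient.out (fun q => q.out_eq') x, ← Finset.prod_pow]
    exact Finset.prod_eq_one fun q _ => hηk _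
  have hidx : H.index.Coprime (p ^ k) :=
    ((hp.coprime_iff_not_dvd.2 fun h =>
      P.not_dvd_index (h.trans (index_dvd_of_le hPH))).symm).pow_right k
  obtain ⟨c, d, hcd⟩ : ∃ c d : ℤ, (H.index : ℤ) * c + (p ^ k : ℕ) * d = 1 := by
    refine ⟨Nat.gcdA H.index (p ^ k), Nat.gcdB H.index (p ^ k), ?_⟩
    rw [← Nat.gcd_eq_gcd_ab, hidx.gcd_eq_one, Nat.cast_one]
  let F : G →* Abelianization H := (zpowGroupHom c).comp V
  have hF : ∀ x, F x ^ H.index = V x := by
    intro x
    show (V x ^ c) ^ H.index = V x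
    rw [← zpow_natCast, ← zpow_mul, mul_comm c, eq_sub_of_add_eq hcd, zpow_sub, zpow_one,
      zpow_mul, zpow_natCast, hVk, one_zpow, inv_one, mul_one]
  let η' : H →* Abelianization H := η / F.comp H.subtype
  have hη'T : ∀ x, MonoidHom.transfer η' x = 1 := fun x => by
    show MonoidHom.transfer (η / F.comp H.subtype) x = 1
    rw [transfer_div, transfer_restrict, hF]
    exact div_self' (V x)
  have hη'g : η' gH ≠ 1 := by
    have hVg : V g = 1 := Abelianization.commutator_subset_ker V hgG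
    show η gH / V g ^ c ≠ 1
    rw [hVg, one_zpow, div_one]
    intro h1
    apply hof
    obtain ⟨l, hl⟩ := IsPGroup.iff_orderOf.1 P.2 (⟨g, hgP⟩ : (P : Subgroup G))
    have h2 : Abelianization.of gH ^ p ^ l = 1 := by
      rw [← map_pow, show gH ^ p ^ l = 1 from Subtype.ext (show g ^ p ^ l = 1 by
        have := pow_orderOf_eq_one (⟨g, hgP⟩ : (P : Subgroup G))
        rw [hl] at this
        exact congrArg Subtype.val this), map_one]
    have h3 : orderOf (Abelianization.of gH) = 1 :=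
      Nat.eq_one_of_dvd_coprimes (((hp.coprime_iff_not_dvd.2 hpm).pow_left l).symm)
        (orderOf_dvd_of_pow_eq_one h1) (orderOf_dvd_of_pow_eq_one h2)
    exact orderOf_eq_one_iff.1 h3
  let A₁ := η'.range
  have hA₁ : ∀ a : A₁, a ^ p ^ k = 1 := by
    rintro ⟨_, h, rfl⟩
    refine Subtype.ext ?_
    show (η h / F (h : G)) ^ p ^ k = 1
    rw [div_pow, hηk]
    show 1 / ((V (h : G)) ^ c) ^ p ^ k = 1
    rw [← zpow_natCast, ← zpow_mul, mul_comm c, zpow_mul, zpow_natCast, hVk, one_zpow, div_one]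
  let N : Subgroup A₁ := (powMonoidHom p : A₁ →* A₁).range
  have hN : N ≠ ⊤ := by
    intro htop
    have hsurj : Function.Surjective (powMonoidHom p : A₁ →* A₁) := fun a =>
      (htop.ge (mem_top a) : a ∈ N)
    have hinj := Finite.injective_iff_surjective.2 hsurj
    have hA1 : ∀ a : A₁, a = 1 := by
      intro a
      have : ∀ j, a ^ p ^ j = 1 → a = 1 := by
        intro j
        induction j with
        | zero => intro h; simpa using h
        | succ j ih =>
          intro h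
          refine ih (hinj ?_)
          show (a ^ p ^ j) ^ p = (1 : A₁) ^ p
          rw [one_pow, ← pow_mul, ← pow_succ, h]
      exact this k (hA₁ a)
    exact hη'g (congrArg Subtype.val (hA1 ⟨η' gH, gH, rfl⟩))
  let θ : H →* A₁ ⧸ N := (QuotientGroup.mk' N).comp η'.rangeRestrict
  refine ⟨A₁ ⧸ N, inferInstance, θ, ?_, ?_, ?_⟩
  · intro a
    obtain ⟨a, rfl⟩ := QuotientGroup.mk'_surjective N a
    rw [← map_pow]
    exact (QuotientGroup.eq_one_iff _).2 ⟨a, rfl⟩
  · intro x
    have h1 : MonoidHom.transfer η'.rangeRestrict x = 1 := Subtype.ext (by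
      show A₁.subtype _ = _
      rw [← map_transfer, MonoidHom.subtype_comp_rangeRestrict, hη'T]
      rfl)
    show MonoidHom.transfer ((QuotientGroup.mk' N).comp η'.rangeRestrict) x = 1
    rw [map_transfer, h1, map_one]
  · obtain ⟨a, ha⟩ : ∃ a : A₁, a ∉ N := by
      by_contra hall
      push Not at hall
      exact hN (top_le_iff.1 fun a _ => hall a)
    obtain ⟨h, rfl⟩ := η'.rangeRestrict_surjective a
    have hh : θ h ≠ 1 := fun h1 => ha ((QuotientGroup.eq_one_iff _).1 h1)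
    set r := ordCompl[p] (orderOf h) with hr
    have hr1 : θ (h ^ r) ≠ 1 := by
      rw [map_pow]
      intro h1
      apply hh
      have h2 : θ h ^ p ^ 1 = 1 := by
        rw [pow_one]
        obtain ⟨a, ha'⟩ := QuotientGroup.mk'_surjective N (θ h)
        rw [← ha', ← map_pow]
        exact (QuotientGroup.eq_one_iff _).2 ⟨a, rfl⟩
      exact orderOf_eq_one_iff.1 (Nat.eq_one_of_dvd_coprimes
        (((hp.coprime_iff_not_dvd.2 (Nat.not_dvd_ordCompl hp (orderOf_pos h).ne')).pow_left 1).symm)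
        (orderOf_dvd_of_pow_eq_one h1) (orderOf_dvd_of_pow_eq_one h2))
    have hpg : IsPGroup p (zpowers (h ^ r)) := by
      refine IsPGroup.of_card (n := (orderOf h).factorization p) ?_
      rw [Nat.card_zpowers, orderOf_pow_of_dvd (Nat.ordCompl_pos p (orderOf_pos h).ne').ne'
        (Nat.ordCompl_dvd _ _)]
      exact Nat.div_eq_of_eq_mul_left (Nat.ordCompl_pos p (orderOf_pos h).ne')
        (Nat.ordProj_mul_ordCompl_eq_self _ _).symm
    obtain ⟨T, hT⟩ := hpg.exists_le_sylow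
    obtain ⟨u, hu⟩ := MulAction.exists_smul_eq H (P.subtype hPH) T
    have hmem : u⁻¹ * h ^ r * u ∈ (P.subtype hPH : Subgroup H) :=
      CfsgLib.Transfer.sylow_smul_mem_iff.1 (hu ▸ hT (mem_zpowers _))
    refine ⟨u⁻¹ * h ^ r * u, mem_subgroupOf.1 hmem, ?_⟩
    rw [map_mul, map_mul, map_inv, mul_comm, mul_inv_cancel_left]
    exact hr1

/-- The transfer obstruction attached to a weakly closed subgroup. -/
theorem exists_engel_obstruction (P : Sylow p G) (W : Subgroup G)
    (hW : Cfsg.IsWeaklyClosed W (P : Subgroup G))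
    (h : (P : Subgroup G) ⊓ _root_.commutator G ≠
      (P : Subgroup G) ⊓ ⁅normalizer (W : Set G), normalizer (W : Set G)⁆) :
    ∃ (A : Type u) (_ : CommGroup A), (∀ a : A, a ^ p = 1) ∧
    ∃ (U : Subgroup (P : Subgroup G)) (M : Subgroup U) (_ : M.Normal) (z : U) (y : M) (χ : M →* A),
      W.subgroupOf (P : Subgroup G) ≤ U ∧ M.index = p ∧
        (z : (P : Subgroup G)) ∈ W.subgroupOf (P : Subgroup G) ∧ z ∉ M ∧
        ∏ i ∈ Finset.range p, χ ⟨(z ^ i)⁻¹ * y * z ^ i, conjPow_mem y.2 (z ^ i)⟩ ≠ 1 := by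
  classical
  set H := normalizer (W : Set G)
  have hPH : (P : Subgroup G) ≤ H := fun s hs =>
    mem_normalizer_iff_map_conj_eq.2 (hW.2 s (by
      rintro _ ⟨w, hw, rfl⟩
      exact mul_mem (mul_mem hs (hW.1 hw)) (inv_mem hs)))
  obtain ⟨g, hgP, hgG, hgH⟩ : ∃ g, g ∈ (P : Subgroup G) ∧ g ∈ _root_.commutator G ∧ g ∉ ⁅H, H⁆ := by
    by_contra hno
    push Not at hno
    exact h (le_antisymm (le_inf inf_le_left fun g hg => hno g hg.1 hg.2)
      (inf_le_inf_left _ (commutator_mono le_top le_top)))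
  obtain ⟨A, _, θ, hA, hθT, hex⟩ := exists_hom_transfer_eq_one P H hPH hgP hgG hgH
  have hex' : ∃ n, ∃ h : H, (h : G) ∈ (P : Subgroup G) ∧ θ h ≠ 1 ∧ orderOf (h : G) = n := by
    obtain ⟨h, h1, h2⟩ := hex
    exact ⟨_, h, h1, h2, rfl⟩
  obtain ⟨xH, hxP, hxθ, hxn⟩ := Nat.find_spec hex'
  have hmin : ∀ w : H, IsPGroup p (zpowers w) → orderOf (w : G) < orderOf (xH : G) → θ w = 1 := by
    intro w hw hlt
    obtain ⟨T, hT⟩ := hw.exists_le_sylow
    obtain ⟨u, hu⟩ := MulAction.exists_smul_eq H (P.subtype hPH) T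
    have hmem : u⁻¹ * w * u ∈ (P.subtype hPH : Subgroup H) :=
      CfsgLib.Transfer.sylow_smul_mem_iff.1 (hu ▸ hT (mem_zpowers w))
    by_contra hne
    refine Nat.find_min hex' (hxn ▸ hlt) ⟨u⁻¹ * w * u, mem_subgroupOf.1 hmem, ?_, ?_⟩
    · rwa [map_mul, map_mul, map_inv, mul_comm, mul_inv_cancel_left]
    · rw [orderOf_coe, orderOf_coe, show u⁻¹ * w * u = MulAut.conj u⁻¹ w by simp,
        MulEquiv.orderOf_eq]
  set S := (P : Subgroup G)
  set x : S := ⟨xH, hxP⟩
  haveI := Fintype.ofFinite (Quotient (MulAction.orbitRel S (G ⧸ H)))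
  have hsum := transfer_eq_prod_orbits θ S x
  rw [hθT] at hsum
  set ω₀ : Quotient (MulAction.orbitRel S (G ⧸ H)) := Quotient.mk'' (QuotientGroup.mk (1 : G))
  have hω₀ : ω₀.out = (QuotientGroup.mk (1 : G) : G ⧸ H) := by
    obtain ⟨σ, hσ⟩ := Quotient.exact
      (ω₀.out_eq : Quotient.mk'' ω₀.out = Quotient.mk'' (QuotientGroup.mk (1 : G)))
    rw [← hσ]
    show (QuotientGroup.mk ((σ : G) * 1) : G ⧸ H) = QuotientGroup.mk 1
    rw [mul_one, QuotientGroup.eq, mul_one]
    exact inv_mem (hPH σ.2)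
  have hval : MonoidHom.transfer (stabConj θ S ω₀.out.out (MulAction.stabilizer S ω₀.out)
      (stab_conj_mem S ω₀.out)) x ≠ 1 := by
    have hstab : MulAction.stabilizer S ω₀.out = ⊤ := by
      refine top_le_iff.1 fun σ _ => ?_
      rw [MulAction.mem_stabilizer_iff, hω₀]
      show (QuotientGroup.mk ((σ : G) * 1) : G ⧸ H) = QuotientGroup.mk 1
      rw [mul_one, QuotientGroup.eq, mul_one]
      exact inv_mem (hPH σ.2)
    haveI : Subsingleton (S ⧸ MulAction.stabilizer S ω₀.out) := by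
      rw [hstab]; exact QuotientGroup.subsingleton_quotient_top
    haveI := Fintype.ofFinite (S ⧸ MulAction.stabilizer S ω₀.out)
    rw [transfer_eq_prod_sect _ (fun _ => 1) (fun q => Subsingleton.elim _ _),
      Fintype.prod_subsingleton _ (QuotientGroup.mk 1)]
    have hu : ω₀.out.out ∈ H := by
      have h1 : (QuotientGroup.mk ω₀.out.out : G ⧸ H) = QuotientGroup.mk 1 :=
        (ω₀.out.out_eq').trans hω₀
      have h2 := QuotientGroup.eq.1 h1.symm
      simpa using h2
    show θ _ ≠ 1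
    intro h1
    apply hxθ
    rw [← h1]
    have h3 : (⟨ω₀.out.out, hu⟩ : H)⁻¹ * xH * ⟨ω₀.out.out, hu⟩ =
        ⟨ω₀.out.out⁻¹ * (((1 : S))⁻¹ * x * 1 : S) * ω₀.out.out,
          stab_conj_mem S ω₀.out _ (hstab.ge (mem_top _))⟩ := Subtype.ext (by simp [x])
    show θ xH = θ ⟨_, stab_conj_mem S ω₀.out ((1 : S)⁻¹ * x * 1) (hstab.ge (mem_top _))⟩
    rw [← h3, map_mul, map_mul, map_inv, mul_comm, mul_inv_cancel_left]
  obtain ⟨ω, hω, hne⟩ : ∃ ω, ω ≠ ω₀ ∧ MonoidHom.transfer (stabConj θ S ω.out.out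
      (MulAction.stabilizer S ω.out) (stab_conj_mem S ω.out)) x ≠ 1 := by
    by_contra hno
    push Not at hno
    apply hval
    rw [hsum, Finset.prod_eq_single ω₀ (fun ω _ hω => hno ω hω) (fun h => absurd (Finset.mem_univ _) h)]
  set q := ω.out with hq
  set g₀ := q.out with hg₀
  have hWn : (W.subgroupOf S).Normal := ⟨fun w hw s => by
    rw [mem_subgroupOf] at hw ⊢
    exact (mem_normalizer_iff.1 (hPH s.2) (w : G)).1 hw⟩
  have hWR : ¬ W.subgroupOf S ≤ MulAction.stabilizer S q := by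
    intro hle
    have hconj : W.map (MulAut.conj g₀⁻¹).toMonoidHom ≤ H := by
      rintro _ ⟨w, hw, rfl⟩
      have h1 := stab_conj_mem S q ⟨w, hW.1 hw⟩ (hle hw)
      simpa using h1
    obtain ⟨T, hT⟩ := (((P.2.to_le hW.1).map (MulAut.conj g₀⁻¹).toMonoidHom).comap_subtype
      (K := H)).exists_le_sylow
    obtain ⟨u, hu⟩ := MulAction.exists_smul_eq H (P.subtype hPH) T
    have hb : ((u : G)⁻¹ * g₀⁻¹) ∈ H := mem_normalizer_iff_map_conj_eq.2 (hW.2 _ (by
      rintro _ ⟨w, hw, rfl⟩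
      have h1 : g₀⁻¹ * w * g₀ ∈ H := hconj ⟨w, hw, by simp⟩
      have h2 := CfsgLib.Transfer.sylow_smul_mem_iff.1
        (hu ▸ hT (show (⟨g₀⁻¹ * w * g₀, h1⟩ : H) ∈ _ from ⟨w, hw, by simp⟩))
      have h3 : u⁻¹ * ⟨g₀⁻¹ * w * g₀, h1⟩ * u ∈ (P.subtype hPH : Subgroup H) := h2
      simpa [mem_subgroupOf, mul_assoc] using h3))
    have hg : g₀ ∈ H := by
      have := inv_mem (mul_mem u.2 hb)
      simpa using this
    apply hω
    rw [← ω.out_eq]
    show Quotient.mk'' q = Quotient.mk'' (QuotientGroup.mk (1 : G))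
    rw [← q.out_eq']
    congr 1
    rw [QuotientGroup.eq, mul_one]
    exact inv_mem hg
  haveI := hWn
  obtain ⟨U, M, hMn, z, y, χ, h1, h2, h3, h4, h5⟩ := engel_transfer_core P.2 (W.subgroupOf S)
    (MulAction.stabilizer S q) hWR _ x hne (fun σ hσ => by
      refine hmin ⟨g₀⁻¹ * ((σ : S) : G) * g₀, stab_conj_mem S q _ σ.2⟩ ?_ ?_
      · obtain ⟨n, hn⟩ := IsPGroup.iff_orderOf.1 P.2 (σ : S)
        refine IsPGroup.of_card (n := n) ?_
        rw [Nat.card_zpowers, ← orderOf_coe]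
        show orderOf (g₀⁻¹ * ((σ : S) : G) * g₀) = p ^ n
        rw [show g₀⁻¹ * ((σ : S) : G) * g₀ = MulAut.conj g₀⁻¹ ((σ : S) : G) by simp,
          MulEquiv.orderOf_eq, orderOf_coe, hn]
      · show orderOf (g₀⁻¹ * ((σ : S) : G) * g₀) < _
        rw [show g₀⁻¹ * ((σ : S) : G) * g₀ = MulAut.conj g₀⁻¹ ((σ : S) : G) by simp,
          MulEquiv.orderOf_eq, orderOf_coe]
        rwa [show orderOf x = orderOf (xH : G) from (orderOf_coe x).symm] at hσ)
  exact ⟨A, inferInstance, hA, U, M, hMn, z, y, χ, h1, h2, h3, h4, h5⟩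

omit [Finite G] in
theorem isCoatom_of_prime_index [Finite G] {M : Subgroup G} (hq : M.index.Prime) : IsCoatom M := by
  refine ⟨fun h => ?_, fun N hN => ?_⟩
  · rw [h, index_top] at hq; exact Nat.not_prime_one hq
  · have hmul := relIndex_mul_index hN.le
    rcases hq.eq_one_or_self_of_dvd N.index ⟨M.relIndex N, by rw [mul_comm]; exact hmul.symm⟩ with
      h1 | h1
    · exact index_eq_one.1 h1
    · rw [h1] at hmul
      have : M.relIndex N = 1 := by
        refine Nat.eq_of_mul_eq_mul_right hq.pos ?_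
        rw [hmul, one_mul]
      exact absurd (le_antisymm hN.le (relIndex_eq_one.1 this)) hN.ne

/-- An iterated commutator with `p - 1` entries from a weakly closed subgroup is outside the Frattini
subgroup of a maximal subgroup, unless the normalizer controls transfer. -/
theorem exists_engel_commutator (P : Sylow p G) (W : Subgroup G)
    (hW : Cfsg.IsWeaklyClosed W (P : Subgroup G))
    (h : (P : Subgroup G) ⊓ _root_.commutator G ≠
      (P : Subgroup G) ⊓ ⁅normalizer (W : Set G), normalizer (W : Set G)⁆) :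
    ∃ x ∈ (P : Subgroup G), ∃ z ∈ W, ∃ W₀ : Subgroup W, IsCoatom W₀ ∧
      (fun y : G => y⁻¹ * z⁻¹ * y * z)^[p - 1] x ∈ W₀.map W.subtype ∧
      (fun y : G => y⁻¹ * z⁻¹ * y * z)^[p - 1] x ∉
        ((frattini W₀).map W₀.subtype).map W.subtype := by
  have hp := (Fact.out : p.Prime)
  obtain ⟨A, _, hA, U, M, hMn, z, y, χ, hWU, hMi, hzW, hzM, hprod⟩ :=
    exists_engel_obstruction P W hW h
  obtain ⟨hcM, hc⟩ := iterate_comm_eq_prod M χ hA z y
  rw [← hc] at hprod
  set f : U → U := fun v => v⁻¹ * z⁻¹ * v * z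
  set zG : G := ((z : (P : Subgroup G)) : G)
  set c := f^[p - 1] (y : U)
  let val : U → G := fun v => ((v : (P : Subgroup G)) : G)
  have hsemi : Function.Semiconj val f (fun v : G => v⁻¹ * zG⁻¹ * v * zG) := fun v => rfl
  have hcG : val c = (fun v : G => v⁻¹ * zG⁻¹ * v * zG)^[p - 1] (val y) :=
    hsemi.iterate_right (p - 1) (y : U)
  have hS : ∀ s : (P : Subgroup G), (s : G) ∈ normalizer (W : Set G) := fun s =>
    mem_normalizer_iff_map_conj_eq.2 (hW.2 s (by
      rintro _ ⟨w, hw, rfl⟩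
      exact mul_mem (mul_mem s.2 (hW.1 hw)) (inv_mem s.2)))
  have hcW : val c ∈ W := by
    have hfW : ∀ v : U, val (f v) ∈ W := by
      intro v
      show (val v)⁻¹ * zG⁻¹ * val v * zG ∈ W
      refine mul_mem ?_ (mem_subgroupOf.1 hzW)
      have h1 := (mem_normalizer_iff.1 (inv_mem (hS v.1)) zG⁻¹).1 (inv_mem (mem_subgroupOf.1 hzW))
      rwa [inv_inv] at h1
    show val (f^[p - 1] (y : U)) ∈ W
    obtain ⟨n, hn⟩ : ∃ n, p - 1 = n + 1 := ⟨p - 2, by have := hp.two_le; omega⟩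
    rw [hn, Function.iterate_succ_apply']
    exact hfW _
  let ι : W →* U :=
    MonoidHom.mk' (fun w => ⟨⟨w, hW.1 w.2⟩, hWU (mem_subgroupOf.2 w.2)⟩) (fun _ _ => rfl)
  refine ⟨val y, (y : U).1.2, zG, mem_subgroupOf.1 hzW, M.comap ι, ?_, ?_, ?_⟩
  · refine isCoatom_of_prime_index ?_
    have hk : M.comap ι = ((QuotientGroup.mk' M).comp ι).ker := by
      rw [← MonoidHom.comap_ker, QuotientGroup.ker_mk']
    have hcard : Nat.card ((QuotientGroup.mk' M).comp ι).range = p := by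
      have hdvd := card_subgroup_dvd_card ((QuotientGroup.mk' M).comp ι).range
      rw [← index_eq_card, hMi] at hdvd
      rcases hp.eq_one_or_self_of_dvd _ hdvd with h1 | h1
      · refine absurd ?_ hzM
        have hbot := eq_bot_of_card_eq _ h1
        have h2 : ((QuotientGroup.mk' M).comp ι) ⟨zG, mem_subgroupOf.1 hzW⟩ = 1 :=
          mem_bot.1 (hbot ▸ ⟨_, rfl⟩)
        exact (QuotientGroup.eq_one_iff z).1 h2
      · exact h1
    rw [hk, index_ker, hcard]
    exact hp
  · rw [← hcG]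
    exact ⟨⟨val c, hcW⟩, hcM, rfl⟩
  · rw [← hcG]
    rintro ⟨w, ⟨w₀, hw₀, rfl⟩, hw⟩
    let χ' : M.comap ι →* A :=
      χ.comp (MonoidHom.mk' (fun v => ⟨ι v.1, v.2⟩) (fun _ _ => rfl))
    have hker : frattini (M.comap ι) ≤ χ'.ker :=
      CfsgLib.Transfer.frattini_le_of_elementary_quotient χ'.ker
        (fun a b => by
          rw [MonoidHom.mem_ker, map_commutatorElement, commutatorElement_eq_one_iff_mul_comm]
          exact mul_comm _ _)
        (fun a => by rw [MonoidHom.mem_ker, map_pow, hA])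
    refine hprod ?_
    have h1 : χ' w₀ = 1 := hker hw₀
    rw [← h1]
    show χ _ = χ _
    congr 1
    exact Subtype.ext (Subtype.ext (Subtype.ext hw.symm))

end

end CfsgLib.Invol
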