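import Cfsg.Agent.Lib.Transfer.Tate
import Cfsg.Agent.Lib.Invol.WeaklyClosedTransfer
import Cfsg.Prelude.Def_BaumannBlocks

/-!
Tate's theorem in relative form: control of transfer implies control of the `p`-residual.
-/

set_option autoImplicit false
set_option linter.style.haveILetI false

namespace CfsgLib.Invol

open Subgroup
open CfsgLib.Transfer
open scoped commutatorElement

section

open scoped IsMulCommutative

variable {G : Type*} [Group G] [Finite G] {p : ℕ} [Fact p.Prime]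

/-- If `H ⊇ P` and `P ∩ G' = P ∩ H'` then `O^p(H) = O^p(G) ∩ H`. -/
theorem pResidualOf_eq_of_commutator_inf_eq (P : Sylow p G) (H : Subgroup G)
    (hPH : (P : Subgroup G) ≤ H)
    (h : (P : Subgroup G) ⊓ _root_.commutator G = (P : Subgroup G) ⊓ ⁅H, H⁆) :
    Cfsg.pResidualOf p H = Cfsg.pResidual p G ⊓ H := by
  have hp := (Fact.out : p.Prime)
  haveI hKn := pResidual_normal (G := G) (p := p)
  haveI hR₀n := pResidual_normal (G := H) (p := p)
  set K := Cfsg.pResidual p G with hKdef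
  set R₀ := Cfsg.pResidual p H with hR₀def
  set S := (P : Subgroup G) with hSdef
  have hR₀K : ∀ r : H, r ∈ R₀ → (r : G) ∈ K := fun r hr =>
    map_pResidual_le H.subtype ⟨r, hr, rfl⟩
  let j : S →* H := Subgroup.inclusion hPH
  set D := K.subgroupOf S with hD
  set L := R₀.comap j with hL
  have hLD : L ≤ D := fun s hs => hR₀K _ hs
  set X := L ⊔ ⁅D, (⊤ : Subgroup S)⁆ with hX
  have hXD : X ≤ D := sup_le hLD (commutator_le_left D ⊤)
  let ψ := QuotientGroup.mk' X
  let Z : Subgroup (S ⧸ X) := D.map ψ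
  have hZc : Z ≤ center (S ⧸ X) := by
    rintro _ ⟨q, hq, rfl⟩
    rw [mem_center_iff]
    intro a
    obtain ⟨s, rfl⟩ := QuotientGroup.mk'_surjective X a
    have hmem : ⁅q, s⁆ ∈ X := mem_sup_right (commutator_mem_commutator hq (mem_top s))
    have : ψ ⁅q, s⁆ = 1 := (QuotientGroup.eq_one_iff _).2 hmem
    rw [map_commutatorElement, commutatorElement_eq_one_iff_mul_comm] at this
    exact this.symm
  have : IsMulCommutative Z :=
    ⟨⟨fun a b => Subtype.ext ((mem_center_iff.1 (hZc b.2)) (a : S ⧸ X))⟩⟩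
  have hZp : IsPGroup p Z := (P.2.to_quotient X).to_subgroup Z
  let π := QuotientGroup.mk' K
  let ρ : S ⧸ X →* G ⧸ K :=
    QuotientGroup.lift X (π.comp S.subtype) fun q hq => (QuotientGroup.eq_one_iff (q : G)).2 (hXD hq)
  have hρ : ∀ s, ρ (ψ s) = π s := fun s => rfl
  -- the retraction of `H` onto `S ⧸ X`
  let β : S →* H ⧸ R₀ := (QuotientGroup.mk' R₀).comp j
  have hβ : Function.Surjective β := by
    intro q
    obtain ⟨x, rfl⟩ := QuotientGroup.mk'_surjective R₀ q
    obtain ⟨r, hr, s, hs, rfl⟩ :=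
      mem_sup_of_normal_left.1 ((pResidual_sup_sylow (P.subtype hPH)).ge (mem_top x))
    refine ⟨⟨(s : G), mem_subgroupOf.1 hs⟩, ?_⟩
    show QuotientGroup.mk' R₀ s = QuotientGroup.mk' R₀ (r * s)
    rw [map_mul, show QuotientGroup.mk' R₀ r = 1 from (QuotientGroup.eq_one_iff r).2 hr, one_mul]
  have hβker : β.ker ≤ ψ.ker := fun s hs =>
    (QuotientGroup.eq_one_iff s).2 (mem_sup_left ((QuotientGroup.eq_one_iff (j s)).1 hs))
  let lam : H ⧸ R₀ →* S ⧸ X := β.liftOfSurjective hβ ⟨ψ, hβker⟩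
  let Ψ : H →* S ⧸ X := lam.comp (QuotientGroup.mk' R₀)
  have hΨj : ∀ s : S, Ψ (j s) = ψ s := fun s =>
    β.liftOfRightInverse_comp_apply (Function.surjInv hβ) (Function.rightInverse_surjInv hβ)
      ⟨ψ, hβker⟩ s
  have hρΨ : ∀ x : H, ρ (Ψ x) = π x := by
    intro x
    obtain ⟨s, hs⟩ := hβ (QuotientGroup.mk' R₀ x)
    have h1 : Ψ x = ψ s := by
      show lam (QuotientGroup.mk' R₀ x) = ψ s
      rw [← hs]
      exact hΨj s
    have h2 : (j s)⁻¹ * x ∈ R₀ := QuotientGroup.eq.1 hs
    rw [h1, hρ]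
    exact QuotientGroup.eq.2 (by simpa [j] using hR₀K _ h2)
  -- the fibre product
  let E : Subgroup (G × (S ⧸ X)) :=
    (π.comp (MonoidHom.fst G (S ⧸ X))).eqLocus (ρ.comp (MonoidHom.snd G (S ⧸ X)))
  let f : E →* G := (MonoidHom.fst G (S ⧸ X)).comp E.subtype
  have hf : Function.Surjective f := by
    intro g
    obtain ⟨k, hk, s, hs, rfl⟩ :=
      mem_sup_of_normal_left.1 ((pResidual_sup_sylow P).ge (mem_top g))
    refine ⟨⟨(k * s, ψ ⟨s, hs⟩), ?_⟩, rfl⟩
    change π (k * s) = ρ (ψ ⟨s, hs⟩)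
    rw [hρ, map_mul, (show π k = 1 from (QuotientGroup.eq_one_iff k).2 hk), one_mul]
  set R := H.comap f
  have hRi : R.index = H.index := index_comap_of_surjective _ hf
  have hmem : ∀ e : R, (e : E).1.2 * (Ψ ⟨(e : E).1.1, e.2⟩)⁻¹ ∈ Z := by
    intro e
    obtain ⟨q, hq⟩ := QuotientGroup.mk'_surjective X ((e : E).1.2 * (Ψ ⟨(e : E).1.1, e.2⟩)⁻¹)
    refine ⟨q, ?_, hq⟩
    have h1 : ρ (ψ q) = 1 := by
      change ρ (QuotientGroup.mk' X q) = 1
      rw [hq, map_mul, map_inv, hρΨ]
      have he : π (e : E).1.1 = ρ (e : E).1.2 := (e : E).2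
      rw [← he, mul_inv_cancel]
    rw [hρ] at h1
    exact (QuotientGroup.eq_one_iff (q : G)).1 h1
  let r : R →* Z :=
    { toFun := fun e => ⟨_, hmem e⟩
      map_one' := Subtype.ext (by
        change (1 : S ⧸ X) * (Ψ 1)⁻¹ = 1
        rw [map_one, inv_one, mul_one])
      map_mul' := fun a b => Subtype.ext (by
        have hb := mem_center_iff.1 (hZc (hmem b))
        change (a : E).1.2 * (b : E).1.2 *
            (Ψ (⟨(a : E).1.1, a.2⟩ * ⟨(b : E).1.1, b.2⟩))⁻¹ =
          (a : E).1.2 * (Ψ ⟨(a : E).1.1, a.2⟩)⁻¹ * ((b : E).1.2 * (Ψ ⟨(b : E).1.1, b.2⟩)⁻¹)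
        rw [map_mul, mul_inv_rev, mul_assoc ((a : E).1.2) ((Ψ ⟨(a : E).1.1, a.2⟩)⁻¹),
          hb ((Ψ ⟨(a : E).1.1, a.2⟩)⁻¹)]
        simp only [mul_assoc]) }
  let τ := MonoidHom.transfer r
  have hzmem : ∀ z : Z, ((1 : G), (z : S ⧸ X)) ∈ E := by
    rintro ⟨_, q, hq, rfl⟩
    change π 1 = ρ (ψ q)
    rw [hρ, map_one]
    exact ((QuotientGroup.eq_one_iff (q : G)).2 hq).symm
  have hτz : ∀ z : Z, τ ⟨_, hzmem z⟩ = z ^ R.index := by
    intro z
    have hcent : (⟨_, hzmem z⟩ : E) ∈ center E := mem_center_iff.2 fun e => Subtype.ext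
      (Prod.ext ((mul_one _).trans (one_mul _).symm) (mem_center_iff.1 (hZc z.2) e.1.2))
    change MonoidHom.transfer r ⟨_, hzmem z⟩ = _
    rw [MonoidHom.transfer_eq_pow r _ fun k g₀ _ => by
      rw [mem_center_iff.1 (pow_mem hcent k) g₀⁻¹, mul_assoc, inv_mul_cancel, mul_one]]
    have hzR : (⟨_, hzmem z⟩ : E) ∈ R := one_mem H
    rw [show (⟨(⟨_, hzmem z⟩ : E) ^ R.index, _⟩ : R) = (⟨_, hzR⟩ : R) ^ R.index from
      Subtype.ext (SubmonoidClass.coe_pow (⟨_, hzR⟩ : R) R.index).symm, map_pow]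
    congr 1
    refine Subtype.ext ?_
    change (z : S ⧸ X) * (Ψ (1 : H))⁻¹ = z
    rw [map_one, inv_one, mul_one]
  let ι : K →* E :=
    { toFun := fun k => ⟨((k : G), 1), by
        change π k = ρ 1
        rw [map_one]
        exact (QuotientGroup.eq_one_iff (k : G)).2 k.2⟩
      map_one' := rfl
      map_mul' := fun a b => Subtype.ext (Prod.ext rfl (one_mul 1).symm) }
  have hτK : ∀ k, τ (ι k) = 1 :=
    eq_one_of_pResidual_eq_top (τ.comp ι) hZp pResidual_pResidual
  let φ : S →* Z :=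
    τ.comp ((S.subtype.prod ψ).codRestrict E fun s => (hρ s).symm)
  have hφD : ∀ q (hq : q ∈ D), φ q = (⟨ψ q, q, hq, rfl⟩ : Z) ^ R.index := by
    intro q hq
    rw [← hτz]
    have : ((S.subtype.prod ψ).codRestrict E fun s => (hρ s).symm) q =
        ι ⟨q, hq⟩ * ⟨_, hzmem ⟨ψ q, q, hq, rfl⟩⟩ :=
      Subtype.ext (Prod.ext (mul_one _).symm (one_mul _).symm)
    change τ _ = _
    rw [this, map_mul, hτK, one_mul]
  -- `D ≤ L S'`
  have hDL : D ≤ φ.ker := by
    intro d hd
    have hdG : (d : G) ∈ _root_.commutator G := by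
      set n := Nat.card (Abelianization G)
      set m := ordCompl[p] n
      let η : G →* Abelianization G := (powMonoidHom m).comp Abelianization.of
      have hηp : IsPGroup p η.range := by
        intro a
        refine ⟨n.factorization p, ?_⟩
        obtain ⟨_, x, rfl⟩ := a
        refine Subtype.ext ?_
        show (Abelianization.of x ^ m) ^ p ^ n.factorization p = 1
        rw [← pow_mul, mul_comm, Nat.ordProj_mul_ordCompl_eq_self]
        exact pow_card_eq_one'
      have h1 : η.rangeRestrict (d : G) = 1 := pResidual_le_ker η.rangeRestrict hηp hd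
      have h2 : Abelianization.of (d : G) ^ m = 1 := congrArg Subtype.val h1
      obtain ⟨l, hl⟩ := IsPGroup.iff_orderOf.1 P.2 d
      have h3 : Abelianization.of (d : G) ^ p ^ l = 1 := by
        rw [← map_pow, show (d : G) ^ p ^ l = 1 from by
          rw [← hl, ← Subgroup.orderOf_coe, pow_orderOf_eq_one], map_one]
      have h4 : orderOf (Abelianization.of (d : G)) = 1 :=
        Nat.eq_one_of_dvd_coprimes
          (((hp.coprime_iff_not_dvd.2 (Nat.not_dvd_ordCompl hp Nat.card_pos.ne')).pow_left l).symm)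
          (orderOf_dvd_of_pow_eq_one h2) (orderOf_dvd_of_pow_eq_one h3)
      exact (Abelianization.ker_of G).le (MonoidHom.mem_ker.2 (orderOf_eq_one_iff.1 h4))
    have hdH : (d : G) ∈ ⁅H, H⁆ := (h.le ⟨d.2, hdG⟩).2
    have hjd : j d ∈ _root_.commutator H := by
      have h5 : (⁅H, H⁆ : Subgroup G) = (_root_.commutator H).map H.subtype := by
        rw [_root_.commutator_def, map_commutator, ← MonoidHom.range_eq_map, range_subtype]
      rw [h5] at hdH
      obtain ⟨y, hy, hyd⟩ := hdH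
      rwa [show j d = y from Subtype.ext hyd.symm]
    have h6 : β d ∈ (_root_.commutator S).map β := by
      rw [_root_.commutator_def, map_commutator, map_top_of_surjective β hβ]
      have h7 : QuotientGroup.mk' R₀ (j d) ∈ (_root_.commutator H).map (QuotientGroup.mk' R₀) :=
        mem_map_of_mem _ hjd
      rwa [_root_.commutator_def, map_commutator,
        map_top_of_surjective _ (QuotientGroup.mk'_surjective R₀)] at h7
    obtain ⟨c, hc, hcd⟩ := h6
    have hcL : c⁻¹ * d ∈ L := by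
      rw [hL, mem_comap, map_mul, map_inv]
      exact QuotientGroup.eq.1 hcd
    have h8 : φ c = 1 := Abelianization.commutator_subset_ker φ hc
    have h9 : φ (c⁻¹ * d) = 1 := by
      rw [hφD _ (hLD hcL)]
      have : (⟨ψ (c⁻¹ * d), c⁻¹ * d, hLD hcL, rfl⟩ : Z) = 1 :=
        Subtype.ext ((QuotientGroup.eq_one_iff _).2 (mem_sup_left hcL))
      rw [this, one_pow]
    rw [map_mul, map_inv, h8, inv_one, one_mul] at h9
    exact h9
  have hcop : (Nat.card Z).Coprime R.index := by
    obtain ⟨n, hn⟩ := hZp.exists_card_eq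
    rw [hn, hRi]
    exact ((hp.coprime_iff_not_dvd.2 fun h' =>
      P.not_dvd_index (h'.trans (index_dvd_of_le hPH)))).pow_left n
  have hDX : D ≤ X := by
    intro d hd
    rw [← QuotientGroup.eq_one_iff]
    have h1 : (⟨ψ d, d, hd, rfl⟩ : Z) ^ R.index = 1 := (hφD d hd).symm.trans (hDL hd)
    have h2 := (powCoprime hcop).injective (a₁ := (⟨ψ d, d, hd, rfl⟩ : Z)) (a₂ := 1)
      (by simpa using h1)
    exact congrArg Subtype.val h2
  have hDeq : D ≤ L := by
    have hbot : D.map (QuotientGroup.mk' L) = ⊥ := by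
      have := (P.2.to_quotient L).isNilpotent
      have htop : Group.IsNilpotent (⊤ : Subgroup (S ⧸ L)) := Group.isNilpotent_top.2 this
      refine eq_bot_of_le_commutator (K := ⊤) le_top ((map_mono hDX).trans ?_)
      rw [hX, Subgroup.map_sup, QuotientGroup.map_mk'_self, bot_sup_eq, map_commutator,
        map_top_of_surjective _ (QuotientGroup.mk'_surjective L)]
    intro d hd
    have := hbot.le (mem_map_of_mem _ hd)
    exact (QuotientGroup.eq_one_iff d).1 (mem_bot.1 this)
  refine le_antisymm (le_inf (map_pResidual_le H.subtype) (map_subtype_le _)) ?_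
  rintro x ⟨hxK, hxH⟩
  obtain ⟨r', hr', s, hs, hrs⟩ :=
    mem_sup_of_normal_left.1 ((pResidual_sup_sylow (P.subtype hPH)).ge (mem_top (⟨x, hxH⟩ : H)))
  have hsK : (s : G) ∈ K := by
    have h1 : (s : G) = (r' : G)⁻¹ * x := by
      have h2 : (r' : G) * (s : G) = x := congrArg Subtype.val hrs
      rw [← h2, inv_mul_cancel_left]
    rw [h1]
    exact mul_mem (inv_mem (hR₀K r' hr')) hxK
  have hsR : s ∈ R₀ := hDeq (show (⟨(s : G), mem_subgroupOf.1 hs⟩ : S) ∈ D from hsK)
  exact ⟨⟨x, hxH⟩, hrs ▸ mul_mem hr' hsR, rfl⟩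

end

section

variable {G : Type*} [Group G] [Finite G] {p : ℕ} [Fact p.Prime]

/-- A weakly closed subgroup whose elements have trivial iterated commutators with `p - 1` entries
on the Sylow subgroup has a normalizer controlling the `p`-residual. -/
theorem pResidualOf_normalizer_eq_of_engel (P : Sylow p G) (Q : Subgroup G)
    (hQ : Cfsg.IsWeaklyClosed Q (P : Subgroup G))
    (h : ∀ u ∈ (P : Subgroup G), ∀ z ∈ Q,
      (fun y : G => y⁻¹ * z⁻¹ * y * z)^[p - 1] u = 1) :
    Cfsg.pResidualOf p (normalizer (Q : Set G)) =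
      Cfsg.pResidual p G ⊓ normalizer (Q : Set G) := by
  refine pResidualOf_eq_of_commutator_inf_eq P _ (fun s hs => mem_normalizer_iff_map_conj_eq.2
    (hQ.2 s (by
      rintro _ ⟨w, hw, rfl⟩
      exact mul_mem (mul_mem hs (hQ.1 hw)) (inv_mem hs)))) ?_
  by_contra hne
  obtain ⟨x, hx, z, hz, W₀, -, -, h2⟩ := exists_engel_commutator P Q hQ hne
  rw [h x hx z hz] at h2
  exact h2 (one_mem _)

omit [Finite G] [Fact p.Prime] in
/-- Iterated commutators lie in the lower central series. -/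
theorem iterate_comm_mem_lowerCentralSeries (S : Subgroup G) {u z : G} (hu : u ∈ S) (hz : z ∈ S)
    (k : ℕ) : (fun y : G => y⁻¹ * z⁻¹ * y * z)^[k] u ∈ S.lowerCentralSeries k := by
  induction k with
  | zero => exact hu
  | succ k ih =>
    rw [Function.iterate_succ_apply']
    generalize (fun y : G => y⁻¹ * z⁻¹ * y * z)^[k] u = w at ih ⊢
    rw [Subgroup.lowerCentralSeries_succ]
    have h1 := commutator_mem_commutator (inv_mem ih) (inv_mem hz)
    simpa [commutatorElement_def] using h1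

end

end CfsgLib.Invol
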