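import Cfsg.Agent.Lib.Invol.Basic
import Cfsg.Agent.Lib.OddLocal.PGroup
import Cfsg.Agent.Lib.Coprime.Abelian
import Mathlib.GroupTheory.Nilpotent

/-!
A finite 2-group of 2-rank at least three has a normal four-group.
-/

set_option autoImplicit false
set_option linter.unusedSectionVars false

namespace CfsgLib.Invol

open scoped IsMulCommutative

variable {T : Type*} [Group T] [Finite T]

/-- A four-group given by two commuting involutions, with its elements. -/
theorem exists_four {z x : T} (hz : z * z = 1) (hx : x * x = 1) (hc : z * x = x * z) (hz1 : z ≠ 1)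
    (hx1 : x ≠ 1) (hne : x ≠ z) :
    ∃ U : Subgroup T, (∀ u, u ∈ U ↔ u = 1 ∨ u = z ∨ u = x ∨ u = z * x) ∧ Nat.card U = 4 ∧
      IsMulCommutative U ∧ ∀ u ∈ U, u * u = 1 := by
  have e1 : ∀ w, z * (z * w) = w := fun w => by rw [← mul_assoc, hz, one_mul]
  have e2 : ∀ w, x * (x * w) = w := fun w => by rw [← mul_assoc, hx, one_mul]
  have e3 : ∀ w, x * (z * w) = z * (x * w) := fun w => by rw [← mul_assoc, ← hc, mul_assoc]
  have hc' : x * z = z * x := hc.symm
  have hzi : z⁻¹ = z := inv_eq_of_mul_eq_one_right hz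
  have hxi : x⁻¹ = x := inv_eq_of_mul_eq_one_right hx
  let U : Subgroup T :=
    { carrier := {u | u = 1 ∨ u = z ∨ u = x ∨ u = z * x}
      one_mem' := Or.inl rfl
      mul_mem' := by
        rintro a b (rfl | rfl | rfl | rfl) (rfl | rfl | rfl | rfl) <;>
          simp [mul_assoc, e1, e2, e3, hz, hx, hc']
      inv_mem' := by
        rintro a (rfl | rfl | rfl | rfl) <;> simp [mul_inv_rev, hzi, hxi, hc'] }
  refine ⟨U, fun u => Iff.rfl, ?_, ⟨⟨fun a b => Subtype.ext ?_⟩⟩, ?_⟩
  · have h : (U : Set T) = {1, z, x, z * x} := by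
      ext u; show _ ↔ _; simp [U]
    have hd1 : z * x ≠ 1 := fun e => hne (by
      have := congrArg (z * ·) e
      simpa [e1] using this)
    have hd2 : z * x ≠ z := fun e => hx1 (by simpa using e)
    have hd3 : z * x ≠ x := fun e => hz1 (by simpa using e)
    show Nat.card ((U : Set T) : Type _) = 4
    rw [Nat.card_coe_set_eq, h, Set.ncard_insert_of_notMem, Set.ncard_insert_of_notMem,
      Set.ncard_insert_of_notMem, Set.ncard_singleton] <;>
      simp [Ne.symm hz1, Ne.symm hx1, Ne.symm hd1, Ne.symm hne, Ne.symm hd2, Ne.symm hd3]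
  · obtain ⟨a, ha⟩ := a
    obtain ⟨b, hb⟩ := b
    rcases ha with rfl | rfl | rfl | rfl <;> rcases hb with rfl | rfl | rfl | rfl <;>
      simp [mul_assoc, e1, e2, e3, hz, hx, hc']
  · intro u hu
    rcases hu with rfl | rfl | rfl | rfl <;> simp [mul_assoc, e1, e2, e3, hz, hx, hc']

/-- A normal elementary abelian subgroup of order over two contains a normal four-group. -/
theorem four_of_normal_elementary (hT : IsPGroup 2 T) (V : Subgroup T) [V.Normal]
    (hc : ∀ a ∈ V, ∀ b ∈ V, a * b = b * a) (hsq : ∀ a ∈ V, a * a = 1) (h3 : 2 < Nat.card V) :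
    ∃ U : Subgroup T, U.Normal ∧ Nat.card U = 4 ∧ IsMulCommutative U ∧ ∀ u ∈ U, u * u = 1 := by
  have hV : (⊥ : Subgroup T) < V := bot_lt_iff_ne_bot.2 fun e => by
    rw [e, Subgroup.card_bot] at h3; omega
  obtain ⟨z, hzV, hz1, hzc⟩ := CfsgLib.OddLocal.exists_central_mod hT ⊥ V hV
  have hz1' : z ≠ 1 := fun e => hz1 (e ▸ one_mem _)
  have hzc' : ∀ g : T, g * z * g⁻¹ = z := fun g =>
    mul_inv_eq_one.1 (Subgroup.mem_bot.1 (hzc g))
  have hZn : (Subgroup.zpowers z).Normal := ⟨fun w hw g => by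
    obtain ⟨i, rfl⟩ := hw
    rw [conj_zpow_eq, hzc']
    exact Subgroup.zpow_mem _ (Subgroup.mem_zpowers z) i⟩
  have hlt : Subgroup.zpowers z < V := lt_of_le_of_ne (Subgroup.zpowers_le.2 hzV) fun e => by
    rw [← e, Nat.card_zpowers, invol_of_mul_self (hsq z hzV) hz1'] at h3
    omega
  obtain ⟨x, hxV, hxz, hxc⟩ := CfsgLib.OddLocal.exists_central_mod hT _ V hlt
  obtain ⟨U, hU, h4, hcomm, hsqU⟩ := exists_four (hsq z hzV) (hsq x hxV) (hc z hzV x hxV) hz1'
    (fun e => hxz (e ▸ one_mem _)) (fun e => hxz (e ▸ Subgroup.mem_zpowers z))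
  refine ⟨U, ⟨fun w hw g => ?_⟩, h4, hcomm, hsqU⟩
  have hgx : g * x * g⁻¹ ∈ U := by
    obtain ⟨i, hi⟩ := hxc g
    simp only at hi
    have : g * x * g⁻¹ = z ^ i * x := by rw [hi]; simp [mul_assoc]
    rw [this]
    exact mul_mem (Subgroup.zpow_mem _ ((hU z).2 (by simp)) i) ((hU x).2 (by simp))
  rcases (hU w).1 hw with h | h | h | h <;> rw [h]
  · simp
  · rw [hzc']; exact (hU z).2 (by simp)
  · exact hgx
  · rw [show g * (z * x) * g⁻¹ = (g * z * g⁻¹) * (g * x * g⁻¹) by group, hzc']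
    exact mul_mem ((hU z).2 (by simp)) hgx

/-- A 2-group with an elementary abelian subgroup of order at least 8 has a normal four-group. -/
theorem exists_normal_four (hT : IsPGroup 2 T) {E : Subgroup T}
    (hEc : ∀ a ∈ E, ∀ b ∈ E, a * b = b * a) (hEsq : ∀ a ∈ E, a * a = 1) (hE : 8 ≤ Nat.card E) :
    ∃ U : Subgroup T, U.Normal ∧ Nat.card U = 4 ∧ IsMulCommutative U ∧ ∀ u ∈ U, u * u = 1 := by
  classical
  obtain ⟨A, -, hAn, hAc, hCA⟩ :=
    CfsgLib.OddLocal.exists_normal_self_centralizing hT ⊥ inferInstance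
  have hcommA : ∀ a ∈ A, ∀ b ∈ A, a * b = b * a := fun a ha b hb =>
    congrArg Subtype.val (hAc.is_comm.comm (⟨a, ha⟩ : A) ⟨b, hb⟩)
  let V : Subgroup T :=
    { carrier := {a | a ∈ A ∧ a * a = 1}
      one_mem' := ⟨one_mem _, mul_one 1⟩
      mul_mem' := fun {a b} ha hb => ⟨mul_mem ha.1 hb.1, by
        rw [mul_assoc, ← mul_assoc b a, ← hcommA a ha.1 b hb.1]
        simp [mul_assoc, hb.2, ha.2]⟩
      inv_mem' := fun {a} ha => ⟨inv_mem ha.1, by rw [← mul_inv_rev, ha.2, inv_one]⟩ }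
  have hVn : V.Normal := ⟨fun a ha g => ⟨hAn.conj_mem a ha.1 g, by
    rw [show g * a * g⁻¹ * (g * a * g⁻¹) = g * (a * a) * g⁻¹ by group, ha.2, mul_one,
      mul_inv_cancel]⟩⟩
  by_cases h3 : 2 < Nat.card V
  · exact four_of_normal_elementary hT V (fun a ha b hb => hcommA a ha.1 b hb.1)
      (fun a ha => ha.2) h3
  push Not at h3
  have hcyc : IsCyclic A := by
    refine CfsgLib.Coprime.isCyclic_of_card_prime_roots fun p hp => ?_
    rcases eq_or_ne p 2 with rfl | hp2
    · refine le_trans ?_ h3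
      refine Nat.card_le_card_of_injective (fun a => (⟨((a : A) : T), (a : A).2, ?_⟩ : V)) ?_
      · have := congrArg Subtype.val (MonoidHom.mem_ker.1 a.2)
        simpa [pow_two] using this
      · intro a b h
        exact Subtype.ext (Subtype.ext (congrArg (fun v : V => (v : T)) h :))
    · have hbot : (powMonoidHom p : A →* A).ker = ⊥ := by
        rw [eq_bot_iff]
        intro a ha
        obtain ⟨k, hk⟩ := (hT.to_subgroup A) a
        have h1 := orderOf_dvd_of_pow_eq_one hk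
        have h2 : orderOf a ∣ p := orderOf_dvd_of_pow_eq_one (by simpa using MonoidHom.mem_ker.1 ha)
        have hcop : Nat.Coprime (2 ^ k) p :=
          ((Nat.coprime_primes Nat.prime_two hp).2 (Ne.symm hp2)).pow_left k
        exact Subgroup.mem_bot.2 (orderOf_eq_one_iff.1 (Nat.dvd_one.1 (hcop ▸ Nat.dvd_gcd h1 h2)))
      rw [hbot, Subgroup.card_bot]
      exact hp.one_lt.le
  obtain ⟨⟨a, haA⟩, hgen'⟩ := hcyc.exists_generator
  have hgen : ∀ w ∈ A, w ∈ Subgroup.zpowers a := fun w hw => by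
    obtain ⟨i, hi⟩ := hgen' ⟨w, hw⟩
    exact ⟨i, congrArg Subtype.val hi⟩
  have ha1 : a ≠ 1 := by
    rintro rfl
    have hA : A = ⊥ := eq_bot_iff.2 fun w hw => by simpa using hgen w hw
    have hTt : (⊤ : Subgroup T) = ⊥ := by
      rw [← hA, ← hCA, eq_comm, eq_top_iff]
      intro w _
      rw [Subgroup.mem_centralizer_iff, hA]
      intro b hb
      rw [Subgroup.mem_bot.1 hb, one_mul, mul_one]
    have := Subgroup.card_le_of_le (le_top : E ≤ ⊤)
    rw [hTt, Subgroup.card_bot] at this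
    omega
  obtain ⟨n, hn⟩ := IsPGroup.iff_orderOf.1 hT a
  have hn1 : 1 ≤ n := by
    by_contra h
    exact ha1 (orderOf_eq_one_iff.1 (by rw [hn, show n = 0 by omega, pow_zero]))
  -- the unique involution of `A`
  set z := a ^ (2 ^ (n - 1))
  have hzz : z * z = 1 := by
    rw [← pow_add, ← two_mul, ← pow_succ', Nat.sub_add_cancel hn1, ← hn, pow_orderOf_eq_one]
  have hzA : z ∈ A := pow_mem haA _
  have hz1 : z ≠ 1 := fun e => by
    have h := orderOf_dvd_of_pow_eq_one e
    rw [hn, Nat.pow_dvd_pow_iff_le_right (by norm_num)] at h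
    omega
  have huniq : ∀ w ∈ A, w * w = 1 → w = 1 ∨ w = z := by
    intro w hw hw2
    by_contra hcon
    push Not at hcon
    have hlt : 2 < Nat.card V := by
      have hsub : ({1, z, w} : Set T) ⊆ (V : Set T) := by
        rintro v (rfl | rfl | rfl)
        exacts [one_mem V, ⟨hzA, hzz⟩, ⟨hw, hw2⟩]
      have h := Set.ncard_le_ncard hsub (Set.toFinite _)
      rw [Set.ncard_insert_of_notMem (by simp [Ne.symm hz1, Ne.symm hcon.1]),
        Set.ncard_insert_of_notMem (by simp [Ne.symm hcon.2]), Set.ncard_singleton,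
        ← Nat.card_coe_set_eq] at h
      exact h
    omega
  have hzc : ∀ g : T, g * z * g⁻¹ = z := fun g => by
    refine (huniq _ (hAn.conj_mem z hzA g) ?_).resolve_left fun e => hz1 (conj_eq_one_iff.1 e)
    rw [show g * z * g⁻¹ * (g * z * g⁻¹) = g * (z * z) * g⁻¹ by group, hzz, mul_one, mul_inv_cancel]
  -- the four possible images of `a` under an element of `E`
  have himg : ∀ e ∈ E, e * a * e⁻¹ = a ∨ e * a * e⁻¹ = a * z ∨ e * a * e⁻¹ = a⁻¹ ∨
      e * a * e⁻¹ = a⁻¹ * z := by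
    intro e he
    set b := e * a * e⁻¹ with hb
    obtain ⟨i, hi⟩ := hgen b (hAn.conj_mem a haA e)
    simp only at hi
    have hebe : e * b * e⁻¹ = a := by
      rw [hb, show e * (e * a * e⁻¹) * e⁻¹ = (e * e) * a * (e * e)⁻¹ by group, hEsq e he]
      simp
    have hii : a ^ (i * i) = a := by
      conv_rhs => rw [← hebe, ← hi, conj_zpow_eq, ← hb, ← hi, ← zpow_mul]
    have hiodd : ¬ (2 : ℤ) ∣ i := by
      rintro ⟨j, rfl⟩
      have h1 : ((2 : ℤ) * j * (2 * j)) ≡ 1 [ZMOD (2 ^ n : ℕ)] := by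
        rw [← hn, ← zpow_eq_zpow_iff_modEq, hii, zpow_one]
      have h2 : ((2 : ℤ) * j * (2 * j)) ≡ 1 [ZMOD 2] := h1.of_dvd (by
        exact_mod_cast dvd_pow_self 2 (show n ≠ 0 by omega))
      simp [Int.ModEq, Int.mul_emod] at h2
    -- the two elements `a⁻¹ b` and `a b`
    have hpow : ∀ (w : T), w ∈ A → ∀ m : ℤ, ¬ (2 : ℤ) ∣ m → w ^ (2 * m) = 1 → w * w = 1 := by
      intro w _ m hm hw
      obtain ⟨k, hk⟩ := hT w
      have h1 : (orderOf w : ℤ) ∣ 2 * m := orderOf_dvd_iff_zpow_eq_one.2 hw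
      obtain ⟨l, -, hl⟩ := (Nat.dvd_prime_pow Nat.prime_two).1 (orderOf_dvd_of_pow_eq_one hk)
      by_cases hl2 : l ≤ 1
      · rw [← pow_two]
        exact orderOf_dvd_iff_pow_eq_one.1 (hl ▸ (pow_dvd_pow 2 hl2).trans (by norm_num))
      · exfalso
        have h4 : (4 : ℤ) ∣ 2 * m := dvd_trans (by
          rw [hl]; exact_mod_cast (pow_dvd_pow 2 (show 2 ≤ l by omega))) h1
        exact hm (Int.dvd_of_mul_dvd_mul_left (by norm_num : (2 : ℤ) ≠ 0) (by simpa using h4))
    have hcb : Commute a b := hcommA a haA b (hAn.conj_mem a haA e)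
    have hcase : (a⁻¹ * b) * (a⁻¹ * b) = 1 ∨ (a * b) * (a * b) = 1 := by
      obtain ⟨m, hm⟩ : ∃ m : ℤ, i = 2 * m + 1 := ⟨i / 2, by omega⟩
      have key : b ^ i = a := by rw [← hi, ← zpow_mul]; exact hii
      by_cases hm2 : (2 : ℤ) ∣ m
      · -- `i + 1` is twice an odd number
        refine Or.inl (hpow _ (mul_mem (inv_mem haA) (hAn.conj_mem a haA e)) (m + 1) (by omega) ?_)
        have h1 : b ^ (2 * (m + 1)) = a ^ (2 * (m + 1)) := by
          have e1 : (2 : ℤ) * (m + 1) = i + 1 := by omega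
          rw [e1, zpow_add_one, zpow_add_one, key, hi]
          exact hcb.eq
        rw [hcb.inv_left.mul_zpow, h1, inv_zpow, inv_mul_cancel]
      · refine Or.inr (hpow _ (mul_mem haA (hAn.conj_mem a haA e)) m hm2 ?_)
        have h1 : b ^ (2 * m) = (a ^ (2 * m))⁻¹ := by
          have e1 : (2 : ℤ) * m = i - 1 := by omega
          rw [e1, zpow_sub_one, zpow_sub_one, key, hi, eq_inv_iff_mul_eq_one]; group
        rw [hcb.mul_zpow, h1, mul_inv_cancel]
    rcases hcase with h | h
    · rcases huniq _ (mul_mem (inv_mem haA) (hAn.conj_mem a haA e)) h with h' | h'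
      · exact Or.inl (inv_mul_eq_one.1 h').symm
      · exact Or.inr (Or.inl (inv_mul_eq_iff_eq_mul.1 h'))
    · rcases huniq _ (mul_mem haA (hAn.conj_mem a haA e)) h with h' | h'
      · exact Or.inr (Or.inr (Or.inl (eq_inv_of_mul_eq_one_right h')))
      · exact Or.inr (Or.inr (Or.inr (eq_inv_mul_of_mul_eq h')))
  -- all four occur, as the fibres have at most two elements
  have hfib : ∀ c : T, Nat.card {e : E // (e : T) * a * (e : T)⁻¹ = c} ≤ 2 := by
    intro c
    rcases isEmpty_or_nonempty {e : E // (e : T) * a * (e : T)⁻¹ = c} with h | ⟨⟨e₀, he₀⟩⟩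
    · simp
    refine le_trans (Nat.card_le_card_of_injective (fun e => (⟨(e₀ : T)⁻¹ * (e.1 : T), ?_, ?_⟩ : V)) ?_) h3
    · rw [← hCA, Subgroup.mem_centralizer_iff]
      intro w hw
      obtain ⟨i, rfl⟩ := hgen w hw
      refine ((Commute.zpow_right (?_ : Commute ((e₀ : T)⁻¹ * (e.1 : T)) a) i)).eq.symm
      refine mul_inv_eq_iff_eq_mul.1 ?_
      calc (e₀ : T)⁻¹ * (e.1 : T) * a * ((e₀ : T)⁻¹ * (e.1 : T))⁻¹
          = (e₀ : T)⁻¹ * ((e.1 : T) * a * (e.1 : T)⁻¹) * (e₀ : T) := by group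
        _ = (e₀ : T)⁻¹ * ((e₀ : T) * a * (e₀ : T)⁻¹) * (e₀ : T) := by rw [e.2, he₀]
        _ = a := by group
    · exact hEsq _ (mul_mem (inv_mem e₀.2) e.1.2)
    · intro x y hxy
      exact Subtype.ext (Subtype.ext (mul_left_cancel (congrArg (fun v : V => (v : T)) hxy :)))
  have haz1 : a * z ≠ a := fun e => hz1 (by simpa using e)
  obtain ⟨v, hvE, hv, hne⟩ : ∃ v ∈ E, v * a * v⁻¹ = a * z ∧ a * z ≠ a⁻¹ := by
    by_contra hcon
    push Not at hcon
    have := Fintype.ofFinite E
    let f : E → T := fun e => (e : T) * a * (e : T)⁻¹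
    let Sv : Finset T := if a * z = a⁻¹ then {a, a⁻¹} else {a, a⁻¹, a⁻¹ * z}
    have hmaps : ∀ e : E, f e ∈ Sv := by
      intro e
      by_cases hz' : a * z = a⁻¹
      · have hz2 : a⁻¹ * z = a := by
          rw [← hz', hcommA a haA z hzA, mul_assoc, hcommA a haA z hzA, ← mul_assoc, hzz, one_mul]
        simp only [Sv, if_pos hz', f, Finset.mem_insert, Finset.mem_singleton]
        rcases himg e e.2 with h | h | h | h <;> simp [h, hz', hz2]
      · simp only [Sv, if_neg hz', f, Finset.mem_insert, Finset.mem_singleton]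
        rcases himg e e.2 with h | h | h | h
        · simp [h]
        · exact absurd (hcon e e.2 h) hz'
        · simp [h]
        · simp [h]
    have hcount := Finset.card_le_mul_card_image_of_maps_to
      (f := f) (s := Finset.univ) (t := Sv) (fun e _ => hmaps e) 2 (fun c _ => by
        have := hfib c
        rwa [Nat.card_eq_fintype_card, Fintype.card_subtype] at this)
    have hS : Sv.card ≤ 3 := by
      dsimp only [Sv]
      split
      · exact Finset.card_le_two.trans (by norm_num)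
      · exact Finset.card_le_three
    rw [Finset.card_univ, ← Nat.card_eq_fintype_card] at hcount
    omega
  have hvv : v * v = 1 := hEsq v hvE
  have hvA : v ∉ A := fun h => haz1 (by rw [← hv, hcommA v h a haA, mul_inv_cancel_right])
  obtain ⟨U, hU, h4, hcomm, hsqU⟩ := exists_four hzz hvv (mul_inv_eq_iff_eq_mul.1 (hzc v)).symm
    hz1 (fun e => hvA (e ▸ one_mem _)) (fun e => hvA (e ▸ hzA))
  refine ⟨U, ⟨fun w hw g => ?_⟩, h4, hcomm, hsqU⟩
  have hgv : g * v * g⁻¹ ∈ U := by
    obtain ⟨j, hj⟩ := hgen (g⁻¹ * a * g) (by simpa using hAn.conj_mem a haA g⁻¹)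
    simp only at hj
    have hjodd : ¬ (2 : ℤ) ∣ j := by
      rintro ⟨l, rfl⟩
      have h1 : a = (g * a ^ l * g⁻¹) * (g * a ^ l * g⁻¹) := by
        calc a = g * (g⁻¹ * a * g) * g⁻¹ := by group
          _ = _ := by rw [← hj]; group
      obtain ⟨i, hi⟩ := hgen _ (hAn.conj_mem _ (zpow_mem haA l) g)
      simp only at hi
      rw [← hi, ← zpow_add] at h1
      nth_rewrite 1 [← zpow_one a] at h1
      rw [zpow_eq_zpow_iff_modEq, hn] at h1
      have h2 : (1 : ℤ) ≡ i + i [ZMOD 2] := h1.of_dvd (by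
        exact_mod_cast dvd_pow_self 2 (show n ≠ 0 by omega))
      simp [Int.ModEq] at h2
      omega
    set u := g * v * g⁻¹ * v⁻¹
    have huA : u ∈ A := by
      rw [← hCA, Subgroup.mem_centralizer_iff]
      intro w hw
      obtain ⟨i, rfl⟩ := hgen w hw
      refine ((Commute.zpow_right (?_ : Commute u a) i)).eq.symm
      refine mul_inv_eq_iff_eq_mul.1 ?_
      have h1 : v * a ^ j * v⁻¹ = a ^ j * z := by
        rw [conj_zpow_eq, hv, (Commute.mul_zpow (hcommA a haA z hzA) j)]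
        congr 1
        obtain ⟨l, rfl⟩ : ∃ l : ℤ, j = 2 * l + 1 := ⟨j / 2, by omega⟩
        rw [zpow_add_one, zpow_mul, zpow_two, hzz, one_zpow, one_mul]
      have h2 : g * v * g⁻¹ * a * (g * v * g⁻¹)⁻¹ = a * z := by
        calc _ = g * (v * (g⁻¹ * a * g) * v⁻¹) * g⁻¹ := by group
          _ = g * (a ^ j * z) * g⁻¹ := by rw [← hj, h1]
          _ = (g * (g⁻¹ * a * g) * g⁻¹) * (g * z * g⁻¹) := by rw [← hj]; group
          _ = _ := by rw [hzc]; group
      have h3 : v⁻¹ * a * v⁻¹⁻¹ = a * z := by rw [inv_eq_of_mul_eq_one_right hvv, hv]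
      calc u * a * u⁻¹ = (g * v * g⁻¹) * (v⁻¹ * a * v⁻¹⁻¹) * (g * v * g⁻¹)⁻¹ := by
            simp [u, mul_assoc]
        _ = (g * v * g⁻¹ * a * (g * v * g⁻¹)⁻¹) * (g * v * g⁻¹ * z * (g * v * g⁻¹)⁻¹) := by
            rw [h3]; group
        _ = a := by rw [h2, hzc, mul_assoc, hzz, mul_one]
    have heq : g * v * g⁻¹ = u * v := by simp [u]
    have hsq : u * v * (u * v) = 1 := by
      rw [← heq, show g * v * g⁻¹ * (g * v * g⁻¹) = g * (v * v) * g⁻¹ by group, hvv]; simp
    obtain ⟨i, hi⟩ := hgen u huA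
    simp only at hi
    have hz2 : a ^ (i + i) * z ^ i = 1 := by
      rw [← hsq, ← hi]
      have h1 : v * a ^ i = a ^ i * z ^ i * v := by
        have := conj_zpow_eq v a i
        rw [hv, Commute.mul_zpow (hcommA a haA z hzA)] at this
        rw [← this]; group
      rw [mul_assoc (a ^ i), ← mul_assoc v, h1, mul_assoc _ v v, hvv, mul_one, ← mul_assoc,
        zpow_add]
    rcases Int.even_or_odd i with ⟨l, hl⟩ | ⟨l, hl⟩
    · have hzl : z ^ i = 1 := by rw [hl, ← two_mul, zpow_mul, zpow_two, hzz, one_zpow]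
      rw [hzl, mul_one, zpow_add, hi] at hz2
      rcases huniq u huA hz2 with h | h
      · rw [heq, h, one_mul]; exact (hU v).2 (by simp)
      · rw [heq, h]; exact (hU _).2 (by simp)
    · exfalso
      have hzl : z ^ i = z := by rw [hl, zpow_add_one, zpow_mul, zpow_two, hzz, one_zpow, one_mul]
      rw [hzl] at hz2
      have h4' : a ^ (4 * i) = 1 := by
        have h5 : a ^ (i + i) = z := by
          rw [mul_eq_one_iff_eq_inv.1 hz2, inv_eq_of_mul_eq_one_right hzz]
        rw [show 4 * i = (i + i) + (i + i) by ring, zpow_add, h5, hzz]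
      have h4 : (orderOf a : ℤ) ∣ 4 * i := orderOf_dvd_iff_zpow_eq_one.2 h4'
      rw [hn] at h4
      have hn2 : n = 2 := by
        have hge : 2 ≤ n := by
          by_contra hlt
          obtain rfl : n = 1 := by omega
          have h2 : a * a = 1 := by rw [← pow_two, ← pow_orderOf_eq_one a, hn]; rfl
          rcases huniq a haA h2 with h | h
          · exact ha1 h
          · have hvC : v ∈ A := by
              rw [← hCA, Subgroup.mem_centralizer_iff]
              intro w hw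
              obtain ⟨l, rfl⟩ := hgen w hw
              refine ((Commute.zpow_right (?_ : Commute v a) l)).eq.symm
              rw [h]; exact mul_inv_eq_iff_eq_mul.1 (hzc v)
            exact hvA hvC
        by_contra hn2
        have h8 : (8 : ℤ) ∣ 4 * i := dvd_trans (by
          exact_mod_cast (pow_dvd_pow 2 (show 3 ≤ n by omega))) h4
        obtain ⟨w, hw⟩ := h8
        omega
      apply hne
      have hz' : z = a ^ 2 := by simp [z, hn2]
      rw [eq_inv_iff_mul_eq_one, hz', ← pow_succ', ← pow_succ, ← orderOf_dvd_iff_pow_eq_one, hn, hn2]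
      norm_num
  rcases (hU w).1 hw with h | h | h | h <;> rw [h]
  · simp
  · rw [hzc]; exact (hU z).2 (by simp)
  · exact hgv
  · rw [show g * (z * v) * g⁻¹ = (g * z * g⁻¹) * (g * v * g⁻¹) by group, hzc]
    exact mul_mem ((hU z).2 (by simp)) hgv

end CfsgLib.Invol
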