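import Cfsg.Agent.Lib.Invol.Isolated
import Cfsg.Agent.Lib.Invol.FourGroup
import Cfsg.Agent.Lib.Solvable.UniqueSubgroup
import Mathlib.GroupTheory.SpecificGroups.KleinFour

/-!
Groups without four-subgroups: the involutions are conjugate and isolated.
-/

set_option autoImplicit false
set_option linter.unusedSectionVars false

namespace CfsgLib.Invol

variable {G : Type*} [Group G] [Finite G]

theorem isKleinFour_of_sq {U : Subgroup G} (h4 : Nat.card U = 4) (hsq : ∀ u ∈ U, u * u = 1) :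
    IsKleinFour U := by
  refine ⟨h4, ?_⟩
  have hd : Monoid.exponent U ∣ 2 := Monoid.exponent_dvd.2 fun u =>
    orderOf_dvd_of_pow_eq_one (Subtype.ext (by rw [pow_two]; exact hsq u u.2))
  rcases (Nat.dvd_prime Nat.prime_two).1 hd with h | h
  · exfalso
    have : Subsingleton U := Monoid.exp_eq_one_iff.1 h
    rw [Nat.card_of_subsingleton (1 : U)] at h4
    omega
  · exact h

variable (hrank : ∀ E : Subgroup G, ¬ IsKleinFour E)
include hrank

theorem rankOne_eq_of_commute {a b : G} (ha : orderOf a = 2) (hb : orderOf b = 2)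
    (h : Commute a b) : a = b := by
  by_contra hne
  obtain ⟨U, -, h4, -, hsq⟩ := exists_four (invol_mul_self ha) (invol_mul_self hb) h.eq
    (invol_ne_one ha) (invol_ne_one hb) (Ne.symm hne)
  exact hrank U (isKleinFour_of_sq h4 hsq)

theorem rankOne_isolated {z : G} (hz : orderOf z = 2) : Cfsg.IsIsolatedInvolution z :=
  ⟨hz, fun g hg => (rankOne_eq_of_commute hrank hz (by rw [orderOf_conj_eq, hz]) hg).symm⟩

theorem rankOne_eq_of_mem_sylow (P : Sylow 2 G) {a b : G} (ha : orderOf a = 2)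
    (hb : orderOf b = 2) (haP : a ∈ (P : Subgroup G)) (hbP : b ∈ (P : Subgroup G)) : a = b := by
  have hne : Nontrivial (P : Subgroup G) :=
    ⟨⟨⟨a, haP⟩, 1, fun h => invol_ne_one ha (congrArg Subtype.val h)⟩⟩
  have := P.2.center_nontrivial
  obtain ⟨c, hc⟩ := exists_prime_orderOf_dvd_card' (G := Subgroup.center (P : Subgroup G)) 2 (by
    obtain ⟨k, hk, hk'⟩ := (P.2.to_subgroup (Subgroup.center (P : Subgroup G))).nontrivial_iff_card.1
      inferInstance
    rw [hk']; exact dvd_pow_self 2 hk.ne')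
  have hco : orderOf ((c : (P : Subgroup G)) : G) = 2 := by
    rw [Subgroup.orderOf_coe, Subgroup.orderOf_coe, hc]
  have key : ∀ x : G, orderOf x = 2 → x ∈ (P : Subgroup G) → x = ((c : (P : Subgroup G)) : G) :=
    fun x hx hxP => rankOne_eq_of_commute hrank hx hco
      (congrArg Subtype.val (Subgroup.mem_center_iff.1 c.2 ⟨x, hxP⟩))
  rw [key a ha haP, key b hb hbP]

theorem rankOne_isConj {a b : G} (ha : orderOf a = 2) (hb : orderOf b = 2) : IsConj a b := by
  obtain ⟨P⟩ := (inferInstance : Nonempty (Sylow 2 G))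
  obtain ⟨g, hg⟩ := exists_conj_invol_mem_sylow P ha
  obtain ⟨h, hh⟩ := exists_conj_invol_mem_sylow P hb
  have e := rankOne_eq_of_mem_sylow hrank P (by rw [orderOf_conj_eq, ha])
    (by rw [orderOf_conj_eq, hb]) hg hh
  refine (isConj_iff.2 ⟨g, rfl⟩ : IsConj a (g * a * g⁻¹)).trans ?_
  rw [e]
  exact (isConj_iff.2 ⟨h, rfl⟩ : IsConj b (h * b * h⁻¹)).symm

/-- A Sylow 2-subgroup is cyclic or generalized quaternion. -/
theorem rankOne_sylow (P : Sylow 2 G) :
    IsCyclic (P : Subgroup G) ∨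
      ∃ n : ℕ, Nonempty ((P : Subgroup G) ≃* QuaternionGroup (2 ^ n)) := by
  refine (CfsgLib.Solvable.isCyclic_or_quaternion_of_unique P.2 fun H K hH hK => ?_).imp id (·.2)
  have key : ∀ L : Subgroup (P : Subgroup G), Nat.card L = 2 → ∃ x : (P : Subgroup G),
      orderOf x = 2 ∧ L = Subgroup.zpowers x := by
    intro L hL
    obtain ⟨x, hx⟩ := exists_prime_orderOf_dvd_card' (G := L) 2 (by rw [hL])
    refine ⟨x, by rw [Subgroup.orderOf_coe, hx], (Subgroup.eq_of_le_of_card_ge
      (Subgroup.zpowers_le.2 x.2) (by rw [hL, Nat.card_zpowers, Subgroup.orderOf_coe, hx])).symm⟩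
  obtain ⟨x, hx, rfl⟩ := key H hH
  obtain ⟨y, hy, rfl⟩ := key K hK
  have e : x = y := Subtype.ext (rankOne_eq_of_mem_sylow hrank P
    (by rw [Subgroup.orderOf_coe, hx]) (by rw [Subgroup.orderOf_coe, hy]) x.2 y.2)
  rw [e]

end CfsgLib.Invol
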