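import Cfsg.Agent.Lib.Invol.Q8Main
import Cfsg.Agent.Lib.Invol.RankOne
import Cfsg.Agent.Lib.Clifford.Quaternion

/-!
The Brauer-Suzuki theorem for groups of 2-rank one, and Glauberman's Z*-theorem.
-/

set_option autoImplicit false
set_option linter.unusedSectionVars false

namespace CfsgLib.Invol

open Cfsg

universe u

private theorem q8_invol : ∀ x : QuaternionGroup 2, x * x = 1 → x = 1 ∨ x = QuaternionGroup.a 2 := by
  decide

private theorem q8_exp : ∀ x : QuaternionGroup 2, x * x * (x * x) = 1 := by decide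

private theorem q8_cent : ∀ s : QuaternionGroup 2, (∀ x, s * x = x * s) → s * s = 1 := by decide

private theorem q8_inv : ∀ s : QuaternionGroup 2, ∃ j, j * s * j⁻¹ = s⁻¹ := by decide

private theorem q8_z : (QuaternionGroup.a 2 : QuaternionGroup 2) * QuaternionGroup.a 2 = 1 ∧
    (QuaternionGroup.a 2 : QuaternionGroup 2) ≠ 1 := by decide

private theorem q8_axes : ∀ x y : QuaternionGroup 2, x * x ≠ 1 → y * y ≠ 1 → y ≠ x → y ≠ x⁻¹ →
    ∀ v, v * v ≠ 1 → v = x ∨ v = x⁻¹ ∨ v = y ∨ v = y⁻¹ ∨ v = x * y ∨ v = (x * y)⁻¹ := by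
  decide

variable {G : Type u} [Group G] [Finite G]

/-- With a normal 2-complement and trivial odd core, the group is a 2-group. -/
theorem exists_central_of_complement (heven : Even (Nat.card G))
    (hnorm : ∀ N : Subgroup G, N.Normal → Odd (Nat.card N) → N = ⊥)
    (h : HasNormalPComplement 2 G) : ∃ z ∈ Subgroup.center G, orderOf z = 2 := by
  obtain ⟨N, hN, hc, hq⟩ := CfsgLib.Transfer.hasNormalPComplement_iff_exists.1 h
  have hb := hnorm N hN (Nat.coprime_two_right.1 hc)
  subst hb
  have hG : IsPGroup 2 G := hq.of_equiv QuotientGroup.quotientBot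
  have : Nontrivial G := Finite.one_lt_card_iff_nontrivial.1 (by
    have := Nat.card_pos (α := G); obtain ⟨k, hk⟩ := heven; omega)
  have := hG.center_nontrivial
  obtain ⟨k, hk, hk'⟩ := (hG.to_subgroup (Subgroup.center G)).nontrivial_iff_card.1 inferInstance
  obtain ⟨c, hc⟩ := exists_prime_orderOf_dvd_card' (G := Subgroup.center G) 2 (by
    rw [hk']; exact dvd_pow_self 2 hk.ne')
  exact ⟨c, c.2, by rw [Subgroup.orderOf_coe, hc]⟩

theorem exists_central_of_cyclic (heven : Even (Nat.card G))
    (hnorm : ∀ N : Subgroup G, N.Normal → Odd (Nat.card N) → N = ⊥) (P : Sylow 2 G)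
    (hP : IsCyclic (P : Subgroup G)) : ∃ z ∈ Subgroup.center G, orderOf z = 2 :=
  exists_central_of_complement heven hnorm
    (CfsgLib.Transfer.hasNormalPComplement_of_normalizer_le_centralizer P
      (hP.normalizer_le_centralizer ((Nat.minFac_eq_two_iff _).2 (even_iff_two_dvd.1 heven))))

/-- An element of odd order fixing the square of its action fixes the element. -/
theorem conj_eq_of_sq_conj_eq {g x : G} (hg : Odd (orderOf g))
    (h : g * g * x * (g * g)⁻¹ = x) : g * x * g⁻¹ = x := by
  have hc : Commute (g * g) x := mul_inv_eq_iff_eq_mul.1 h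
  obtain ⟨k, hk⟩ := hg
  have hgk : (g * g) ^ (k + 1) = g := by
    rw [← pow_two, ← pow_mul, show 2 * (k + 1) = orderOf g + 1 by omega, pow_succ,
      pow_orderOf_eq_one, one_mul]
  have := hc.pow_left (k + 1)
  rw [hgk] at this
  rw [this.eq, mul_inv_cancel_right]

/-- Either a normal 2-complement, or the data of a quaternion Sylow 2-subgroup of order 8. -/
theorem q8Data_or_complement (S : Sylow 2 G) (e : (S : Subgroup G) ≃* QuaternionGroup 2) :
    HasNormalPComplement 2 G ∨ Nonempty (Q8Data G) := by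
  by_cases hF : ∀ D : Subgroup G, IsPGroup 2 D →
      ∀ g ∈ Subgroup.normalizer (D : Set G), (orderOf g).Coprime 2 →
        g ∈ Subgroup.centralizer (D : Set G)
  · exact Or.inl (CfsgLib.Transfer.hasNormalPComplement_iff_frobenius.2 hF)
  refine Or.inr ?_
  push Not at hF
  obtain ⟨D, hD, g, hg, hgo, hgc⟩ := hF
  rw [Nat.coprime_two_right] at hgo
  set z : G := ((e.symm (QuaternionGroup.a 2) : (S : Subgroup G)) : G)
  have hzS : z ∈ (S : Subgroup G) := Subtype.coe_prop _
  have huniq : ∀ x ∈ (S : Subgroup G), x * x = 1 → x = 1 ∨ x = z := fun x hx h =>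
    (q8_invol (e ⟨x, hx⟩) (by rw [← map_mul, show (⟨x, hx⟩ : (S : Subgroup G)) * ⟨x, hx⟩ = 1 from
      Subtype.ext h, map_one])).imp
      (fun h' => congrArg Subtype.val (e.map_eq_one_iff.1 h'))
      (fun h' => congrArg Subtype.val (e.eq_symm_apply.2 h'))
  have hz : orderOf z = 2 := by
    rw [Subgroup.orderOf_coe, MulEquiv.orderOf_eq]
    exact invol_of_mul_self q8_z.1 q8_z.2
  -- move the subgroup into `S`
  obtain ⟨c, hc⟩ := exists_conj_mem_sylow (p := 2) S hD
  obtain ⟨d, hdD, hdne⟩ : ∃ d ∈ D, g * d * g⁻¹ ≠ d := by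
    by_contra h
    push Not at h
    exact hgc (Subgroup.mem_centralizer_iff.2 fun d hd => (mul_inv_eq_iff_eq_mul.1 (h d hd)).symm)
  set g' := c * g * c⁻¹ with hg'
  have hg'o : Odd (orderOf g') := by rw [hg', orderOf_conj_eq]; exact hgo
  set x := c * d * c⁻¹ with hx
  set y := g' * x * g'⁻¹ with hy
  set w := g' * y * g'⁻¹ with hw
  have hyd : y = c * (g * d * g⁻¹) * c⁻¹ := by rw [hy, hg', hx]; group
  have hgD : g * d * g⁻¹ ∈ D := (Subgroup.mem_normalizer_iff.1 hg d).1 hdD
  have hxS : x ∈ (S : Subgroup G) := hc d hdD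
  have hyS : y ∈ (S : Subgroup G) := hyd ▸ hc _ hgD
  have hwS : w ∈ (S : Subgroup G) := by
    have : w = c * (g * (g * d * g⁻¹) * g⁻¹) * c⁻¹ := by rw [hw, hyd, hg']; group
    exact this ▸ hc _ ((Subgroup.mem_normalizer_iff.1 hg _).1 hgD)
  have hyx : y ≠ x := fun h => hdne (by
    rw [hyd, hx] at h
    exact mul_left_cancel (mul_right_cancel h))
  have hx2 : x * x ≠ 1 := by
    intro h
    have hy2 : y * y = 1 := by rw [hy, conj_mul, h, mul_one, mul_inv_cancel]
    rcases huniq x hxS h with hx1 | hxz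
    · exact hyx (by rw [hy, hx1, mul_one, mul_inv_cancel])
    · rcases huniq y hyS hy2 with hy1 | hyz
      · rw [hy, mul_inv_eq_one, mul_eq_left] at hy1
        exact invol_ne_one hz (hxz.symm.trans hy1)
      · exact hyx (hyz.trans hxz.symm)
  have hy2 : y * y ≠ 1 := fun h => hx2 (by
    rw [hy, conj_mul, mul_inv_eq_one, mul_eq_left] at h; exact h)
  have hw2 : w * w ≠ 1 := fun h => hy2 (by
    rw [hw, conj_mul, mul_inv_eq_one, mul_eq_left] at h; exact h)
  have hyx' : y ≠ x⁻¹ := fun h => hyx (conj_eq_of_sq_conj_eq hg'o (by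
    have : g' * g' * x * (g' * g')⁻¹ = g' * y * g'⁻¹ := by rw [hy]; group
    rw [this, h, show g' * x⁻¹ * g'⁻¹ = (g' * x * g'⁻¹)⁻¹ by group, ← hy, h, inv_inv]))
  have hwy : w ≠ y := fun h => hyx (by rw [hw, hy] at h; exact mul_left_cancel (mul_right_cancel h))
  have hwy' : w ≠ y⁻¹ := fun h => hyx' (mul_left_cancel (a := g') (mul_right_cancel (b := g'⁻¹) (by
    rw [← hw, h, show g' * x⁻¹ * g'⁻¹ = (g' * x * g'⁻¹)⁻¹ by group, ← hy])))
  have hwx : w ≠ x := fun h => hyx (conj_eq_of_sq_conj_eq hg'o (by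
    rw [show g' * g' * x * (g' * g')⁻¹ = g' * y * g'⁻¹ by rw [hy]; group, ← hw, h]))
  have hwx' : w ≠ x⁻¹ := fun h => hwx (conj_eq_of_sq_conj_eq (g := g' * g') (hg'o.of_dvd_nat (by
    rw [← pow_two]; exact orderOf_pow_dvd 2)) (by
    rw [show g' * g' * (g' * g') * x * (g' * g' * (g' * g'))⁻¹ = g' * g' * w * (g' * g')⁻¹ by
      rw [hw, hy]; group, h, show g' * g' * x⁻¹ * (g' * g')⁻¹ = (g' * y * g'⁻¹)⁻¹ by rw [hy]; simp [mul_assoc],
      ← hw, h, inv_inv]) |>.symm.trans (by rw [hw, hy]; group) |>.symm)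
  refine ⟨⟨S, z, hz, hzS, huniq, ?_, fun a ha => ?_, fun s hs h => ?_, fun s hs => ?_, fun a b ha hb => ?_⟩⟩
  · rw [Nat.card_congr e.toEquiv, Nat.card_eq_fintype_card, QuaternionGroup.card]
  · refine congrArg Subtype.val (e.injective ?_ : (⟨a, ha⟩ : (S : Subgroup G)) ^ 4 = 1)
    rw [map_pow, map_one, show (4 : ℕ) = 2 + 2 from rfl, pow_add, pow_two]
    exact q8_exp _
  · refine congrArg Subtype.val (e.injective ?_ :
      (⟨s, hs⟩ : (S : Subgroup G)) * ⟨s, hs⟩ = 1)
    rw [map_mul, map_one]
    refine q8_cent _ fun v => ?_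
    obtain ⟨⟨v, hv⟩, rfl⟩ := e.surjective v
    rw [← map_mul, ← map_mul]
    exact congrArg e (Subtype.ext (h v hv))
  · obtain ⟨j, hj⟩ := q8_inv (e ⟨s, hs⟩)
    obtain ⟨j, rfl⟩ := e.surjective j
    rw [← map_inv, ← map_inv, ← map_mul, ← map_mul] at hj
    exact ⟨j, j.2, congrArg Subtype.val (e.injective hj)⟩
  · -- all elements of order four in `S` are conjugate to `x`
    have hsq : ∀ {v : G} (hv : v ∈ (S : Subgroup G)), v * v ≠ 1 → e ⟨v, hv⟩ * e ⟨v, hv⟩ ≠ 1 := by
      intro v hv hne h
      rw [← map_mul, e.map_eq_one_iff] at h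
      exact hne (congrArg Subtype.val h)
    have hne : ∀ {u v : G} (hu : u ∈ (S : Subgroup G)) (hv : v ∈ (S : Subgroup G)),
        u ≠ v → e ⟨u, hu⟩ ≠ e ⟨v, hv⟩ := fun hu hv h h' =>
      h (congrArg Subtype.val (e.injective h'))
    have axes : ∀ v ∈ (S : Subgroup G), v * v ≠ 1 →
        v = x ∨ v = x⁻¹ ∨ v = y ∨ v = y⁻¹ ∨ v = x * y ∨ v = (x * y)⁻¹ := by
      intro v hv hv2
      have h := q8_axes (e ⟨x, hxS⟩) (e ⟨y, hyS⟩) (hsq hxS hx2) (hsq hyS hy2) (hne hyS hxS hyx)
        (by rw [← map_inv]; exact hne hyS (inv_mem hxS) hyx') (e ⟨v, hv⟩) (hsq hv hv2)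
      simp only [← map_mul, ← map_inv, e.injective.eq_iff, Subtype.ext_iff] at h
      exact h
    have hxy : IsConj x y := isConj_iff.2 ⟨g', hy.symm⟩
    have hxw : IsConj x w := hxy.trans (isConj_iff.2 ⟨g', hw.symm⟩)
    have hinv : ∀ v ∈ (S : Subgroup G), IsConj v v⁻¹ := by
      intro v hv
      obtain ⟨j, hj⟩ := q8_inv (e ⟨v, hv⟩)
      obtain ⟨j, rfl⟩ := e.surjective j
      rw [← map_inv, ← map_inv, ← map_mul, ← map_mul] at hj
      exact isConj_iff.2 ⟨j, congrArg Subtype.val (e.injective hj)⟩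
    have hxyS : x * y ∈ (S : Subgroup G) := mul_mem hxS hyS
    have hxyx : IsConj x (x * y) := by
      rcases axes w hwS hw2 with h | h | h | h | h | h
      · exact absurd h hwx
      · exact absurd h hwx'
      · exact absurd h hwy
      · exact absurd h hwy'
      · exact h ▸ hxw
      · rw [h] at hxw
        exact hxw.trans (hinv _ hxyS).symm
    have key : ∀ v : G, orderOf v = 4 → IsConj x v := by
      intro v hv
      obtain ⟨k, hk⟩ := exists_conj_mem_sylow (p := 2) S
        (H := Subgroup.zpowers v) (IsPGroup.of_card (n := 2) (by rw [Nat.card_zpowers, hv]; rfl))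
      have h1 := hk v (Subgroup.mem_zpowers v)
      refine IsConj.trans ?_ (isConj_iff.2 ⟨k, rfl⟩ : IsConj v (k * v * k⁻¹)).symm
      have h2 : k * v * k⁻¹ * (k * v * k⁻¹) ≠ 1 := by
        rw [conj_mul]
        intro h
        rw [mul_inv_eq_one, mul_eq_left] at h
        have := orderOf_dvd_of_pow_eq_one (show v ^ 2 = 1 by rw [pow_two]; exact h)
        rw [hv] at this
        norm_num at this
      rcases axes _ h1 h2 with h | h | h | h | h | h <;> rw [h]
      · exact hinv x hxS
      · exact hxy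
      · exact hxy.trans (hinv y hyS)
      · exact hxyx
      · exact hxyx.trans (hinv _ hxyS)
    exact (key a ha).symm.trans (key b hb)

/-- The Brauer-Suzuki theorem. -/
theorem centralInvol : CentralInvolOfRankOne.{u} := by
  intro K _ _
  induction hn : Nat.card K using Nat.strong_induction_on generalizing K with
  | _ n ih =>
    intro heven hrank hnorm
    subst hn
    obtain ⟨S⟩ := (inferInstance : Nonempty (Sylow 2 K))
    rcases rankOne_sylow hrank S with hc | ⟨n, ⟨e⟩⟩
    · exact exists_central_of_cyclic heven hnorm S hc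
    match n, e with
    | 0, e =>
      have hc : IsCyclic (QuaternionGroup (2 ^ 0)) := QuaternionGroup.quaternionGroup_one_isCyclic
      exact exists_central_of_cyclic heven hnorm S (isCyclic_of_injective e.toMonoidHom e.injective)
    | m + 2, e =>
      have := Fintype.ofFinite K
      have h := CfsgLib.Clifford.Quat.natCard_center e hnorm
      obtain ⟨c, hc⟩ := exists_prime_orderOf_dvd_card' (G := Subgroup.center K) 2 (by rw [h])
      exact ⟨c, c.2, by rw [Subgroup.orderOf_coe, hc]⟩
    | 1, e =>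
      rcases q8Data_or_complement S e with hc | ⟨⟨D⟩⟩
      · exact exists_central_of_complement heven hnorm hc
      by_cases hzc : D.z ∈ Subgroup.center K
      · exact ⟨D.z, hzc, D.hz⟩
      exfalso
      have := Fintype.ofFinite K
      obtain ⟨χ, hχ1, hχ⟩ := D.exists_char_scalar
      set N := CfsgLib.BlockB.charKer χ
      have hcomm : ∀ g : K, D.z * g * D.z⁻¹ * g⁻¹ ∈ N := fun g =>
        commutator_mem_charKer χ D.hz hχ g
      have hN : N.Normal := CfsgLib.BlockB.charKer_normal χ
      have hne : N ≠ ⊥ := fun h => hzc (Subgroup.mem_center_iff.2 fun g => by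
        have := hcomm g
        rw [h, Subgroup.mem_bot] at this
        exact (mul_inv_eq_iff_eq_mul.1 (mul_inv_eq_one.1 this)).symm)
      have hlt : Nat.card N < Nat.card K := lt_of_le_of_ne (Subgroup.card_le_card_group _) fun h =>
        hχ1 (CfsgLib.BlockB.eq_one_of_charKer_eq_top χ ((Subgroup.card_eq_iff_eq_top _).1 h))
      have hEven : Even (Nat.card N) := by
        rw [← Nat.not_odd_iff_even]; exact fun h => hne (hnorm N hN h)
      obtain ⟨w, hwc, hw⟩ := ih _ hlt N rfl hEven
        (fun E hE => hrank (E.map N.subtype) (by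
          have eq := E.equivMapOfInjective _ N.subtype_injective
          exact ⟨by rw [← Nat.card_congr eq.toEquiv, hE.card_four],
            by rw [← Monoid.exponent_eq_of_mulEquiv eq, hE.exponent_two]⟩))
        (fun M hM hodd => by
          have hchar : ((oddCore N).map N.subtype).Normal := by
            have := CfsgLib.Solvable.pPrimeCore_characteristic 2 N
            infer_instance
          have hb := hnorm _ hchar (by
            rw [← Nat.card_congr ((oddCore N).equivMapOfInjective _ N.subtype_injective).toEquiv]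
            exact odd_card_oddCore N)
          rw [Subgroup.map_eq_bot_iff_of_injective _ N.subtype_injective] at hb
          exact le_bot_iff.1 (hb ▸ le_oddCore hM hodd))
      have hwo : orderOf (w : K) = 2 := by rw [Subgroup.orderOf_coe, hw]
      obtain ⟨g, hg⟩ := isConj_iff.1 (rankOne_isConj hrank hwo D.hz)
      have hzN : D.z ∈ N := hg ▸ hN.conj_mem _ w.2 g
      have hwz : (w : K) = D.z := rankOne_eq_of_commute hrank hwo D.hz
        (congrArg Subtype.val (Subgroup.mem_center_iff.1 hwc ⟨D.z, hzN⟩)).symm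
      refine hzc (isolated_mem_center_of_commute D.isolated fun h => ?_)
      have := congrArg Subtype.val (Subgroup.mem_center_iff.1 hwc ⟨h * D.z * h⁻¹, hN.conj_mem _ hzN h⟩)
      simp only [Subgroup.coe_mul, hwz] at this
      exact this.symm

/-- Glauberman's Z*-theorem. -/
theorem zstar (G : Type u) [Group G] [Finite G] {z : G} (hz : IsIsolatedInvolution z) (g : G) :
    z * g * z⁻¹ * g⁻¹ ∈ oddCore G :=
  zstar_of_centralInvol centralInvol G z hz g

end CfsgLib.Invol
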