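import Cfsg.Agent.Lib.Invol.BrauerSuzuki
import Cfsg.Prelude.Def_Transfer

/-!
Elements all of whose powers are isolated in a Sylow 2-subgroup are central modulo the odd core.
-/

set_option autoImplicit false
set_option linter.unusedSectionVars false

namespace CfsgLib.Invol

open scoped Pointwise

universe u

/-- No power of `c` is conjugate to another element of `P`. -/
def IsoElt {G : Type u} [Group G] (P : Subgroup G) (c : G) : Prop :=
  c ∈ P ∧ ∀ (k : ℕ) (g : G), g * c ^ k * g⁻¹ ∈ P → g * c ^ k * g⁻¹ = c ^ k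

theorem isoElt_pow {G : Type u} [Group G] {P : Subgroup G} {c : G} (h : IsoElt P c) (j : ℕ) :
    IsoElt P (c ^ j) :=
  ⟨pow_mem h.1 j, fun k g hg => by rw [← pow_mul] at hg ⊢; exact h.2 _ g hg⟩

theorem isoElt_fix {G : Type u} [Group G] {P : Subgroup G} {c g : G} (h : IsoElt P c)
    (hg : g * c * g⁻¹ ∈ P) : g * c * g⁻¹ = c := by
  have := h.2 1 g (by rwa [pow_one])
  rwa [pow_one] at this

theorem isoElt_central {G : Type u} [Group G] [Finite G] (hO : Cfsg.oddCore G = ⊥) (P : Sylow 2 G)
    {c : G} (hc : IsoElt (P : Subgroup G) c) : c ∈ Subgroup.center G := by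
  induction hn : orderOf c using Nat.strong_induction_on generalizing c with
  | _ n ih =>
    subst hn
    rcases eq_or_ne c 1 with rfl | hc1
    · exact one_mem _
    have hsq : c ^ 2 ∈ Subgroup.center G := by
      obtain ⟨k, hk⟩ := P.2 ⟨c, hc.1⟩
      obtain ⟨j, -, hj⟩ := (Nat.dvd_prime_pow Nat.prime_two).1
        (orderOf_dvd_of_pow_eq_one (congrArg Subtype.val hk : c ^ 2 ^ k = 1))
      refine ih _ ?_ (isoElt_pow hc 2) rfl
      cases j with
      | zero => exact absurd (orderOf_eq_one_iff.1 (by rw [hj, pow_zero])) hc1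
      | succ j =>
        rw [orderOf_pow' c two_ne_zero, hj, Nat.gcd_eq_right ⟨2 ^ j, by ring⟩]
        exact Nat.div_lt_self (by positivity) one_lt_two
    set K := Subgroup.zpowers (c ^ 2)
    have hKc : K ≤ Subgroup.center G := Subgroup.zpowers_le.2 hsq
    have : K.Normal := ⟨fun n hn g => by
      rwa [Subgroup.mem_center_iff.1 (hKc hn) g, mul_inv_cancel_right]⟩
    have hKP : K ≤ (P : Subgroup G) := Subgroup.zpowers_le.2 (pow_mem hc.1 2)
    refine Subgroup.mem_center_iff.2 fun g => (mul_inv_eq_iff_eq_mul.1 (isoElt_fix hc ?_))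
    have goal : c * g * c⁻¹ * g⁻¹ ∈ K := by
      set π := QuotientGroup.mk' K
      rcases eq_or_ne (π c) 1 with hz | hz
      · have := hKc ((QuotientGroup.eq_one_iff c).1 hz)
        rw [← Subgroup.mem_center_iff.1 this g, mul_inv_cancel_right, mul_inv_cancel]
        exact one_mem _
      have hπ2 : orderOf (π c) = 2 := by
        refine invol_of_mul_self ?_ hz
        rw [← map_mul, ← pow_two]
        exact (QuotientGroup.eq_one_iff _).2 (Subgroup.mem_zpowers _)
      have hiso : Cfsg.IsIsolatedInvolution (π c) := by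
        refine isolated_of_sylow (P.mapSurjective (QuotientGroup.mk'_surjective K)) hπ2
          ⟨c, hc.1, rfl⟩ fun q hq => ?_
        obtain ⟨g, rfl⟩ := QuotientGroup.mk'_surjective K q
        obtain ⟨s, hs, hsg⟩ := hq
        have hmem : g * c * g⁻¹ ∈ (P : Subgroup G) := by
          have h1 : π s = π (g * c * g⁻¹) := by rw [map_mul, map_mul, map_inv]; exact hsg
          have h2 := hKP (QuotientGroup.eq.1 h1)
          have := mul_mem hs h2
          rwa [mul_inv_cancel_left] at this
        rw [← map_inv, ← map_mul, ← map_mul, isoElt_fix hc hmem]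
      have hz2 := zstar (G ⧸ K) hiso (π g)
      set M := (Cfsg.oddCore (G ⧸ K)).comap π
      have hgM : c * g * c⁻¹ * g⁻¹ ∈ M := by
        simp only [M, Subgroup.mem_comap, map_mul, map_inv]; exact hz2
      have : (Cfsg.oddCore (G ⧸ K)).Normal := CfsgLib.Solvable.pPrimeCore_normal 2 _
      have hKM : K ≤ M := fun n hn => by
        simp only [M, Subgroup.mem_comap, show π n = 1 from (QuotientGroup.eq_one_iff n).2 hn]
        exact one_mem _
      obtain ⟨j, hj⟩ := (P.2.to_le hKP).exists_card_eq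
      have hcardM : Nat.card M = Nat.card (Cfsg.oddCore (G ⧸ K)) * 2 ^ j := by
        have h1 := M.card_mul_index
        rw [Subgroup.index_comap_of_surjective _ (QuotientGroup.mk'_surjective K)] at h1
        rw [Subgroup.card_eq_card_quotient_mul_card_subgroup K, hj,
          ← (Cfsg.oddCore (G ⧸ K)).card_mul_index] at h1
        refine Nat.eq_of_mul_eq_mul_right (Nat.pos_of_ne_zero
          (Subgroup.FiniteIndex.index_ne_zero (H := Cfsg.oddCore (G ⧸ K)))) ?_
        rw [h1]; ring
      let Q : Sylow 2 M := Sylow.ofCard (K.subgroupOf M) (by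
        rw [Nat.card_congr (Subgroup.subgroupOfEquivOfLe hKM).toEquiv, hj, hcardM,
          Nat.factorization_mul Nat.card_pos.ne' (by positivity), Finsupp.add_apply,
          Nat.factorization_eq_zero_of_not_dvd (Nat.two_dvd_ne_zero.2
            (Nat.odd_iff.1 (odd_card_oddCore (G ⧸ K)))),
          Nat.Prime.factorization_pow Nat.prime_two, Finsupp.single_eq_same, zero_add])
      have hcomp : Cfsg.HasNormalPComplement 2 M :=
        CfsgLib.Transfer.hasNormalPComplement_of_normalizer_le_centralizer Q fun n _ => by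
          refine Subgroup.mem_centralizer_iff.2 fun w hw => Subtype.ext ?_
          exact (Subgroup.mem_center_iff.1 (hKc (show (w : G) ∈ K from hw)) n).symm
      have hodd := CfsgLib.Transfer.hasNormalPComplement_iff_coprime_pResidual.1 hcomp
      have := CfsgLib.Transfer.pResidual_characteristic (G := M) (p := 2)
      have hb : (Cfsg.pResidual 2 M).map M.subtype = ⊥ := by
        have hR : ((Cfsg.pResidual 2 M).map M.subtype).Normal := inferInstance
        refine le_bot_iff.1 (hO ▸ le_oddCore hR ?_)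
        rw [← Nat.card_congr ((Cfsg.pResidual 2 M).equivMapOfInjective _ M.subtype_injective).toEquiv]
        exact Nat.coprime_two_right.1 hodd
      rw [Subgroup.map_eq_bot_iff_of_injective _ M.subtype_injective] at hb
      -- every element of `M` is a 2-element, so `M = K`
      have hcard1 : Nat.card (Cfsg.oddCore (G ⧸ K)) = 1 := by
        by_contra h
        obtain ⟨q, hq, hqd⟩ := Nat.exists_prime_and_dvd h
        haveI := Fact.mk hq
        obtain ⟨m, hm⟩ := exists_prime_orderOf_dvd_card' (G := M) q (hcardM ▸ hqd.mul_right _)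
        have hq2 : q ≠ 2 := fun h2 => Nat.not_even_iff_odd.2 (odd_card_oddCore (G ⧸ K))
          (even_iff_two_dvd.2 (h2 ▸ hqd))
        have h3 : m ∈ Cfsg.pResidual 2 M := CfsgLib.Transfer.mem_pResidual_of_coprime
          (hm ▸ Nat.coprime_two_right.2 (hq.odd_of_ne_two hq2))
        rw [hb, Subgroup.mem_bot] at h3
        rw [h3, orderOf_one] at hm
        exact hq.ne_one hm.symm
      have hMK : K = M := Subgroup.eq_of_le_of_card_ge hKM (by rw [hcardM, hcard1, one_mul, hj])
      rw [hMK]; exact hgM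
    have h2 := mul_mem (inv_mem (hKP goal)) hc.1
    rwa [show (c * g * c⁻¹ * g⁻¹)⁻¹ * c = g * c * g⁻¹ by group] at h2

theorem isoElt_commutator_mem {G : Type u} [Group G] [Finite G] (P : Sylow 2 G) {c : G}
    (hc : IsoElt (P : Subgroup G) c) (g : G) : c * g * c⁻¹ * g⁻¹ ∈ Cfsg.oddCore G := by
  set O := Cfsg.oddCore G
  have : O.Normal := CfsgLib.Solvable.pPrimeCore_normal 2 G
  set π := QuotientGroup.mk' O
  have key : IsoElt ((P.mapSurjective (QuotientGroup.mk'_surjective O) : Sylow 2 (G ⧸ O)) :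
      Subgroup (G ⧸ O)) (π c) := by
    refine ⟨⟨c, hc.1, rfl⟩, fun k q hq => ?_⟩
    obtain ⟨g, rfl⟩ := QuotientGroup.mk'_surjective O q
    obtain ⟨s, hs, hsg⟩ := hq
    have h1 : π s = π (g * c ^ k * g⁻¹) := by rw [map_mul, map_mul, map_inv, map_pow]; exact hsg
    set x := g * c ^ k * g⁻¹
    set H := (P : Subgroup G) ⊔ O
    have hxH : x ∈ H := by
      have := mul_mem (Subgroup.mem_sup_left (T := O) hs) (Subgroup.mem_sup_right (QuotientGroup.eq.1 h1))
      rwa [mul_inv_cancel_left] at this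
    obtain ⟨m, hm⟩ : ∃ m : ℕ, x ^ 2 ^ m = 1 := by
      obtain ⟨j, hj⟩ := P.2 ⟨c ^ k, pow_mem hc.1 k⟩
      exact ⟨j, by rw [conj_pow, show (c ^ k) ^ 2 ^ j = 1 from congrArg Subtype.val hj, mul_one, mul_inv_cancel]⟩
    obtain ⟨h, hh⟩ := exists_conj_mem_sylow (p := 2) (P.subtype (le_sup_left : _ ≤ H))
      (H := Subgroup.zpowers (⟨x, hxH⟩ : H))
      (IsPGroup.of_card (n := (Nat.card (Subgroup.zpowers (⟨x, hxH⟩ : H))).primeFactorsList.length)
        (Nat.eq_prime_pow_of_unique_prime_dvd Nat.card_pos.ne' fun {q} hq hqd => by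
          rw [Nat.card_zpowers, Subgroup.orderOf_mk] at hqd
          exact (Nat.prime_dvd_prime_iff_eq hq Nat.prime_two).1
            (hq.dvd_of_dvd_pow (hqd.trans (orderOf_dvd_of_pow_eq_one hm)))))
    have hxP : (h : G) * x * (h : G)⁻¹ ∈ (P : Subgroup G) := hh _ (Subgroup.mem_zpowers _)
    have hh' : (h : G) ∈ (((P : Subgroup G) : Set G) * (O : Set G)) := by
      rw [← Subgroup.mul_normal]; exact h.2
    obtain ⟨s', hs', o, ho, hso⟩ := hh'
    have hoP : o * x * o⁻¹ ∈ (P : Subgroup G) := by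
      have h3 := mul_mem (mul_mem (inv_mem hs') hxP) hs'
      rw [← hso] at h3
      simpa [mul_assoc] using h3
    have h2 := hc.2 k (o * g) (by simpa [x, mul_assoc] using hoP)
    have ho1 : π o = 1 := (QuotientGroup.eq_one_iff o).2 ho
    have h4 := congrArg π h2
    simpa [π, map_mul, map_inv, map_pow, (QuotientGroup.eq_one_iff o).2 ho] using h4
  have h := isoElt_central (CfsgLib.Solvable.pPrimeCore_quotient_eq_bot 2) _ key
  refine (QuotientGroup.eq_one_iff _).1 ?_
  show π (c * g * c⁻¹ * g⁻¹) = 1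
  simp only [map_mul, map_inv]
  rw [← Subgroup.mem_center_iff.1 h (π g)]; group

/-- The group is its odd core times the centralizer, for a subgroup of such elements. -/
theorem exists_core_mul_centralizer {G : Type u} [Group G] [Finite G] (P : Sylow 2 G)
    {Z : Subgroup G} (hZ : ∀ c ∈ Z, IsoElt (P : Subgroup G) c) (h : G) :
    ∃ o ∈ Cfsg.oddCore G, ∃ c ∈ Subgroup.centralizer (Z : Set G), h = o * c := by
  set O := Cfsg.oddCore G
  have hOn : O.Normal := CfsgLib.Solvable.pPrimeCore_normal 2 G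
  have hcm : ∀ c ∈ Z, ∀ g, c * g * c⁻¹ * g⁻¹ ∈ O := fun c hc g => isoElt_commutator_mem P (hZ c hc) g
  set N := Z ⊔ O
  have hN : N.Normal := by
    refine ⟨fun n hn g => ?_⟩
    have hn' : n ∈ ((Z : Set G) * (O : Set G)) := by rw [← Subgroup.mul_normal]; exact hn
    obtain ⟨c, hc, o, ho, rfl⟩ := hn'
    have h1 : g * c * g⁻¹ ∈ N := by
      have := mul_mem (Subgroup.mem_sup_right (S := Z) (inv_mem (hcm c hc g)))
        (Subgroup.mem_sup_left (T := O) hc)
      rwa [show (c * g * c⁻¹ * g⁻¹)⁻¹ * c = g * c * g⁻¹ by group] at this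
    rw [show g * (c * o) * g⁻¹ = g * c * g⁻¹ * (g * o * g⁻¹) by group]
    exact mul_mem h1 (Subgroup.mem_sup_right (hOn.conj_mem o ho g))
  have hZP : Z ≤ (P : Subgroup G) := fun c hc => (hZ c hc).1
  obtain ⟨j, hj⟩ := (P.2.to_le hZP).exists_card_eq
  have hcard : Nat.card N = Nat.card Z * Nat.card O := by
    rw [show N = O ⊔ Z from sup_comm Z O, mul_comm]
    refine CfsgLib.Coprime.card_sup_of_inf_eq_bot (fun x _ => ?_) (Subgroup.inf_eq_bot_of_coprime ?_)
    · rw [Subgroup.normalizer_eq_top (H := O)]; trivial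
    · rw [hj]; exact Nat.Coprime.pow_left _ (Nat.coprime_two_left.2 (odd_card_oddCore G))
  let Q : Sylow 2 N := Sylow.ofCard (Z.subgroupOf N) (by
    rw [Nat.card_congr (Subgroup.subgroupOfEquivOfLe le_sup_left).toEquiv, hcard,
      Nat.factorization_mul Nat.card_pos.ne' Nat.card_pos.ne', Finsupp.add_apply, hj,
      Nat.factorization_eq_zero_of_not_dvd (n := Nat.card O) (Nat.two_dvd_ne_zero.2
        (Nat.odd_iff.1 (odd_card_oddCore G))),
      Nat.Prime.factorization_pow Nat.prime_two, Finsupp.single_eq_same, add_zero])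
  have htop := Sylow.normalizer_sup_eq_top Q
  have hQ : (Q : Subgroup N).map N.subtype = Z := Subgroup.map_subgroupOf_eq_of_le le_sup_left
  rw [hQ] at htop
  have hmem : h ∈ ((O : Set G) * (Subgroup.normalizer (Z : Set G) : Set G)) := by
    rw [← Subgroup.normal_mul]
    have hle : N ≤ O ⊔ Subgroup.normalizer (Z : Set G) :=
      sup_le (Subgroup.le_normalizer.trans le_sup_right) le_sup_left
    exact (sup_le le_sup_right hle : Subgroup.normalizer (Z : Set G) ⊔ N ≤ _) (htop ▸ Subgroup.mem_top h)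
  obtain ⟨o, ho, n, hn, hon⟩ := hmem
  refine ⟨o, ho, n, Subgroup.mem_centralizer_iff.2 fun c hc => ?_, hon.symm⟩
  exact (mul_inv_eq_iff_eq_mul.1 (isoElt_fix (hZ c hc) (hZP ((Subgroup.mem_normalizer_iff.1 hn c).1 hc)))).symm

end CfsgLib.Invol
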