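import Cfsg.Agent.Lib.Transfer.Frobenius
import Cfsg.Agent.Lib.Transfer.Basic
import Cfsg.Agent.Lib.StructC.BurnsideBasis
import Cfsg.Agent.Lib.OddLocal.Metacyclic
import Cfsg.Agent.Lib.ClassK.Core
import Cfsg.Agent.Lib.Amalgam.PCore
import Cfsg.Prelude.Def_Local

/-!
Groups with metacyclic Sylow `p`-subgroups: normal `p`-complements.
-/

set_option autoImplicit false

open Subgroup

namespace CfsgLib.Invol

theorem isMetacyclic_quotient {R : Type*} [Group R] (h : Cfsg.IsMetacyclic R) (K : Subgroup R)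
    [K.Normal] : Cfsg.IsMetacyclic (R ⧸ K) := by
  obtain ⟨N, hN, hc, hq⟩ := h
  haveI hN' : (N.map (QuotientGroup.mk' K)).Normal := hN.map _ (QuotientGroup.mk'_surjective K)
  refine ⟨N.map (QuotientGroup.mk' K), hN', ?_, ?_⟩
  · exact isCyclic_of_surjective ((QuotientGroup.mk' K).subgroupMap N)
      (MonoidHom.subgroupMap_surjective _ N)
  · refine isCyclic_of_surjective
      (QuotientGroup.map N (N.map (QuotientGroup.mk' K)) (QuotientGroup.mk' K)
        (Subgroup.le_comap_map _ _)) ?_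
    intro y
    obtain ⟨x, rfl⟩ := QuotientGroup.mk_surjective y
    obtain ⟨z, rfl⟩ := QuotientGroup.mk_surjective x
    exact ⟨(z : R ⧸ N), rfl⟩

/-- An automorphism of a metacyclic `p`-group whose order is prime to `p` and to `p² - 1` is trivial. -/
theorem aut_eq_one_of_metacyclic {D : Type*} [Group D] [Finite D] {p : ℕ} [Fact p.Prime]
    (hD : IsPGroup p D) (hm : Cfsg.IsMetacyclic D) (φ : MulAut D) (hp : (orderOf φ).Coprime p)
    (hq : (orderOf φ).Coprime (p ^ 2 - 1)) : φ = 1 := by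
  classical
  have hpp : p.Prime := Fact.out
  obtain ⟨r, hr⟩ := hD.index (frattini D)
  obtain ⟨a, ha⟩ := IsPGroup.iff_card.1 (hD.to_subgroup (frattini D))
  have hr2 : r ≤ 2 := by
    have hV := CfsgLib.OddLocal.card_le_sq_of_metacyclic (isMetacyclic_quotient hm (frattini D)) hpp ⊤
      (fun x _ => by
        obtain ⟨z, rfl⟩ := QuotientGroup.mk_surjective x
        rw [← QuotientGroup.mk_pow, (QuotientGroup.eq_one_iff _).2
          (CfsgLib.StructC.pow_mem_frattini hD z)])
    rw [Subgroup.card_top, ← Subgroup.index_eq_card, hr] at hV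
    exact (Nat.pow_le_pow_iff_right hpp.one_lt).1 hV
  let S : Set (Fin r → D ⧸ frattini D) := {f | Subgroup.closure (Set.range f) = ⊤}
  let T : Set (Fin r → D) :=
    {f | (fun i => (QuotientGroup.mk (f i) : D ⧸ frattini D)) ∈ S}
  have hdvd : Nat.card (zpowers φ) ∣ Nat.card T := by
    refine CfsgLib.StructC.card_aut_dvd_card_tuples (zpowers φ) T (fun α _ f hf => ?_)
      (fun f hf => CfsgLib.StructC.closure_eq_top_of_frattini f hf)
    show Subgroup.closure (Set.range fun i =>
      (QuotientGroup.mk (α (f i)) : D ⧸ frattini D)) = ⊤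
    let ψ : D ⧸ frattini D ≃* D ⧸ frattini D := QuotientGroup.congr (frattini D) (frattini D) α
      (Subgroup.characteristic_iff_map_eq.1 inferInstance α)
    have e : (Set.range fun i => (QuotientGroup.mk (α (f i)) : D ⧸ frattini D)) =
        ψ '' (Set.range fun i => (QuotientGroup.mk (f i) : D ⧸ frattini D)) := by
      rw [← Set.range_comp]; rfl
    rw [e, show ψ '' _ = (ψ : D ⧸ frattini D →* D ⧸ frattini D) '' _ from rfl,
      ← MonoidHom.map_closure]
    have hf' : Subgroup.closure (Set.range fun i => (QuotientGroup.mk (f i) : D ⧸ frattini D)) = ⊤ := hf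
    rw [hf', ← MonoidHom.range_eq_map]
    exact MonoidHom.range_eq_top.2 ψ.surjective
  have hT : Nat.card T = (∏ i ∈ Finset.range r, (p ^ r - p ^ i)) * (p ^ a) ^ r := by
    rw [← CfsgLib.StructC.card_generating_tuples hD hr, ← ha]
    exact CfsgLib.StructC.card_tuples_mk_mem S
  rw [Nat.card_zpowers, hT] at hdvd
  have hcp : (orderOf φ).Coprime ((∏ i ∈ Finset.range r, (p ^ r - p ^ i)) * (p ^ a) ^ r) := by
    refine Nat.Coprime.mul_right ?_ ((hp.pow_right a).pow_right r)
    have h1 : p - 1 ∣ p ^ 2 - 1 := ⟨p + 1, by rw [mul_comm, ← Nat.sq_sub_sq, one_pow]⟩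
    interval_cases r
    · simp
    · simpa using hq.coprime_dvd_right h1
    · rw [Finset.prod_range_succ, Finset.prod_range_one, pow_zero, pow_one]
      refine Nat.Coprime.mul_right hq ?_
      have : p ^ 2 - p = p * (p - 1) := by rw [Nat.mul_sub, mul_one, sq]
      rw [this]
      exact Nat.Coprime.mul_right hp (hq.coprime_dvd_right h1)
  exact orderOf_eq_one_iff.1 (Nat.eq_one_of_dvd_coprimes hcp dvd_rfl hdvd)

/-- With metacyclic Sylow `p`-subgroups, a normal `p`-complement exists iff `|G/O_{p',p}(G)|` is prime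
to `p² - 1`. -/
theorem hasNormalPComplement_iff_metacyclic {G : Type*} [Group G] [Finite G] (p : ℕ) [Fact p.Prime]
    (S : Sylow p G) (hS : Cfsg.IsMetacyclic ↥(S : Subgroup G)) :
    Cfsg.HasNormalPComplement p G ↔
      Nat.Coprime (Nat.card (G ⧸ Cfsg.pPrimePCore p G)) (p ^ 2 - 1) := by
  classical
  haveI := Cfsg.pPrimeCore_normal p G
  haveI : (Cfsg.pPrimePCore p G).Normal := Subgroup.Normal.comap
    (by infer_instance) _
  constructor
  · intro h
    obtain ⟨N, hN, hc, hq⟩ := CfsgLib.Transfer.hasNormalPComplement_iff_exists.1 h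
    have hle : N ≤ Cfsg.pPrimeCore p G := CfsgLib.ClassK.le_pPrimeCore hN hc
    have hP : IsPGroup p (G ⧸ Cfsg.pPrimeCore p G) :=
      hq.of_surjective (QuotientGroup.map N (Cfsg.pPrimeCore p G) (MonoidHom.id G) hle) (by
        intro y
        obtain ⟨z, rfl⟩ := QuotientGroup.mk_surjective y
        exact ⟨(z : G ⧸ N), rfl⟩)
    have htop : Cfsg.pPrimePCore p G = ⊤ := by
      have : Cfsg.pCore p (G ⧸ Cfsg.pPrimeCore p G) = ⊤ :=
        top_le_iff.1 (CfsgLib.Amalgam.le_pCore inferInstance (hP.to_subgroup ⊤))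
      rw [Cfsg.pPrimePCore, this, Subgroup.comap_top]
    rw [← Subgroup.index_eq_card, htop, Subgroup.index_top]
    exact Nat.coprime_one_left _
  · intro h
    rw [CfsgLib.Transfer.hasNormalPComplement_iff_frobenius]
    intro D hD g hg hgp
    obtain ⟨T, hT⟩ := hD.exists_le_sylow
    have hDm : Cfsg.IsMetacyclic D := by
      let f : D →* (S : Subgroup G) := (T.equiv S).toMonoidHom.comp (Subgroup.inclusion hT)
      have hf : Function.Injective f :=
        (T.equiv S).injective.comp (Subgroup.inclusion_injective hT)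
      exact CfsgLib.OddLocal.isMetacyclic_of_equiv (MonoidHom.ofInjective hf).symm
        (CfsgLib.OddLocal.isMetacyclic_subgroup hS f.range)
    set m := Nat.card (G ⧸ Cfsg.pPrimePCore p G) with hm
    have hgm : g ^ m ∈ Cfsg.pPrimeCore p G := by
      have h1 : g ^ m ∈ Cfsg.pPrimePCore p G := by
        rw [← QuotientGroup.eq_one_iff, QuotientGroup.mk_pow, hm, pow_card_eq_one']
      have h2 : (QuotientGroup.mk' (Cfsg.pPrimeCore p G) (g ^ m)) ∈
          Cfsg.pCore p (G ⧸ Cfsg.pPrimeCore p G) := h1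
      obtain ⟨k, hk⟩ := (CfsgLib.Amalgam.isPGroup_pCore (p := p)) ⟨_, h2⟩
      have hk' : (QuotientGroup.mk' (Cfsg.pPrimeCore p G) (g ^ m)) ^ (p ^ k) = 1 :=
        congrArg Subtype.val hk
      have ho : orderOf (QuotientGroup.mk' (Cfsg.pPrimeCore p G) (g ^ m)) ∣ orderOf g :=
        (orderOf_map_dvd _ _).trans (orderOf_pow_dvd m)
      exact (QuotientGroup.eq_one_iff _).1 (orderOf_eq_one_iff.1 (Nat.eq_one_of_dvd_coprimes
        ((hgp.pow_right k)) ho (orderOf_dvd_of_pow_eq_one hk')))
    let c : normalizer (D : Set G) →* MulAut D := D.normalizerMonoidHom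
    set φ := c ⟨g, hg⟩ with hφ
    have hφg : orderOf φ ∣ orderOf g := by
      refine (orderOf_map_dvd _ _).trans ?_
      rw [← Subgroup.orderOf_coe]
    have hφm : orderOf φ ∣ m := by
      refine orderOf_dvd_of_pow_eq_one ?_
      rw [hφ, ← map_pow]
      ext d
      show g ^ m * d * (g ^ m)⁻¹ = d
      have hd1 : g ^ m * d * (g ^ m)⁻¹ * (d : G)⁻¹ ∈ D :=
        mul_mem ((Subgroup.mem_normalizer_iff.1 (pow_mem hg m) d).1 d.2) (inv_mem d.2)
      have hd2 : g ^ m * d * (g ^ m)⁻¹ * (d : G)⁻¹ ∈ Cfsg.pPrimeCore p G := by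
        rw [mul_assoc, mul_assoc]
        refine mul_mem hgm ?_
        rw [← mul_assoc]
        exact (inferInstance : (Cfsg.pPrimeCore p G).Normal).conj_mem _ (inv_mem hgm) d
      obtain ⟨k, hk⟩ := IsPGroup.iff_card.1 hD
      have h1 := Subgroup.orderOf_dvd_natCard _ hd1
      have h2 := Subgroup.orderOf_dvd_natCard _ hd2
      rw [hk] at h1
      have := orderOf_eq_one_iff.1 (Nat.eq_one_of_dvd_coprimes
        (CfsgLib.ClassK.coprime_card_pPrimeCore.pow_right k) h2 h1)
      exact mul_inv_eq_one.1 this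
    have hφ1 : φ = 1 := aut_eq_one_of_metacyclic hD hDm φ
      (hgp.coprime_dvd_left hφg) (h.coprime_dvd_left hφm)
    rw [Subgroup.mem_centralizer_iff]
    intro d hd
    have hc : g * d * g⁻¹ = d :=
      congrArg Subtype.val (DFunLike.congr_fun hφ1 (⟨d, hd⟩ : D))
    exact (mul_inv_eq_iff_eq_mul.1 hc).symm

end CfsgLib.Invol
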