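import Cfsg.Agent.Lib.OddLocal.Metacyclic
import Cfsg.Agent.Lib.Invol.MetacyclicPComp
import Cfsg.Agent.Lib.Transfer.MaxClassTwo
import Cfsg.Agent.Lib.Coprime.CyclicSelfCentralizing

/-!
Metacyclic `2`-groups and `2`-groups of maximal class.
-/

set_option autoImplicit false
set_option linter.style.haveILetI false

universe u

namespace CfsgLib.Invol

open Subgroup CfsgLib.Transfer
open scoped commutatorElement

/-- A `2`-group of maximal class is dihedral, quaternion or quasidihedral. -/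
theorem maxClass_two_types {X : Type u} [Group X] [Finite X] {m : ℕ} (hm : 3 ≤ m)
    (hX : Nat.card X = 2 ^ m) (hc : Group.nilpotencyClass X = m - 1) :
    (∃ k : ℕ, Nonempty (X ≃* DihedralGroup k)) ∨ (∃ k : ℕ, Nonempty (X ≃* QuaternionGroup k)) ∨
      Cfsg.IsQuasiDihedral X := by
  have : Fact (Nat.Prime 2) := ⟨Nat.prime_two⟩
  obtain ⟨C, hC, hCi⟩ := exists_cyclic_index_two hm hX hc
  obtain ⟨u, rfl⟩ := (Subgroup.isCyclic_iff_exists_zpowers_eq_top C).1 hC
  haveI hn : (zpowers u).Normal := normal_of_index_eq_two hCi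
  obtain ⟨n, rfl⟩ : ∃ n, m = n + 1 := ⟨m - 1, by omega⟩
  have hu : orderOf u = 2 ^ n := by
    have h := (zpowers u).card_mul_index
    rw [hCi, hX, Nat.card_zpowers, pow_succ] at h
    omega
  obtain ⟨g, hg⟩ : ∃ g, g ∉ zpowers u := by
    by_contra! h
    have e : zpowers u = ⊤ := eq_top_iff.2 fun x _ => h x
    rw [e, index_top] at hCi
    omega
  have hab : ∀ a ∈ zpowers u, ∀ b ∈ zpowers u, a * b = b * a := by
    intro a ha b hb
    obtain ⟨i, rfl⟩ := mem_zpowers_iff.1 ha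
    obtain ⟨j, rfl⟩ := mem_zpowers_iff.1 hb
    exact (Commute.refl u).zpow_zpow i j
  have hg2 : g ^ 2 ∈ zpowers u := by rw [sq]; exact mul_self_mem_of_index_two hCi g
  obtain ⟨k, hk⟩ := CfsgLib.Coprime.exists_conj_exp (u := u) g
  have hgen : closure ({u, g} : Set X) = ⊤ := by
    refine eq_top_iff.2 fun x _ => ?_
    have hu' : zpowers u ≤ closure ({u, g} : Set X) := zpowers_le.2 (subset_closure (Or.inl rfl))
    have hg' : g ∈ closure ({u, g} : Set X) := subset_closure (Or.inr rfl)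
    by_cases hx : x ∈ zpowers u
    · exact hu' hx
    · have h := mul_mem (hu' ((mul_mem_iff_of_index_two hCi).2 (iff_of_false hx hg))) (inv_mem hg')
      rwa [mul_inv_cancel_right] at h
  have hna := not_isMulCommutative_of_maxClass hm hX hc
  have hk0 : ¬ ((2 ^ n : ℕ) : ℤ) ∣ k - 1 := by
    intro hd
    apply hna
    have h : u ^ k = u := by
      conv_rhs => rw [← zpow_one u]
      exact (CfsgLib.Coprime.zpow_eq_iff_dvd hu).2 hd
    rw [h, mul_inv_eq_iff_eq_mul] at hk
    haveI : IsMulCommutative (closure ({u, g} : Set X)) := isMulCommutative_closure (by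
      rintro a (rfl | rfl) b (rfl | rfl)
      · rfl
      · exact hk.symm
      · exact hk
      · rfl)
    exact ⟨⟨fun a b => setLike_mul_comm (hgen.ge (mem_top a)) (hgen.ge (mem_top b))⟩⟩
  obtain ⟨hz, -⟩ := mul_conj_mem_center hab hCi hg (mem_zpowers u)
  obtain ⟨hZ, -, -⟩ := card_center_of_maxClass (p := 2) hm hX hc
  rw [hk, ← zpow_one_add] at hz
  have hsq : (u ^ (1 + k)) ^ (2 : ℕ) = 1 := by
    have h := pow_card_eq_one' (x := (⟨_, hz⟩ : center X))
    rw [hZ] at h
    exact congrArg Subtype.val h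
  rw [← zpow_natCast, ← zpow_mul, ← orderOf_dvd_iff_zpow_eq_one, hu] at hsq
  have e2 : ((2 ^ n : ℕ) : ℤ) = 2 * ((2 ^ (n - 1) : ℕ) : ℤ) := by
    push_cast
    rw [← pow_succ']; congr 1; omega
  have hk1 : ((2 ^ (n - 1) : ℕ) : ℤ) ∣ k + 1 := by
    rw [e2] at hsq
    push_cast at hsq ⊢
    rw [mul_comm (1 + k), mul_dvd_mul_iff_left (by norm_num), add_comm] at hsq
    exact hsq
  refine CfsgLib.Coprime.dihedral_quaternion_semidihedral (by omega) hu hgen hX hg hg2 hk hk1
    fun h2 => ?_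
  subst h2
  obtain ⟨c, hc'⟩ := hk1
  norm_num at hc' hk0 ⊢
  rcases Int.even_or_odd c with ⟨d, hd⟩ | ⟨d, hd⟩
  · exact ⟨d, by omega⟩
  · exact absurd ⟨d, by omega⟩ hk0

/-- A homocyclic subgroup of rank two and exponent at least four of a metacyclic group is not
normalized by an element interchanging two generators. -/
theorem not_swap_homocyclic {R : Type u} [Group R] [Finite R] (hm : Cfsg.IsMetacyclic R)
    (P : Subgroup R) {n : ℕ} (hn : 2 ≤ n) (hab : ∀ u ∈ P, ∀ v ∈ P, u * v = v * u)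
    (hexp : ∀ u ∈ P, u ^ 2 ^ n = 1) (hcard : Nat.card P = 2 ^ n * 2 ^ n) {a b x : R}
    (ha : a ∈ P) (hb : b ∈ P) (hgen : P ≤ zpowers a ⊔ zpowers b) (hxP : x ∉ P) (hx2 : x ^ 2 ∈ P)
    (hxa : x * a * x⁻¹ = b) : False := by
  classical
  set N := 2 ^ n with hN
  have hNpos : 0 < N := by positivity
  -- independence
  have hcab : Commute a b := hab a ha b hb
  let f : zpowers a × zpowers b → P := fun t =>
    ⟨(t.1 : R) * (t.2 : R), P.mul_mem (zpowers_le.2 ha t.1.2) (zpowers_le.2 hb t.2.2)⟩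
  have hco : ∀ u ∈ P, ∃ i j : ℤ, u = a ^ i * b ^ j := by
    intro u hu
    let H : Subgroup R :=
      { carrier := {u | ∃ i j : ℤ, u = a ^ i * b ^ j}
        one_mem' := ⟨0, 0, by simp⟩
        mul_mem' := by
          rintro _ _ ⟨i, j, rfl⟩ ⟨k, l, rfl⟩
          exact ⟨i + k, j + l, by
            rw [zpow_add, zpow_add, (hcab.symm.zpow_zpow j k).mul_mul_mul_comm]⟩
        inv_mem' := by
          rintro _ ⟨i, j, rfl⟩
          exact ⟨-i, -j, by rw [mul_inv_rev, zpow_neg, zpow_neg, (hcab.zpow_zpow i j).inv_inv.eq]⟩ }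
    have hle : zpowers a ⊔ zpowers b ≤ H :=
      sup_le (zpowers_le.2 ⟨1, 0, by simp⟩) (zpowers_le.2 ⟨0, 1, by simp⟩)
    exact hle (hgen hu)
  have hf : Function.Surjective f := by
    rintro ⟨u, hu⟩
    obtain ⟨i, j, rfl⟩ := hco u hu
    exact ⟨(⟨_, zpow_mem (mem_zpowers a) i⟩, ⟨_, zpow_mem (mem_zpowers b) j⟩), rfl⟩
  have hle := Nat.card_le_card_of_surjective f hf
  rw [hcard, Nat.card_prod, Nat.card_zpowers, Nat.card_zpowers] at hle
  have hoa' : orderOf a ≤ N := Nat.le_of_dvd hNpos (orderOf_dvd_of_pow_eq_one (hexp a ha))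
  have hob' : orderOf b ≤ N := Nat.le_of_dvd hNpos (orderOf_dvd_of_pow_eq_one (hexp b hb))
  have hoa : orderOf a = N := le_antisymm hoa' (Nat.le_of_mul_le_mul_right
    (hle.trans (Nat.mul_le_mul_left _ hob')) hNpos)
  have hob : orderOf b = N := le_antisymm hob' (Nat.le_of_mul_le_mul_left
    (hle.trans (Nat.mul_le_mul_right _ hoa')) hNpos)
  have hbij : Function.Bijective f := (Nat.bijective_iff_surjective_and_card f).2 ⟨hf, by
    rw [Nat.card_prod, Nat.card_zpowers, Nat.card_zpowers, hoa, hob, hcard]⟩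
  have hind : ∀ i j k l : ℤ, a ^ i * b ^ j = a ^ k * b ^ l → (N : ℤ) ∣ i - k ∧ (N : ℤ) ∣ j - l := by
    intro i j k l h
    have h' := hbij.1 (a₁ := (⟨_, zpow_mem (mem_zpowers a) i⟩, ⟨_, zpow_mem (mem_zpowers b) j⟩))
      (a₂ := (⟨_, zpow_mem (mem_zpowers a) k⟩, ⟨_, zpow_mem (mem_zpowers b) l⟩)) (Subtype.ext h)
    simp only [Prod.mk.injEq, Subtype.mk.injEq] at h'
    exact ⟨(CfsgLib.Coprime.zpow_eq_iff_dvd hoa).1 h'.1, (CfsgLib.Coprime.zpow_eq_iff_dvd hob).1 h'.2⟩
  -- `x ^ 2` is diagonal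
  have hxb : x * b * x⁻¹ = a := by
    rw [← hxa, show x * (x * a * x⁻¹) * x⁻¹ = x ^ 2 * a * (x ^ 2)⁻¹ by simp [sq, mul_assoc], hab _ hx2 a ha,
      mul_inv_cancel_right]
  have hconj : ∀ i j : ℤ, x * (a ^ i * b ^ j) * x⁻¹ = b ^ i * a ^ j := by
    intro i j
    rw [show x * (a ^ i * b ^ j) * x⁻¹ = (x * a ^ i * x⁻¹) * (x * b ^ j * x⁻¹) by group, ← conj_zpow,
      ← conj_zpow, hxa, hxb]
  obtain ⟨i, j, hij⟩ := hco _ hx2
  have hdiag : x ^ 2 = (a * b) ^ i := by
    have h1 : a ^ i * b ^ j = a ^ j * b ^ i := by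
      calc a ^ i * b ^ j = x * x ^ 2 * x⁻¹ := by rw [← hij]; group
        _ = b ^ i * a ^ j := by rw [hij, hconj]
        _ = a ^ j * b ^ i := hab _ (P.zpow_mem hb i) _ (P.zpow_mem ha j)
    rw [hcab.mul_zpow, hij]
    congr 1
    exact (CfsgLib.Coprime.zpow_eq_iff_dvd hob).2 (hind _ _ _ _ h1).2
  -- an interchanging involution
  set y := x * a ^ (-i) with hy
  have hyP : y ∉ P := fun h => hxP (by simpa [hy] using P.mul_mem h (P.zpow_mem ha i))
  have hy2 : y * y = 1 := by
    rw [hy, show x * a ^ (-i) * (x * a ^ (-i)) = (x * a ^ (-i) * x⁻¹) * x ^ 2 * a ^ (-i) by group,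
      ← conj_zpow, hxa, hdiag, hcab.mul_zpow, hab _ (P.zpow_mem ha i) _ (P.zpow_mem hb i)]
    group
  have hya : ∀ u ∈ P, y * u * y⁻¹ = x * u * x⁻¹ := by
    intro u hu
    rw [hy, show x * a ^ (-i) * u * (x * a ^ (-i))⁻¹ = x * (a ^ (-i) * u * (a ^ (-i))⁻¹) * x⁻¹ by group,
      hab _ (P.zpow_mem ha _) u hu, mul_inv_cancel_right]
  -- a subgroup of exponent two modulo a central one
  set M : ℕ := 2 ^ (n - 2) with hM
  have hMN : (N : ℤ) = 4 * M := by
    rw [hN, hM]
    push_cast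
    rw [show (4 : ℤ) = 2 ^ 2 by norm_num, ← pow_add]
    congr 1
    omega
  set e := a ^ (2 * M) with he
  set d := (a * b) ^ M with hd
  have hNM : 4 * M = N := by exact_mod_cast hMN.symm
  have heP : e ∈ P := P.pow_mem ha _
  have hdP : d ∈ P := P.pow_mem (P.mul_mem ha hb) _
  have heb : y * e * y⁻¹ = b ^ (2 * M) := by
    rw [hya e heP, he, ← conj_pow, hxa]
  have hed : Commute e d := hab e heP d hdP
  have hyd : Commute y d := by
    have h : y * d * y⁻¹ = d := by
      rw [hya d hdP, hd, ← conj_pow, show x * (a * b) * x⁻¹ = (x * a * x⁻¹) * (x * b * x⁻¹) by group,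
        hxa, hxb, hcab.eq]
    rwa [mul_inv_eq_iff_eq_mul] at h
  have he2 : e * e = 1 := by
    rw [he, ← pow_add, show 2 * M + 2 * M = N by omega, hexp a ha]
  have hb2 : b ^ (2 * M) * b ^ (2 * M) = 1 := by
    rw [← pow_add, show 2 * M + 2 * M = N by omega, hexp b hb]
  have hye : ⁅y, e⁆ = d * d := by
    rw [commutatorElement_def, heb, inv_eq_of_mul_eq_one_right he2, he, hd, ← pow_add, ← two_mul,
      hcab.mul_pow, (hcab.symm.pow_pow (2 * M) (2 * M)).eq]
  set W := closure ({e, y, d} : Set R) with hW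
  have heW : e ∈ W := subset_closure (Or.inl rfl)
  have hyW : y ∈ W := subset_closure (Or.inr (Or.inl rfl))
  have hdW : d ∈ W := subset_closure (Or.inr (Or.inr rfl))
  let k : W := ⟨d, hdW⟩ * ⟨d, hdW⟩
  have hkc : k ∈ center W := by
    rw [mem_center_iff]
    rintro ⟨w, hw⟩
    refine Subtype.ext (?_ : w * (d * d) = d * d * w)
    have hle : W ≤ centralizer ({d} : Set R) := by
      rw [hW, closure_le]
      rintro v (rfl | rfl | rfl) <;> rw [SetLike.mem_coe, mem_centralizer_singleton_iff]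
      · exact hed.eq
      · exact hyd.eq
    have h := mem_centralizer_singleton_iff.1 (hle hw)
    exact ((show Commute w d from h).mul_right h).eq
  haveI : (zpowers k).Normal := ⟨fun z hz g => by
    rw [mem_center_iff.1 (zpowers_le.2 hkc hz) g, mul_inv_cancel_right]; exact hz⟩
  set π := QuotientGroup.mk' (zpowers k) with hπ
  set E := π ⟨e, heW⟩
  set Y := π ⟨y, hyW⟩
  set D := π ⟨d, hdW⟩
  have hk1 : π k = 1 := (QuotientGroup.eq_one_iff k).2 (mem_zpowers k)
  have hE2 : E * E = 1 := by rw [← map_mul, show (⟨e, heW⟩ : W) * ⟨e, heW⟩ = 1 from Subtype.ext he2, map_one]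
  have hY2 : Y * Y = 1 := by rw [← map_mul, show (⟨y, hyW⟩ : W) * ⟨y, hyW⟩ = 1 from Subtype.ext hy2, map_one]
  have hD2 : D * D = 1 := by rw [← map_mul]; exact hk1
  have hYE : Commute Y E := by
    rw [← commutatorElement_eq_one_iff_commute, ← map_commutatorElement,
      show (⁅(⟨y, hyW⟩ : W), ⟨e, heW⟩⁆) = k from Subtype.ext hye]
    exact hk1
  have hED : Commute E D := (show Commute (⟨e, heW⟩ : W) ⟨d, hdW⟩ from Subtype.ext hed.eq).map π
  have hYD : Commute Y D := (show Commute (⟨y, hyW⟩ : W) ⟨d, hdW⟩ from Subtype.ext hyd.eq).map π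
  have hgenQ : closure ({E, Y, D} : Set (W ⧸ zpowers k)) = ⊤ := by
    have h1 : closure ((W.subtype) ⁻¹' ({e, y, d} : Set R)) = ⊤ := closure_closure_coe_preimage
    have h2 := congrArg (Subgroup.map π) h1
    rw [MonoidHom.map_closure, map_top_of_surjective π (QuotientGroup.mk'_surjective _)] at h2
    refine eq_top_iff.2 (h2.ge.trans (closure_mono ?_))
    rintro _ ⟨⟨v, hv⟩, hv', rfl⟩
    rcases hv' with (h : v = e) | (h : v = y) | (h : v = d)
    · subst h; exact Or.inl rfl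
    · subst h; exact Or.inr (Or.inl rfl)
    · subst h; exact Or.inr (Or.inr rfl)
  haveI : IsMulCommutative (closure ({E, Y, D} : Set (W ⧸ zpowers k))) := isMulCommutative_closure (by
    rintro u (rfl | rfl | rfl) v (rfl | rfl | rfl)
    all_goals first
      | rfl
      | exact hYE.eq
      | exact hYE.symm.eq
      | exact hED.eq
      | exact hED.symm.eq
      | exact hYD.eq
      | exact hYD.symm.eq)
  have hQexp : ∀ q : W ⧸ zpowers k, q ^ 2 = 1 := by
    intro q
    have hq := hgenQ.ge (mem_top q)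
    induction hq using closure_induction with
    | mem v hv => rcases hv with rfl | rfl | rfl <;> rw [sq] <;> assumption
    | one => exact one_pow 2
    | mul u v hu hv iu iv =>
      rw [(show Commute u v from setLike_mul_comm hu hv).mul_pow, iu, iv, one_mul]
    | inv u _ iu => rw [inv_pow, iu, inv_one]
  have h4 := CfsgLib.OddLocal.card_le_sq_of_metacyclic
    (isMetacyclic_quotient (CfsgLib.OddLocal.isMetacyclic_subgroup hm W) (zpowers k)) Nat.prime_two ⊤
    (fun q _ => hQexp q)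
  rw [card_top] at h4
  -- eight classes
  let g : Bool × Bool × Bool → W ⧸ zpowers k := fun t =>
    (cond t.1 Y 1) * ((cond t.2.1 E 1) * (cond t.2.2 D 1))
  suffices hg : Function.Injective g by
    have h8 := Nat.card_le_card_of_injective g hg
    simp at h8
    omega
  have key : ∀ w : W, π w = 1 → ∃ l : ℤ, (w : R) = a ^ (2 * (M : ℤ) * l) * b ^ (2 * (M : ℤ) * l) := by
    intro w hw
    obtain ⟨l, hl⟩ := mem_zpowers_iff.1 ((QuotientGroup.eq_one_iff w).1 hw)
    refine ⟨l, ?_⟩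
    rw [← hl, Subgroup.coe_zpow, show ((k : W) : R) = d * d from rfl, hd, ← pow_add, ← zpow_natCast,
      ← zpow_mul, ← hcab.mul_zpow]
    congr 1
    push_cast
    ring
  have hP : ∀ w : W, π w = 1 → (w : R) ∈ P := by
    intro w hw
    obtain ⟨l, hl⟩ := key w hw
    rw [hl]
    exact P.mul_mem (P.zpow_mem ha _) (P.zpow_mem hb _)
  have hM0 : (M : ℤ) ≠ 0 := by positivity
  have hker : ∀ s t : Bool, (cond s E 1) * (cond t D 1) = 1 → s = false ∧ t = false := by
    intro s t h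
    have h' : ∀ (si ti : ℕ) (w : W), (w : R) = a ^ (2 * M * si) * (a * b) ^ (M * ti) → π w = 1 →
        2 ∣ ti ∧ (2 ∣ ti → ti = 0 → 2 ∣ si) := by
      intro si ti w hw hw1
      obtain ⟨l, hl⟩ := key w hw1
      rw [hw, hcab.mul_pow, ← mul_assoc, ← pow_add, ← zpow_natCast, ← zpow_natCast b] at hl
      obtain ⟨⟨u, hu⟩, ⟨v, hv⟩⟩ := hind _ _ _ _ hl
      push_cast at hu hv
      rw [hMN] at hu hv
      have e1 : (ti : ℤ) = 2 * l + 4 * v :=
        mul_left_cancel₀ hM0 (by linear_combination hv)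
      refine ⟨by omega, fun _ h0 => ?_⟩
      have e3 : 2 * (si : ℤ) + ti = 2 * l + 4 * u :=
        mul_left_cancel₀ hM0 (by linear_combination hu)
      omega
    cases s <;> cases t <;> simp only [cond_true, cond_false, one_mul, mul_one] at h
    · exact ⟨rfl, rfl⟩
    · have := (h' 0 1 ⟨d, hdW⟩ (by simp [hd]) h).1
      omega
    · have := h' 1 0 ⟨e, heW⟩ (by simp [he]) h
      have := this.2 (dvd_zero 2) rfl
      omega
    · rw [← map_mul] at h
      have := (h' 1 1 (⟨e, heW⟩ * ⟨d, hdW⟩) (by simp [he, hd]) h).1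
      omega
  have hinv2 : ∀ q : W ⧸ zpowers k, q⁻¹ = q := fun q =>
    inv_eq_of_mul_eq_one_right (by rw [← sq]; exact hQexp q)
  have hcomm : ∀ q r : W ⧸ zpowers k, q * r = r * q := fun q r =>
    setLike_mul_comm (hgenQ.ge (mem_top q)) (hgenQ.ge (mem_top r))
  have hsep : ∀ t, g t = 1 → t = (false, false, false) := by
    rintro ⟨s, s', t⟩ h
    have hs : s = false := by
      cases s
      · rfl
      exfalso
      have h1 : (cond s' E 1) * (cond t D 1) = Y := by
        have h2 : Y * ((cond s' E 1) * (cond t D 1)) = 1 := h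
        rw [← inv_eq_of_mul_eq_one_right h2, hinv2]
      have hv : ∃ w : W, π w = (cond s' E 1) * (cond t D 1) ∧ (w : R) ∈ P := by
        refine ⟨(cond s' ⟨e, heW⟩ 1) * (cond t ⟨d, hdW⟩ 1), ?_, ?_⟩
        · cases s' <;> cases t <;> simp [E, D, ← map_mul]
        · cases s' <;> cases t <;> simp [heP, hdP, P.mul_mem heP hdP]
      obtain ⟨w, hw, hwP⟩ := hv
      have h3 : π (w⁻¹ * ⟨y, hyW⟩) = 1 := by rw [map_mul, map_inv, hw, h1]; exact inv_mul_cancel Y
      refine hyP ?_
      simpa using P.mul_mem hwP (hP _ h3)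
    subst hs
    obtain ⟨h1, h2⟩ := hker s' t (by simpa [g] using h)
    rw [h1, h2]
  rintro ⟨s₁, s₂, s₃⟩ ⟨t₁, t₂, t₃⟩ h
  have hxor : g (xor s₁ t₁, xor s₂ t₂, xor s₃ t₃) = g (s₁, s₂, s₃) * g (t₁, t₂, t₃) := by
    have hmul : ∀ (q : W ⧸ zpowers k) (s t : Bool), cond (xor s t) q 1 = cond s q 1 * cond t q 1 := by
      intro q s t
      cases s <;> cases t <;> simp [← sq, hQexp q]
    letI : CommGroup (W ⧸ zpowers k) := { (inferInstance : Group (W ⧸ zpowers k)) with mul_comm := hcomm }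
    simp only [g, hmul]
    ac_rfl
  rw [h, ← sq, hQexp] at hxor
  have := hsep _ hxor
  simp only [Prod.mk.injEq, bne_eq_false_iff_eq] at this
  obtain ⟨rfl, rfl, rfl⟩ := this
  rfl

end CfsgLib.Invol
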