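import Cfsg.Agent.Lib.Invol.QDFusion

/-!
Classes and residual in groups with quasi-dihedral Sylow 2-subgroups.
-/

set_option autoImplicit false
set_option linter.unusedSectionVars false

namespace CfsgLib.Invol

open Subgroup

theorem zpowers_eq_of_orderOf_eq {G : Type*} [Group G] [Finite G] {g u v : G}
    (hu : u ∈ zpowers g) (hv : v ∈ zpowers g) (h : orderOf u = orderOf v) :
    zpowers u = zpowers v := by
  classical
  have := Fintype.ofFinite G
  let C := zpowers g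
  let u' : C := ⟨u, hu⟩
  let v' : C := ⟨v, hv⟩
  have hle := IsCyclic.card_pow_eq_one_le (α := C) (orderOf_pos u)
  have hsub : ∀ w : G, orderOf w = orderOf u → ∀ hw : w ∈ C,
      (zpowers (⟨w, hw⟩ : C) : Set C).toFinset = Finset.univ.filter (fun c : C => c ^ orderOf u = 1) := by
    intro w how hw
    refine Finset.eq_of_subset_of_card_le (fun c hc => ?_) ?_
    · obtain ⟨i, rfl⟩ := Set.mem_toFinset.1 hc
      refine Finset.mem_filter.2 ⟨Finset.mem_univ _, ?_⟩
      rw [← zpow_natCast, zpow_comm, zpow_natCast, ← how, ← Subgroup.orderOf_mk w hw, pow_orderOf_eq_one,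
        one_zpow]
    · rw [Set.toFinset_card, ← Nat.card_eq_fintype_card]
      show _ ≤ Nat.card (zpowers (⟨w, hw⟩ : C))
      rw [Nat.card_zpowers, Subgroup.orderOf_mk, how]
      exact hle
  have he : zpowers u' = zpowers v' := SetLike.coe_injective
    (Set.toFinset_inj.1 ((hsub u rfl hu).trans (hsub v h.symm hv).symm))
  have := congrArg (Subgroup.map C.subtype) he
  rwa [MonoidHom.map_zpowers, MonoidHom.map_zpowers] at this

namespace QDData

variable {S : Type*} [Group S] (D : QDData S)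

theorem zpow_mem_quatMax {i : ℤ} (hi : Even i) : D.x ^ i ∈ D.quatMax := by
  obtain ⟨k, rfl⟩ := hi
  rw [← two_mul, zpow_mul]
  exact zpow_mem (Subgroup.subset_closure (by simp)) k

theorem zpow_mem_dihMax {i : ℤ} (hi : Even i) : D.x ^ i ∈ D.dihMax := by
  obtain ⟨k, rfl⟩ := hi
  rw [← two_mul, zpow_mul]
  exact zpow_mem (Subgroup.subset_closure (by simp)) k

theorem zy_mem_quatMax {i : ℤ} (hi : Odd i) : D.x ^ i * D.y ∈ D.quatMax := by
  have h : D.x ^ (i - 1) ∈ D.quatMax := D.zpow_mem_quatMax (hi.sub_odd odd_one)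
  rw [show D.x ^ i * D.y = D.x ^ (i - 1) * (D.x ^ (1 : ℤ) * D.y) by
    rw [← mul_assoc, ← zpow_add, sub_add_cancel]]
  exact mul_mem h (Subgroup.subset_closure (by simp))

theorem zy_mem_dihMax {i : ℤ} (hi : Even i) : D.x ^ i * D.y ∈ D.dihMax :=
  mul_mem (D.zpow_mem_dihMax hi) (Subgroup.subset_closure (by simp))

theorem z_mem_max : D.z ∈ D.quatMax ∧ D.z ∈ D.dihMax :=
  ⟨D.zpow_mem_quatMax ⟨(D.m : ℤ), by ring⟩, D.zpow_mem_dihMax ⟨(D.m : ℤ), by ring⟩⟩

theorem zpow_small {i : ℤ} (h : D.x ^ i * D.x ^ i * (D.x ^ i * D.x ^ i) = 1) :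
    D.x ^ i = 1 ∨ D.x ^ i = D.z ∨ D.x ^ i = D.x ^ (D.m : ℤ) ∨ D.x ^ i = (D.x ^ (D.m : ℤ))⁻¹ := by
  rw [← zpow_add, ← zpow_add, D.zpow_eq_one_iff] at h
  obtain ⟨c, hc⟩ := h
  have hi : i = (D.m : ℤ) * c := by linarith
  obtain ⟨d, hd⟩ : ∃ d : ℤ, c = 4 * d ∨ c = 4 * d + 1 ∨ c = 4 * d + 2 ∨ c = 4 * d + 3 :=
    ⟨c / 4, by omega⟩
  subst hi
  rcases hd with rfl | rfl | rfl | rfl
  · left; rw [D.zpow_eq_one_iff]; exact ⟨d, by ring⟩
  · right; right; left; rw [D.zpow_eq_zpow_iff]; exact ⟨-d, by ring⟩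
  · right; left; rw [z, D.zpow_eq_zpow_iff]; exact ⟨-d, by ring⟩
  · right; right; right; rw [← zpow_neg, D.zpow_eq_zpow_iff]; exact ⟨-d - 1, by ring⟩

end QDData

variable {G : Type*} [Group G] [Finite G] (S : Sylow 2 G) (D : QDData (S : Subgroup G))

/-- The kinds of elements of the Sylow subgroup. -/
theorem qd_kind (s : (S : Subgroup G)) :
    s = 1 ∨ s = D.z ∨ (∃ i : ℤ, Even i ∧ s = D.x ^ i * D.y) ∨
      (s = D.x ^ (D.m : ℤ) ∨ s = (D.x ^ (D.m : ℤ))⁻¹) ∨ (∃ i : ℤ, Odd i ∧ s = D.x ^ i * D.y) ∨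
      (s ∈ zpowers D.x ∧ orderOf s ≠ 1 ∧ orderOf s ≠ 2 ∧ orderOf s ≠ 4) := by
  rcases D.cases s with ⟨i, rfl⟩ | ⟨i, rfl⟩
  · by_cases h : D.x ^ i * D.x ^ i * (D.x ^ i * D.x ^ i) = 1
    · rcases D.zpow_small h with e | e | e | e <;> simp [e]
    · refine Or.inr (Or.inr (Or.inr (Or.inr (Or.inr ⟨zpow_mem (mem_zpowers _) i, ?_, ?_, ?_⟩))))
      all_goals
        intro ho
        refine h ?_
        have h2 := pow_orderOf_eq_one (D.x ^ i)
        rw [ho] at h2
      · rw [pow_one] at h2; simp [h2]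
      · rw [pow_two] at h2; simp [h2]
      · rw [show (4 : ℕ) = 2 * 2 from rfl, pow_mul, pow_two (D.x ^ i), pow_two] at h2; exact h2
  · rcases Int.even_or_odd i with hi | hi
    · exact Or.inr (Or.inr (Or.inl ⟨i, hi, rfl⟩))
    · exact Or.inr (Or.inr (Or.inr (Or.inr (Or.inl ⟨i, hi, rfl⟩))))

theorem qd_invol_cases {s : (S : Subgroup G)} (hs : orderOf (s : G) = 2) :
    IsConj (s : G) (qz S D) ∨ IsConj (s : G) (qy S D) := by
  rw [Subgroup.orderOf_coe] at hs
  rcases D.eq_of_orderOf_two hs with rfl | ⟨i, hi, rfl⟩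
  · exact Or.inl (IsConj.refl _)
  · exact Or.inr (isConj_qy S D hi)

theorem qd_four_cases {s : (S : Subgroup G)} (hs : orderOf (s : G) = 4) :
    IsConj (s : G) (qa S D) ∨ IsConj (s : G) (qb S D) := by
  rw [Subgroup.orderOf_coe] at hs
  rcases qd_kind S D s with rfl | rfl | ⟨i, hi, rfl⟩ | (rfl | rfl) | ⟨i, hi, rfl⟩ | ⟨-, -, -, h⟩
  · simp at hs
  · rw [D.orderOf_z] at hs; omega
  · rw [D.orderOf_even_y hi] at hs; omega
  · exact Or.inl (IsConj.refl _)
  · exact Or.inl (isConj_qa_inv S D)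
  · exact Or.inr (isConj_qb S D hi)
  · exact absurd hs h

theorem qd_orderOf_qz : orderOf (qz S D) = 2 := (Subgroup.orderOf_coe _).trans D.orderOf_z

theorem qd_orderOf_qy : orderOf (qy S D) = 2 := (Subgroup.orderOf_coe _).trans D.orderOf_y

theorem qd_orderOf_qb : orderOf (qb S D) = 4 :=
  (Subgroup.orderOf_coe _).trans (D.orderOf_odd_y odd_one)

theorem qd_orderOf_qa : orderOf (qa S D) = 4 := by
  refine (Subgroup.orderOf_coe _).trans (orderOf_eq_prime_pow (p := 2) (n := 1) ?_ ?_)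
  · rw [pow_one, pow_two, ← zpow_add, ← two_mul]
    exact invol_ne_one D.orderOf_z
  · rw [show 2 ^ (1 + 1) = 2 * 2 from rfl, pow_mul, pow_two (D.x ^ (D.m : ℤ)), ← zpow_add, ← two_mul,
      pow_two]
    exact invol_mul_self D.orderOf_z

theorem qd_classes_two :
    (IsConj (qz S D) (qy S D) →
      Nat.card {C : ConjClasses G // ∃ t : G, orderOf t = 2 ∧ ConjClasses.mk t = C} = 1) ∧
    (¬ IsConj (qz S D) (qy S D) →
      Nat.card {C : ConjClasses G // ∃ t : G, orderOf t = 2 ∧ ConjClasses.mk t = C} = 2) := by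
  have hall : ∀ t : G, orderOf t = 2 → IsConj t (qz S D) ∨ IsConj t (qy S D) := by
    intro t ht
    obtain ⟨g, hg⟩ := exists_conj_mem_sylow S
      (IsPGroup.of_card (n := 1) (by rw [Nat.card_zpowers, ht, pow_one]) : IsPGroup 2 (zpowers t))
    have hgt : IsConj t (g * t * g⁻¹) := isConj_iff.2 ⟨g, rfl⟩
    exact (qd_invol_cases S D (s := ⟨_, hg t (mem_zpowers t)⟩)
      (by show orderOf (g * t * g⁻¹) = 2; rw [orderOf_conj_eq, ht])).imp hgt.trans hgt.trans
  exact ⟨fun h => card_classes_one (qd_orderOf_qy S D) fun t ht =>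
      (hall t ht).elim (fun e => e.trans h) id,
    fun h => card_classes_two (qd_orderOf_qz S D) (qd_orderOf_qy S D) h hall⟩

theorem qd_classes_four :
    (IsConj (qa S D) (qb S D) →
      Nat.card {C : ConjClasses G // ∃ t : G, orderOf t = 4 ∧ ConjClasses.mk t = C} = 1) ∧
    (¬ IsConj (qa S D) (qb S D) →
      Nat.card {C : ConjClasses G // ∃ t : G, orderOf t = 4 ∧ ConjClasses.mk t = C} = 2) := by
  have hall : ∀ t : G, orderOf t = 4 → IsConj t (qa S D) ∨ IsConj t (qb S D) := by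
    intro t ht
    obtain ⟨g, hg⟩ := exists_conj_mem_sylow S
      (IsPGroup.of_card (n := 2) (by rw [Nat.card_zpowers, ht]; rfl) : IsPGroup 2 (zpowers t))
    have hgt : IsConj t (g * t * g⁻¹) := isConj_iff.2 ⟨g, rfl⟩
    exact (qd_four_cases S D (s := ⟨_, hg t (mem_zpowers t)⟩)
      (by show orderOf (g * t * g⁻¹) = 4; rw [orderOf_conj_eq, ht])).imp hgt.trans hgt.trans
  exact ⟨fun h => card_classes_one (qd_orderOf_qb S D) fun t ht =>
      (hall t ht).elim (fun e => e.trans h) id,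
    fun h => card_classes_two (qd_orderOf_qa S D) (qd_orderOf_qb S D) h hall⟩

/-- Conjugate elements of the Sylow subgroup of order at least eight are conjugate in it. -/
theorem qd_fusion_big {u : (S : Subgroup G)} (hu : u ∈ zpowers D.x) (h1 : orderOf u ≠ 2)
    (h2 : orderOf u ≠ 4) {k : ℕ} (hm : D.m = 2 ^ k) {g : G}
    (hg : g * (u : G) * g⁻¹ ∈ (S : Subgroup G)) :
    (⟨_, hg⟩ : (S : Subgroup G)) ∈ zpowers D.x ∧
    ∃ s ∈ (S : Subgroup G), s * (u : G) * s⁻¹ = g * (u : G) * g⁻¹ := by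
  set v : (S : Subgroup G) := ⟨_, hg⟩
  have hv : orderOf v = orderOf u := by
    rw [← Subgroup.orderOf_coe, ← Subgroup.orderOf_coe u]; exact orderOf_conj_eq g _
  have hvx : v ∈ zpowers D.x := by
    rcases D.cases v with ⟨i, hi⟩ | ⟨i, hi⟩
    · exact hi ▸ zpow_mem (mem_zpowers _) i
    · rcases Int.even_or_odd i with he | he
      · exact absurd (by rw [← hv, hi, D.orderOf_even_y he]) h1
      · exact absurd (by rw [← hv, hi, D.orderOf_odd_y he]) h2
  refine ⟨hvx, ?_⟩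
  have he := congrArg (Subgroup.map (S : Subgroup G).subtype) (zpowers_eq_of_orderOf_eq hu hvx hv.symm)
  rw [MonoidHom.map_zpowers, MonoidHom.map_zpowers] at he
  change zpowers (u : G) = zpowers (g * (u : G) * g⁻¹) at he
  obtain ⟨j, -, hj⟩ := (Nat.dvd_prime_pow Nat.prime_two).1 (show orderOf (u : G) ∣ 2 ^ (k + 2) by
    obtain ⟨i, rfl⟩ := hu
    rw [Subgroup.orderOf_coe, pow_add, ← hm, show D.m * 2 ^ 2 = orderOf D.x by rw [D.orderOf_x]; ring]
    exact orderOf_dvd_of_mem_zpowers (zpow_mem (mem_zpowers D.x) i))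
  refine exists_conj_eq_of_cyclic S hj (fun w hw => mem_normalizer_iff_of_finite ?_)
    (mem_normalizer_iff_of_finite fun x hx => ?_)
  · rintro _ ⟨i, rfl⟩
    obtain ⟨a, rfl⟩ := hu
    rcases D.cases ⟨w, hw⟩ with ⟨b, hb⟩ | ⟨b, hb⟩
    · refine ⟨i, (congrArg Subtype.val (show (⟨w, hw⟩ : (S : Subgroup G)) * (D.x ^ a) ^ i *
        (⟨w, hw⟩)⁻¹ = (D.x ^ a) ^ i by rw [hb, ← zpow_mul, ← zpow_neg, ← zpow_add, ← zpow_add]; congr 1; ring)).symm⟩
    · refine ⟨(2 * (D.m : ℤ) - 1) * i, (congrArg Subtype.val (show (⟨w, hw⟩ : (S : Subgroup G)) *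
        (D.x ^ a) ^ i * (⟨w, hw⟩)⁻¹ = (D.x ^ a) ^ ((2 * (D.m : ℤ) - 1) * i) by
        rw [hb, mul_inv_eq_iff_eq_mul, ← zpow_mul, ← zpow_mul, D.mul_rule_zy,
          ← mul_assoc (D.x ^ _), ← zpow_add]
        congr 2; ring)).symm⟩
  · obtain ⟨i, rfl⟩ := hx
    rw [he]
    exact ⟨i, (conj_zpow_eq g _ i).symm⟩

/-- Fusion when neither the involutions nor the elements of order four fuse. -/
theorem qd_controls {k : ℕ} (hm : D.m = 2 ^ k) (h2 : ¬ IsConj (qz S D) (qy S D))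
    (h4 : ¬ IsConj (qa S D) (qb S D)) {u : G} (hu : u ∈ (S : Subgroup G)) {g : G}
    (hg : g * u * g⁻¹ ∈ (S : Subgroup G)) :
    ∃ s ∈ (S : Subgroup G), s * u * s⁻¹ = g * u * g⁻¹ := by
  set v : (S : Subgroup G) := ⟨_, hg⟩
  have hord : orderOf v = orderOf (⟨u, hu⟩ : (S : Subgroup G)) := by
    rw [← Subgroup.orderOf_coe, Subgroup.orderOf_mk]; exact orderOf_conj_eq g _
  have hc : IsConj u (g * u * g⁻¹) := isConj_iff.2 ⟨g, rfl⟩
  have hshift : ∀ i j : ℤ, Even (j - i) → u = ((D.x ^ i * D.y : (S : Subgroup G)) : G) →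
      v = D.x ^ j * D.y → ∃ s ∈ (S : Subgroup G), s * u * s⁻¹ = g * u * g⁻¹ := by
    intro i j hij hi hj
    obtain ⟨a, ha⟩ := D.exists_conj_shift hij
    refine ⟨_, (D.x ^ a).2, ?_⟩
    rw [hi, show g * ((D.x ^ i * D.y : (S : Subgroup G)) : G) * g⁻¹ = (v : G) by rw [← hi], hj]
    exact congrArg Subtype.val ha
  have hy : D.y * D.x ^ (D.m : ℤ) * D.y⁻¹ = (D.x ^ (D.m : ℤ))⁻¹ := by
    obtain ⟨e, he⟩ := D.even_m
    have he' : (D.m : ℤ) = e + e := by exact_mod_cast he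
    rw [conj_zpow_eq, D.conj_x, ← zpow_mul, ← zpow_neg, D.zpow_eq_zpow_iff]
    exact ⟨-e, by rw [he']; ring⟩
  have hy' : D.y * (D.x ^ (D.m : ℤ))⁻¹ * D.y⁻¹ = D.x ^ (D.m : ℤ) := by
    rw [show D.y * (D.x ^ (D.m : ℤ))⁻¹ * D.y⁻¹ = (D.y * D.x ^ (D.m : ℤ) * D.y⁻¹)⁻¹ by group, hy,
      inv_inv]
  rcases qd_kind S D ⟨u, hu⟩ with e | e | ⟨i, hi, e⟩ | e | ⟨i, hi, e⟩ | ⟨he, hne1, hne2, hne4⟩
  · have : u = 1 := congrArg Subtype.val e
    exact ⟨1, one_mem _, by simp [this]⟩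
  · have hu' : u = qz S D := congrArg Subtype.val e
    rcases D.eq_of_orderOf_two (s := v) (by rw [hord, e, D.orderOf_z]) with f | ⟨j, hj, f⟩
    · exact ⟨1, one_mem _, by rw [one_mul, inv_one, mul_one]; exact hu'.trans (congrArg Subtype.val f).symm⟩
    · refine absurd ?_ h2
      rw [hu', show g * qz S D * g⁻¹ = ((D.x ^ j * D.y : (S : Subgroup G)) : G) from
        hu' ▸ congrArg Subtype.val f] at hc
      exact hc.trans (isConj_qy S D hj)
  · have hu' : u = ((D.x ^ i * D.y : (S : Subgroup G)) : G) := congrArg Subtype.val e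
    rcases D.eq_of_orderOf_two (s := v) (by rw [hord, e, D.orderOf_even_y hi]) with f | ⟨j, hj, f⟩
    · refine absurd ?_ h2
      rw [show g * u * g⁻¹ = qz S D from congrArg Subtype.val f, hu'] at hc
      exact hc.symm.trans (isConj_qy S D hi)
    · exact hshift i j (hj.sub hi) hu' f
  · have hu' : IsConj u (qa S D) := by
      rcases e with e | e
      · rw [show u = qa S D from congrArg Subtype.val e]
      · rw [show u = (qa S D)⁻¹ from congrArg Subtype.val e]; exact isConj_qa_inv S D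
    have hv4 : orderOf (v : G) = 4 := by
      show orderOf (g * u * g⁻¹) = 4
      rw [orderOf_conj_eq, ← orderOf_eq_of_isConj hu', qd_orderOf_qa]
    have hv4' : orderOf v = 4 := by rwa [Subgroup.orderOf_coe] at hv4
    rcases qd_kind S D v with f | f | ⟨j, hj, f⟩ | f | ⟨j, hj, f⟩ | ⟨-, -, -, f⟩
    · rw [f, orderOf_one] at hv4'; omega
    · rw [f, D.orderOf_z] at hv4'; omega
    · rw [f, D.orderOf_even_y hj] at hv4'; omega
    · have hsame : ∀ p q : (S : Subgroup G), (⟨u, hu⟩ : (S : Subgroup G)) = p → v = q →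
          ∀ w : (S : Subgroup G), w * p * w⁻¹ = q →
            ∃ s ∈ (S : Subgroup G), s * u * s⁻¹ = g * u * g⁻¹ := by
        rintro p q rfl rfl w hw
        exact ⟨w, w.2, congrArg Subtype.val hw⟩
      rcases e with e | e <;> rcases f with f | f
      · exact hsame _ _ e f 1 (by simp)
      · exact hsame _ _ e f D.y hy
      · exact hsame _ _ e f D.y hy'
      · exact hsame _ _ e f 1 (by simp)
    · refine absurd ?_ h4
      rw [show g * u * g⁻¹ = ((D.x ^ j * D.y : (S : Subgroup G)) : G) from congrArg Subtype.val f] at hc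
      exact (hu'.symm.trans hc).trans (isConj_qb S D hj)
    · exact absurd hv4' f
  · have hu' : u = ((D.x ^ i * D.y : (S : Subgroup G)) : G) := congrArg Subtype.val e
    have hv4 : orderOf v = 4 := by rw [hord, e, D.orderOf_odd_y hi]
    rcases qd_kind S D v with f | f | ⟨j, hj, f⟩ | f | ⟨j, hj, f⟩ | ⟨-, -, -, f⟩
    · rw [f, orderOf_one] at hv4; omega
    · rw [f, D.orderOf_z] at hv4; omega
    · rw [f, D.orderOf_even_y hj] at hv4; omega
    · refine absurd ?_ h4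
      have hv' : IsConj (g * u * g⁻¹) (qa S D) := by
        rcases f with f | f
        · rw [show g * u * g⁻¹ = qa S D from congrArg Subtype.val f]
        · rw [show g * u * g⁻¹ = (qa S D)⁻¹ from congrArg Subtype.val f]; exact isConj_qa_inv S D
      rw [hu'] at hc hv'
      exact (hc.trans hv').symm.trans (isConj_qb S D hi)
    · exact hshift i j (hj.sub_odd hi) hu' f
    · exact absurd hv4 f
  · exact (qd_fusion_big S D he hne2 hne4 hm hg).2

theorem qd_parity {u v : (S : Subgroup G)} (hu : u ∈ zpowers D.x) (hv : v ∈ zpowers D.x)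
    (h : orderOf u = orderOf v) : ∃ i : ℤ, Even i ∧ u⁻¹ * v = D.x ^ i := by
  obtain ⟨a, rfl⟩ := hu
  obtain ⟨b, rfl⟩ := hv
  refine ⟨-a + b, ?_, by simp only; rw [← zpow_neg, ← zpow_add]⟩
  have key : ∀ p q : ℤ, orderOf (D.x ^ p) = orderOf (D.x ^ q) → Even q → Even p := by
    intro p q e hq
    obtain ⟨r, rfl⟩ := hq
    have h1 : (D.x ^ p) ^ (2 * D.m) = 1 := orderOf_dvd_iff_pow_eq_one.1 (e ▸
      orderOf_dvd_of_pow_eq_one (by
        rw [← zpow_natCast, ← zpow_mul, D.zpow_eq_one_iff]; exact ⟨r, by push_cast; ring⟩))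
    rw [← zpow_natCast, ← zpow_mul, D.zpow_eq_one_iff] at h1
    obtain ⟨c, hc⟩ := h1
    refine ⟨c, ?_⟩
    have := D.two_le
    push_cast at hc
    exact mul_left_cancel₀ (show 2 * (D.m : ℤ) ≠ 0 by omega) (by linarith)
  simp only at h
  rw [Int.even_add, even_neg]
  exact ⟨key b a h.symm, key a b h⟩

/-- Upper bound for the residual: quaternion case. -/
theorem qd_residual_quat {k : ℕ} (hm : D.m = 2 ^ k) (h2 : ¬ IsConj (qz S D) (qy S D)) :
    Cfsg.pResidual 2 G ⊓ (S : Subgroup G) ≤ D.quatMax.map (S : Subgroup G).subtype := by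
  refine inf_pResidual_le S _ fun u hu g hg => ?_
  set w : (S : Subgroup G) := ⟨u, hu⟩
  set v : (S : Subgroup G) := ⟨_, hg⟩
  refine ⟨w⁻¹ * v, ?_, rfl⟩
  have hord : orderOf v = orderOf w := by
    rw [← Subgroup.orderOf_coe, ← Subgroup.orderOf_coe w]; exact orderOf_conj_eq g _
  have hc : IsConj (w : G) (v : G) := isConj_iff.2 ⟨g, rfl⟩
  have key : ∀ s : (S : Subgroup G), orderOf s = 4 → s ∈ D.quatMax := by
    intro s hs
    have hm2 : Even (D.m : ℤ) := (Int.even_coe_nat _).2 D.even_m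
    rcases qd_kind S D s with rfl | rfl | ⟨i, hi, rfl⟩ | (rfl | rfl) | ⟨i, hi, rfl⟩ | ⟨-, -, -, h⟩
    · simp at hs
    · rw [D.orderOf_z] at hs; omega
    · rw [D.orderOf_even_y hi] at hs; omega
    · exact D.zpow_mem_quatMax hm2
    · exact inv_mem (D.zpow_mem_quatMax hm2)
    · exact D.zy_mem_quatMax hi
    · exact absurd hs h
  rcases qd_kind S D w with e | e | ⟨i, hi, e⟩ | e | ⟨i, hi, e⟩ | ⟨he, hne1, hne2, hne4⟩
  · have hv : v = 1 := orderOf_eq_one_iff.1 (by rw [hord, e, orderOf_one])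
    rw [e, hv]; simp
  · rcases D.eq_of_orderOf_two (s := v) (by rw [hord, e, D.orderOf_z]) with f | ⟨j, hj, f⟩
    · rw [e, f, inv_mul_cancel]; exact one_mem _
    · rw [e, f] at hc
      exact absurd (hc.trans (isConj_qy S D hj)) h2
  · rcases D.eq_of_orderOf_two (s := v) (by rw [hord, e, D.orderOf_even_y hi]) with f | ⟨j, hj, f⟩
    · rw [e, f] at hc
      exact absurd (hc.symm.trans (isConj_qy S D hi)) h2
    · rw [e, f, D.inv_rule_y, D.mul_rule_yy]
      refine D.zpow_mem_quatMax (Even.add (hi.mul_left _) (hj.mul_left _))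
  · have h4 : orderOf w = 4 := by
      rcases e with e | e <;> rw [e]
      · exact (Subgroup.orderOf_coe _).symm.trans (qd_orderOf_qa S D)
      · rw [orderOf_inv]; exact (Subgroup.orderOf_coe _).symm.trans (qd_orderOf_qa S D)
    exact mul_mem (inv_mem (key _ h4)) (key _ (hord.trans h4))
  · have h4 : orderOf w = 4 := by rw [e, D.orderOf_odd_y hi]
    exact mul_mem (inv_mem (key _ h4)) (key _ (hord.trans h4))
  · obtain ⟨i, hi, h⟩ := qd_parity S D he (qd_fusion_big S D he hne2 hne4 hm hg).1 hord.symm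
    rw [h]; exact D.zpow_mem_quatMax hi

/-- Upper bound for the residual: dihedral case. -/
theorem qd_residual_dih {k : ℕ} (hm : D.m = 2 ^ k) (h4 : ¬ IsConj (qa S D) (qb S D)) :
    Cfsg.pResidual 2 G ⊓ (S : Subgroup G) ≤ D.dihMax.map (S : Subgroup G).subtype := by
  refine inf_pResidual_le S _ fun u hu g hg => ?_
  set w : (S : Subgroup G) := ⟨u, hu⟩
  set v : (S : Subgroup G) := ⟨_, hg⟩
  refine ⟨w⁻¹ * v, ?_, rfl⟩
  have hord : orderOf v = orderOf w := by
    rw [← Subgroup.orderOf_coe, ← Subgroup.orderOf_coe w]; exact orderOf_conj_eq g _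
  have hc : IsConj (w : G) (v : G) := isConj_iff.2 ⟨g, rfl⟩
  have hm2 : Even (D.m : ℤ) := (Int.even_coe_nat _).2 D.even_m
  have key : ∀ s : (S : Subgroup G), orderOf s = 2 → s ∈ D.dihMax := by
    intro s hs
    rcases D.eq_of_orderOf_two hs with rfl | ⟨i, hi, rfl⟩
    exacts [D.z_mem_max.2, D.zy_mem_dihMax hi]
  have four : ∀ s : (S : Subgroup G), orderOf s = 4 →
      (s ∈ D.dihMax ∧ IsConj (s : G) (qa S D)) ∨ ∃ i : ℤ, Odd i ∧ s = D.x ^ i * D.y := by
    intro s hs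
    rcases qd_kind S D s with rfl | rfl | ⟨i, hi, rfl⟩ | (rfl | rfl) | ⟨i, hi, rfl⟩ | ⟨-, -, -, h⟩
    · simp at hs
    · rw [D.orderOf_z] at hs; omega
    · rw [D.orderOf_even_y hi] at hs; omega
    · exact Or.inl ⟨D.zpow_mem_dihMax hm2, IsConj.refl _⟩
    · exact Or.inl ⟨inv_mem (D.zpow_mem_dihMax hm2), isConj_qa_inv S D⟩
    · exact Or.inr ⟨i, hi, rfl⟩
    · exact absurd hs h
  by_cases h1 : orderOf w = 1
  · rw [orderOf_eq_one_iff.1 h1, orderOf_eq_one_iff.1 (hord.trans h1)]; simp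
  by_cases h2 : orderOf w = 2
  · exact mul_mem (inv_mem (key _ h2)) (key _ (hord.trans h2))
  by_cases h4' : orderOf w = 4
  · rcases four _ h4' with ⟨p, hp⟩ | ⟨i, hi, e⟩ <;> rcases four _ (hord.trans h4') with ⟨q, hq⟩ | ⟨j, hj, f⟩
    · exact mul_mem (inv_mem p) q
    · rw [f] at hc
      exact absurd ((hp.symm.trans hc).trans (isConj_qb S D hj)) h4
    · rw [e] at hc
      exact absurd ((hc.trans hq).symm.trans (isConj_qb S D hi)) h4
    · rw [e, f, D.inv_rule_y, D.mul_rule_yy]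
      refine D.zpow_mem_dihMax ?_
      rw [Int.even_add, Int.even_mul, Int.even_mul, even_neg, Int.even_sub]
      simp [Int.not_even_iff_odd.2 hi, Int.not_even_iff_odd.2 hj]
  · have he : w ∈ zpowers D.x := by
      rcases D.cases w with ⟨i, e⟩ | ⟨i, e⟩
      · exact e ▸ zpow_mem (mem_zpowers _) i
      · rcases Int.even_or_odd i with hi | hi
        · exact absurd (by rw [e, D.orderOf_even_y hi]) h2
        · exact absurd (by rw [e, D.orderOf_odd_y hi]) h4'
    obtain ⟨i, hi, h⟩ := qd_parity S D he (qd_fusion_big S D he h2 h4' hm hg).1 hord.symm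
    rw [h]; exact D.zpow_mem_dihMax hi

theorem qd_quatMax_le (h : qb S D ∈ Cfsg.pResidual 2 G) :
    D.quatMax.map (S : Subgroup G).subtype ≤ Cfsg.pResidual 2 G := by
  have hR := CfsgLib.Transfer.pResidual_normal (G := G) (p := 2)
  rw [map_le_iff_le_comap, QDData.quatMax, closure_le]
  rintro w (rfl | rfl)
  · obtain ⟨a, ha⟩ := D.exists_conj_shift (i := 1) (j := 3) ⟨1, by norm_num⟩
    have h3 : (D.x ^ (3 : ℤ) * D.y : (S : Subgroup G)) ∈
        (Cfsg.pResidual 2 G).comap (S : Subgroup G).subtype := by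
      rw [← ha]; exact hR.conj_mem _ h _
    have := mul_mem h3 (inv_mem (show (D.x ^ (1 : ℤ) * D.y : (S : Subgroup G)) ∈ _ from
      (h : _ ∈ (Cfsg.pResidual 2 G).comap (S : Subgroup G).subtype)))
    rwa [show D.x ^ (3 : ℤ) * D.y * (D.x ^ (1 : ℤ) * D.y)⁻¹ = D.x ^ (2 : ℤ) by group] at this
  · exact h

theorem qd_dihMax_le (h : qy S D ∈ Cfsg.pResidual 2 G) :
    D.dihMax.map (S : Subgroup G).subtype ≤ Cfsg.pResidual 2 G := by
  have hR := CfsgLib.Transfer.pResidual_normal (G := G) (p := 2)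
  rw [map_le_iff_le_comap, QDData.dihMax, closure_le]
  rintro w (rfl | rfl)
  · obtain ⟨a, ha⟩ := D.exists_conj_shift (i := 0) (j := 2) ⟨1, by norm_num⟩
    rw [zpow_zero, one_mul] at ha
    have h3 : (D.x ^ (2 : ℤ) * D.y : (S : Subgroup G)) ∈
        (Cfsg.pResidual 2 G).comap (S : Subgroup G).subtype := by
      rw [← ha]; exact hR.conj_mem _ h _
    have := mul_mem h3 (inv_mem (show (D.y : (S : Subgroup G)) ∈ _ from
      (h : _ ∈ (Cfsg.pResidual 2 G).comap (S : Subgroup G).subtype)))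
    rwa [mul_inv_cancel_right] at this
  · exact h

theorem qd_le_residual (h1 : qy S D ∈ Cfsg.pResidual 2 G) (h2 : qb S D ∈ Cfsg.pResidual 2 G) :
    (S : Subgroup G) ≤ Cfsg.pResidual 2 G := by
  intro u hu
  suffices h : (Cfsg.pResidual 2 G).comap (S : Subgroup G).subtype = ⊤ by
    exact (eq_top_iff.1 h) (mem_top ⟨u, hu⟩)
  refine D.eq_top_of_mem ?_ h1
  have := mul_mem (show D.x ^ (1 : ℤ) * D.y ∈ (Cfsg.pResidual 2 G).comap (S : Subgroup G).subtype from h2)
    (inv_mem (show D.y ∈ (Cfsg.pResidual 2 G).comap (S : Subgroup G).subtype from h1))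
  rwa [mul_inv_cancel_right, zpow_one] at this

theorem qd_relIndex_map {M : Subgroup (S : Subgroup G)} (hM : M.index = 2) :
    (M.map (S : Subgroup G).subtype).relIndex (S : Subgroup G) = 2 := by
  refine Eq.trans ?_ hM
  rw [Subgroup.relIndex]
  congr 1
  exact Subgroup.comap_map_eq_self_of_injective (Subgroup.subtype_injective _) M

end CfsgLib.Invol
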