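import Mathlib.GroupTheory.SpecificGroups.Alternating.KleinFour
import Mathlib.GroupTheory.SpecificGroups.Alternating.Simple
import Mathlib.GroupTheory.Perm.ViaEmbedding
import Cfsg.Agent.Lib.Invol.Basic
open scoped commutatorElement

/-!
# Subgroups of small index in non-commutative simple groups; small lemmas on commuting involutions
-/

namespace CfsgLib.Invol

variable {G : Type*} [Group G]

theorem isPGroup_closure_of_commute {a b : G} (ha : orderOf a = 2) (hb : orderOf b = 2)
    (hab : Commute a b) : IsPGroup 2 (Subgroup.closure ({a, b} : Set G)) := by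
  have key : ∀ x ∈ Subgroup.closure ({a, b} : Set G), x * x = 1 ∧ Commute x a ∧ Commute x b := by
    intro x hx
    obtain ⟨k, hk⟩ := (mem_closure_pair ha hb).1 hx
    have h2 : (a * b) * (a * b) = 1 := by
      rw [mul_assoc, ← mul_assoc b, ← hab.eq, mul_assoc a b b, invol_mul_self hb, mul_one,
        invol_mul_self ha]
    have hca : Commute ((a * b) ^ k) a := ((Commute.refl a).mul_left hab.symm).zpow_left k
    have hcb : Commute ((a * b) ^ k) b := (hab.mul_left (Commute.refl b)).zpow_left k
    have hsq : (a * b) ^ k * (a * b) ^ k = 1 := by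
      rw [← (Commute.refl (a * b)).mul_zpow, h2, one_zpow]
    rcases hk with rfl | rfl
    · exact ⟨hsq, hca, hcb⟩
    · refine ⟨?_, hca.mul_left (Commute.refl a), hcb.mul_left hab⟩
      rw [mul_assoc ((a * b) ^ k) a _, ← mul_assoc a, ← hca.eq,
        mul_assoc ((a * b) ^ k) a a, invol_mul_self ha, mul_one, hsq]
  rintro ⟨x, hx⟩
  refine ⟨1, Subtype.ext ?_⟩
  simp [pow_two, (key x hx).1]

theorem normalCore_eq_bot_of_simple [IsSimpleGroup G] {H : Subgroup G} (hH : H ≠ ⊤) :
    H.normalCore = ⊥ :=
  (H.normalCore_normal.eq_bot_or_eq_top).resolve_right fun h =>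
    hH (top_le_iff.1 (h ▸ H.normalCore_le))

theorem toPermHom_injective_of_simple [IsSimpleGroup G] {H : Subgroup G} (hH : H ≠ ⊤) :
    Function.Injective (MulAction.toPermHom G (G ⧸ H)) := by
  rw [← MonoidHom.ker_eq_bot_iff, ← Subgroup.normalCore_eq_ker, normalCore_eq_bot_of_simple hH]

theorem card_dvd_index_factorial [Finite G] [IsSimpleGroup G] {H : Subgroup G} (hH : H ≠ ⊤) :
    Nat.card G ∣ Nat.factorial H.index := by
  have h := Subgroup.card_dvd_of_injective _ (toPermHom_injective_of_simple hH)
  rwa [Nat.card_perm, ← Subgroup.index_eq_card] at h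

theorem center_eq_bot_of_simple [IsSimpleGroup G] (hna : ¬ IsMulCommutative G) :
    Subgroup.center G = ⊥ :=
  ((inferInstance : (Subgroup.center G).Normal).eq_bot_or_eq_top).resolve_right fun h =>
    hna ⟨⟨fun a b => (Subgroup.mem_center_iff.1 (h ▸ Subgroup.mem_top b) a)⟩⟩

theorem commutator_eq_top_of_simple [IsSimpleGroup G] (hna : ¬ IsMulCommutative G) :
    commutator G = ⊤ := by
  refine ((inferInstance : (commutator G).Normal).eq_bot_or_eq_top).resolve_left fun h => hna ?_
  refine ⟨⟨fun a b => ?_⟩⟩
  have : ⁅a, b⁆ ∈ commutator G :=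
    Subgroup.commutator_mem_commutator (Subgroup.mem_top a) (Subgroup.mem_top b)
  rw [h, Subgroup.mem_bot] at this
  exact commutatorElement_eq_one_iff_commute.1 this

theorem index_ne_two_of_simple [Finite G] [IsSimpleGroup G] (hna : ¬ IsMulCommutative G)
    (H : Subgroup G) : H.index ≠ 2 := by
  intro h
  have := Subgroup.normal_of_index_eq_two h
  rcases this.eq_bot_or_eq_top with h' | h'
  · rw [h', Subgroup.index_bot] at h
    have := isCyclic_of_prime_card (α := G) (p := 2) h
    exact hna inferInstance
  · rw [h', Subgroup.index_top] at h; omega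

open scoped Classical in
theorem five_le_index [Finite G] [IsSimpleGroup G] (hna : ¬ IsMulCommutative G) {H : Subgroup G}
    (hH : H ≠ ⊤) : 5 ≤ H.index := by
  by_contra hlt
  push Not at hlt
  have : Fintype (G ⧸ H) := Fintype.ofFinite _
  have hle : Fintype.card (G ⧸ H) ≤ Fintype.card (Fin 4) := by
    rw [Fintype.card_fin, ← Nat.card_eq_fintype_card, ← Subgroup.index_eq_card]; omega
  obtain ⟨ι⟩ := Function.Embedding.nonempty_of_card_le hle
  let f : G →* Equiv.Perm (Fin 4) :=
    (Equiv.Perm.viaEmbeddingHom ι).comp (MulAction.toPermHom G (G ⧸ H))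
  have hf : Function.Injective f :=
    (Equiv.Perm.viaEmbeddingHom_injective ι).comp (toPermHom_injective_of_simple hH)
  have heven : ∀ g, f g ∈ alternatingGroup (Fin 4) := by
    intro g
    rw [Equiv.Perm.mem_alternatingGroup]
    rcases ((Equiv.Perm.sign.comp f).normal_ker).eq_bot_or_eq_top with h | h
    · exfalso
      apply hna
      rw [MonoidHom.ker_eq_bot_iff] at h
      exact ⟨⟨fun a b => h (by simp only [map_mul]; exact mul_comm _ _)⟩⟩
    · have : g ∈ (Equiv.Perm.sign.comp f).ker := h ▸ Subgroup.mem_top g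
      exact this
  let f' : G →* alternatingGroup (Fin 4) := f.codRestrict _ heven
  have hf' : Function.Injective f' := fun a b h => hf (congrArg Subtype.val h)
  have hK : ∀ g, f' g ∈ alternatingGroup.kleinFour (Fin 4) := by
    intro g
    rw [alternatingGroup.kleinFour_eq_commutator (by simp)]
    have : g ∈ commutator G := commutator_eq_top_of_simple hna ▸ Subgroup.mem_top g
    have h2 : f' g ∈ (commutator G).map f' := ⟨g, this, rfl⟩
    rw [commutator_def, Subgroup.map_commutator] at h2
    exact Subgroup.commutator_mono le_top le_top h2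
  have hk := alternatingGroup.kleinFour_isKleinFour (α := Fin 4) (by simp)
  have hcomm := IsKleinFour.isMulCommutative (G := alternatingGroup.kleinFour (Fin 4))
  exact hna ⟨⟨fun a b => hf' (by
    rw [map_mul, map_mul]
    exact congrArg Subtype.val (hcomm.is_comm.comm (⟨_, hK a⟩ : alternatingGroup.kleinFour (Fin 4))
      ⟨_, hK b⟩))⟩⟩

theorem thirteen_le_card_of_simple [Finite G] [IsSimpleGroup G] (hna : ¬ IsMulCommutative G) :
    13 ≤ Nat.card G := by
  by_contra hlt
  push Not at hlt
  obtain ⟨x, hx⟩ : ∃ x : G, x * x ≠ 1 := by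
    by_contra h
    push Not at h
    exact hna ⟨⟨fun a b => by
      have := h (a * b)
      have ha := inv_eq_of_mul_eq_one_right (h a)
      have hb := inv_eq_of_mul_eq_one_right (h b)
      rw [← inv_eq_of_mul_eq_one_right this, mul_inv_rev, ha, hb]⟩⟩
  have hne : Subgroup.zpowers x ≠ ⊤ := by
    intro h
    have : IsCyclic G := ⟨⟨x, fun g => (h ▸ Subgroup.mem_top g : g ∈ Subgroup.zpowers x)⟩⟩
    exact hna inferInstance
  have h5 := five_le_index hna hne
  have h := (Subgroup.zpowers x).card_mul_index
  rw [Nat.card_zpowers] at h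
  have h3 : 3 ≤ orderOf x := by
    have h1 : orderOf x ≠ 1 := fun e => hx (by rw [orderOf_eq_one_iff.1 e, one_mul])
    have h2 : orderOf x ≠ 2 := fun e => hx (invol_mul_self e)
    have := orderOf_pos x
    omega
  have := Nat.mul_le_mul h3 h5
  omega

end CfsgLib.Invol
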