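import Cfsg.Prelude.Def_CaseTheorems
import Cfsg.Agent.Lib.Invol.TwoGroups

/-!
# Quasi-dihedral groups of order `8m`, `m` even
-/

namespace CfsgLib.Invol

/-- Generators and relations of a quasi-dihedral group of order `8 * m`. -/
structure QDData (S : Type*) [Group S] where
  m : ℕ
  x : S
  y : S
  two_le : 2 ≤ m
  even_m : Even m
  orderOf_x : orderOf x = 4 * m
  orderOf_y : orderOf y = 2
  conj_x : y * x * y⁻¹ = x ^ (2 * (m : ℤ) - 1)
  card_eq : Nat.card S = 8 * m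

theorem exists_qdData {S : Type*} [Group S] (hS : Cfsg.IsQuasiDihedral S) :
    ∃ D : QDData S, ∃ n : ℕ, 3 ≤ n ∧ D.m = 2 ^ (n - 2) ∧ Nat.card S = 2 ^ (n + 1) := by
  obtain ⟨n, hn, hc, x, y, hx, hy, hxy⟩ := hS
  obtain ⟨k, rfl⟩ : ∃ k, n = k + 3 := ⟨n - 3, by omega⟩
  refine ⟨⟨2 ^ (k + 1), x, y, ?_, ?_, ?_, hy, ?_, ?_⟩, k + 3, hn, rfl, hc⟩
  · rw [pow_succ]; have : 0 < 2 ^ k := by positivity
    omega
  · exact ⟨2 ^ k, by ring⟩
  · rw [hx]; ring
  · rw [hxy, ← zpow_natCast]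
    congr 1
    have h1 : 1 ≤ 2 ^ (k + 3 - 1) := Nat.one_le_two_pow
    rw [Nat.cast_sub h1]
    push_cast
    ring
  · rw [hc]; ring

namespace QDData

variable {S : Type*} [Group S] (D : QDData S)

/-- The central involution. -/
def z : S := D.x ^ (2 * (D.m : ℤ))

theorem m_ne_zero : D.m ≠ 0 := by have := D.two_le; omega

theorem zpow_eq_zpow_iff {i j : ℤ} : D.x ^ i = D.x ^ j ↔ 4 * (D.m : ℤ) ∣ j - i := by
  rw [zpow_eq_zpow_iff_modEq, Int.modEq_iff_dvd, D.orderOf_x]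
  push_cast
  rfl

theorem zpow_eq_one_iff {i : ℤ} : D.x ^ i = 1 ↔ 4 * (D.m : ℤ) ∣ i := by
  rw [← zpow_zero D.x, eq_comm, D.zpow_eq_zpow_iff, sub_zero]

theorem y_mul_zpow (i : ℤ) : D.y * D.x ^ i = D.x ^ ((2 * (D.m : ℤ) - 1) * i) * D.y := by
  rw [← mul_inv_eq_iff_eq_mul, conj_zpow_eq, D.conj_x, ← zpow_mul]

theorem mul_rule_zy (i j : ℤ) :
    D.x ^ i * D.y * (D.x ^ j) = D.x ^ (i + (2 * (D.m : ℤ) - 1) * j) * D.y := by
  rw [mul_assoc, D.y_mul_zpow, ← mul_assoc, ← zpow_add]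

theorem mul_rule_yy (i j : ℤ) :
    D.x ^ i * D.y * (D.x ^ j * D.y) = D.x ^ (i + (2 * (D.m : ℤ) - 1) * j) := by
  rw [← mul_assoc, D.mul_rule_zy, mul_assoc, invol_mul_self D.orderOf_y, mul_one]

theorem inv_rule_y (i : ℤ) :
    (D.x ^ i * D.y)⁻¹ = D.x ^ (-(2 * (D.m : ℤ) - 1) * i) * D.y := by
  rw [mul_inv_rev, invol_inv D.orderOf_y, ← zpow_neg, D.y_mul_zpow]
  congr 2
  ring

theorem y_notMem : D.y ∉ Subgroup.zpowers D.x := by
  rintro ⟨k, hk⟩
  simp only at hk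
  have h := D.conj_x
  have hc : Commute (D.x ^ k) D.x := (Commute.refl D.x).zpow_left k
  rw [← hk, hc.eq, mul_inv_cancel_right] at h
  nth_rewrite 1 [← zpow_one D.x] at h
  rw [D.zpow_eq_zpow_iff] at h
  have h2 := D.two_le
  have h' : 4 * (D.m : ℤ) ≤ 2 * (D.m : ℤ) - 1 - 1 := Int.le_of_dvd (by omega) h
  omega

theorem zpow_mul_y_notMem (i : ℤ) : D.x ^ i * D.y ∉ Subgroup.zpowers D.x := fun h =>
  D.y_notMem (by
    have := mul_mem (inv_mem (zpow_mem (Subgroup.mem_zpowers D.x) i)) h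
    rwa [inv_mul_cancel_left] at this)

theorem zpow_mul_y_ne (i j : ℤ) : D.x ^ i * D.y ≠ D.x ^ j := fun h =>
  D.zpow_mul_y_notMem i (h ▸ zpow_mem (Subgroup.mem_zpowers D.x) j)

theorem zpow_mul_y_eq_iff {i j : ℤ} : D.x ^ i * D.y = D.x ^ j * D.y ↔ 4 * (D.m : ℤ) ∣ j - i := by
  rw [mul_left_inj, D.zpow_eq_zpow_iff]

include D in
theorem finite : Finite S := Nat.finite_of_card_ne_zero (by
  rw [D.card_eq]; have := D.two_le; omega)

theorem index_zpowers : (Subgroup.zpowers D.x).index = 2 := by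
  have := D.finite
  have h := (Subgroup.zpowers D.x).card_mul_index
  rw [Nat.card_zpowers, D.orderOf_x, D.card_eq] at h
  have := D.two_le
  exact Nat.eq_of_mul_eq_mul_left (by omega : 0 < 4 * D.m) (h.trans (by ring))

theorem cases (s : S) : (∃ i : ℤ, s = D.x ^ i) ∨ ∃ i : ℤ, s = D.x ^ i * D.y := by
  by_cases hs : s ∈ Subgroup.zpowers D.x
  · obtain ⟨i, hi⟩ := hs
    exact Or.inl ⟨i, hi.symm⟩
  · right
    have : s * D.y⁻¹ ∈ Subgroup.zpowers D.x :=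
      (Subgroup.mul_mem_iff_of_index_two D.index_zpowers).2
        (by simp [hs, D.y_notMem])
    obtain ⟨i, hi⟩ := this
    refine ⟨i, ?_⟩
    simp only at hi
    rw [hi, inv_mul_cancel_right]

theorem sq_zpow_mul_y (i : ℤ) :
    D.x ^ i * D.y * (D.x ^ i * D.y) = D.x ^ (2 * (D.m : ℤ) * i) := by
  rw [D.mul_rule_yy]; congr 1; ring

theorem orderOf_z : orderOf D.z = 2 := by
  have := D.two_le
  refine invol_of_mul_self ?_ ?_
  · rw [z, ← zpow_add, D.zpow_eq_one_iff]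
    exact ⟨1, by ring⟩
  · rw [z, Ne, D.zpow_eq_one_iff]
    intro h
    have := Int.le_of_dvd (by omega) h
    omega

theorem orderOf_even_y {i : ℤ} (hi : Even i) : orderOf (D.x ^ i * D.y) = 2 := by
  obtain ⟨j, rfl⟩ := hi
  refine invol_of_mul_self ?_ ?_
  · rw [D.sq_zpow_mul_y, D.zpow_eq_one_iff]
    exact ⟨j, by ring⟩
  · rw [← zpow_zero D.x]; exact D.zpow_mul_y_ne _ _

theorem sq_odd_y {i : ℤ} (hi : Odd i) : D.x ^ i * D.y * (D.x ^ i * D.y) = D.z := by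
  obtain ⟨j, rfl⟩ := hi
  rw [D.sq_zpow_mul_y, z, D.zpow_eq_zpow_iff]
  exact ⟨-j, by ring⟩

theorem orderOf_odd_y {i : ℤ} (hi : Odd i) : orderOf (D.x ^ i * D.y) = 4 := by
  refine orderOf_eq_prime_pow (p := 2) (n := 1) ?_ ?_
  · rw [pow_one, pow_two, D.sq_odd_y hi]; exact invol_ne_one D.orderOf_z
  · rw [show 2 ^ (1 + 1) = 2 * 2 from rfl, pow_mul, pow_two (D.x ^ i * D.y), D.sq_odd_y hi, pow_two,
      invol_mul_self D.orderOf_z]

/-- The elements of order dividing four. -/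
theorem eq_of_orderOf_two {s : S} (hs : orderOf s = 2) :
    s = D.z ∨ ∃ i : ℤ, Even i ∧ s = D.x ^ i * D.y := by
  rcases D.cases s with ⟨i, rfl⟩ | ⟨i, rfl⟩
  · left
    have h := invol_mul_self hs
    rw [← zpow_add, D.zpow_eq_one_iff] at h
    obtain ⟨c, hc⟩ := h
    obtain ⟨d, rfl | rfl⟩ := Int.even_or_odd' c
    · refine absurd ?_ (invol_ne_one hs)
      rw [D.zpow_eq_one_iff]; exact ⟨d, by linarith⟩
    · rw [z, D.zpow_eq_zpow_iff]; exact ⟨-d, by linarith⟩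
  · refine Or.inr ⟨i, ?_, rfl⟩
    by_contra ho
    rw [Int.not_even_iff_odd] at ho
    rw [D.orderOf_odd_y ho] at hs
    omega

theorem commute_z (s : S) : Commute D.z s := by
  rcases D.cases s with ⟨i, rfl⟩ | ⟨i, rfl⟩
  · exact (Commute.refl D.x).zpow_zpow _ _
  · show D.x ^ (2 * (D.m : ℤ)) * (D.x ^ i * D.y) = D.x ^ i * D.y * D.x ^ (2 * (D.m : ℤ))
    rw [← mul_assoc, ← zpow_add, D.mul_rule_zy, D.zpow_mul_y_eq_iff]
    exact ⟨(D.m : ℤ) - 1, by ring⟩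

theorem conj_zpow_of_zpow (a i : ℤ) :
    D.x ^ a * (D.x ^ i * D.y) * (D.x ^ a)⁻¹ = D.x ^ (i + 2 * (1 - (D.m : ℤ)) * a) * D.y := by
  rw [← zpow_neg, ← mul_assoc, ← zpow_add, D.mul_rule_zy]
  congr 2
  ring

/-- `x ^ i * y` is conjugate to `x ^ j * y` when `i`, `j` have equal parity. -/
theorem exists_conj_shift {i j : ℤ} (h : Even (j - i)) :
    ∃ a : ℤ, D.x ^ a * (D.x ^ i * D.y) * (D.x ^ a)⁻¹ = D.x ^ j * D.y := by
  obtain ⟨d, hd⟩ := h
  obtain ⟨e, he⟩ := D.even_m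
  refine ⟨d * (1 - (D.m : ℤ)), ?_⟩
  rw [D.conj_zpow_of_zpow, D.zpow_mul_y_eq_iff]
  have hj : j = i + 2 * d := by linarith
  have he' : (D.m : ℤ) = e + e := by exact_mod_cast he
  refine ⟨d * (1 - e), ?_⟩
  rw [hj, he']; ring

theorem center_eq : Subgroup.center S = Subgroup.zpowers D.z := by
  apply le_antisymm
  · intro s hs
    rw [Subgroup.mem_center_iff] at hs
    rcases D.cases s with ⟨i, rfl⟩ | ⟨i, rfl⟩
    · have h := hs D.y
      rw [D.y_mul_zpow, D.zpow_mul_y_eq_iff] at h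
      obtain ⟨c, hc⟩ := h
      obtain ⟨e, he⟩ := D.even_m
      have he' : (D.m : ℤ) = e + e := by exact_mod_cast he
      -- `(1 - m) i` is a multiple of `2 m`, hence so is `i`
      have hk : 2 * (D.m : ℤ) ∣ i := by
        refine ⟨c * (1 - (D.m : ℤ)) - (e - 1) * i, ?_⟩
        have h3 : (1 - (D.m : ℤ)) * i = 2 * (D.m : ℤ) * c := by linarith
        calc i = (1 - (D.m : ℤ)) * ((1 - (D.m : ℤ)) * i) - 2 * (D.m : ℤ) * ((e - 1) * i) := by
              rw [he']; ring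
          _ = _ := by rw [h3]; ring
      obtain ⟨k, hk⟩ := hk
      exact ⟨k, by simp only [z, ← zpow_mul, hk]⟩
    · exfalso
      have h := hs D.x
      nth_rewrite 1 [← zpow_one D.x] at h
      nth_rewrite 4 [← zpow_one D.x] at h
      rw [← mul_assoc, ← zpow_add, D.mul_rule_zy, D.zpow_mul_y_eq_iff] at h
      have := D.two_le
      have h' := Int.le_of_dvd (by omega) h
      omega
  · rw [Subgroup.zpowers_le, Subgroup.mem_center_iff]
    exact fun g => (D.commute_z g).symm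

end QDData

end CfsgLib.Invol
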