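import Cfsg.Prelude.Def_HallClasses
import Mathlib

/-!
Pronormality of the overgroups of Sylow subgroups and normal subgroups.
-/

set_option autoImplicit false
set_option linter.style.haveILetI false

open Subgroup
open scoped Pointwise

namespace CfsgLib.Invol

variable {G : Type*} [Group G]

/-- The conjugate `g H g⁻¹`. -/
abbrev cjSub (g : G) (H : Subgroup G) : Subgroup G := H.map (MulAut.conj g).toMonoidHom

theorem cjSub_one (H : Subgroup G) : cjSub 1 H = H := by
  show H.map (MulAut.conj (1 : G)).toMonoidHom = H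
  rw [map_one]; exact Subgroup.map_id _

theorem cjSub_mul (g h : G) (H : Subgroup G) : cjSub (g * h) H = cjSub g (cjSub h H) := by
  show H.map (MulAut.conj (g * h)).toMonoidHom =
    (H.map (MulAut.conj h).toMonoidHom).map (MulAut.conj g).toMonoidHom
  rw [Subgroup.map_map, map_mul]; rfl

theorem mem_cjSub {g x : G} {H : Subgroup G} : x ∈ cjSub g H ↔ g⁻¹ * x * g ∈ H := by
  constructor
  · rintro ⟨y, hy, rfl⟩
    simpa [mul_assoc] using hy
  · intro h
    exact ⟨g⁻¹ * x * g, h, by simp [mul_assoc]⟩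

theorem cjSub_eq_self_iff {g : G} {H : Subgroup G} :
    cjSub g H = H ↔ g ∈ normalizer (H : Set G) :=
  mem_normalizer_iff_map_conj_eq.symm

theorem cjSub_mono {g : G} {H K : Subgroup G} (h : H ≤ K) : cjSub g H ≤ cjSub g K := map_mono h

theorem cjSub_le {g : G} {H J : Subgroup G} (hg : g ∈ J) (h : H ≤ J) : cjSub g H ≤ J := fun x hx => by
  have h1 := mul_mem (mul_mem hg (h (mem_cjSub.1 hx))) (inv_mem hg)
  simpa [mul_assoc] using h1

theorem cjSub_map {G' : Type*} [Group G'] (f : G →* G') (g : G) (H : Subgroup G) :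
    (cjSub g H).map f = cjSub (f g) (H.map f) := by
  show (H.map (MulAut.conj g).toMonoidHom).map f = (H.map f).map (MulAut.conj (f g)).toMonoidHom
  rw [Subgroup.map_map, Subgroup.map_map]
  congr 1
  ext x
  simp

/-- Conjugates of pronormal subgroups are pronormal. -/
theorem isPronormal_cjSub {H : Subgroup G} (h : Cfsg.IsPronormal H) (t : G) :
    Cfsg.IsPronormal (cjSub t H) := by
  intro g
  obtain ⟨x, hx, e⟩ := h (t⁻¹ * g * t)
  refine ⟨t * x * t⁻¹, ?_, ?_⟩
  · have h1 : t * x * t⁻¹ ∈ cjSub t (H ⊔ cjSub (t⁻¹ * g * t) H) := by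
      rw [mem_cjSub, show t⁻¹ * (t * x * t⁻¹) * t = x by group]; exact hx
    have e2 : cjSub g (cjSub t H) = cjSub t (cjSub (t⁻¹ * g * t) H) := by
      rw [← cjSub_mul, ← cjSub_mul]; congr 1; group
    show t * x * t⁻¹ ∈ cjSub t H ⊔ cjSub g (cjSub t H)
    rw [e2]
    exact (Subgroup.map_sup H _ _).le h1
  · show cjSub g (cjSub t H) = cjSub (t * x * t⁻¹) (cjSub t H)
    have e3 : cjSub t (cjSub (t⁻¹ * g * t) H) = cjSub t (cjSub x H) := congrArg (cjSub t) e
    rw [← cjSub_mul, ← cjSub_mul] at e3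
    rw [← cjSub_mul, ← cjSub_mul]
    convert e3 using 2 <;> group

/-- The image of a pronormal subgroup under a surjection is pronormal. -/
theorem isPronormal_map {G' : Type*} [Group G'] {f : G →* G'} (hf : Function.Surjective f)
    {H : Subgroup G} (h : Cfsg.IsPronormal H) : Cfsg.IsPronormal (H.map f) := by
  intro g'
  obtain ⟨g, rfl⟩ := hf g'
  obtain ⟨x, hx, e⟩ := h g
  refine ⟨f x, ?_, ?_⟩
  · show f x ∈ H.map f ⊔ cjSub (f g) (H.map f)
    rw [← cjSub_map, ← Subgroup.map_sup]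
    exact mem_map_of_mem f hx
  · show cjSub (f g) (H.map f) = cjSub (f x) (H.map f)
    rw [← cjSub_map, ← cjSub_map]
    exact congrArg (Subgroup.map f) e

/-- A pronormal subgroup inside `K` is pronormal in `K`. -/
theorem isPronormal_subgroupOf {H K : Subgroup G} (hHK : H ≤ K) (h : Cfsg.IsPronormal H) :
    Cfsg.IsPronormal (H.subgroupOf K) := by
  intro g
  obtain ⟨x, hx, e⟩ := h (g : G)
  have hgK : cjSub (g : G) H ≤ K := cjSub_le g.2 hHK
  have hxK : x ∈ K := sup_le hHK hgK hx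
  have hkey : ∀ y : K, cjSub y (H.subgroupOf K) = (cjSub (y : G) H).subgroupOf K := by
    intro y
    ext w
    rw [mem_cjSub, mem_subgroupOf, mem_subgroupOf, mem_cjSub]
    rfl
  refine ⟨⟨x, hxK⟩, ?_, ?_⟩
  · show _ ∈ H.subgroupOf K ⊔ cjSub g (H.subgroupOf K)
    rw [hkey, ← Subgroup.subgroupOf_sup hHK hgK, mem_subgroupOf]
    exact hx
  · show cjSub g (H.subgroupOf K) = cjSub (⟨x, hxK⟩ : K) (H.subgroupOf K)
    rw [hkey, hkey]
    exact congrArg (fun L => L.subgroupOf K) e

/-- Every overgroup of a Sylow `p`-subgroup is pronormal. -/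
def PronormalAbove (p : ℕ) (G : Type*) [Group G] : Prop :=
  ∀ K : Subgroup G, (∃ P : Sylow p G, (P : Subgroup G) ≤ K) → Cfsg.IsPronormal K

variable {p : ℕ} [Fact p.Prime] [Finite G]

theorem exists_sylow_le_normalizer {A : Subgroup G} [A.Normal] {T : Subgroup G}
    (hT : ∃ P : Sylow p A, (P : Subgroup A).map A.subtype = T) :
    ∃ P : Sylow p G, T ≤ (P : Subgroup G) ∧ (P : Subgroup G) ⊓ A = T ∧
      (P : Subgroup G) ≤ normalizer (T : Set G) := by
  obtain ⟨Q, rfl⟩ := hT
  obtain ⟨P, hP⟩ := (Q.2.map A.subtype).exists_le_sylow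
  have hTA : (Q : Subgroup A).map A.subtype ≤ A := map_subtype_le _
  have hPA : (P : Subgroup G) ⊓ A = (Q : Subgroup A).map A.subtype := by
    have h1 : (P : Subgroup G).subgroupOf A = (Q : Subgroup A) :=
      Q.3 (P.2.comap_of_injective A.subtype A.subtype_injective) fun x hx => hP ⟨x, hx, rfl⟩
    rw [← h1, subgroupOf_map_subtype]
  refine ⟨P, hP, hPA, fun x hx => ?_⟩
  rw [← cjSub_eq_self_iff, ← hPA]
  show ((P : Subgroup G) ⊓ A).map (MulAut.conj x).toMonoidHom = _
  rw [Subgroup.map_inf _ _ _ (MulAut.conj x).injective]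
  congr 1
  · exact cjSub_eq_self_iff.2 (le_normalizer hx)
  · exact Subgroup.Normal.map_conj_eq A x

/-- Pronormal overgroups pass to `N_G(T)/T`. -/
theorem pronormalAbove_normalizer_quotient {A : Subgroup G} [A.Normal] {T : Subgroup G}
    (hT : ∃ P : Sylow p A, (P : Subgroup A).map A.subtype = T)
    [(T.subgroupOf (normalizer (T : Set G))).Normal] (h : PronormalAbove p G) :
    PronormalAbove p (↥(normalizer (T : Set G)) ⧸ T.subgroupOf (normalizer (T : Set G))) := by
  obtain ⟨P, hTP, -, hPY⟩ := exists_sylow_le_normalizer hT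
  set Y := normalizer (T : Set G)
  set π := QuotientGroup.mk' (T.subgroupOf Y)
  have hs : Function.Surjective π := QuotientGroup.mk'_surjective _
  rintro K ⟨R, hR⟩
  obtain ⟨y, hy⟩ := MulAction.exists_smul_eq (↥Y ⧸ T.subgroupOf Y) ((P.subtype hPY).mapSurjective hs) R
  obtain ⟨y, rfl⟩ := hs y
  have hK : cjSub (y : G) (P : Subgroup G) ≤ (K.comap π).map Y.subtype := by
    intro w hw
    have hw' := mem_cjSub.1 hw
    refine ⟨⟨w, ?_⟩, ?_, rfl⟩
    · have := mul_mem (mul_mem y.2 (hPY hw')) (inv_mem y.2)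
      simpa [mul_assoc] using this
    · apply hR
      rw [← hy]
      show _ ∈ MulAut.conj (π y) • (P.subtype hPY : Subgroup Y).map π
      rw [Subgroup.mem_smul_pointwise_iff_exists]
      refine ⟨π ⟨(y : G)⁻¹ * w * y, hPY hw'⟩, mem_map_of_mem π (show _ ∈ (P : Subgroup G) from hw'), ?_⟩
      rw [MulAut.smul_def, MulAut.conj_apply, ← map_inv, ← map_mul, ← map_mul]
      congr 1
      exact Subtype.ext (by simp [mul_assoc])
  have hpro := h ((K.comap π).map Y.subtype) ⟨(y : G) • P, hK⟩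
  have h2 := isPronormal_subgroupOf (K := Y) (map_subtype_le _) hpro
  rw [Subgroup.subgroupOf, Subgroup.comap_map_eq_self_of_injective Y.subtype_injective] at h2
  have h3 := isPronormal_map hs h2
  rwa [map_comap_eq_self_of_surjective hs] at h3

/-- Pronormal overgroups give `N(H)A/A = N(HA/A)`. -/
theorem map_normalizer_of_pronormal (A : Subgroup G) [A.Normal] {H : Subgroup G}
    (h : Cfsg.IsPronormal H) :
    (normalizer (H : Set G)).map (QuotientGroup.mk' A) =
      normalizer ((H.map (QuotientGroup.mk' A) : Subgroup (G ⧸ A)) : Set (G ⧸ A)) := by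
  set π := QuotientGroup.mk' A
  refine le_antisymm (le_normalizer_map π) fun q hq => ?_
  obtain ⟨g, rfl⟩ := QuotientGroup.mk'_surjective A q
  obtain ⟨x, hx, e⟩ := h g
  have hle : H ⊔ cjSub g H ≤ (H.map π).comap π := by
    refine sup_le (le_comap_map _ _) (map_le_iff_le_comap.1 ?_)
    rw [cjSub_map, cjSub_eq_self_iff.2 hq]
  obtain ⟨h0, hh0, he⟩ := hle hx
  have e1 : cjSub (x⁻¹ * g) H = H := by
    show cjSub (x⁻¹ * g) H = H
    rw [cjSub_mul, show cjSub g H = cjSub x H from e, ← cjSub_mul, inv_mul_cancel, cjSub_one]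
  refine ⟨h0 * (x⁻¹ * g), mul_mem (le_normalizer hh0) (cjSub_eq_self_iff.1 e1), ?_⟩
  rw [map_mul, map_mul, map_inv, he, mul_inv_cancel_left]

/-- The sufficiency direction. -/
theorem pronormalAbove_of_conditions (A : Subgroup G) [A.Normal] (hA : PronormalAbove p A)
    (hQ : PronormalAbove p (G ⧸ A)) (T : Subgroup G)
    (hT : ∃ P : Sylow p A, (P : Subgroup A).map A.subtype = T)
    [(T.subgroupOf (normalizer (T : Set G))).Normal]
    (hY : PronormalAbove p (↥(normalizer (T : Set G)) ⧸ T.subgroupOf (normalizer (T : Set G))))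
    (hN : ∀ K : Subgroup G, (∃ P : Sylow p G, (P : Subgroup G) ≤ K) →
      (normalizer (K : Set G)).map (QuotientGroup.mk' A) =
        normalizer ((K.map (QuotientGroup.mk' A) : Subgroup (G ⧸ A)) : Set (G ⧸ A))) :
    PronormalAbove p G := by
  obtain ⟨P, hTP, hPA, hPY⟩ := exists_sylow_le_normalizer hT
  suffices key : ∀ H : Subgroup G, (P : Subgroup G) ≤ H → Cfsg.IsPronormal H by
    rintro H ⟨R, hR⟩
    obtain ⟨t, ht⟩ := MulAction.exists_smul_eq G R P
    have h1 : (P : Subgroup G) ≤ cjSub t H := by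
      rw [← ht]
      exact cjSub_mono hR
    have h2 := isPronormal_cjSub (key _ h1) t⁻¹
    rwa [← cjSub_mul, inv_mul_cancel, cjSub_one] at h2
  intro H hPH g
  set π := QuotientGroup.mk' A with hπ
  have hs : Function.Surjective π := QuotientGroup.mk'_surjective A
  set J := H ⊔ cjSub g H with hJ
  -- reduce to a conjugating element of `A`
  obtain ⟨x, hx, ex⟩ := hQ (H.map π) ⟨P.mapSurjective hs, map_mono hPH⟩ (π g)
  obtain ⟨x, hxJ, rfl⟩ : x ∈ J.map π := by
    rw [hJ, Subgroup.map_sup, cjSub_map]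
    exact hx
  have hnorm : π (x⁻¹ * g) ∈ normalizer ((H.map π : Subgroup (G ⧸ A)) : Set (G ⧸ A)) := by
    rw [← cjSub_eq_self_iff, map_mul, map_inv, cjSub_mul,
      show cjSub (π g) (H.map π) = cjSub (π x) (H.map π) from ex, ← cjSub_mul, inv_mul_cancel,
      cjSub_one]
  rw [← hN H ⟨P, hPH⟩] at hnorm
  obtain ⟨n, hn, en⟩ := hnorm
  set a := x⁻¹ * g * n⁻¹ with ha
  have haA : a ∈ A := by
    rw [← QuotientGroup.eq_one_iff (N := A)]
    show π a = 1
    rw [ha, map_mul, map_inv π n, en, mul_inv_cancel]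
  have hga : cjSub g H = cjSub (x * a) H := by
    rw [show g = x * a * n by rw [ha]; group, cjSub_mul, cjSub_eq_self_iff.2 hn]
  have hJa : cjSub a H ≤ J := by
    have h1 : cjSub x⁻¹ (cjSub g H) ≤ J := cjSub_le (inv_mem hxJ) le_sup_right
    rwa [hga, ← cjSub_mul, inv_mul_cancel_left] at h1
  -- inside `A`
  set K := H ⊓ A with hK
  have hTK : T ≤ K := le_inf (hTP.trans hPH) (hPA ▸ inf_le_right)
  obtain ⟨Q, hQT⟩ := hT
  have hQK : (Q : Subgroup A) ≤ K.subgroupOf A := fun w hw => hTK (hQT ▸ ⟨w, hw, rfl⟩)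
  obtain ⟨y, hy, ey⟩ := hA (K.subgroupOf A) ⟨Q, hQK⟩ ⟨a, haA⟩
  have hkey : ∀ y : A, cjSub y (K.subgroupOf A) = (cjSub (y : G) K).subgroupOf A := by
    intro y
    ext w
    rw [mem_cjSub, mem_subgroupOf, mem_subgroupOf, mem_cjSub]
    rfl
  have hyJ : (y : G) ∈ J := by
    have h1 : y ∈ J.subgroupOf A := by
      refine (sup_le ?_ ?_ : K.subgroupOf A ⊔ cjSub ⟨a, haA⟩ (K.subgroupOf A) ≤ J.subgroupOf A) hy
      · exact fun w hw => mem_sup_left hw.1
      · rw [hkey]
        exact fun w hw => hJa (cjSub_mono inf_le_left hw)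
    exact h1
  have eK : cjSub a K = cjSub (y : G) K := by
    have h1 : cjSub (⟨a, haA⟩ : A) (K.subgroupOf A) = cjSub y (K.subgroupOf A) := ey
    rw [hkey, hkey] at h1
    have h2 := congrArg (Subgroup.map A.subtype) h1
    rw [subgroupOf_map_subtype, subgroupOf_map_subtype, inf_eq_left.2, inf_eq_left.2] at h2
    · exact h2
    · exact cjSub_le y.2 inf_le_right
    · exact cjSub_le haA inf_le_right
  set a' := (y : G)⁻¹ * a with ha'
  have ha'A : a' ∈ A := mul_mem (inv_mem y.2) haA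
  have ha'K : cjSub a' K = K := by
    rw [ha', cjSub_mul, eK, ← cjSub_mul, inv_mul_cancel, cjSub_one]
  -- correct by an element of `K` to normalise `T`
  have hTA : T ≤ A := hTK.trans inf_le_right
  set KA := K.subgroupOf A with hKA
  have ha'KA : cjSub (⟨a', ha'A⟩ : A) KA = KA := by rw [hKA, hkey, ha'K]
  set Q1 : Sylow p A := (⟨a', ha'A⟩ : A) • Q
  have hQ1 : (Q1 : Subgroup A) ≤ KA := by
    rw [← ha'KA]
    exact cjSub_mono hQK
  obtain ⟨k, hk⟩ := MulAction.exists_smul_eq KA (Q1.subtype hQ1) (Q.subtype hQK)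
  set b := ((k : A) : G) * a' with hb
  have hbA : b ∈ A := mul_mem (k : A).2 ha'A
  have hbY : b ∈ normalizer (T : Set G) := by
    rw [← cjSub_eq_self_iff]
    refine Subgroup.eq_of_le_of_card_ge (fun w hw => ?_)
      (Subgroup.card_map_of_injective (MulAut.conj b).injective).ge
    rw [mem_cjSub, ← hQT] at hw
    obtain ⟨v, hv, ev⟩ := hw
    rw [← hQT]
    have hv1 : (⟨a', ha'A⟩ : A) * v * (⟨a', ha'A⟩ : A)⁻¹ ∈ (Q1 : Subgroup A) :=
      Subgroup.mem_smul_pointwise_iff_exists _ _ _ |>.2 ⟨v, hv, rfl⟩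
    have hv2 : k * ⟨_, hQ1 hv1⟩ * k⁻¹ ∈ ((Q.subtype hQK : Sylow p KA) : Subgroup KA) := by
      rw [← hk]
      exact Subgroup.mem_smul_pointwise_iff_exists _ _ _ |>.2 ⟨⟨_, hQ1 hv1⟩, hv1, rfl⟩
    refine ⟨_, mem_subgroupOf.1 hv2, ?_⟩
    have ev' : (v : G) = b⁻¹ * w * b := ev
    show ((k : A) : G) * (a' * (v : G) * a'⁻¹) * ((k : A) : G)⁻¹ = w
    rw [ev', hb]
    group
  have hkH : ((k : A) : G) ∈ H := (k.2 : ((k : A) : G) ∈ K).1
  have hbK : cjSub b K = K := by
    rw [hb, cjSub_mul, ha'K]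
    exact cjSub_eq_self_iff.2 (le_normalizer (k.2 : ((k : A) : G) ∈ K))
  have hbJ : cjSub b H ≤ J := by
    rw [hb, cjSub_mul]
    refine cjSub_le (mem_sup_left hkH) ?_
    rw [ha', cjSub_mul]
    exact cjSub_le (inv_mem hyJ) hJa
  -- inside `N_G(T)`
  set Y := normalizer (T : Set G) with hYdef
  set σ := QuotientGroup.mk' (T.subgroupOf Y)
  have hσ : Function.Surjective σ := QuotientGroup.mk'_surjective _
  set HY := H.subgroupOf Y with hHY
  obtain ⟨z, hz, ez⟩ := hY (HY.map σ) ⟨(P.subtype hPY).mapSurjective hσ,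
    map_mono (fun w (hw : (w : G) ∈ (P : Subgroup G)) => hPH hw)⟩ (σ ⟨b, hbY⟩)
  obtain ⟨z, hzJ, rfl⟩ : z ∈ (HY ⊔ cjSub (⟨b, hbY⟩ : Y) HY).map σ := by
    rw [Subgroup.map_sup, cjSub_map]
    exact hz
  have hTHY : T.subgroupOf Y ≤ HY := fun w hw => hPH (hTP hw)
  have ez' : cjSub (⟨b, hbY⟩ : Y) HY = cjSub z HY := by
    have h1 : (cjSub (⟨b, hbY⟩ : Y) HY).map σ = (cjSub z HY).map σ := by
      rw [cjSub_map, cjSub_map]; exact ez
    have hker : ∀ w : Y, σ.ker ≤ cjSub w HY := fun w u hu => by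
      rw [mem_cjSub]
      apply hTHY
      rw [QuotientGroup.ker_mk'] at hu
      simpa using (inferInstance : (T.subgroupOf Y).Normal).conj_mem u hu w⁻¹
    have h2 := congrArg (Subgroup.comap σ) h1
    rwa [comap_map_eq_self (hker _), comap_map_eq_self (hker _)] at h2
  have hzJ' : (z : G) ∈ J := by
    refine (sup_le ?_ ?_ : HY ⊔ cjSub (⟨b, hbY⟩ : Y) HY ≤ J.subgroupOf Y) hzJ
    · exact fun w hw => mem_sup_left hw
    · intro w hw
      have h0 := mem_cjSub.1 hw
      exact hbJ ((mem_cjSub (g := b)).2 h0)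
  have hHNK : H ≤ normalizer (K : Set G) := by
    intro h hh
    rw [← cjSub_eq_self_iff]
    show (H ⊓ A).map (MulAut.conj h).toMonoidHom = H ⊓ A
    rw [Subgroup.map_inf _ _ _ (MulAut.conj h).injective]
    congr 1
    · exact cjSub_eq_self_iff.2 (le_normalizer hh)
    · exact Subgroup.Normal.map_conj_eq A h
  -- `z` normalises `K`, and `H = K (H ∩ N(T))`
  have hzK : cjSub (z : G) K = K := by
    refine cjSub_eq_self_iff.2 ?_
    refine (sup_le ?_ ?_ : HY ⊔ cjSub (⟨b, hbY⟩ : Y) HY ≤ (normalizer (K : Set G)).subgroupOf Y) hzJ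
    · exact fun w hw => hHNK hw
    · intro w hw
      have h0 := mem_cjSub.1 hw
      have h1 : (w : G) ∈ cjSub b H := (mem_cjSub (g := b)).2 h0
      have h2 := cjSub_le (J := normalizer (K : Set G)) (cjSub_eq_self_iff.1 hbK) hHNK
      exact h2 h1
  have hfr : H ≤ K ⊔ (H ⊓ Y) := by
    intro h hh
    set Q2 : Subgroup A := (cjSub h T).subgroupOf A
    have hTh : cjSub h T ≤ K := by
      rw [← cjSub_eq_self_iff.2 (hHNK hh)]
      exact cjSub_mono hTK
    have hQ2 : Q2 = (Q : Subgroup A).map (MulAut.conjNormal h : A ≃* A).toMonoidHom := by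
      ext w
      rw [mem_subgroupOf, mem_cjSub, ← hQT, Subgroup.mem_map_equiv]
      constructor
      · rintro ⟨v, hv, e⟩
        have : (MulAut.conjNormal h : A ≃* A).symm w = v := Subtype.ext (by
          rw [MulAut.conjNormal_symm_apply]; exact e.symm)
        rw [this]; exact hv
      · intro hv
        exact ⟨_, hv, by rw [Subgroup.coe_subtype, MulAut.conjNormal_symm_apply]⟩
    let Qh : Sylow p A := Q.mapSurjective (f := (MulAut.conjNormal h : A ≃* A).toMonoidHom)
      (MulAut.conjNormal h : A ≃* A).surjective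
    have hQh : (Qh : Subgroup A) ≤ KA := by
      rw [show (Qh : Subgroup A) = Q2 from hQ2.symm]
      exact fun w hw => hTh hw
    obtain ⟨k, hk⟩ := MulAction.exists_smul_eq KA (Qh.subtype hQh) (Q.subtype hQK)
    have hkY : ((k : A) : G) * h ∈ Y := by
      rw [hYdef, ← cjSub_eq_self_iff]
      refine Subgroup.eq_of_le_of_card_ge (fun w hw => ?_)
        (Subgroup.card_map_of_injective (MulAut.conj _).injective).ge
      rw [mem_cjSub, ← hQT] at hw
      obtain ⟨v, hv, ev⟩ := hw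
      rw [← hQT]
      have hv1 : MulAut.conjNormal h v ∈ (Qh : Subgroup A) := mem_map_of_mem _ hv
      have hv2 : k * ⟨_, hQh hv1⟩ * k⁻¹ ∈ ((Q.subtype hQK : Sylow p KA) : Subgroup KA) := by
        rw [← hk]
        exact Subgroup.mem_smul_pointwise_iff_exists _ _ _ |>.2 ⟨⟨_, hQh hv1⟩, hv1, rfl⟩
      refine ⟨_, mem_subgroupOf.1 hv2, ?_⟩
      have ev' : (v : G) = (((k : A) : G) * h)⁻¹ * w * (((k : A) : G) * h) := ev
      show ((k : A) : G) * (MulAut.conjNormal h v : G) * ((k : A) : G)⁻¹ = w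
      rw [MulAut.conjNormal_apply, ev']
      group
    have hkK : ((k : A) : G) ∈ K := k.2
    have : h = ((k : A) : G)⁻¹ * (((k : A) : G) * h) := by group
    rw [this]
    exact mul_mem (mem_sup_left (inv_mem hkK)) (mem_sup_right ⟨mul_mem hkK.1 hh, hkY⟩)
  have heq : cjSub b H = cjSub (z : G) H := by
    have hH : H = K ⊔ HY.map Y.subtype := by
      rw [hHY, subgroupOf_map_subtype]
      exact le_antisymm hfr (sup_le inf_le_left inf_le_left)
    have hmap : ∀ w : Y, cjSub (w : G) (HY.map Y.subtype) = (cjSub w HY).map Y.subtype := fun w =>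
      (cjSub_map Y.subtype w HY).symm
    calc cjSub b H = cjSub b K ⊔ cjSub ((⟨b, hbY⟩ : Y) : G) (HY.map Y.subtype) := by
          conv_lhs => rw [hH]
          exact Subgroup.map_sup _ _ _
      _ = cjSub (z : G) K ⊔ cjSub (z : G) (HY.map Y.subtype) := by
          rw [hbK, hzK, hmap, hmap, ez']
      _ = cjSub (z : G) H := by
          conv_rhs => rw [hH]
          exact (Subgroup.map_sup _ _ _).symm
  -- assemble
  refine ⟨x * (y : G) * ((k : A) : G)⁻¹ * z, ?_, ?_⟩
  · exact mul_mem (mul_mem (mul_mem hxJ hyJ) (inv_mem (mem_sup_left hkH))) hzJ'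
  · show cjSub g H = cjSub _ H
    rw [hga, cjSub_mul (x * (y : G) * ((k : A) : G)⁻¹) z, ← heq, ← cjSub_mul]
    congr 1
    rw [hb, ha']
    group

/-- If the Sylow `p`-subgroups are self-normalising, so are their overgroups, and they are pronormal. -/
theorem selfNormalizing_overgroups (h : ∀ P : Sylow p G, normalizer ((P : Subgroup G) : Set G) = P)
    {K : Subgroup G} (hK : ∃ P : Sylow p G, (P : Subgroup G) ≤ K) :
    normalizer (K : Set G) = K ∧ Cfsg.IsPronormal K := by
  obtain ⟨P, hP⟩ := hK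
  have key : ∀ g : G, ∀ J : Subgroup G, K ≤ J → cjSub g K ≤ J → ∃ x ∈ J, x⁻¹ * g ∈ K := by
    intro g J hKJ hgJ
    have hP2 : ((g • P : Sylow p G) : Subgroup G) ≤ J := (cjSub_mono hP).trans hgJ
    obtain ⟨x, hx⟩ := MulAction.exists_smul_eq J (P.subtype (hP.trans hKJ)) ((g • P).subtype hP2)
    rw [Sylow.smul_subtype] at hx
    have hx' : (x : G) • P = g • P := Sylow.subtype_injective hx
    refine ⟨x, x.2, hP ?_⟩
    rw [← h P]
    refine Sylow.smul_eq_iff_mem_normalizer.1 ?_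
    rw [mul_smul, ← hx', inv_smul_smul]
  refine ⟨le_antisymm (fun g hg => ?_) le_normalizer, fun g => ?_⟩
  · obtain ⟨x, hx, hxg⟩ := key g K le_rfl (cjSub_eq_self_iff.2 hg).le
    have := mul_mem hx hxg
    rwa [mul_inv_cancel_left] at this
  · obtain ⟨x, hx, hxg⟩ := key g (K ⊔ cjSub g K) le_sup_left le_sup_right
    refine ⟨x, hx, ?_⟩
    show cjSub g K = cjSub x K
    conv_lhs => rw [show g = x * (x⁻¹ * g) by group]
    rw [cjSub_mul, cjSub_eq_self_iff.2 (le_normalizer hxg)]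

end CfsgLib.Invol
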