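import Cfsg.Agent.Lib.Invol.CTZassenhaus
import Cfsg.Agent.Lib.Char.CA
import Cfsg.Agent.S0219
import Mathlib.LinearAlgebra.Matrix.SpecialLinearGroup

/-!
# Simple groups with abelian centralisers

A nonabelian finite simple group in which centralisers of non-trivial elements are abelian is
PSL2 over a field with at least four elements, of characteristic two; conversely in characteristic
two these groups have abelian centralisers.
-/

set_option autoImplicit false
set_option linter.unusedSectionVars false

namespace CfsgLib.Invol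

open Matrix

theorem ct_exists_psl {G : Type*} [Group G] [Finite G] [IsSimpleGroup G]
    (hG : ¬ IsMulCommutative G)
    (hca : ∀ x a b : G, x ≠ 1 → Commute a x → Commute b x → Commute a b) :
    ∃ (F : Type) (_ : Field F) (_ : Fintype F) (f : ℕ), 2 ≤ f ∧ Fintype.card F = 2 ^ f ∧
      Nonempty (G ≃* Matrix.ProjectiveSpecialLinearGroup (Fin 2) F) := by
  have hnsolv : ¬ Group.IsSolvable G := fun hs =>
    hG ⟨⟨IsSimpleGroup.comm_iff_isSolvable.2 hs⟩⟩
  have heven : Even (Nat.card G) := by
    by_contra hodd
    rw [Nat.not_even_iff_odd] at hodd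
    exact hnsolv (CfsgLib.Char.isSolvable_of_ca_odd hodd fun x hx a ha b hb =>
      hca x a b hx (Subgroup.mem_centralizer_singleton_iff.1 ha)
        (Subgroup.mem_centralizer_singleton_iff.1 hb))
  have : Fact (Nat.Prime 2) := ⟨Nat.prime_two⟩
  obtain ⟨T⟩ := (inferInstance : Nonempty (Sylow 2 G))
  have hnc : ¬ IsCyclic (T : Subgroup G) := by
    intro hc
    obtain ⟨H, hH⟩ := Cfsg.Agent.S0219.result heven T hc
    rcases (Subgroup.normal_of_index_eq_two hH).eq_bot_or_eq_top with rfl | rfl
    · rw [Subgroup.index_bot] at hH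
      exact hG (have : IsCyclic G := isCyclic_of_prime_card (p := 2) hH
        IsCyclic.isMulCommutative)
    · rw [Subgroup.index_top] at hH; norm_num at hH
  have hnn : ¬ (T : Subgroup G).Normal := by
    intro hn
    rcases hn.eq_bot_or_eq_top with hb | ht
    · exact hnc (by rw [hb]; exact inferInstance)
    · have hp : IsPGroup 2 G := fun g => by
        obtain ⟨k, hk⟩ := T.isPGroup' ⟨g, by rw [ht]; exact Subgroup.mem_top g⟩
        exact ⟨k, congrArg Subtype.val hk⟩
      have := hp.isNilpotent
      exact hnsolv inferInstance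
  obtain ⟨A, h⟩ := exists_ctHyp hca T hnc hnn
  obtain ⟨F, hF, hFF, hcard, he⟩ := h.caHyp.exists_psl
  obtain ⟨f, hf⟩ := IsPGroup.iff_card.1 T.isPGroup'
  refine ⟨F, hF, hFF, f, ?_, hcard.trans hf, he⟩
  have h4 := h.caHyp.four_le_card
  rw [hf] at h4
  by_contra hlt
  interval_cases f <;> norm_num at h4

/-- Two-by-two matrices commuting with a non-scalar one commute. -/
theorem commute_of_commute_nonscalar {F : Type*} [Field F] {A B C : Matrix (Fin 2) (Fin 2) F}
    (hA : ¬ (A 0 1 = 0 ∧ A 1 0 = 0 ∧ A 0 0 = A 1 1)) (hB : B * A = A * B) (hC : C * A = A * C) :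
    B * C = C * B := by
  have eB := fun i j => congrFun (congrFun hB i) j
  have eC := fun i j => congrFun (congrFun hC i) j
  simp only [Matrix.mul_apply, Fin.sum_univ_two] at eB eC
  have b1 := eB 0 0
  have b2 := eB 0 1
  have b3 := eB 1 0
  have c1 := eC 0 0
  have c2 := eC 0 1
  have c3 := eC 1 0
  ext i j
  simp only [Matrix.mul_apply, Fin.sum_univ_two]
  by_cases hq : A 0 1 = 0
  · by_cases hr : A 1 0 = 0
    · have hd : A 0 0 - A 1 1 ≠ 0 := sub_ne_zero.2 fun e => hA ⟨hq, hr, e⟩
      have : B 0 1 = 0 := by
        refine (mul_eq_zero.1 ?_).resolve_right hd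
        rw [hq] at b2; linear_combination -b2
      have : B 1 0 = 0 := by
        refine (mul_eq_zero.1 ?_).resolve_right hd
        rw [hr] at b3; linear_combination b3
      have : C 0 1 = 0 := by
        refine (mul_eq_zero.1 ?_).resolve_right hd
        rw [hq] at c2; linear_combination -c2
      have : C 1 0 = 0 := by
        refine (mul_eq_zero.1 ?_).resolve_right hd
        rw [hr] at c3; linear_combination c3
      fin_cases i <;> fin_cases j <;> simp_all <;> ring
    · refine mul_left_cancel₀ hr ?_
      fin_cases i <;> fin_cases j <;> simp only [Fin.zero_eta, Fin.mk_one] <;> grind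
  · refine mul_left_cancel₀ hq ?_
    fin_cases i <;> fin_cases j <;> simp only [Fin.zero_eta, Fin.mk_one] <;> grind

/-- In characteristic two PSL2 has abelian centralisers. -/
theorem psl_two_ca {F : Type*} [Field F] (h2 : (2 : F) = 0)
    (x a b : Matrix.ProjectiveSpecialLinearGroup (Fin 2) F) (hx : x ≠ 1)
    (ha : Commute a x) (hb : Commute b x) : Commute a b := by
  have hone : ∀ g : Matrix.SpecialLinearGroup (Fin 2) F,
      g.1 0 1 = 0 ∧ g.1 1 0 = 0 ∧ g.1 0 0 = g.1 1 1 → g = 1 := by
    rintro g ⟨h01, h10, h00⟩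
    have hdet := g.2
    rw [Matrix.det_fin_two, h01, h10, ← h00] at hdet
    have h1 : g.1 0 0 = 1 := by
      have : (g.1 0 0 - 1) * (g.1 0 0 - 1) = 0 := by
        linear_combination hdet + (1 - g.1 0 0) * h2
      exact sub_eq_zero.1 (mul_self_eq_zero.1 this)
    ext i j
    fin_cases i <;> fin_cases j
    · simpa using h1
    · simpa using h01
    · simpa using h10
    · simpa [← h00] using h1
  have hcen : Subgroup.center (Matrix.SpecialLinearGroup (Fin 2) F) = ⊥ := by
    rw [Subgroup.eq_bot_iff_forall]
    intro g hg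
    refine hone g ?_
    obtain ⟨r, -, hr⟩ := Matrix.SpecialLinearGroup.mem_center_iff.1 hg
    rw [← hr]
    simp
  have hinj : Function.Injective (QuotientGroup.mk'
      (Subgroup.center (Matrix.SpecialLinearGroup (Fin 2) F))) := by
    rw [← MonoidHom.ker_eq_bot_iff, QuotientGroup.ker_mk', hcen]
  obtain ⟨x, rfl⟩ := QuotientGroup.mk'_surjective _ x
  obtain ⟨a, rfl⟩ := QuotientGroup.mk'_surjective _ a
  obtain ⟨b, rfl⟩ := QuotientGroup.mk'_surjective _ b
  have ha' : a * x = x * a := hinj (by rw [map_mul, map_mul]; exact ha.eq)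
  have hb' : b * x = x * b := hinj (by rw [map_mul, map_mul]; exact hb.eq)
  refine Commute.map (show Commute a b from Subtype.ext ?_) _
  exact commute_of_commute_nonscalar (A := x.1) (fun e => hx (by rw [hone x e, map_one]))
    (congrArg Subtype.val ha') (congrArg Subtype.val hb')

end CfsgLib.Invol
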