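import Cfsg.Agent.Lib.Fusion.NormalCriteria
import Cfsg.Agent.Lib.PGroup.MetacyclicTwoAut

/-!
The action of a centric radical subgroup's automorphisms on its intersection with a strongly closed
subgroup.
-/

set_option autoImplicit false
set_option linter.style.haveILetI false
set_option linter.unusedSectionVars false

namespace CfsgLib.Invol.FrattiniKernel

open Cfsg Cfsg.FusionSystem Subgroup CfsgLib.Fusion

section Kernel

variable {X : Type*} [Group X]

/-- The automorphisms trivial on the Frattini quotient. -/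
def frattiniKer (X : Type*) [Group X] : Subgroup (MulAut X) where
  carrier := {α | ∀ u : X, u⁻¹ * α u ∈ frattini X}
  one_mem' := fun u => by simp
  mul_mem' := fun {α β} hα hβ u => by
    have h := mul_mem (hβ u) (hα (β u))
    simpa [mul_assoc] using h
  inv_mem' := fun {α} hα u => by
    have h := inv_mem (hα (α⁻¹ u))
    simpa using h

theorem mem_frattiniKer {α : MulAut X} :
    α ∈ frattiniKer X ↔ ∀ u : X, u⁻¹ * α u ∈ frattini X := Iff.rfl

instance : (frattiniKer X).Normal := ⟨fun α hα g u => by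
  have h := mem_map_of_mem g.toMonoidHom (hα (g⁻¹ u))
  rw [Subgroup.characteristic_iff_map_eq.1 inferInstance g] at h
  simpa using h⟩

theorem isPGroup_frattiniKer [Finite X] {p : ℕ} [Fact p.Prime] (hX : IsPGroup p X) :
    IsPGroup p (frattiniKer X) := by
  haveI : Finite (MulAut X) := Finite.of_injective (fun e => (e : X → X)) DFunLike.coe_injective
  rintro ⟨k, hk⟩
  obtain ⟨d, r, hrd, hd⟩ := Nat.exists_eq_pow_mul_and_not_dvd (orderOf_pos k).ne' p
    (Fact.out : p.Prime).ne_one
  refine ⟨d, Subtype.ext ?_⟩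
  refine CfsgLib.PGroup.aut_eq_one_of_fix_frattini hX _ ?_ ((frattiniKer X).pow_mem hk (p ^ d))
  have hdr : orderOf (k ^ p ^ d) ∣ r := by
    rw [orderOf_dvd_iff_pow_eq_one, ← pow_mul, ← hd, pow_orderOf_eq_one]
  exact Nat.Coprime.coprime_dvd_left hdr (((Fact.out : p.Prime).coprime_iff_not_dvd.2 hrd).symm)

end Kernel

variable {Ω : Type*} [Group Ω] {S : Subgroup Ω} [Finite S] {F : FusionSystem S} {p : ℕ}
  [hp : Fact p.Prime] {P R : Subgroup Ω}

/-- An element of a strongly closed `P` normalizing a centric radical `R` whose action on `R ⊓ P`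
lies in a normal `p`-subgroup of the automorphism group lies in `R`. -/
theorem mem_of_inf_action (hS : IsPGroup p S) (hP : F.StronglyClosed P) (hc : F.IsCentric R)
    (hr : F.IsRadical p R) (K : Subgroup (MulAut ↥(R ⊓ P))) [K.Normal] (hK : IsPGroup p K) {a : Ω}
    (haP : a ∈ P) (haN : a ∈ Subgroup.normalizer (R : Set Ω))
    (haK : ∀ φ : MulAut ↥(R ⊓ P), (∀ x : ↥(R ⊓ P), ((φ x : ↥(R ⊓ P)) : Ω) = a * (x : Ω) * a⁻¹) → φ ∈ K) :
    a ∈ R := by
  haveI := finite_of_le hc.1
  have hinv : ∀ α ∈ F.autGroup R, ∀ x : R, (x : Ω) ∈ (R ⊓ P : Subgroup Ω) → ((α x : R) : Ω) ∈ (R ⊓ P : Subgroup Ω) := fun α hα x hx => by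
    refine Subgroup.mem_inf.2 ⟨(α x).2, ?_⟩
    have := StronglyClosed.apply_mem hP (isMap_of_autGroup hc.1 hα) x.2 hx.2
    rwa [toFun_aut_apply _ x.2] at this
  let res : F.autGroup R →* MulAut ↥(R ⊓ P) := MonoidHom.mk' (fun α =>
    { toFun := fun x => ⟨((α : MulAut R) ⟨x, x.2.1⟩ : R), hinv _ α.2 ⟨x, x.2.1⟩ x.2⟩
      invFun := fun x => ⟨((α : MulAut R)⁻¹ ⟨x, x.2.1⟩ : R), hinv _ (α⁻¹).2 ⟨x, x.2.1⟩ x.2⟩
      left_inv := fun x => Subtype.ext
        (congrArg Subtype.val (MulAut.inv_apply_self _ (α : MulAut R) ⟨x, x.2.1⟩) :)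
      right_inv := fun x => Subtype.ext
        (congrArg Subtype.val (MulAut.apply_inv_self _ (α : MulAut R) ⟨x, x.2.1⟩) :)
      map_mul' := fun x y => Subtype.ext
        (congrArg Subtype.val (map_mul (α : MulAut R) ⟨x, x.2.1⟩ ⟨y, y.2.1⟩) :) })
    fun α β => MulEquiv.ext fun x => Subtype.ext rfl
  have hres : ∀ (α : F.autGroup R) (x : (R ⊓ P : Subgroup Ω)),
      ((res α x : (R ⊓ P : Subgroup Ω)) : Ω) = ((α : MulAut R) ⟨x, x.2.1⟩ : R) := fun _ _ => rfl
  refine mem_of_stabilizes hS hc hr (K.comap res) 1 (fun k => if k = 0 then (R ⊓ P : Subgroup Ω) else ⊤)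
    (monotone_nat_of_le_succ fun k => by simp) (fun k α hα x hx => ?_) (by simp)
    (fun γ hγ => ?_) ⟨hP.1 haP, haN⟩ (fun α hα => Subgroup.mem_comap.2 (haK _ fun x => ?_))
    fun k hk x hxR hx => ?_
  · split_ifs with h0
    · rw [if_pos h0] at hx
      exact hinv α hα x hx
    · exact Subgroup.mem_top _
  · obtain ⟨k, hk⟩ := hK ⟨res γ, hγ⟩
    refine ⟨k, fun x hx => Subtype.ext ?_⟩
    have h1 : res (γ ^ p ^ k) = 1 := by
      rw [map_pow]; exact congrArg Subtype.val hk
    have h2 := hres (γ ^ p ^ k) ⟨x, hx⟩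
    rw [h1, Subgroup.coe_pow] at h2
    exact h2.symm
  · rw [hres, hα]
    rfl
  · obtain rfl : k = 0 := by omega
    rw [if_pos rfl]
    refine Subgroup.mem_inf.2 ⟨R.mul_mem (R.inv_mem hxR) ((haN x).1 hxR), ?_⟩
    have h1 := P.mul_mem (StronglyClosed.conj_mem hP (S.inv_mem (hc.1 hxR)) haP) (P.inv_mem haP)
    simpa [mul_assoc] using h1

/-- If a strongly closed `P` is not inside a centric radical `R`, some element of `P` outside `R`
normalizes `R` and has its `p`th power in `R`. -/
theorem exists_outside (hS : IsPGroup p S) (hP : F.StronglyClosed P) (hc : F.IsCentric R)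
    (hPR : ¬ P ≤ R) : ∃ a ∈ P, a ∈ Subgroup.normalizer (R : Set Ω) ∧ a ∉ R ∧ a ^ p ∈ R := by
  classical
  by_contra hall
  push Not at hall
  refine hPR (le_of_normalizer_inf_le hS hc.1 hP.1
    (fun b hb => StronglyClosed.le_normalizer hP (hc.1 hb)) fun a haP haN => ?_)
  by_contra haR
  have hex : ∃ i, a ^ p ^ i ∈ R := by
    obtain ⟨i, hi⟩ := hS ⟨a, hP.1 haP⟩
    exact ⟨i, by rw [show a ^ p ^ i = 1 from congrArg Subtype.val hi]; exact R.one_mem⟩
  obtain ⟨i, hi⟩ : ∃ i, Nat.find hex = i + 1 := by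
    rcases Nat.eq_zero_or_pos (Nat.find hex) with h | h
    · exact absurd (by simpa [h] using Nat.find_spec hex) haR
    · exact ⟨Nat.find hex - 1, by omega⟩
  refine hall (a ^ p ^ i) (P.pow_mem haP _) (Subgroup.pow_mem _ haN _)
    (Nat.find_min hex (by omega)) ?_
  rw [← pow_mul, ← pow_succ, ← hi]
  exact Nat.find_spec hex

/-- The centralizer in a strongly closed `P` of `R ⊓ P` lies in the centric radical `R`. -/
theorem centralizer_inf_le (hS : IsPGroup p S) (hP : F.StronglyClosed P) (hc : F.IsCentric R)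
    (hr : F.IsRadical p R) : P ⊓ Subgroup.centralizer ((R ⊓ P : Subgroup Ω) : Set Ω) ≤ R := by
  refine le_of_normalizer_inf_le hS hc.1 (inf_le_left.trans hP.1) (fun b hb => ?_) fun a ha haN => ?_
  · have hbP := StronglyClosed.le_normalizer hP (hc.1 hb)
    have hbQ : b ∈ Subgroup.normalizer ((R ⊓ P : Subgroup Ω) : Set Ω) := fun y =>
      ⟨fun hy => ⟨R.mul_mem (R.mul_mem hb hy.1) (R.inv_mem hb), (hbP y).1 hy.2⟩, fun hy =>
        ⟨by simpa [mul_assoc] using R.mul_mem (R.mul_mem (R.inv_mem hb) hy.1) hb, (hbP y).2 hy.2⟩⟩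
    intro y
    refine and_congr (hbP y) ?_
    constructor
    · intro hy x hx
      have h := hy (b⁻¹ * x * b) (by simpa using (inv_mem hbQ x).1 hx)
      calc x * (b * y * b⁻¹) = b * (b⁻¹ * x * b * y) * b⁻¹ := by group
        _ = b * (y * (b⁻¹ * x * b)) * b⁻¹ := by rw [h]
        _ = b * y * b⁻¹ * x := by group
    · intro hy x hx
      have h := hy (b * x * b⁻¹) ((hbQ x).1 hx)
      calc x * y = b⁻¹ * (b * x * b⁻¹ * (b * y * b⁻¹)) * b := by group
        _ = b⁻¹ * (b * y * b⁻¹ * (b * x * b⁻¹)) * b := by rw [h]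
        _ = y * x := by group
  · refine mem_of_inf_action hS hP hc hr ⊥ IsPGroup.of_bot ha.1 haN fun φ hφ => ?_
    rw [Subgroup.mem_bot]
    refine MulEquiv.ext fun x => Subtype.ext ?_
    rw [hφ, MulAut.one_apply, ← Subgroup.mem_centralizer_iff.1 ha.2 x x.2, mul_inv_cancel_right]

/-- In a metacyclic `p`-group, an element and its image under an automorphism moving it modulo
Frattini generate, for `p = 2`. -/
theorem closure_pair_eq_top {X : Type*} [Group X] [Finite X] (hX : IsPGroup 2 X)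
    (hm : Cfsg.IsMetacyclic X) (φ : MulAut X) {u : X} (hu : u⁻¹ * φ u ∉ frattini X) :
    closure ({u, φ u} : Set X) = ⊤ := by
  haveI := Fact.mk Nat.prime_two
  set w := φ u
  have hV : Nat.card (X ⧸ frattini X) ≤ 2 ^ 2 := by
    rw [← card_top (G := X ⧸ frattini X)]
    exact CfsgLib.OddLocal.card_le_sq_of_metacyclic (CfsgLib.Invol.isMetacyclic_quotient hm _)
      Nat.prime_two ⊤ (fun q _ => by
        obtain ⟨z, rfl⟩ := QuotientGroup.mk_surjective q
        rw [← QuotientGroup.mk_pow, QuotientGroup.eq_one_iff]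
        exact CfsgLib.StructC.pow_mem_frattini hX z)
  set π := QuotientGroup.mk' (frattini X)
  have huw : π u ≠ π w := fun h => hu (QuotientGroup.eq.1 h)
  have hiff : u ∈ frattini X ↔ w ∈ frattini X := by
    constructor
    · exact fun h => (Subgroup.characteristic_iff_map_eq.1 inferInstance φ).le
        (mem_map_of_mem φ.toMonoidHom h)
    · intro h
      have h' := (Subgroup.characteristic_iff_map_eq.1 inferInstance φ⁻¹).le
        (mem_map_of_mem (φ⁻¹).toMonoidHom h)
      simpa [w] using h'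
  have hu1 : π u ≠ 1 := fun h => huw
    (h.trans ((QuotientGroup.eq_one_iff w).2 (hiff.1 ((QuotientGroup.eq_one_iff u).1 h))).symm)
  have hw1 : π w ≠ 1 := fun h => huw
    (((QuotientGroup.eq_one_iff u).2 (hiff.2 ((QuotientGroup.eq_one_iff w).1 h))).trans h.symm)
  refine frattini_nongenerating ?_
  set L := (closure ({u, w} : Set X)).map π with hL
  have hLtop : L = ⊤ := by
    have hu' : π u ∈ L := mem_map_of_mem π (subset_closure (Or.inl rfl))
    have hw' : π w ∈ L := mem_map_of_mem π (subset_closure (Or.inr rfl))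
    let ι : Fin 3 → L := ![1, ⟨_, hu'⟩, ⟨_, hw'⟩]
    have hι : Function.Injective ι := by
      intro i j hij
      have h := congrArg Subtype.val hij
      fin_cases i <;> fin_cases j
      all_goals first
        | rfl
        | exact absurd h hu1
        | exact absurd h.symm hu1
        | exact absurd h hw1
        | exact absurd h.symm hw1
        | exact absurd h huw
        | exact absurd h.symm huw
    have h3 := Nat.card_le_card_of_injective ι hι
    rw [Nat.card_fin] at h3
    obtain ⟨l, hl⟩ := ((hX.to_quotient (frattini X)).to_subgroup L).exists_card_eq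
    refine Subgroup.eq_top_of_card_eq L (le_antisymm (Subgroup.card_le_card_group L) ?_)
    rw [hl] at h3 ⊢
    rcases l with _ | _ | l
    · norm_num at h3
    · norm_num at h3
    · exact hV.trans (Nat.pow_le_pow_right (by norm_num) (by omega))
  have h := congrArg (Subgroup.comap π) hLtop
  rwa [hL, comap_map_eq, comap_top, QuotientGroup.ker_mk'] at h

end CfsgLib.Invol.FrattiniKernel
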