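import Cfsg.Agent.Lib.Transfer.Frobenius
import Cfsg.Agent.Lib.Transfer.Basic
import Cfsg.Agent.Lib.Comp.FStar
import Cfsg.Agent.Lib.Comp.Local
import Cfsg.Agent.Lib.Amalgam.PCore
import Cfsg.Agent.Lib.ClassK.Core
import Cfsg.Agent.Lib.PLocal.Sylow
import Cfsg.Agent.Lib.PGroup.CyclicIndex

/-!
Groups with a cyclic Sylow `p`-subgroup and trivial `p'`-core.
-/

set_option autoImplicit false
set_option linter.style.haveILetI false

open Subgroup
open scoped Pointwise

namespace CfsgLib.Invol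

variable {p : ℕ} [Fact p.Prime]

/-- An automorphism of order prime to `p` of a cyclic `p`-group fixing a nontrivial element is trivial. -/
theorem aut_eq_one_of_cyclic {D : Type*} [Group D] [Finite D] [IsCyclic D] (hD : IsPGroup p D)
    (φ : MulAut D) (hp : (orderOf φ).Coprime p) {x : D} (hx : x ≠ 1) (hfix : φ x = x) : φ = 1 := by
  classical
  have hpp : p.Prime := Fact.out
  obtain ⟨g, hg⟩ := IsCyclic.exists_generator (α := D)
  obtain ⟨k, hk⟩ := Subgroup.mem_zpowers_iff.1 (hg (φ g))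
  obtain ⟨n, hn⟩ := (IsPGroup.iff_orderOf.1 hD) g
  obtain ⟨e, he⟩ := Subgroup.mem_zpowers_iff.1 (hg x)
  have hiter : ∀ j : ℕ, (φ ^ j) g = g ^ (k ^ j) := by
    intro j
    induction j with
    | zero => simp
    | succ j ih =>
      rw [pow_succ, MulAut.mul_apply, ← hk, map_zpow, ih, ← zpow_mul, pow_succ k]
  have hxe : g ^ (k * e) = g ^ e := by
    rw [zpow_mul, hk, ← map_zpow, he, hfix]
  have h1 : ((p : ℤ) ^ n) ∣ (k - 1) * e := by
    have := orderOf_dvd_iff_zpow_eq_one.2 (show g ^ ((k - 1) * e) = 1 by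
      rw [sub_mul, one_mul, zpow_sub, hxe, mul_inv_cancel])
    rw [hn] at this
    exact_mod_cast this
  have h2 : ¬ ((p : ℤ) ^ n) ∣ e := by
    intro h
    apply hx
    rw [← he, ← orderOf_dvd_iff_zpow_eq_one, hn]
    exact_mod_cast h
  have h3 : (p : ℤ) ∣ k - 1 := by
    by_contra h3
    exact h2 (((Nat.prime_iff_prime_int.1 hpp).coprime_iff_not_dvd.2 h3).pow_left.dvd_of_dvd_mul_left h1)
  have h4 : ((p : ℤ) ^ (n + 1)) ∣ k ^ (p ^ n) - 1 ^ (p ^ n) := dvd_sub_pow_of_dvd_sub h3 n
  rw [one_pow] at h4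
  have h5 : (φ ^ (p ^ n)) g = g := by
    rw [hiter]
    have : g ^ (k ^ (p ^ n) - 1) = 1 := by
      rw [← orderOf_dvd_iff_zpow_eq_one, hn]
      push_cast
      exact (pow_dvd_pow _ (Nat.le_succ n)).trans h4
    rw [zpow_sub, zpow_one, mul_inv_eq_one] at this
    exact this
  have h6 : φ ^ (p ^ n) = 1 := by
    ext z
    obtain ⟨j, rfl⟩ := Subgroup.mem_zpowers_iff.1 (hg z)
    rw [map_zpow, h5, MulAut.one_apply]
  exact orderOf_eq_one_iff.1 (Nat.eq_one_of_dvd_coprimes (hp.pow_right n) dvd_rfl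
    (orderOf_dvd_of_pow_eq_one h6))

variable {G : Type*} [Group G] [Finite G]

theorem isCyclic_of_le {A B : Subgroup G} (hB : IsCyclic B) (h : A ≤ B) : IsCyclic A :=
  isCyclic_of_injective (Subgroup.inclusion h) (Subgroup.inclusion_injective h)

theorem isCyclic_pGroup {P : Sylow p G} (hP : IsCyclic ↥(P : Subgroup G)) {D : Subgroup G}
    (hD : IsPGroup p D) : IsCyclic D := by
  obtain ⟨T, hT⟩ := hD.exists_le_sylow
  haveI : IsCyclic ↥(T : Subgroup G) := (T.equiv P).isCyclic.2 hP
  exact isCyclic_of_le this hT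

theorem mem_centralizer_of_cyclic {D : Subgroup G} (hD : IsPGroup p D) (hc : IsCyclic D) {g x : G}
    (hg : g ∈ normalizer (D : Set G)) (hgp : (orderOf g).Coprime p) (hxD : x ∈ D) (hx : x ≠ 1)
    (hfix : g * x = x * g) : g ∈ centralizer (D : Set G) := by
  have hφ : (orderOf (D.normalizerMonoidHom ⟨g, hg⟩)) ∣ orderOf g := by
    refine (orderOf_map_dvd _ _).trans ?_
    rw [← Subgroup.orderOf_coe]
  have h1 := aut_eq_one_of_cyclic hD (D.normalizerMonoidHom ⟨g, hg⟩) (hgp.coprime_dvd_left hφ)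
    (x := ⟨x, hxD⟩) (fun h => hx (congrArg Subtype.val h))
    (Subtype.ext (show g * x * g⁻¹ = x by rw [hfix, mul_inv_cancel_right]))
  rw [Subgroup.mem_centralizer_iff]
  intro d hd
  have hcd : g * d * g⁻¹ = d :=
    congrArg Subtype.val (DFunLike.congr_fun h1 (⟨d, hd⟩ : D))
  exact (mul_inv_eq_iff_eq_mul.1 hcd).symm

/-- A cyclic Sylow `p`-subgroup meeting the centre nontrivially gives a normal `p`-complement. -/
theorem hasNormalPComplement_of_central {P : Sylow p G} (hP : IsCyclic ↥(P : Subgroup G)) {x : G}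
    (hxp : IsPGroup p (zpowers x)) (hxc : x ∈ center G) (hx : x ≠ 1) :
    Cfsg.HasNormalPComplement p G := by
  rw [CfsgLib.Transfer.hasNormalPComplement_iff_frobenius]
  intro D hD g hg hgp
  haveI : (zpowers x).Normal := ⟨fun y hy a => by
    have : y ∈ center G := zpowers_le.2 hxc hy
    rw [mem_center_iff.1 this a, mul_inv_cancel_right]; exact hy⟩
  have hD' : IsPGroup p (D ⊔ zpowers x : Subgroup G) := hD.to_sup_of_normal_right hxp
  have hg' : g ∈ normalizer ((D ⊔ zpowers x : Subgroup G) : Set G) := by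
    have h1 : g ∈ normalizer ((zpowers x : Subgroup G) : Set G) := by
      rw [Subgroup.normalizer_eq_top (zpowers x)]; trivial
    exact (normalizer_inf_normalizer_le_normalizer_sup (H := D) (K := zpowers x)) ⟨hg, h1⟩
  exact centralizer_le (SetLike.coe_subset_coe.2 le_sup_left) (mem_centralizer_of_cyclic hD'
    (isCyclic_pGroup hP hD') hg' hgp (mem_sup_right (mem_zpowers x)) hx (mem_center_iff.1 hxc g))

theorem not_dvd_card_of_perfect_complement [Group.IsPerfect G] (h : Cfsg.HasNormalPComplement p G) :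
    ¬ p ∣ Nat.card G := by
  obtain ⟨N, hN, hc, hq⟩ := CfsgLib.Transfer.hasNormalPComplement_iff_exists.1 h
  have htop : N = ⊤ := by
    by_contra hne
    haveI : Nontrivial (G ⧸ N) := QuotientGroup.nontrivial_iff.2 hne
    haveI := hq.isNilpotent
    exact Group.IsPerfect.not_isSolvable (G ⧸ N) inferInstance
  intro hd
  rw [htop, Subgroup.card_top] at hc
  exact (Fact.out : p.Prime).ne_one (Nat.eq_one_of_dvd_coprimes hc hd dvd_rfl)

/-- Two disjoint nontrivial subgroups do not generate a cyclic `p`-group. -/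
theorem eq_bot_or_eq_bot_of_disjoint {A B C : Subgroup G} (hC : IsPGroup p C) (hc : IsCyclic C)
    (hA : A ≤ C) (hB : B ≤ C) (hd : A ⊓ B = ⊥) : A = ⊥ ∨ B = ⊥ := by
  by_contra hne
  push Not at hne
  have key : ∀ E : Subgroup G, E ≤ C → E ≠ ⊥ → ∃ z ∈ E, orderOf z = p := by
    intro E hE hne
    haveI := (Subgroup.nontrivial_iff_ne_bot E).2 hne
    obtain ⟨n, hn, hcard⟩ := (hC.to_le hE).nontrivial_iff_card.1 inferInstance
    obtain ⟨z, hz⟩ := exists_prime_orderOf_dvd_card' (G := E) p (hcard ▸ dvd_pow_self p hn.ne')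
    exact ⟨z, z.2, by rw [Subgroup.orderOf_coe]; exact hz⟩
  obtain ⟨a, ha, hao⟩ := key A hA hne.1
  obtain ⟨b, hb, hbo⟩ := key B hB hne.2
  haveI := hc
  obtain ⟨j, hj⟩ := Subgroup.mem_zpowers_iff.1
    (CfsgLib.PGroup.mem_zpowers_of_pow_eq_one (z := (⟨b, hB hb⟩ : C)) (w := ⟨a, hA ha⟩) (n := p)
      (by rw [Subgroup.orderOf_mk, hbo]) (Subtype.ext (by
        show a ^ p = 1
        rw [← hao, pow_orderOf_eq_one])))
  have hab : a ∈ B := by
    have h1 : b ^ j = a := congrArg Subtype.val hj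
    exact h1 ▸ zpow_mem hb j
  have : a = 1 := by
    have : a ∈ A ⊓ B := ⟨ha, hab⟩
    rwa [hd, mem_bot] at this
  rw [this, orderOf_one] at hao
  exact (Fact.out : p.Prime).ne_one hao.symm

theorem conj_eq_zpow_of_cyclic {P : Subgroup G} [P.Normal] (hP : IsCyclic P) (g : G) :
    ∃ k : ℤ, ∀ w ∈ P, g * w * g⁻¹ = w ^ k := by
  obtain ⟨a, ha⟩ := hP.exists_generator
  obtain ⟨k, hk⟩ := Subgroup.mem_zpowers_iff.1
    (ha ⟨g * a * g⁻¹, (inferInstance : P.Normal).conj_mem _ a.2 g⟩)
  refine ⟨k, fun w hw => ?_⟩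
  obtain ⟨j, hj⟩ := Subgroup.mem_zpowers_iff.1 (ha ⟨w, hw⟩)
  have h1 : (a : G) ^ j = w := congrArg Subtype.val hj
  have h2 : (a : G) ^ k = g * a * g⁻¹ := congrArg Subtype.val hk
  rw [← h1, ← zpow_mul, mul_comm j, zpow_mul, h2, conj_zpow]

/-- No component: the Sylow subgroup is normal and self-centralizing. -/
theorem cyclicSylow_of_no_component {K : Type*} [Group K] [Finite K] (hp : p ∣ Nat.card K)
    (hO : Cfsg.pPrimeCore p K = ⊥) (P : Sylow p K) (hP : IsCyclic ↥(P : Subgroup K))
    (hE : Cfsg.layer K = ⊥) :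
    (P : Subgroup K).Normal ∧ centralizer ((P : Subgroup K) : Set K) = (P : Subgroup K) ∧
      (∀ (_ : (P : Subgroup K).Normal), IsCyclic (K ⧸ (P : Subgroup K))) ∧
      (P : Subgroup K).index ∣ p - 1 := by
  classical
  haveI := Cfsg.pCore_normal p K
  haveI := hP
  have hOP : Cfsg.pCore p K ≤ (P : Subgroup K) := by
    obtain ⟨T, hT⟩ := (CfsgLib.Comp.isPGroup_pCore p K).exists_le_sylow
    obtain ⟨g, hg⟩ := MulAction.exists_smul_eq K T P
    intro x hx
    rw [← hg]
    show x ∈ MulAut.conj g • (T : Subgroup K)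
    rw [Subgroup.mem_pointwise_smul_iff_inv_smul_mem, MulAut.smul_def]
    apply hT
    rw [MulAut.conj_inv_apply]
    simpa using (inferInstance : (Cfsg.pCore p K).Normal).conj_mem x hx g⁻¹
  have hF : Cfsg.generalizedFittingSubgroup K = Cfsg.pCore p K := by
    rw [Cfsg.generalizedFittingSubgroup, hE, bot_sup_eq,
      CfsgLib.Comp.fittingSubgroup_eq_pCore_of_core hO]
  have hCle : centralizer (Cfsg.pCore p K : Set K) ≤ Cfsg.pCore p K := by
    have := CfsgLib.Comp.centralizer_generalizedFitting_le K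
    rwa [hF] at this
  have hOc : IsCyclic (Cfsg.pCore p K) := isCyclic_of_le hP hOP
  have hPn : (P : Subgroup K).Normal := by
    constructor
    intro w hw g
    have hc : g * w * g⁻¹ * w⁻¹ ∈ Cfsg.pCore p K := by
      apply hCle
      rw [mem_centralizer_iff]
      intro v hv
      obtain ⟨k, hk⟩ := conj_eq_zpow_of_cyclic hOc g
      obtain ⟨l, hl⟩ := conj_eq_zpow_of_cyclic hOc w
      let f : (x : K) → (Cfsg.pCore p K → Cfsg.pCore p K) := fun x v =>
        ⟨x * v * x⁻¹, (inferInstance : (Cfsg.pCore p K).Normal).conj_mem _ v.2 x⟩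
      have e : g * w * v * (g * w)⁻¹ = w * g * v * (w * g)⁻¹ := by
        rw [show g * w * v * (g * w)⁻¹ = g * (w * v * w⁻¹) * g⁻¹ by group,
          show w * g * v * (w * g)⁻¹ = w * (g * v * g⁻¹) * w⁻¹ by group,
          hl v hv, hk _ (zpow_mem hv l), hk v hv, hl _ (zpow_mem hv k), ← zpow_mul, ← zpow_mul,
          mul_comm]
      calc v * (g * w * g⁻¹ * w⁻¹)
          = (g * w * g⁻¹ * w⁻¹) * ((w * g) * ((g * w)⁻¹ * v * (g * w)) * (w * g)⁻¹) := by group
        _ = (g * w * g⁻¹ * w⁻¹) * v := by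
          congr 1
          have hv' : (g * w)⁻¹ * v * (g * w) ∈ Cfsg.pCore p K := by
            simpa using (inferInstance : (Cfsg.pCore p K).Normal).conj_mem v hv (g * w)⁻¹
          set u := (g * w)⁻¹ * v * (g * w)
          have e' : g * w * u * (g * w)⁻¹ = w * g * u * (w * g)⁻¹ := by
            rw [show g * w * u * (g * w)⁻¹ = g * (w * u * w⁻¹) * g⁻¹ by group,
              show w * g * u * (w * g)⁻¹ = w * (g * u * g⁻¹) * w⁻¹ by group,
              hl u hv', hk _ (zpow_mem hv' l), hk u hv', hl _ (zpow_mem hv' k), ← zpow_mul,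
              ← zpow_mul, mul_comm]
          rw [← e']
          simp only [u]
          group
    have := mul_mem (hOP hc) hw
    simpa using this
  have hPc : ∀ a ∈ (P : Subgroup K), ∀ b ∈ (P : Subgroup K), a * b = b * a := fun a ha b hb =>
    congrArg Subtype.val ((IsCyclic.commGroup (α := (P : Subgroup K))).mul_comm ⟨a, ha⟩ ⟨b, hb⟩)
  have hC : centralizer ((P : Subgroup K) : Set K) = (P : Subgroup K) := by
    refine le_antisymm ((centralizer_le hOP).trans (hCle.trans hOP)) fun a ha => ?_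
    rw [mem_centralizer_iff]
    exact fun b hb => hPc b hb a ha
  -- the action on the subgroup of order `p`
  obtain ⟨z, hz⟩ := exists_prime_orderOf_dvd_card' (G := (P : Subgroup K)) p (by
    rw [P.card_eq_multiplicity]
    exact dvd_pow_self p ((Fact.out : p.Prime).factorization_pos_of_dvd Nat.card_pos.ne' hp).ne')
  set Z : Subgroup K := zpowers (z : K) with hZ
  haveI hZn : Z.Normal := ⟨fun y hy a => by
    obtain ⟨k, hk⟩ := conj_eq_zpow_of_cyclic (P := (P : Subgroup K)) hP a
    rw [hk y (zpowers_le.2 z.2 hy)]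
    exact zpow_mem hy k⟩
  have hzp : orderOf (z : K) = p := by rw [Subgroup.orderOf_coe]; exact hz
  let f : K →* MulAut Z := MulAut.conjNormal
  have hker : f.ker = (P : Subgroup K) := by
    refine le_antisymm (fun g hg => ?_) (fun g hg => ?_)
    · have hfix : g * z = z * g := by
        have h1 : ((f g) ⟨z, mem_zpowers _⟩ : K) = z := by
          rw [MonoidHom.mem_ker.1 hg]; rfl
        rw [MulAut.conjNormal_apply] at h1
        exact mul_inv_eq_iff_eq_mul.1 h1
      -- the `p'`-part of `g` centralises `P`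
      obtain ⟨n, hn⟩ := P.2.exists_card_eq
      have hidx := P.not_dvd_index
      set h := g ^ p ^ n with hh
      have hh1 : h ^ (P : Subgroup K).index = 1 := by
        rw [hh, ← pow_mul, ← hn, (P : Subgroup K).card_mul_index, pow_card_eq_one']
      have hcop : (orderOf h).Coprime p :=
        (((Fact.out : p.Prime).coprime_iff_not_dvd.2 hidx).symm).coprime_dvd_left
          (orderOf_dvd_of_pow_eq_one hh1)
      have hhz : h * (z : K) = z * h := (Commute.pow_left hfix _)
      have hh2 : h ∈ centralizer ((P : Subgroup K) : Set K) :=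
        mem_centralizer_of_cyclic P.2 hP (by rw [normalizer_eq_top]; trivial) hcop z.2
          (fun e => (Fact.out : p.Prime).ne_one (by rw [← hzp, e, orderOf_one])) hhz
      rw [hC] at hh2
      have hh3 : h = 1 := orderOf_eq_one_iff.1 (Nat.eq_one_of_dvd_coprimes (hcop.pow_right n)
        dvd_rfl (hn ▸ Subgroup.orderOf_dvd_natCard _ hh2))
      have hgp : IsPGroup p (zpowers g) := by
        obtain ⟨j, -, hj⟩ := (Nat.dvd_prime_pow Fact.out).1 (orderOf_dvd_of_pow_eq_one hh3)
        exact IsPGroup.of_card (n := j) (by rw [Nat.card_zpowers, hj])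
      have hle : zpowers g ⊔ (P : Subgroup K) = (P : Subgroup K) :=
        P.3 (hgp.to_sup_of_normal_right P.2) le_sup_right
      exact hle ▸ mem_sup_left (mem_zpowers g)
    · rw [MonoidHom.mem_ker]
      ext y
      rw [MulAut.conjNormal_apply, hPc g hg y (zpowers_le.2 z.2 y.2), mul_inv_cancel_right]
      rfl
  haveI hcycaut : IsCyclic (MulAut Z) := by
    have hZp : Nat.card Z = p := by rw [hZ, Nat.card_zpowers, hzp]
    haveI : IsCyclic Z := isCyclic_of_prime_card hZp
    refine (IsCyclic.mulAutMulEquiv (G := Z)).isCyclic.2 ?_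
    rw [hZp]
    infer_instance
  have hcard : Nat.card (MulAut Z) = p - 1 := by
    have hZp : Nat.card Z = p := by rw [hZ, Nat.card_zpowers, hzp]
    haveI : IsCyclic Z := isCyclic_of_prime_card hZp
    rw [Nat.card_congr (IsCyclic.mulAutMulEquiv (G := Z)).toEquiv, hZp, Nat.card_eq_fintype_card,
      ZMod.card_units_eq_totient, Nat.totient_prime Fact.out]
  refine ⟨hPn, hC, fun _ => ?_, ?_⟩
  · have := (QuotientGroup.quotientKerEquivRange f).isCyclic.2 inferInstance
    exact (QuotientGroup.quotientMulEquivOfEq hker).isCyclic.1 this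
  · rw [← hker, Subgroup.index_ker, ← hcard]
    exact f.range.card_subgroup_dvd_card

/-- A component is simple, is the whole of `F*` and has index prime to `p`. -/
theorem cyclicSylow_of_component {K : Type*} [Group K] [Finite K]
    (hO : Cfsg.pPrimeCore p K = ⊥) (P : Sylow p K) (hP : IsCyclic ↥(P : Subgroup K))
    {L : Subgroup K} (hL : Cfsg.IsComponent L) :
    IsSimpleGroup ↥(Cfsg.generalizedFittingSubgroup K) ∧
      ¬ IsMulCommutative ↥(Cfsg.generalizedFittingSubgroup K) ∧
      ¬ p ∣ (Cfsg.generalizedFittingSubgroup K).index := by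
  classical
  have hpp : p.Prime := Fact.out
  have hdvd : ∀ M : Subgroup K, Cfsg.IsComponent M → p ∣ Nat.card M := by
    intro M hM
    by_contra hd
    exact CfsgLib.Comp.ne_bot_of_isComponent hM (le_bot_iff.1 (hO ▸
      CfsgLib.Comp.le_pPrimeCore_of_isSubnormal hM.1 ((hpp.coprime_iff_not_dvd.2 hd).symm)))
  -- the centre of a component has no `p`-elements
  have hZp : ∀ M : Subgroup K, Cfsg.IsComponent M → ¬ p ∣ Nat.card (center M) := by
    intro M hM hd
    obtain ⟨x, hx⟩ := exists_prime_orderOf_dvd_card' p hd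
    haveI := hM.2.1
    obtain ⟨Q⟩ := (inferInstance : Nonempty (Sylow p M))
    have hQ : IsCyclic ↥(Q : Subgroup M) := by
      have := isCyclic_pGroup hP (Q.2.map M.subtype)
      exact ((Q : Subgroup M).equivMapOfInjective _ M.subtype_injective).isCyclic.2 this
    refine not_dvd_card_of_perfect_complement (hasNormalPComplement_of_central hQ
      (x := (x : M)) ?_ x.2 ?_) (hdvd M hM)
    · exact IsPGroup.of_card (n := 1) (by rw [Nat.card_zpowers, Subgroup.orderOf_coe, hx, pow_one])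
    · intro e
      exact hpp.ne_one (by rw [← hx, ← Subgroup.orderOf_coe, e, orderOf_one])
  have hsylow : ∀ M : Subgroup K, Cfsg.IsComponent M → ∃ a ∈ M, orderOf a = p := by
    intro M hM
    obtain ⟨x, hx⟩ := exists_prime_orderOf_dvd_card' p (hdvd M hM)
    exact ⟨x, x.2, by rw [Subgroup.orderOf_coe]; exact hx⟩
  have huniq : ∀ M : Subgroup K, Cfsg.IsComponent M → M = L := by
    intro M hM
    by_contra hne
    rcases CfsgLib.Comp.component_eq_or_le_centralizer hM hL with h | h
    · exact hne h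
    obtain ⟨a, ha, hao⟩ := hsylow M hM
    obtain ⟨b, hb, hbo⟩ := hsylow L hL
    have hab : a * b = b * a := (mem_centralizer_iff.1 (h ha) b hb).symm
    have hd : zpowers a ⊓ zpowers b = ⊥ := by
      rw [eq_bot_iff]
      rintro y ⟨hya, hyb⟩
      by_contra hy1
      have hyM : y ∈ M := zpowers_le.2 ha hya
      have hyc : (⟨y, hyM⟩ : M) ∈ center M := mem_center_iff.2 fun m => Subtype.ext
        ((mem_centralizer_iff.1 (h m.2) y (zpowers_le.2 hb hyb)).symm)
      have hoy : orderOf y = p := by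
        rcases hpp.eq_one_or_self_of_dvd _ (hao ▸ (Nat.card_zpowers a ▸
          Subgroup.orderOf_dvd_natCard _ hya)) with h1 | h1
        · exact absurd (orderOf_eq_one_iff.1 h1) (by simpa using hy1)
        · exact h1
      refine hZp M hM (hoy ▸ ?_)
      have := Subgroup.orderOf_dvd_natCard _ hyc
      rwa [← Subgroup.orderOf_coe] at this
    have hpa : IsPGroup p (zpowers a) := IsPGroup.of_card (n := 1) (by rw [Nat.card_zpowers, hao, pow_one])
    have hpb : IsPGroup p (zpowers b) := IsPGroup.of_card (n := 1) (by rw [Nat.card_zpowers, hbo, pow_one])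
    have hnorm : zpowers b ≤ normalizer ((zpowers a : Subgroup K) : Set K) := by
      refine le_trans ?_ (centralizer_le_normalizer _)
      rw [zpowers_le, mem_centralizer_iff]
      rintro _ ⟨j, rfl⟩
      exact (Commute.zpow_left hab j)
    have hsup : IsPGroup p (zpowers a ⊔ zpowers b : Subgroup K) :=
      hpa.to_sup_of_normal_left' hpb hnorm
    rcases eq_bot_or_eq_bot_of_disjoint hsup (isCyclic_pGroup hP hsup) le_sup_left le_sup_right hd with h1 | h1
    · rw [zpowers_eq_bot] at h1; rw [h1, orderOf_one] at hao; exact hpp.ne_one hao.symm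
    · rw [zpowers_eq_bot] at h1; rw [h1, orderOf_one] at hbo; exact hpp.ne_one hbo.symm
  have hlayer : Cfsg.layer K = L :=
    le_antisymm (sSup_le fun M hM => (huniq M hM).le) (CfsgLib.Comp.le_layer hL)
  haveI hLn : L.Normal := hlayer ▸ CfsgLib.Comp.layer_normal K
  -- the centre is trivial
  have hZ : center L = ⊥ := by
    have h1 : (center L).map L.subtype = ⊥ := le_bot_iff.1 (hO ▸
      CfsgLib.ClassK.le_pPrimeCore inferInstance (by
        rw [Subgroup.card_map_of_injective L.subtype_injective]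
        exact (hpp.coprime_iff_not_dvd.2 (hZp L hL)).symm))
    exact (Subgroup.map_eq_bot_iff_of_injective _ L.subtype_injective).1 h1
  haveI := hL.2.1
  haveI hsimple : IsSimpleGroup L := by
    haveI := hL.2.2
    let e : L ⧸ center L ≃* L := (QuotientGroup.quotientMulEquivOfEq hZ).trans QuotientGroup.quotientBot
    exact e.symm.isSimpleGroup
  have hncomm : ¬ IsMulCommutative L := by
    intro h
    apply CfsgLib.Comp.not_le_center_of_isQuasisimple hL.2
    intro a ha
    rw [mem_centralizer_iff]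
    intro b hb
    exact congrArg Subtype.val (h.is_comm.comm (⟨b, hb⟩ : L) ⟨a, ha⟩)
  -- the Fitting subgroup is trivial
  have hOp : Cfsg.pCore p K = ⊥ := by
    haveI := Cfsg.pCore_normal p K
    have hd : L ⊓ Cfsg.pCore p K = ⊥ := by
      have hn : ((Cfsg.pCore p K).subgroupOf L).Normal := inferInstance
      rcases hn.eq_bot_or_eq_top with h | h
      · rw [eq_bot_iff]
        rintro x ⟨hxL, hx⟩
        have : (⟨x, hxL⟩ : L) ∈ (Cfsg.pCore p K).subgroupOf L := hx
        rw [h, mem_bot] at this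
        exact congrArg Subtype.val this
      · exfalso
        have hLp : IsPGroup p L :=
          (CfsgLib.Comp.isPGroup_pCore p K).to_le (subgroupOf_eq_top.1 h)
        haveI := hLp.isNilpotent
        exact Group.IsPerfect.not_isSolvable L inferInstance
    obtain ⟨b, hb, hbo⟩ := hsylow L hL
    have hsup : IsPGroup p (zpowers b ⊔ Cfsg.pCore p K : Subgroup K) :=
      (IsPGroup.of_card (n := 1) (by rw [Nat.card_zpowers, hbo, pow_one])).to_sup_of_normal_right
        (CfsgLib.Comp.isPGroup_pCore p K)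
    rcases eq_bot_or_eq_bot_of_disjoint hsup (isCyclic_pGroup hP hsup) le_sup_left le_sup_right
      (le_bot_iff.1 (hd ▸ inf_le_inf_right _ (zpowers_le.2 hb))) with h1 | h1
    · rw [zpowers_eq_bot] at h1; rw [h1, orderOf_one] at hbo; exact absurd hbo.symm hpp.ne_one
    · exact h1
  have hF : Cfsg.generalizedFittingSubgroup K = L := by
    rw [Cfsg.generalizedFittingSubgroup, hlayer, CfsgLib.Comp.fittingSubgroup_eq_pCore_of_core hO,
      hOp, sup_bot_eq]
  rw [hF]
  refine ⟨hsimple, hncomm, ?_⟩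
  -- `P ≤ L`
  haveI hLfin : Finite (Sylow p L) := inferInstance
  set P0 : Subgroup K := (P : Subgroup K) ⊓ L with hP0
  obtain ⟨Q, hQ⟩ := CfsgLib.Transfer.exists_sylow_eq_subgroupOf P L
  have hQ0 : (Q : Subgroup L).map L.subtype = P0 := by
    rw [hQ, subgroupOf_map_subtype]
  have hne : P0 ≠ ⊥ := by
    intro h
    rw [← hQ0, Subgroup.map_eq_bot_iff_of_injective _ L.subtype_injective] at h
    have h1 := Q.card_eq_multiplicity
    rw [h, Subgroup.card_bot] at h1
    have h2 := hpp.factorization_pos_of_dvd Nat.card_pos.ne' (hdvd L hL)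
    exact absurd h1 (Nat.one_lt_pow h2.ne' hpp.one_lt).ne
  set C : Subgroup K := centralizer (P0 : Set K) with hC
  have hPc : ∀ a ∈ (P : Subgroup K), ∀ b ∈ (P : Subgroup K), a * b = b * a := fun a ha b hb => by
    haveI := hP
    exact congrArg Subtype.val
      ((IsCyclic.commGroup (α := (P : Subgroup K))).mul_comm ⟨a, ha⟩ ⟨b, hb⟩)
  have hPC : (P : Subgroup K) ≤ C := fun a ha =>
    mem_centralizer_iff.2 fun b hb => hPc b hb.1 a ha
  obtain ⟨M, hMn, hMc, hMq⟩ : ∃ M : Subgroup C, ∃ _ : M.Normal, (Nat.card M).Coprime p ∧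
      IsPGroup p (C ⧸ M) := by
    rw [← CfsgLib.Transfer.hasNormalPComplement_iff_exists]
    obtain ⟨x, hxP, hx1⟩ := (Subgroup.bot_or_exists_ne_one P0).resolve_left hne
    have hQc : IsCyclic ↥((P.subtype hPC : Sylow p C) : Subgroup C) :=
      (Subgroup.subgroupOfEquivOfLe hPC).isCyclic.2 hP
    refine hasNormalPComplement_of_central hQc (x := ⟨x, hPC hxP.1⟩) ?_ ?_
      (fun e => hx1 (congrArg Subtype.val e))
    · obtain ⟨j, hj⟩ := (IsPGroup.iff_orderOf.1 P.2) ⟨x, hxP.1⟩
      rw [Subgroup.orderOf_mk] at hj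
      exact IsPGroup.of_card (n := j) (by rw [Nat.card_zpowers, Subgroup.orderOf_mk, hj])
    · exact mem_center_iff.2 fun c => Subtype.ext ((mem_centralizer_iff.1 c.2 x hxP).symm)
  -- an element of `N_L(P0)` outside `C`
  obtain ⟨y, hyL, hyN, hyC⟩ : ∃ y ∈ L, y ∈ normalizer (P0 : Set K) ∧ y ∉ C := by
    by_contra hno
    push Not at hno
    refine not_dvd_card_of_perfect_complement
      (CfsgLib.Transfer.hasNormalPComplement_of_normalizer_le_centralizer Q fun y hy => ?_)
      (hdvd L hL)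
    have hyN : (y : K) ∈ normalizer (P0 : Set K) := by
      rw [← hQ0]
      exact le_normalizer_map L.subtype ⟨y, hy, rfl⟩
    have := hno y y.2 hyN
    rw [mem_centralizer_iff]
    intro d hd
    exact Subtype.ext (mem_centralizer_iff.1 this d (hQ0 ▸ ⟨d, hd, rfl⟩))
  have hyCn : ∀ c ∈ C, y * c * y⁻¹ ∈ C := by
    intro c hc
    rw [mem_centralizer_iff] at hc ⊢
    intro d hd
    have hd' : y⁻¹ * d * y ∈ P0 := by
      have := (mem_normalizer_iff.1 (inv_mem hyN) d).1 hd
      simpa using this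
    calc d * (y * c * y⁻¹) = y * (y⁻¹ * d * y * c) * y⁻¹ := by group
      _ = y * (c * (y⁻¹ * d * y)) * y⁻¹ := by rw [hc _ hd']
      _ = y * c * y⁻¹ * d := by group
  -- correct `y` by an element of `M` to normalise `P`
  let Py : Sylow p K := MulAut.conj y • P
  have hPy : (Py : Subgroup K) ≤ C := by
    intro w hw
    have hw' : w ∈ MulAut.conj y • (P : Subgroup K) := hw
    obtain ⟨v, hv, rfl⟩ := Subgroup.mem_smul_pointwise_iff_exists _ _ _ |>.1 hw'
    exact hyCn v (hPC hv)
  obtain ⟨c, hc⟩ := MulAction.exists_smul_eq C (Py.subtype hPy) (P.subtype hPC)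
  obtain ⟨m, hmM, x, hxP, hmx⟩ : ∃ m ∈ M, ∃ x : C, (x : K) ∈ (P : Subgroup K) ∧ c = x * m := by
    have htop : ((P.subtype hPC : Sylow p C) : Subgroup C) ⊔ M = ⊤ := by
      obtain ⟨n, hn⟩ := IsPGroup.iff_card.1 hMq
      rw [← Subgroup.index_eq_card] at hn
      rw [sup_comm]
      exact CfsgLib.Transfer.sup_sylow_eq_top _ hn
    obtain ⟨x, hx, m, hm, e⟩ := Subgroup.mem_sup_of_normal_right.1 (htop ▸ mem_top c)
    exact ⟨m, hm, x, hx, e.symm⟩
  set n : K := (m : K) * y with hn
  have hnN : ∀ w ∈ (P : Subgroup K), n * w * n⁻¹ ∈ (P : Subgroup K) := by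
    intro w hw
    have h1 : (⟨y * w * y⁻¹, hyCn w (hPC hw)⟩ : C) ∈ ((Py.subtype hPy : Sylow p C) : Subgroup C) :=
      Subgroup.mem_smul_pointwise_iff_exists _ _ _ |>.2 ⟨w, hw, rfl⟩
    have h2 : c * ⟨y * w * y⁻¹, hyCn w (hPC hw)⟩ * c⁻¹ ∈ ((P.subtype hPC : Sylow p C) : Subgroup C) := by
      rw [← hc]
      exact Subgroup.mem_smul_pointwise_iff_exists _ _ _ |>.2 ⟨_, h1, rfl⟩
    have h3 : (c : K) * (y * w * y⁻¹) * (c : K)⁻¹ ∈ (P : Subgroup K) := h2
    have h4 := mul_mem (mul_mem (inv_mem hxP) h3) hxP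
    convert h4 using 1
    rw [hmx, hn]
    push_cast
    group
  have hnN' : n ∈ normalizer ((P : Subgroup K) : Set K) := mem_normalizer_fintype hnN
  have hnC : n ∉ C := fun h => hyC (by
    have := mul_mem (inv_mem m.2) h
    rwa [hn, inv_mul_cancel_left] at this)
  -- the automorphism induced by `n` has order prime to `p`
  let φ := (P : Subgroup K).normalizerMonoidHom
  have hφc : (orderOf (φ ⟨n, hnN'⟩)).Coprime p := by
    have h1 : orderOf (φ ⟨n, hnN'⟩) ∣ Nat.card φ.range :=
      Subgroup.orderOf_dvd_natCard _ ⟨_, rfl⟩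
    rw [← Subgroup.index_ker] at h1
    have h2 : (P : Subgroup K).subgroupOf (normalizer ((P : Subgroup K) : Set K)) ≤ φ.ker := by
      intro g hg
      rw [MonoidHom.mem_ker]
      ext w
      show (g : K) * w * (g : K)⁻¹ = w
      rw [hPc g hg w w.2, mul_inv_cancel_right]
    have h3 := (h1.trans (Subgroup.index_dvd_of_le h2))
    exact ((hpp.coprime_iff_not_dvd.2 (P.subtype Subgroup.le_normalizer).not_dvd_index).symm).coprime_dvd_left h3
  have hcomm : ∀ w ∈ (P : Subgroup K), n * w * n⁻¹ * w⁻¹ ∈ L := by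
    intro w hw
    set e := n * w * n⁻¹ * w⁻¹ with he
    have heP : e ∈ (P : Subgroup K) := mul_mem (hnN w hw) (inv_mem hw)
    let wc : C := ⟨w, hPC hw⟩
    have h1 : m * wc * m⁻¹ * wc⁻¹ ∈ M := by
      have := mul_mem hmM (hMn.conj_mem _ (inv_mem hmM) wc)
      rw [show m * wc * m⁻¹ * wc⁻¹ = m * (wc * m⁻¹ * wc⁻¹) by group]
      exact this
    have hmod : (QuotientGroup.mk e : K ⧸ L) =
        QuotientGroup.mk ((m * wc * m⁻¹ * wc⁻¹ : C) : K) := by
      have hy1 : (QuotientGroup.mk y : K ⧸ L) = 1 := (QuotientGroup.eq_one_iff y).2 hyL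
      simp only [he, hn, Subgroup.coe_mul, Subgroup.coe_inv, QuotientGroup.mk_mul,
        QuotientGroup.mk_inv, hy1, mul_one]
      rfl
    obtain ⟨j, hj⟩ := (IsPGroup.iff_orderOf.1 P.2) ⟨e, heP⟩
    rw [Subgroup.orderOf_mk] at hj
    have ho1 : orderOf (QuotientGroup.mk e : K ⧸ L) ∣ p ^ j :=
      hj ▸ orderOf_map_dvd (QuotientGroup.mk' L) e
    have ho2 : orderOf (QuotientGroup.mk e : K ⧸ L) ∣ Nat.card M := by
      rw [hmod]
      refine (orderOf_map_dvd ((QuotientGroup.mk' L).comp C.subtype) (m * wc * m⁻¹ * wc⁻¹)).trans ?_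
      exact Subgroup.orderOf_dvd_natCard _ h1
    exact (QuotientGroup.eq_one_iff e).1
      (orderOf_eq_one_iff.1 (Nat.eq_one_of_dvd_coprimes (hMc.pow_right j) ho2 ho1))
  have hPL : (P : Subgroup K) ≤ L := by
    obtain ⟨a, ha⟩ := hP.exists_generator
    obtain ⟨k, hk⟩ := Subgroup.mem_zpowers_iff.1 (ha ⟨n * a * n⁻¹, hnN a a.2⟩)
    have hk' : (a : K) ^ k = n * a * n⁻¹ := congrArg Subtype.val hk
    have hconj : ∀ w ∈ (P : Subgroup K), n * w * n⁻¹ = w ^ k := by
      intro w hw
      obtain ⟨j, hj⟩ := Subgroup.mem_zpowers_iff.1 (ha ⟨w, hw⟩)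
      have h1 : (a : K) ^ j = w := congrArg Subtype.val hj
      rw [← h1, ← zpow_mul, mul_comm j, zpow_mul, hk', conj_zpow]
    by_cases hd : (p : ℤ) ∣ k - 1
    · exfalso
      obtain ⟨z, hzP, hz1⟩ := (Subgroup.bot_or_exists_ne_one P0).resolve_left hne
      obtain ⟨j, hj⟩ := (IsPGroup.iff_orderOf.1 P.2) ⟨z, hzP.1⟩
      rw [Subgroup.orderOf_mk] at hj
      have hj0 : j ≠ 0 := by
        rintro rfl
        exact hz1 (orderOf_eq_one_iff.1 (by simpa using hj))
      set w := z ^ p ^ (j - 1) with hw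
      have hwo : orderOf w = p := by
        rw [hw, orderOf_pow_of_dvd (pow_ne_zero _ hpp.ne_zero) (hj ▸ pow_dvd_pow p (Nat.sub_le j 1)),
          hj, Nat.pow_div (Nat.sub_le j 1) hpp.pos]
        rw [show j - (j - 1) = 1 by omega, pow_one]
      have hwP : w ∈ (P : Subgroup K) := pow_mem hzP.1 _
      have hwk : w ^ k = w := by
        have : w ^ (k - 1) = 1 := by
          rw [← orderOf_dvd_iff_zpow_eq_one, hwo]; exact hd
        rwa [zpow_sub, zpow_one, mul_inv_eq_one] at this
      haveI := hP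
      have h1 := aut_eq_one_of_cyclic P.2 (φ ⟨n, hnN'⟩) hφc (x := ⟨w, hwP⟩)
        (fun e => hpp.ne_one (by
          have : w = 1 := congrArg Subtype.val e
          rw [← hwo, this, orderOf_one]))
        (Subtype.ext (show n * w * n⁻¹ = w by rw [hconj w hwP, hwk]))
      refine hnC (mem_centralizer_iff.2 fun d hd => ?_)
      have hcd : n * d * n⁻¹ = d :=
        congrArg Subtype.val (DFunLike.congr_fun h1 (⟨d, hd.1⟩ : (P : Subgroup K)))
      exact (mul_inv_eq_iff_eq_mul.1 hcd).symm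
    · intro w hw
      obtain ⟨j, hj⟩ := (IsPGroup.iff_orderOf.1 P.2) ⟨w, hw⟩
      rw [Subgroup.orderOf_mk] at hj
      obtain ⟨u, v, huv⟩ :=
        ((Nat.prime_iff_prime_int.1 hpp).coprime_iff_not_dvd.2 hd).pow_left (m := j)
      have h1 : w ^ (k - 1) ∈ L := by
        have := hcomm w hw
        rw [hconj w hw] at this
        rwa [zpow_sub, zpow_one]
      have h2 : w ^ ((p : ℤ) ^ j) = 1 := by
        rw [← orderOf_dvd_iff_zpow_eq_one, hj]; push_cast; exact dvd_rfl
      have h3 : w = (w ^ (k - 1)) ^ v := by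
        calc w = w ^ (u * (p : ℤ) ^ j + v * (k - 1)) := by rw [huv, zpow_one]
          _ = (w ^ (k - 1)) ^ v := by
            rw [zpow_add, mul_comm u, zpow_mul, h2, one_zpow, one_mul, mul_comm v, zpow_mul]
      exact h3 ▸ zpow_mem h1 v
  intro hdi
  exact P.not_dvd_index (hdi.trans (Subgroup.index_dvd_of_le hPL))

end CfsgLib.Invol
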