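import Mathlib.LinearAlgebra.Matrix.SpecialLinearGroup
import Mathlib.GroupTheory.PGroup
import Mathlib.RingTheory.IntegralDomain
import Mathlib.FieldTheory.IsAlgClosed.AlgebraicClosure

/-!
# Odd `p`-subgroups of SL2 in characteristic two are cyclic
-/

set_option autoImplicit false

namespace CfsgLib.Invol

open Matrix

variable {F : Type*} [Field F]

theorem sl_two_eq_one_of_scalar (h2 : (2 : F) = 0) {g : Matrix.SpecialLinearGroup (Fin 2) F}
    (h : g.1 0 1 = 0 ∧ g.1 1 0 = 0 ∧ g.1 0 0 = g.1 1 1) : g = 1 := by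
  obtain ⟨h01, h10, h00⟩ := h
  have hdet := g.2
  rw [Matrix.det_fin_two, h01, h10, ← h00] at hdet
  have h1 : g.1 0 0 = 1 := by
    have : (g.1 0 0 - 1) * (g.1 0 0 - 1) = 0 := by
      linear_combination hdet + (1 - g.1 0 0) * h2
    exact sub_eq_zero.1 (mul_self_eq_zero.1 this)
  ext i j
  fin_cases i <;> fin_cases j
  · simpa using h1
  · simpa using h01
  · simpa using h10
  · simpa [← h00] using h1

theorem isCyclic_pGroup_sl_two [Finite F] (h2 : (2 : F) = 0) {p : ℕ} [hp : Fact p.Prime] (hp2 : p ≠ 2)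
    (P : Subgroup (Matrix.SpecialLinearGroup (Fin 2) F)) (hP : IsPGroup p P) : IsCyclic P := by
  classical
  rcases subsingleton_or_nontrivial P with hsub | hnt
  · infer_instance
  have := IsPGroup.center_nontrivial hP
  obtain ⟨x, hx, hx1⟩ : ∃ x ∈ Subgroup.center P, x ≠ 1 := by
    obtain ⟨⟨x, hx⟩, hne⟩ := exists_ne (1 : Subgroup.center P)
    exact ⟨x, hx, fun e => hne (Subtype.ext e)⟩
  set X : Matrix (Fin 2) (Fin 2) F := (x : Matrix.SpecialLinearGroup (Fin 2) F).1 with hXdef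
  have hX : ¬ (X 0 1 = 0 ∧ X 1 0 = 0 ∧ X 0 0 = X 1 1) := fun e =>
    hx1 (Subtype.ext (sl_two_eq_one_of_scalar h2 e))
  let ι : F →+* AlgebraicClosure F := algebraMap F (AlgebraicClosure F)
  obtain ⟨κ, hκ0, hκ⟩ : ∃ κ : AlgebraicClosure F, (X 0 1 = 0 → κ = 0) ∧
      (X 0 1 = 0 ∨ ι (X 0 1) * κ ^ 2 + ι (X 0 0 - X 1 1) * κ - ι (X 1 0) = 0) := by
    by_cases h : X 0 1 = 0
    · exact ⟨0, fun _ => rfl, Or.inl h⟩
    · have hι : ι (X 0 1) ≠ 0 := by simpa using h
      obtain ⟨κ, hκ⟩ := IsAlgClosed.exists_root (k := AlgebraicClosure F)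
        (Polynomial.C (ι (X 0 1)) * Polynomial.X ^ 2 +
          Polynomial.C (ι (X 0 0 - X 1 1)) * Polynomial.X + Polynomial.C (-ι (X 1 0)))
        (by rw [Polynomial.degree_quadratic hι]; decide)
      refine ⟨κ, fun e => absurd e h, Or.inr ?_⟩
      simp only [Polynomial.IsRoot, Polynomial.eval_add, Polynomial.eval_mul, Polynomial.eval_C,
        Polynomial.eval_pow, Polynomial.eval_X] at hκ
      linear_combination hκ
  have hcomm : ∀ c : P, c.1.1 0 1 * X 1 0 = X 0 1 * c.1.1 1 0 ∧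
      X 0 1 * (c.1.1 0 0 - c.1.1 1 1) = (X 0 0 - X 1 1) * c.1.1 0 1 ∧
      (X 0 1 = 0 → c.1.1 0 1 = 0) := by
    intro c
    have e : c.1.1 * X = X * c.1.1 := congrArg
      (fun g : P => (g : Matrix.SpecialLinearGroup (Fin 2) F).1) (Subgroup.mem_center_iff.1 hx c)
    have e1 := congrFun (congrFun e 0) 0
    have e2 := congrFun (congrFun e 0) 1
    have e3 := congrFun (congrFun e 1) 0
    simp only [Matrix.mul_apply, Fin.sum_univ_two] at e1 e2 e3
    refine ⟨by linear_combination e1, by linear_combination e2, fun h0 => ?_⟩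
    have h3 : c.1.1 0 1 * (X 1 1 - X 0 0) = 0 := by linear_combination e2 - (c.1.1 0 0 - c.1.1 1 1) * h0
    have h4 : c.1.1 0 1 * X 1 0 = 0 := by linear_combination e1 + c.1.1 1 0 * h0
    by_contra hne
    exact hX ⟨h0, (mul_eq_zero.1 h4).resolve_left hne,
      (sub_eq_zero.1 ((mul_eq_zero.1 h3).resolve_left hne)).symm⟩
  -- the eigenvalue on a common eigenvector
  have hkey : ∀ c : P, ι (c.1.1 0 1) * κ ^ 2 + ι (c.1.1 0 0 - c.1.1 1 1) * κ - ι (c.1.1 1 0) = 0 ∨
      X 0 1 = 0 := by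
    intro c
    by_cases h : X 0 1 = 0
    · exact Or.inr h
    left
    obtain ⟨h1, h2', -⟩ := hcomm c
    refine (mul_eq_zero.1 ?_).resolve_left (show ι (X 0 1) ≠ 0 by simpa using h)
    have h1' := congrArg ι h1
    have h2'' := congrArg ι h2'
    simp only [map_mul, map_sub] at h1' h2'' ⊢
    have hk := hκ.resolve_left h
    simp only [map_sub] at hk
    linear_combination ι (c.1.1 0 1) * hk + κ * h2'' + h1'
  let ψ : P →* AlgebraicClosure F :=
    { toFun := fun c => ι (c.1.1 0 0) + ι (c.1.1 0 1) * κ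
      map_one' := by simp
      map_mul' := fun c d => by
        simp only [Subgroup.coe_mul, Matrix.SpecialLinearGroup.coe_mul, Matrix.mul_apply,
          Fin.sum_univ_two, map_add, map_mul]
        rcases hkey d with hd | h0
        · simp only [map_sub] at hd
          linear_combination (-(ι (c.1.1 0 1))) * hd
        · rw [(hcomm c).2.2 h0, (hcomm d).2.2 h0]
          simp }
  refine isCyclic_of_injective_ringHom ψ ((injective_iff_map_eq_one ψ).2 fun c hc => ?_)
  have hc' : ι (c.1.1 0 0) + ι (c.1.1 0 1) * κ = 1 := hc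
  have hdet : c.1.1 0 0 * c.1.1 1 1 - c.1.1 0 1 * c.1.1 1 0 = 1 := by
    rw [← Matrix.det_fin_two]; exact c.1.2
  have htr : c.1.1 0 0 + c.1.1 1 1 = 0 := by
    refine ι.injective ?_
    rw [map_add, map_zero]
    have hdet' := congrArg ι hdet
    have h2' : (2 : AlgebraicClosure F) = 0 := by
      rw [← map_ofNat ι 2, h2, map_zero]
    simp only [map_sub, map_mul, map_one] at hdet'
    rcases hkey c with hk | h0
    · simp only [map_sub] at hk
      linear_combination (ι (c.1.1 1 1) - ι (c.1.1 0 1) * κ - 1) * hc' + ι (c.1.1 0 1) * hk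
        - hdet' + (ι (c.1.1 0 0) + ι (c.1.1 1 1) - 1) * h2'
    · rw [(hcomm c).2.2 h0, map_zero] at hc' hdet'
      linear_combination (1 - ι (c.1.1 1 1)) * hc' + hdet' + h2' * 1
  have hsq : c * c = 1 := by
    refine Subtype.ext (Matrix.SpecialLinearGroup.ext _ _ fun i j => ?_)
    simp only [Subgroup.coe_mul, Matrix.SpecialLinearGroup.coe_mul, Matrix.mul_apply,
      Fin.sum_univ_two, OneMemClass.coe_one, Matrix.SpecialLinearGroup.coe_one]
    fin_cases i <;> fin_cases j <;> simp <;> grind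
  obtain ⟨k, hk⟩ := hP c
  have hodd : Odd (orderOf c) :=
    Odd.of_dvd_nat ((hp.out.odd_of_ne_two hp2).pow) (orderOf_dvd_of_pow_eq_one hk)
  obtain ⟨r, hr⟩ := hodd
  calc c = (c * c) ^ (r + 1) := by
        rw [← pow_two, ← pow_mul, show 2 * (r + 1) = orderOf c + 1 by omega, pow_succ,
          pow_orderOf_eq_one, one_mul]
    _ = 1 := by rw [hsq, one_pow]

end CfsgLib.Invol
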