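import Cfsg.Agent.Lib.Invol.AIMain
import Cfsg.Agent.Lib.Invol.SLTwoOddCyclic
import Cfsg.Agent.Lib.Transfer.AbelianSylow

/-!
# Groups with abelian involution centralisers: the splitting

The central extension of SL2 in characteristic two by an odd abelian group splits.
-/

set_option autoImplicit false
set_option linter.unusedSectionVars false
set_option linter.style.haveILetI false
set_option linter.deprecated false

namespace CfsgLib.Invol

universe u

theorem AIHyp.exists_prod {G : Type u} [Group G] [Finite G] {T : Sylow 2 G} {A : Subgroup G}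
    (h : AIHyp T A) :
    ∃ (F : Type) (_ : Field F) (_ : Fintype F) (B : Type) (_ : CommGroup B) (_ : Finite B),
      CharP F 2 ∧ Odd (Nat.card B) ∧ Nonempty (G ≃* Matrix.SpecialLinearGroup (Fin 2) F × B) := by
  classical
  obtain ⟨F, hF, hFF, h4, h2, π, hπ, hker, hcen⟩ := h.exists_psl
  have hch : CharP F 2 := by rw [← h2]; exact ringChar.charP F
  have h20 : (2 : F) = 0 := by exact_mod_cast CharP.cast_eq_zero F 2
  have hsimple := CfsgLib.ClassK.isSimpleGroup_psl_two (F := F) h4
  have hcenSL : Subgroup.center (Matrix.SpecialLinearGroup (Fin 2) F) = ⊥ := by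
    rw [Subgroup.eq_bot_iff_forall]
    intro g hg
    refine sl_two_eq_one_of_scalar h20 ?_
    obtain ⟨r, -, hr⟩ := Matrix.SpecialLinearGroup.mem_center_iff.1 hg
    rw [← hr]
    simp
  let eSL : Matrix.SpecialLinearGroup (Fin 2) F ≃*
      Matrix.ProjectiveSpecialLinearGroup (Fin 2) F :=
    MulEquiv.ofBijective (QuotientGroup.mk' _)
      ⟨by rw [← MonoidHom.ker_eq_bot_iff, QuotientGroup.ker_mk', hcenSL],
        QuotientGroup.mk'_surjective _⟩
  set N := InvC G with hNdef
  have hdis : ∀ z ∈ N, z ∈ commutator G → z = 1 := by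
    by_contra! hne
    obtain ⟨z₀, hz₀, hz₀c, hz₀1⟩ := hne
    obtain ⟨p, hp, hpd⟩ := Nat.exists_prime_and_dvd
      (mt orderOf_eq_one_iff.1 hz₀1 : orderOf z₀ ≠ 1)
    have : Fact p.Prime := ⟨hp⟩
    obtain ⟨z, hz, hzc, hzp⟩ : ∃ z ∈ N, z ∈ commutator G ∧ orderOf z = p :=
      ⟨z₀ ^ (orderOf z₀ / p), pow_mem hz₀ _, pow_mem hz₀c _,
        orderOf_pow_orderOf_div (orderOf_pos z₀).ne' hpd⟩
    have hp2 : p ≠ 2 := fun e => by
      have := h.odd_orderOf_InvC hz
      rw [hzp, e] at this
      exact absurd this (by decide)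
    obtain ⟨P, hP⟩ := (IsPGroup.of_card (n := 1) (by rw [Nat.card_zpowers, hzp, pow_one]) :
      IsPGroup p (Subgroup.zpowers z)).exists_le_sylow
    let f : (P : Subgroup G) →* Matrix.SpecialLinearGroup (Fin 2) F :=
      eSL.symm.toMonoidHom.comp (π.comp (P : Subgroup G).subtype)
    have hcyc : IsCyclic f.range := isCyclic_pGroup_sl_two h20 hp2 f.range (by
      rw [MonoidHom.range_eq_map]
      exact (P.isPGroup'.to_subgroup ⊤).map f)
    have hfker : f.ker ≤ Subgroup.center (P : Subgroup G) := fun x hx => by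
      refine Subgroup.mem_center_iff.2 fun y => Subtype.ext ?_
      have h1 : eSL.symm (π (x : G)) = 1 := hx
      rw [EmbeddingLike.map_eq_one_iff] at h1
      exact Subgroup.mem_center_iff.1 (hcen (hker ▸ MonoidHom.mem_ker.2 h1)) y
    have hab : IsMulCommutative (P : Subgroup G) := by
      have : IsCyclic ((P : Subgroup G) ⧸ f.ker) :=
        isCyclic_of_surjective (QuotientGroup.quotientKerEquivRange f).symm.toMonoidHom
          (QuotientGroup.quotientKerEquivRange f).symm.surjective
      exact ⟨⟨fun a b => commutative_of_cyclic_center_quotient (QuotientGroup.mk' f.ker)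
        (by rw [QuotientGroup.ker_mk']; exact hfker) a b⟩⟩
    have := CfsgLib.Transfer.inf_commutator_inf_center_eq_bot (P : Subgroup G) P.card_coprime_index
    have hz1 : z = 1 := Subgroup.mem_bot.1 (this ▸ ⟨⟨hP (Subgroup.mem_zpowers z), hzc⟩, hcen hz⟩)
    rw [hz1, orderOf_one] at hzp
    exact hp.ne_one hzp.symm
  have hcomm : (commutator G).map π = ⊤ := by
    rw [commutator_def, Subgroup.map_commutator, Subgroup.map_top_of_surjective π hπ]
    refine ((Subgroup.commutator_normal ⊤ ⊤).eq_bot_or_eq_top).resolve_left fun hb => ?_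
    rw [Subgroup.commutator_eq_bot_iff_le_centralizer, Subgroup.coe_top,
      Subgroup.centralizer_univ] at hb
    obtain ⟨t, ht, ht2⟩ := h.exists_invol
    obtain ⟨g, -, hg⟩ := SetLike.exists_of_lt h.stronglyEmbedded.1.lt_top
    -- an abelian image would make `N(T)` everything
    refine hg (Subgroup.mem_normalizer_fintype fun s hs => ?_)
    have he : π (g * s * g⁻¹) = π s := by
      rw [map_mul, map_mul, map_inv, Subgroup.mem_center_iff.1 (hb (Subgroup.mem_top (π s))) (π g),
        mul_inv_cancel_right]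
    obtain ⟨n, hn⟩ := T.isPGroup' ⟨s, hs⟩
    rw [h.mem_T_of_congr hs (a := g * s * g⁻¹) (n := n) (by
      rw [conj_pow, show s ^ 2 ^ n = 1 from congrArg Subtype.val hn, mul_one, mul_inv_cancel]) (by
      rw [← hNdef, ← hker, MonoidHom.mem_ker, map_mul, map_inv, he, inv_mul_cancel])]
    exact hs
  let ρ : commutator G →* Matrix.ProjectiveSpecialLinearGroup (Fin 2) F :=
    π.comp (commutator G).subtype
  have hρ : Function.Bijective ρ := by
    refine ⟨(injective_iff_map_eq_one ρ).2 fun c hc => Subtype.ext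
      (hdis c (hker ▸ MonoidHom.mem_ker.2 hc) c.2), fun y => ?_⟩
    obtain ⟨g, hg, e⟩ := Subgroup.mem_map.1 (hcomm ▸ Subgroup.mem_top y : y ∈ (commutator G).map π)
    exact ⟨⟨g, hg⟩, e⟩
  let eC : Matrix.SpecialLinearGroup (Fin 2) F ≃* commutator G :=
    eSL.trans (MulEquiv.ofBijective ρ hρ).symm
  have hNc : ∀ a ∈ N, ∀ b ∈ N, Commute a b := fun a ha b _ =>
    (Subgroup.mem_center_iff.1 (hcen ha) b).symm
  letI : CommGroup N :=
    { (inferInstance : Group N) with mul_comm := fun a b => Subtype.ext (hNc a a.2 b b.2).eq }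
  let B := Shrink.{0} N
  let eB : B ≃* N := Shrink.mulEquiv
  have hoddN : Odd (Nat.card N) := by
    by_contra hev
    rw [Nat.not_odd_iff_even] at hev
    obtain ⟨i, hi, hi2⟩ := exists_invol_mem hev
    have := h.odd_orderOf_InvC hi
    rw [hi2] at this
    exact absurd this (by decide)
  let m : Matrix.SpecialLinearGroup (Fin 2) F × B →* G :=
    MonoidHom.mk' (fun x => ((eC x.1 : commutator G) : G) * ((eB x.2 : N) : G)) fun x y => by
      simp only [Prod.fst_mul, Prod.snd_mul, map_mul, Subgroup.coe_mul]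
      have hc := Subgroup.mem_center_iff.1 (hcen (eB x.2).2) ((eC y.1 : commutator G) : G)
      calc ((eC x.1 : commutator G) : G) * (eC y.1 : commutator G) *
            ((eB x.2 : N) * (eB y.2 : N))
          = (eC x.1 : commutator G) * (((eC y.1 : commutator G) : G) * (eB x.2 : N)) *
            (eB y.2 : N) := by group
        _ = _ := by rw [hc]; group
  have hm : Function.Bijective m := by
    refine ⟨(injective_iff_map_eq_one m).2 fun x hx => ?_, fun g => ?_⟩
    · have h1 : ((eB x.2 : N) : G) = 1 := hdis _ (eB x.2).2 (by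
        rw [eq_inv_of_mul_eq_one_right hx]
        exact inv_mem (eC x.1).2)
      have h2' : ((eC x.1 : commutator G) : G) = 1 := by
        have hx' : ((eC x.1 : commutator G) : G) * ((eB x.2 : N) : G) = 1 := hx
        rwa [h1, mul_one] at hx'
      refine Prod.ext ?_ ?_
      · exact eC.injective ((Subtype.ext h2').trans (map_one eC).symm)
      · exact eB.injective ((Subtype.ext h1).trans (map_one eB).symm)
    · obtain ⟨c, hc⟩ := hρ.2 (π g)
      have hmN : (c : G)⁻¹ * g ∈ N := by
        rw [← hker, MonoidHom.mem_ker, map_mul, map_inv]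
        exact inv_mul_eq_one.2 hc
      refine ⟨(eC.symm c, eB.symm ⟨_, hmN⟩), ?_⟩
      show ((eC (eC.symm c) : commutator G) : G) * ((eB (eB.symm ⟨_, hmN⟩) : N) : G) = g
      rw [MulEquiv.apply_symm_apply, MulEquiv.apply_symm_apply, mul_inv_cancel_left]
  exact ⟨F, hF, hFF, B, inferInstance, inferInstance, hch,
    by rw [Nat.card_congr eB.toEquiv]; exact hoddN, ⟨(MulEquiv.ofBijective m hm).symm⟩⟩

end CfsgLib.Invol
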