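import Cfsg.Agent.Lib.Trans3.L34Cover

/-!
The two elementary abelian subgroups of order 16 of the unitriangular subgroup of `PSL₃(4)`: the graph
automorphism exchanging them, their centralizers and normalizers.
-/

set_option autoImplicit false
set_option linter.style.haveILetI false

namespace CfsgLib.Invol.L34Parabolic

open Matrix CfsgLib.Trans3.L34
open scoped MatrixGroups

variable {F : Type*} [Field F]

theorem exists_smul_of_mk_eq {M N : SpecialLinearGroup (Fin 3) F}
    (h : (QuotientGroup.mk M : ProjectiveSpecialLinearGroup (Fin 3) F) = QuotientGroup.mk N) :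
    ∃ r : F, (N : Matrix (Fin 3) (Fin 3) F) = r • (M : Matrix (Fin 3) (Fin 3) F) := by
  obtain ⟨r, -, e⟩ := Matrix.SpecialLinearGroup.mem_center_iff.1 (QuotientGroup.eq.1 h)
  refine ⟨r, ?_⟩
  rw [show (N : Matrix (Fin 3) (Fin 3) F) = (M : Matrix (Fin 3) (Fin 3) F) * Matrix.scalar (Fin 3) r by
    rw [e, ← Matrix.SpecialLinearGroup.coe_mul, mul_inv_cancel_left]]
  ext i j
  simp [Matrix.scalar_apply, mul_comm]

theorem mk_eq_of_smul {M N : SpecialLinearGroup (Fin 3) F} {r : F} (hr : r ^ 3 = 1)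
    (h : (N : Matrix (Fin 3) (Fin 3) F) = r • (M : Matrix (Fin 3) (Fin 3) F)) :
    (QuotientGroup.mk M : ProjectiveSpecialLinearGroup (Fin 3) F) = QuotientGroup.mk N := by
  refine QuotientGroup.eq.2 (Matrix.SpecialLinearGroup.mem_center_iff.2 ⟨r, by simpa using hr, ?_⟩)
  rw [Matrix.SpecialLinearGroup.coe_mul, h, Matrix.mul_smul, ← Matrix.SpecialLinearGroup.coe_mul, inv_mul_cancel,
    Matrix.SpecialLinearGroup.coe_one, Matrix.smul_one_eq_diagonal]
  rfl

/-- The inverse transpose, with rows and columns reversed. -/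
def graphHom : SpecialLinearGroup (Fin 3) F →* SpecialLinearGroup (Fin 3) F where
  toFun M := ⟨((M⁻¹ : SpecialLinearGroup (Fin 3) F) : Matrix (Fin 3) (Fin 3) F)ᵀ.submatrix
      Fin.revPerm Fin.revPerm, by
    rw [det_submatrix_equiv_self, det_transpose, (M⁻¹).2]⟩
  map_one' := Subtype.ext (by
    show (((1 : SpecialLinearGroup (Fin 3) F)⁻¹ : SpecialLinearGroup (Fin 3) F) :
      Matrix (Fin 3) (Fin 3) F)ᵀ.submatrix Fin.revPerm Fin.revPerm = 1
    simp only [inv_one, Matrix.SpecialLinearGroup.coe_one]; erw [transpose_one, submatrix_one_equiv])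
  map_mul' M N := Subtype.ext (by
    show (((M * N)⁻¹ : SpecialLinearGroup (Fin 3) F) :
      Matrix (Fin 3) (Fin 3) F)ᵀ.submatrix Fin.revPerm Fin.revPerm = _ * _
    rw [_root_.mul_inv_rev, Matrix.SpecialLinearGroup.coe_mul, transpose_mul,
      ← submatrix_mul_equiv _ _ _ Fin.revPerm _])

theorem graphHom_graphHom (M : SpecialLinearGroup (Fin 3) F) : graphHom (graphHom M) = M := by
  refine Subtype.ext ?_
  show (((graphHom M)⁻¹ : SpecialLinearGroup (Fin 3) F) :
    Matrix (Fin 3) (Fin 3) F)ᵀ.submatrix Fin.revPerm Fin.revPerm = _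
  rw [← map_inv]
  show (((((M⁻¹)⁻¹ : SpecialLinearGroup (Fin 3) F) :
    Matrix (Fin 3) (Fin 3) F)ᵀ.submatrix Fin.revPerm Fin.revPerm))ᵀ.submatrix
      Fin.revPerm Fin.revPerm = _
  rw [inv_inv, transpose_submatrix, transpose_transpose, submatrix_submatrix]
  ext i j
  simp [Fin.rev_rev]

/-- The graph automorphism of `PSL₃`. -/
def graph : ProjectiveSpecialLinearGroup (Fin 3) F ≃* ProjectiveSpecialLinearGroup (Fin 3) F :=
  let e : SpecialLinearGroup (Fin 3) F ≃* SpecialLinearGroup (Fin 3) F :=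
    { toFun := graphHom
      invFun := graphHom
      left_inv := graphHom_graphHom
      right_inv := graphHom_graphHom
      map_mul' := map_mul graphHom }
  QuotientGroup.congr _ _ e (by
    ext x
    rw [show (e : SpecialLinearGroup (Fin 3) F →* SpecialLinearGroup (Fin 3) F) = e.toMonoidHom from rfl,
      Subgroup.mem_map_equiv, Subgroup.mem_center_iff, Subgroup.mem_center_iff]
    refine ⟨fun h g => ?_, fun h g => e.injective ?_⟩
    · have := congrArg e (h (e.symm g))
      simpa using this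
    · simpa using h (e g))

theorem graph_pu (a b c : F) : graph (pu a b c) = pu (-b) (-a) (a * b - c) := by
  show (QuotientGroup.mk (graphHom (uni F a b c)) : ProjectiveSpecialLinearGroup (Fin 3) F) = _
  refine congrArg QuotientGroup.mk (Subtype.ext ?_)
  have h : (uni F a b c)⁻¹ = uni F (-a) (-b) (a * b - c) := by
    refine inv_eq_of_mul_eq_one_right ?_
    rw [uni_mul, ← uni_zero]; congr 1 <;> ring
  show (((uni F a b c)⁻¹ : SpecialLinearGroup (Fin 3) F) :
    Matrix (Fin 3) (Fin 3) F)ᵀ.submatrix Fin.revPerm Fin.revPerm = _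
  rw [h]
  ext i j
  fin_cases i <;> fin_cases j <;> simp [uni, Fin.revPerm, Fin.rev]

theorem map_graph_rowT : (rowT : Subgroup (ProjectiveSpecialLinearGroup (Fin 3) F)).map
    (graph : _ ≃* ProjectiveSpecialLinearGroup (Fin 3) F).toMonoidHom = colT := by
  ext x
  constructor
  · rintro ⟨_, ⟨a, c, rfl⟩, rfl⟩
    exact ⟨-a, -c, by show graph _ = _; rw [graph_pu]; simp⟩
  · rintro ⟨b, c, rfl⟩
    exact ⟨pu (-b) 0 (-c), ⟨_, _, rfl⟩, by show graph _ = _; rw [graph_pu]; simp⟩

theorem map_graph_colT : (colT : Subgroup (ProjectiveSpecialLinearGroup (Fin 3) F)).map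
    (graph : _ ≃* ProjectiveSpecialLinearGroup (Fin 3) F).toMonoidHom = rowT := by
  ext x
  constructor
  · rintro ⟨_, ⟨b, c, rfl⟩, rfl⟩
    exact ⟨-b, -c, by show graph _ = _; rw [graph_pu]; simp⟩
  · rintro ⟨a, c, rfl⟩
    exact ⟨pu 0 (-a) (-c), ⟨_, _, rfl⟩, by show graph _ = _; rw [graph_pu]; simp⟩

theorem uT_le_normalizer : (uT : Subgroup (ProjectiveSpecialLinearGroup (Fin 3) F)) ≤
    Subgroup.normalizer ((colT : Subgroup (ProjectiveSpecialLinearGroup (Fin 3) F)) : Set _) := by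
  have key : ∀ u ∈ (uT : Subgroup (ProjectiveSpecialLinearGroup (Fin 3) F)),
      ∀ v ∈ (colT : Subgroup (ProjectiveSpecialLinearGroup (Fin 3) F)),
        u * v * u⁻¹ ∈ (colT : Subgroup (ProjectiveSpecialLinearGroup (Fin 3) F)) := by
    rintro _ ⟨a, b, c, rfl⟩ _ ⟨b', c', rfl⟩
    exact ⟨b', c' + a * b', by rw [pu_mul, pu_inv, pu_mul]; congr 1 <;> ring⟩
  intro u hu
  rw [Subgroup.mem_normalizer_iff]
  refine fun v => ⟨key u hu v, fun h => ?_⟩
  have := key u⁻¹ (inv_mem hu) _ h
  simpa [mul_assoc] using this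

/-- The matrix of a Levi element. -/
def leviMat (A : SpecialLinearGroup (Fin 2) F) : SpecialLinearGroup (Fin 3) F :=
  ⟨!![A.1 0 0, A.1 0 1, 0; A.1 1 0, A.1 1 1, 0; 0, 0, 1], by
    have h := A.2
    rw [det_fin_two] at h
    rw [det_fin_three]
    simp
    linear_combination h⟩

theorem coe_leviMat (A : SpecialLinearGroup (Fin 2) F) : (leviMat A : Matrix (Fin 3) (Fin 3) F) =
    !![A.1 0 0, A.1 0 1, 0; A.1 1 0, A.1 1 1, 0; 0, 0, 1] := rfl

/-- The Levi complement. -/
def levi : SpecialLinearGroup (Fin 2) F →* ProjectiveSpecialLinearGroup (Fin 3) F :=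
  (QuotientGroup.mk' _).comp
    { toFun := leviMat
      map_one' := Subtype.ext (by
        rw [coe_leviMat, Matrix.SpecialLinearGroup.coe_one]
        ext i j
        fin_cases i <;> fin_cases j <;> simp)
      map_mul' := fun A B => Subtype.ext (by
        rw [Matrix.SpecialLinearGroup.coe_mul, coe_leviMat, coe_leviMat, coe_leviMat,
          Matrix.SpecialLinearGroup.coe_mul]
        ext i j
        fin_cases i <;> fin_cases j <;>
          simp [Matrix.mul_apply, Fin.sum_univ_two, Fin.sum_univ_three]) }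

theorem levi_apply (A : SpecialLinearGroup (Fin 2) F) :
    levi A = (QuotientGroup.mk (leviMat A) : ProjectiveSpecialLinearGroup (Fin 3) F) := rfl

theorem levi_inf_colT : ∀ A : SpecialLinearGroup (Fin 2) F,
    levi A ∈ (colT : Subgroup (ProjectiveSpecialLinearGroup (Fin 3) F)) → A = 1 := by
  intro A ⟨b, c, h⟩
  obtain ⟨r, e⟩ := exists_smul_of_mk_eq h
  change _ = r • (!![A.1 0 0, A.1 0 1, 0; A.1 1 0, A.1 1 1, 0; 0, 0, 1] : Matrix (Fin 3) (Fin 3) F) at e
  have h22 := congrFun (congrFun e 2) 2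
  have h00 := congrFun (congrFun e 0) 0
  have h01 := congrFun (congrFun e 0) 1
  have h10 := congrFun (congrFun e 1) 0
  have h11 := congrFun (congrFun e 1) 1
  simp [uni] at h22 h00 h01 h10 h11
  refine Subtype.ext ?_
  ext i j
  fin_cases i <;> fin_cases j <;> simp <;> grind

theorem levi_injective : Function.Injective (levi (F := F)) := by
  refine (injective_iff_map_eq_one _).2 fun A h => levi_inf_colT A ?_
  rw [h]
  exact one_mem _

theorem levi_normalizes (A : SpecialLinearGroup (Fin 2) F) :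
    levi A ∈ Subgroup.normalizer ((colT : Subgroup (ProjectiveSpecialLinearGroup (Fin 3) F)) : Set _) := by
  have key : ∀ A : SpecialLinearGroup (Fin 2) F,
      ∀ v ∈ (colT : Subgroup (ProjectiveSpecialLinearGroup (Fin 3) F)),
        levi A * v * (levi A)⁻¹ ∈ (colT : Subgroup (ProjectiveSpecialLinearGroup (Fin 3) F)) := by
    rintro A _ ⟨b, c, rfl⟩
    refine ⟨A.1 1 0 * c + A.1 1 1 * b, A.1 0 0 * c + A.1 0 1 * b, ?_⟩
    refine conj_of_mul ?_
    change (!![A.1 0 0, A.1 0 1, 0; A.1 1 0, A.1 1 1, 0; 0, 0, 1] : Matrix (Fin 3) (Fin 3) F) * _ =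
      _ * (!![A.1 0 0, A.1 0 1, 0; A.1 1 0, A.1 1 1, 0; 0, 0, 1] : Matrix (Fin 3) (Fin 3) F)
    ext i j
    fin_cases i <;> fin_cases j <;> simp [uni, Matrix.mul_apply, Fin.sum_univ_three]
  rw [Subgroup.mem_normalizer_iff]
  refine fun v => ⟨key A v, fun h => ?_⟩
  have := key A⁻¹ _ h
  simpa [mul_assoc] using this

variable [Fintype F]

theorem cube_eq_one (hF : Fintype.card F = 4) {r : F} (hr : r ≠ 0) : r ^ 3 = 1 := by
  have := FiniteField.pow_card_sub_one_eq_one r hr
  rwa [hF] at this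

/-- Every element of the normalizer is a column element times a Levi element. -/
theorem mem_normalizer_colT (hF : Fintype.card F = 4) {g : ProjectiveSpecialLinearGroup (Fin 3) F}
    (hg : g ∈ Subgroup.normalizer ((colT : Subgroup (ProjectiveSpecialLinearGroup (Fin 3) F)) : Set _)) :
    ∃ v ∈ (colT : Subgroup (ProjectiveSpecialLinearGroup (Fin 3) F)), ∃ A, g = v * levi A := by
  obtain ⟨M, rfl⟩ := QuotientGroup.mk_surjective g
  have hrow : ∀ b c : F, ∃ b' c' r : F, (M : Matrix (Fin 3) (Fin 3) F) * (uni F 0 b c).1 =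
      r • ((uni F 0 b' c').1 * (M : Matrix (Fin 3) (Fin 3) F)) := by
    intro b c
    obtain ⟨b', c', h⟩ := (Subgroup.mem_normalizer_iff.1 hg (pu 0 b c)).1 ⟨b, c, rfl⟩
    refine ⟨b', c', ?_⟩
    rw [mul_inv_eq_iff_eq_mul, pu, pu, ← QuotientGroup.mk_mul, ← QuotientGroup.mk_mul] at h
    exact exists_smul_of_mk_eq h.symm
  obtain ⟨b', c', r, e⟩ := hrow 1 0
  have hdet := M.2
  have e20 := congrFun (congrFun e 2) 0
  have e21 := congrFun (congrFun e 2) 1
  have e22 := congrFun (congrFun e 2) 2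
  have e00 := congrFun (congrFun e 0) 0
  have e10 := congrFun (congrFun e 1) 0
  have e02 := congrFun (congrFun e 0) 2
  have e12 := congrFun (congrFun e 1) 2
  have e01 := congrFun (congrFun e 0) 1
  have e11 := congrFun (congrFun e 1) 1
  simp [uni, Matrix.mul_apply, Fin.sum_univ_three, Matrix.vecMul, dotProduct] at e20 e21 e22 e00 e10 e02 e12 e01 e11
  rw [det_fin_three] at hdet
  have h20 : M.1 2 0 = 0 := by grind
  have h21 : M.1 2 1 = 0 := by grind
  have h22 : M.1 2 2 ≠ 0 := fun h => by simp [h20, h21, h] at hdet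
  set s := (M.1 2 2)⁻¹ with hs
  have hs0 : s ≠ 0 := inv_ne_zero h22
  have hs1 : s * M.1 2 2 = 1 := inv_mul_cancel₀ h22
  have hs3 := cube_eq_one hF hs0
  have hdetA : det !![s * M.1 0 0, s * M.1 0 1; s * M.1 1 0, s * M.1 1 1] = 1 := by
    rw [det_fin_two_of]
    rw [h20, h21] at hdet
    grind
  refine ⟨pu 0 (s * M.1 1 2) (s * M.1 0 2), ⟨_, _, rfl⟩, (⟨_, hdetA⟩ : SpecialLinearGroup (Fin 2) F), ?_⟩
  change (QuotientGroup.mk M : ProjectiveSpecialLinearGroup (Fin 3) F) =
    QuotientGroup.mk (uni F 0 (s * M.1 1 2) (s * M.1 0 2)) *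
      QuotientGroup.mk (leviMat (⟨_, hdetA⟩ : SpecialLinearGroup (Fin 2) F))
  rw [← QuotientGroup.mk_mul]
  refine mk_eq_of_smul (r := s) hs3 ?_
  rw [Matrix.SpecialLinearGroup.coe_mul]
  change (_ : Matrix (Fin 3) (Fin 3) F) * (!![s * M.1 0 0, s * M.1 0 1, 0; s * M.1 1 0, s * M.1 1 1, 0;
    0, 0, 1] : Matrix (Fin 3) (Fin 3) F) = _
  ext i j
  fin_cases i <;> fin_cases j <;>
    simp [uni, Matrix.mul_apply, Fin.sum_univ_three, h20, h21, hs1]

/-- The column subgroup is self-centralizing. -/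
theorem centralizer_colT (hF : Fintype.card F = 4) {g : ProjectiveSpecialLinearGroup (Fin 3) F}
    (hg : ∀ v ∈ (colT : Subgroup (ProjectiveSpecialLinearGroup (Fin 3) F)), g * v = v * g) :
    g ∈ (colT : Subgroup (ProjectiveSpecialLinearGroup (Fin 3) F)) := by
  obtain ⟨v, hv, A, rfl⟩ := mem_normalizer_colT hF (g := g) (Subgroup.mem_normalizer_iff.2 fun w => by
    constructor
    · intro hw; rwa [hg w hw, mul_inv_cancel_right]
    · intro hw
      have h' : g * w * g⁻¹ = w := mul_left_cancel ((hg _ hw).trans (by group))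
      rwa [h'] at hw)
  have hA : ∀ w ∈ (colT : Subgroup (ProjectiveSpecialLinearGroup (Fin 3) F)),
      levi A * w = w * levi A := by
    intro w hw
    have h := hg w hw
    obtain ⟨b, c, rfl⟩ := hv
    obtain ⟨b', c', rfl⟩ := hw
    rw [mul_assoc, ← mul_assoc (pu 0 b' c'), pu_mul,
      show pu (0 + 0) (b' + b) (c' + c + 0 * b) = pu (0 : F) b c * pu 0 b' c' by
        rw [pu_mul]; congr 1 <;> ring, mul_assoc] at h
    exact mul_left_cancel h
  have key : ∀ b c : F, ∃ r : F,
      ((uni F 0 b c).1 * !![A.1 0 0, A.1 0 1, 0; A.1 1 0, A.1 1 1, 0; 0, 0, 1]) =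
        r • (!![A.1 0 0, A.1 0 1, 0; A.1 1 0, A.1 1 1, 0; 0, 0, 1] * (uni F 0 b c).1) := by
    intro b c
    have h := hA (pu 0 b c) ⟨b, c, rfl⟩
    rw [levi_apply, pu, ← QuotientGroup.mk_mul, ← QuotientGroup.mk_mul] at h
    exact exists_smul_of_mk_eq h
  have h1 : A = 1 := by
    obtain ⟨r, e⟩ := key 0 1
    obtain ⟨r', e'⟩ := key 1 0
    have a1 := congrFun (congrFun e 2) 2
    have a2 := congrFun (congrFun e 0) 2
    have a3 := congrFun (congrFun e 1) 2
    have b1 := congrFun (congrFun e' 2) 2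
    have b2 := congrFun (congrFun e' 0) 2
    have b3 := congrFun (congrFun e' 1) 2
    simp [uni, Matrix.mul_apply, Fin.sum_univ_three, Matrix.vecMul, dotProduct] at a1 a2 a3 b1 b2 b3
    refine Subtype.ext ?_
    ext i j
    fin_cases i <;> fin_cases j <;> simp <;> grind
  rw [h1, map_one, mul_one]
  exact hv

end CfsgLib.Invol.L34Parabolic
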