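import Cfsg.Agent.Lib.Invol.HomocyclicBrauer
import Cfsg.Agent.Lib.Block.Homocyclic
import Cfsg.Agent.Lib.Transfer.Basic

/-!
A group without non-trivial normal subgroup of odd order with a Sylow 2-subgroup of type
`(2 ^ m, 2 ^ m)`, `m ≥ 2`, has this Sylow subgroup normal (Brauer).
-/

set_option autoImplicit false
set_option linter.unusedSectionVars false

namespace CfsgLib.Invol.Homocyclic

universe u

variable {G : Type u} [Group G] [Finite G]

theorem odd_core_eq_bot (hO : ∀ N : Subgroup G, N.Normal → Odd (Nat.card N) → N = ⊥)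
    (K : Subgroup G) [K.Normal] : Cfsg.pPrimeCore 2 K = ⊥ := by
  have := CfsgLib.Solvable.pPrimeCore_characteristic 2 K
  have h := CfsgLib.Solvable.pPrimeCore_coprime (G := K) 2
  rw [Nat.coprime_two_right] at h
  have h' : ((Cfsg.pPrimeCore 2 K).map K.subtype) = ⊥ :=
    hO _ inferInstance (by rwa [Subgroup.card_map_of_injective K.subtype_injective])
  exact (Subgroup.map_eq_bot_iff_of_injective _ K.subtype_injective).1 h'

/-- The local data. -/
theorem exists_data (P : Sylow 2 G) {m : ℕ} (hm : 1 ≤ m)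
    (e : (P : Subgroup G) ≃* Multiplicative (ZMod (2 ^ m) × ZMod (2 ^ m)))
    (hne : (Subgroup.centralizer (P : Set G)).relIndex (Subgroup.normalizer (P : Set G)) ≠ 1) :
    ∃ D : Data G, D.P = P := by
  obtain ⟨h13, hfree, -⟩ := CfsgLib.Block.Homocyclic.main e hm
  set N := Subgroup.normalizer (P : Set G)
  set C := Subgroup.centralizer (P : Set G)
  have h3 : C.relIndex N = 3 := h13.resolve_left hne
  have hCn : (C.subgroupOf N).Normal := ⟨fun c hc g => by
    rw [Subgroup.mem_subgroupOf, Subgroup.mem_centralizer_iff] at hc ⊢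
    intro u hu
    have h := hc ((g : G)⁻¹ * u * g) ((Subgroup.mem_normalizer_iff''.1 g.2 u).1 hu)
    push_cast
    calc u * ((g : G) * c * (g : G)⁻¹) = (g : G) * ((g : G)⁻¹ * u * g * c) * (g : G)⁻¹ := by group
      _ = _ := by rw [h]; group⟩
  have hcard : Nat.card (N ⧸ C.subgroupOf N) = 3 := h3
  obtain ⟨t, ht⟩ : ∃ t : N, (t : N ⧸ C.subgroupOf N) ≠ 1 := by
    have : Nontrivial (N ⧸ C.subgroupOf N) := by
      rw [← Finite.one_lt_card_iff_nontrivial, hcard]; norm_num
    obtain ⟨q, hq⟩ := exists_ne (1 : N ⧸ C.subgroupOf N)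
    exact ⟨q.out, by rwa [QuotientGroup.out_eq']⟩
  have htC : (t : G) ∉ C := fun h => ht ((QuotientGroup.eq_one_iff t).2 (Subgroup.mem_subgroupOf.2 h))
  have hC : ∀ {n : G}, n ∈ C → ∀ u : (P : Subgroup G), n * (u : G) * n⁻¹ = u := fun {n} hn u => by
    rw [← Subgroup.mem_centralizer_iff.1 hn u u.2, mul_inv_cancel_right]
  have hmem : ∀ u : G, u ∈ (P : Subgroup G) ↔ (t : G) * u * (t : G)⁻¹ ∈ (P : Subgroup G) :=
    fun u => Subgroup.mem_normalizer_iff.1 t.2 u
  let τ : (P : Subgroup G) ≃* (P : Subgroup G) :=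
    { toFun := fun u => ⟨(t : G) * u * (t : G)⁻¹, (hmem u).1 u.2⟩
      invFun := fun u => ⟨(t : G)⁻¹ * u * t, (hmem _).2 (by group; exact u.2)⟩
      left_inv := fun u => Subtype.ext (by simp [mul_assoc])
      right_inv := fun u => Subtype.ext (by simp [mul_assoc])
      map_mul' := fun a b => Subtype.ext (by simp [mul_assoc]) }
  have h2 : ∀ (n : N), ((n : G) * (n : G)) ∈ N := fun n => mul_mem n.2 n.2
  have hcube : (t : G) * t * t ∈ C := by
    have h := Subgroup.pow_index_mem (H := C.subgroupOf N) t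
    rw [Subgroup.index_eq_card, hcard, Subgroup.mem_subgroupOf] at h
    simpa [pow_succ, mul_assoc] using h
  refine ⟨⟨P, fun a b => CfsgLib.Block.Homocyclic.comm_of_equiv e a b, τ, ⟨t, fun u => rfl⟩, ?_, ?_, ?_⟩, rfl⟩
  · intro u
    refine Subtype.ext ?_
    show (t : G) * ((t : G) * ((t : G) * u * (t : G)⁻¹) * (t : G)⁻¹) * (t : G)⁻¹ = u
    calc (t : G) * ((t : G) * ((t : G) * u * (t : G)⁻¹) * (t : G)⁻¹) * (t : G)⁻¹
        = ((t : G) * t * t) * u * ((t : G) * t * t)⁻¹ := by group
      _ = u := hC hcube u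
  · intro u hu
    by_contra hu1
    have hd : 2 ∣ orderOf u := by
      obtain ⟨i, hi⟩ := IsPGroup.iff_orderOf.1 P.2 u
      rw [hi]
      exact dvd_pow_self 2 fun h => hu1 (orderOf_eq_one_iff.1 (by rw [hi, h, pow_zero]))
    obtain ⟨k, hk⟩ := hd
    have ho : orderOf (u ^ k) = 2 :=
      orderOf_pow_orderOf_div (orderOf_pos u).ne' ⟨k, hk⟩ |> fun h => by
        rwa [hk, Nat.mul_div_cancel_left _ two_pos] at h
    obtain ⟨hz2, hz1⟩ := orderOf_eq_prime_iff.1 ho
    refine htC (hfree t ⟨((u ^ k : (P : Subgroup G)) : G), (u ^ k).2,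
      by exact_mod_cast congrArg Subtype.val hz2, fun h => hz1 (Subtype.ext h)⟩ (Subtype.ext ?_))
    have : τ (u ^ k) = u ^ k := by rw [map_pow, hu]
    show (t : G) * ((u ^ k : (P : Subgroup G)) : G) * (t : G)⁻¹ = ((u ^ k : (P : Subgroup G)) : G)
    exact congrArg Subtype.val this
  · intro n hn
    have hord : orderOf (t : N ⧸ C.subgroupOf N) = 3 :=
      orderOf_eq_prime (by rw [← hcard]; exact pow_card_eq_one') ht
    have htop : Subgroup.zpowers (t : N ⧸ C.subgroupOf N) = ⊤ :=
      Subgroup.eq_top_of_card_eq _ (by rw [Nat.card_zpowers, hord, hcard])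
    have hq : ((⟨n, hn⟩ : N) : N ⧸ C.subgroupOf N) ∈ Subgroup.zpowers (t : N ⧸ C.subgroupOf N) :=
      htop ▸ Subgroup.mem_top _
    classical
    rw [mem_zpowers_iff_mem_range_orderOf, hord] at hq
    obtain ⟨k, hk, hk'⟩ := Finset.mem_image.1 hq
    rw [Finset.mem_range] at hk
    rw [← QuotientGroup.mk_pow, QuotientGroup.eq, Subgroup.mem_subgroupOf] at hk'
    push_cast at hk'
    have key : ∀ u : (P : Subgroup G), n * (u : G) * n⁻¹ = (t : G) ^ k * u * ((t : G) ^ k)⁻¹ := by
      intro u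
      conv_rhs => rw [← hC hk' u]
      group
    interval_cases k
    · exact Or.inl fun u => by rw [key]; simp
    · exact Or.inr (Or.inl fun u => by rw [key, pow_one]; rfl)
    · refine Or.inr (Or.inr fun u => ?_)
      rw [key]
      show _ = (t : G) * ((t : G) * u * (t : G)⁻¹) * (t : G)⁻¹
      rw [pow_two]; group

/-- A non-trivial linear character trivial on the involutions. -/
theorem exists_char (P : Sylow 2 G) {m : ℕ} (hm : 2 ≤ m)
    (e : (P : Subgroup G) ≃* Multiplicative (ZMod (2 ^ m) × ZMod (2 ^ m))) :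
    ∃ l : (P : Subgroup G) →* ℂˣ, l ≠ 1 ∧ ∀ x, x * x = 1 → l x = 1 := by
  have hab := CfsgLib.Block.Homocyclic.comm_of_equiv e
  set u0 : (P : Subgroup G) := e.symm (Multiplicative.ofAdd ((1 : ZMod (2 ^ m)), (0 : ZMod (2 ^ m))))
  have hu : u0 * u0 ≠ 1 := by
    intro h
    have h1 := congrArg (fun y => (Multiplicative.toAdd (e y)).1) h
    simp only [u0, map_mul, MulEquiv.apply_symm_apply, map_one, toAdd_mul, toAdd_ofAdd, toAdd_one,
      Prod.fst_add, Prod.fst_zero] at h1
    have h2 : ((2 : ℕ) : ZMod (2 ^ m)) = 0 := by rw [← h1]; norm_num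
    rw [ZMod.natCast_eq_zero_iff] at h2
    have := Nat.le_of_dvd two_pos h2
    have : 2 ^ 2 ≤ 2 ^ m := Nat.pow_le_pow_right two_pos hm
    omega
  obtain ⟨μ, hμ⟩ := CfsgLib.Char.exists_linear_ne_one hab hu
  refine ⟨{ toFun := fun x => μ (x * x), map_one' := by simp, map_mul' := fun x y => ?_ }, ?_, ?_⟩
  · rw [← map_mul]
    congr 1
    calc x * y * (x * y) = x * (y * x) * y := by group
      _ = x * (x * y) * y := by rw [hab y x]
      _ = _ := by group
  · intro h
    exact hμ (DFunLike.congr_fun h u0)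
  · intro x hx
    show μ (x * x) = 1
    rw [hx, map_one]

theorem card_sylow (P : Sylow 2 G) {m : ℕ}
    (e : (P : Subgroup G) ≃* Multiplicative (ZMod (2 ^ m) × ZMod (2 ^ m))) :
    Nat.card (P : Subgroup G) = 2 ^ m * 2 ^ m := by
  rw [Nat.card_congr e.toEquiv, Nat.card_congr Multiplicative.toAdd, Nat.card_prod, Nat.card_zmod]

/-- Brauer's theorem: normality. -/
theorem sylow_normal : ∀ (n : ℕ) {G : Type u} [Group G] [Finite G], Nat.card G = n →
    ∀ (P : Sylow 2 G) {m : ℕ}, 2 ≤ m →
    ((P : Subgroup G) ≃* Multiplicative (ZMod (2 ^ m) × ZMod (2 ^ m))) →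
    (∀ N : Subgroup G, N.Normal → Odd (Nat.card N) → N = ⊥) → (P : Subgroup G).Normal := by
  intro n
  induction n using Nat.strong_induction_on with
  | _ n ih =>
    intro G _ _ hn P m hm e hO
    by_cases hne : (Subgroup.centralizer (P : Set G)).relIndex (Subgroup.normalizer (P : Set G)) = 1
    · have hle := Subgroup.relIndex_eq_one.1 hne
      obtain ⟨Q, N, hN, hNQ⟩ :=
        CfsgLib.Transfer.hasNormalPComplement_of_normalizer_le_centralizer P hle
      have hNodd : Odd (Nat.card N) := by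
        have h := Subgroup.IsComplement'.index_eq_card hNQ
        rw [Nat.odd_iff]
        by_contra h2
        apply Q.not_dvd_index
        rw [h]
        omega
      have hbot := hO N hN hNodd
      subst hbot
      have hQ : (Q : Subgroup G) = ⊤ := Subgroup.isComplement'_bot_left.1 hNQ
      have hG : IsPGroup 2 (⊤ : Subgroup G) := hQ ▸ Q.2
      rw [P.is_maximal' hG le_top |>.symm]
      infer_instance
    · obtain ⟨D, rfl⟩ := exists_data P (by omega) e hne
      have h16 : 16 ≤ Nat.card (D.P : Subgroup G) := by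
        rw [card_sylow D.P e]
        have : 2 ^ 2 ≤ 2 ^ m := Nat.pow_le_pow_right two_pos hm
        nlinarith
      obtain ⟨K, hKn, hKt, hPK⟩ := exists_normal D h16 (exists_char D.P hm e)
      let P' : Sylow 2 K := D.P.subtype hPK
      have hlt : Nat.card K < n := by
        rw [← hn]
        exact lt_of_le_of_ne (Subgroup.card_le_card_group K) fun h => hKt (Subgroup.eq_top_of_card_eq _ h)
      have hP'n : (P' : Subgroup K).Normal :=
        ih _ hlt rfl P' hm ((Subgroup.subgroupOfEquivOfLe hPK).trans e) fun N hN hodd => by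
          have h := odd_core_eq_bot hO K
          exact le_bot_iff.1 (h ▸ CfsgLib.Solvable.le_pPrimeCore hN (Nat.coprime_two_right.2 hodd))
      have := P'.characteristic_of_normal hP'n
      have e2 : (P' : Subgroup K).map K.subtype = (D.P : Subgroup G) :=
        Subgroup.map_subgroupOf_eq_of_le hPK
      rw [← e2]
      infer_instance

end CfsgLib.Invol.Homocyclic
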