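import Cfsg.Agent.Lib.Invol.MetacyclicTwoNilpotent
import Cfsg.Agent.Lib.Invol.HomocyclicNormal

/-!
Solubility of groups with a metacyclic Sylow 2-subgroup having a cyclic quotient of order greater
than two by a cyclic normal subgroup, given the solubility of groups of odd order.
-/

set_option autoImplicit false

namespace CfsgLib.Invol.MetacyclicTwo

universe u

theorem solvable_of_extension {H : Type u} [Group H] (N : Subgroup H) [N.Normal]
    (h1 : Group.IsSolvable N) (h2 : Group.IsSolvable (H ⧸ N)) : Group.IsSolvable H :=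
  Group.isSolvable_of_ker_le_range N.subtype (QuotientGroup.mk' N)
    (by rw [QuotientGroup.ker_mk', Subgroup.range_subtype])

theorem isSolvable {G : Type u} [Group G] [Finite G] (S : Sylow 2 G)
    (N : Subgroup ↥(S : Subgroup G)) [N.Normal] (hN : IsCyclic N)
    (hQ : IsCyclic (↥(S : Subgroup G) ⧸ N)) (hQ2 : 2 < Nat.card (↥(S : Subgroup G) ⧸ N))
    (hFT : ∀ (H : Type u) [Group H] [Finite H], Odd (Nat.card H) → Group.IsSolvable H) :
    Group.IsSolvable G := by
  rcases dichotomy S N hN hQ hQ2 with hc | ⟨n, hn, ⟨e⟩⟩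
  · obtain ⟨K, hK, hodd, hq⟩ := CfsgLib.Transfer.hasNormalPComplement_iff_exists.1 hc
    have := hq.isNilpotent
    exact solvable_of_extension K (hFT _ (Nat.coprime_two_right.1 hodd)) inferInstance
  have := CfsgLib.Solvable.pPrimeCore_normal 2 G
  set O := Cfsg.pPrimeCore 2 G
  refine solvable_of_extension O
    (hFT _ (Nat.coprime_two_right.1 (CfsgLib.Solvable.pPrimeCore_coprime 2))) ?_
  let S' : Sylow 2 (G ⧸ O) := S.mapSurjective (QuotientGroup.mk'_surjective O)
  have hinj : Function.Injective ((QuotientGroup.mk' O).subgroupMap (S : Subgroup G)) := by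
    rw [injective_iff_map_eq_one]
    intro x hx
    have h1 : (x : G) ∈ O := (QuotientGroup.eq_one_iff (x : G)).1 (congrArg Subtype.val hx)
    obtain ⟨k, hk⟩ := IsPGroup.iff_orderOf.1 S.2 x
    have h2 : Nat.Coprime (orderOf x) 2 := by
      refine Nat.Coprime.coprime_dvd_left ?_ (CfsgLib.Solvable.pPrimeCore_coprime (G := G) 2)
      rw [← Subgroup.orderOf_coe]
      exact Subgroup.orderOf_dvd_natCard _ h1
    rcases k with _ | k
    · exact orderOf_eq_one_iff.1 (by simpa using hk)
    · rw [hk] at h2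
      exact absurd h2 (by simp [Nat.coprime_two_right, Nat.odd_iff, pow_succ])
  let e' : (S' : Subgroup (G ⧸ O)) ≃* Multiplicative (ZMod (2 ^ n) × ZMod (2 ^ n)) :=
    (MulEquiv.ofBijective _ ⟨hinj, MonoidHom.subgroupMap_surjective _ _⟩).symm.trans e
  have hO : ∀ M : Subgroup (G ⧸ O), M.Normal → Odd (Nat.card M) → M = ⊥ := fun M hM hodd =>
    le_bot_iff.1 (CfsgLib.Solvable.pPrimeCore_quotient_eq_bot (G := G) 2 ▸
      CfsgLib.Solvable.le_pPrimeCore hM (Nat.coprime_two_right.2 hodd))
  have hnorm := CfsgLib.Invol.Homocyclic.sylow_normal _ rfl S' hn e' hO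
  have hodd : Odd (Nat.card ((G ⧸ O) ⧸ (S' : Subgroup (G ⧸ O)))) := by
    rw [← Subgroup.index_eq_card, Nat.odd_iff]
    have := S'.not_dvd_index
    omega
  have := S'.2.isNilpotent
  exact solvable_of_extension (S' : Subgroup (G ⧸ O)) inferInstance (hFT _ hodd)

end CfsgLib.Invol.MetacyclicTwo
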