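import Cfsg.Agent.Lib.Invol.Q8Char
import Cfsg.Agent.Lib.Invol.ZStar

/-!
A quaternion Sylow 2-subgroup of order 8 gives a character with the involution in its centre.
-/

set_option autoImplicit false
set_option linter.unusedSectionVars false

namespace CfsgLib.Invol

open Cfsg
open scoped ComplexConjugate

universe u

/-- The values of a character at an involution are integers. -/
theorem invol_value {G : Type u} [Group G] [Finite G] (χ : IrrCharacter G) {z : G}
    (hz : orderOf z = 2) : ∃ y : ℤ, (χ : G → ℂ) z = y := by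
  obtain ⟨χ, n, ρ, hρ, rfl⟩ := χ
  obtain ⟨ι, hι, b, μ, -, hμ, hpow, -⟩ := CfsgLib.Char.exists_char_eigen ρ z
  rw [hz] at hμ
  refine ⟨∑ k, if μ k = 1 then 1 else -1, ?_⟩
  show ρ.character z = _
  have := hpow 1
  rw [pow_one] at this
  simp only [pow_one] at this
  rw [this, Int.cast_sum]
  refine Finset.sum_congr rfl fun k _ => ?_
  rcases sq_eq_one_iff.1 (hμ k) with h | h
  · simp [h]
  · simp [h, show (-1 : ℂ) ≠ 1 by norm_num]

/-- Equality in the Cauchy inequality for three terms. -/
theorem sq_sum_eq {a b c ya yb yc : ℤ} (ha : 0 < a) (hb : 0 < b) (hc : 0 < c) {d y : ℤ}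
    (hd : d = a + b + c) (hy : y = ya + yb + yc)
    (hq : (y : ℝ) * y / d = (ya : ℝ) * ya / a + (yb : ℝ) * yb / b + (yc : ℝ) * yc / c) :
    yb * a = ya * b := by
  have ha' : (0 : ℝ) < a := Int.cast_pos.2 ha
  have hb' : (0 : ℝ) < b := Int.cast_pos.2 hb
  have hc' : (0 : ℝ) < c := Int.cast_pos.2 hc
  subst hd hy
  push_cast at hq
  have hne : (a : ℝ) + b + c ≠ 0 := by positivity
  field_simp at hq
  have key : (c : ℝ) * ((yb * a - ya * b) * (yb * a - ya * b)) +
      b * ((yc * a - ya * c) * (yc * a - ya * c)) +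
      a * ((yc * b - yb * c) * (yc * b - yb * c)) = 0 := by linear_combination -hq
  have h1 : (c : ℝ) * ((yb * a - ya * b) * (yb * a - ya * b)) = 0 := by
    have e1 := mul_nonneg hc'.le (mul_self_nonneg ((yb : ℝ) * a - ya * b))
    have e2 := mul_nonneg hb'.le (mul_self_nonneg ((yc : ℝ) * a - ya * c))
    have e3 := mul_nonneg ha'.le (mul_self_nonneg ((yc : ℝ) * b - yb * c))
    linarith
  have h2 : (yb : ℝ) * a - ya * b = 0 := mul_self_eq_zero.1 ((mul_eq_zero.1 h1).resolve_left hc'.ne')
  exact_mod_cast sub_eq_zero.1 h2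

namespace Q8Data

variable {G : Type u} [Group G] [Finite G] (D : Q8Data G)
include D

theorem sum_invol_section [Fintype G] [DecidableEq G] {F : G → ℂ} (hF : IsClassFunction G F)
    [Fintype (Subgroup.centralizer ({D.z} : Set G))] :
    ∑ g ∈ Finset.univ.filter (fun g : G => orderOf (twoPart g) = 2), F g =
      ((Subgroup.centralizer ({D.z} : Set G)).index : ℂ) *
        ∑ x ∈ Finset.univ.filter (fun x : Subgroup.centralizer ({D.z} : Set G) =>
          twoPart x = D.toCentralizer.z), F (x : G) := by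
  classical
  have e : Finset.univ.filter (fun g : G => orderOf (twoPart g) = 2) =
      Finset.univ.filter (fun g : G => IsConj D.z (twoPart g)) := by
    ext g
    simp only [Finset.mem_filter, Finset.mem_univ, true_and]
    exact ⟨D.isConj_z, fun h => by rw [orderOf_eq_of_isConj h, D.hz]⟩
  rw [e, sum_section D.z hF]
  congr 1
  exact sum_fiber_coe (Subgroup.centralizer ({D.z} : Set G)) D.toCentralizer.z (by
    show Subgroup.centralizer ({D.z} : Set G) ≤ _
    exact le_rfl) F

/-- With a central involution, its section sums to half of what is left outside order four. -/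
theorem two_mul_fiber [Fintype G] [DecidableEq G] (hzc : ∀ x, Commute D.z x) {F : G → ℂ}
    (hF : ∀ x, F (D.z * x) = F x) :
    2 * ∑ g ∈ Finset.univ.filter (fun g : G => twoPart g = D.z), F g =
      ∑ g, F g - ∑ g ∈ Finset.univ.filter (fun g : G => orderOf (twoPart g) = 4), F g := by
  classical
  have hzz := invol_mul_self D.hz
  have e2 : Finset.univ.filter (fun g : G => orderOf (twoPart g) = 2) =
      Finset.univ.filter (fun g : G => twoPart g = D.z) := by
    ext g
    simp only [Finset.mem_filter, Finset.mem_univ, true_and]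
    refine ⟨fun h => ?_, fun h => by rw [h, D.hz]⟩
    exact isolated_eq_of_commute D.isolated (D.isConj_z h) (IsConj.refl D.z) (hzc _).symm
  have hz2 : twoPart D.z = D.z := twoPart_self ⟨1, by rw [D.hz, pow_one]⟩
  have e1 : ∑ g ∈ Finset.univ.filter (fun g : G => twoPart g = 1), F g =
      ∑ g ∈ Finset.univ.filter (fun g : G => twoPart g = D.z), F g := by
    refine Finset.sum_nbij' (fun g => D.z * g) (fun g => D.z * g) ?_ ?_ ?_ ?_ ?_
    · intro g hg
      simp only [Finset.mem_coe, Finset.mem_filter, Finset.mem_univ, true_and] at hg ⊢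
      exact twoPart_mul (hzc g) ⟨1, by rw [D.hz, pow_one]⟩ ((twoPart_eq_one_iff g).1 hg)
    · intro g hg
      simp only [Finset.mem_coe, Finset.mem_filter, Finset.mem_univ, true_and] at hg ⊢
      rw [twoPart_eq_one_iff, ← invol_inv D.hz]
      have := odd_orderOf_twoPart_inv_mul g
      rwa [hg] at this
    · intro g _; rw [← mul_assoc, hzz, one_mul]
    · intro g _; rw [← mul_assoc, hzz, one_mul]
    · intro g _; exact (hF g).symm
  rw [D.sum_split F, e2, e1]
  ring

/-- The data of a non-trivial constituent of `θ - 1` in the centralizer. -/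
structure PsiData (D : Q8Data G) where
  ψ : IrrCharacter (Subgroup.centralizer ({D.z} : Set G))
  δ : ℤ
  hδ : δ = 1 ∨ δ = -1
  hne : (ψ : Subgroup.centralizer ({D.z} : Set G) → ℂ) ≠ fun _ => 1
  hz : ∀ x, (ψ : Subgroup.centralizer ({D.z} : Set G) → ℂ) (D.toCentralizer.z * x) =
    (ψ : Subgroup.centralizer ({D.z} : Set G) → ℂ) x
  h4 : ∀ x : Subgroup.centralizer ({D.z} : Set G), orderOf (twoPart x) = 4 →
    (ψ : Subgroup.centralizer ({D.z} : Set G) → ℂ) x = δ

/-- `θ`: four on the elements with 2-part of order four. -/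
noncomputable def theta (D : Q8Data G) : G → ℂ := fun g => D.wFn 4 0 (twoPart g)

/-- `α`: two on the order-four section and `2(1 + δψ)` on the section of involutions. -/
noncomputable def alpha (D : Q8Data G) (P : D.PsiData) : G → ℂ := fun g =>
  D.wFn 2 4 (twoPart g) + D.betaFn P.ψ (P.δ : ℂ) g

theorem theta_class : IsClassFunction G D.theta := fun g h => by
  simp only [theta, twoPart_conj]; exact D.wFn_isClassFunction 4 0 _ _

theorem alpha_class (P : D.PsiData) : IsClassFunction G (D.alpha P) := fun g h => by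
  simp only [alpha, twoPart_conj]
  rw [D.wFn_isClassFunction 2 4 _ _, D.betaFn_isClassFunction (CfsgLib.Char.irr_isClassFunction P.ψ.2) _ g h]

theorem alpha_isGeneralized (P : D.PsiData) : IsGeneralizedCharacter G (D.alpha P) :=
  CfsgLib.Char.isGeneralized_add D.gamma_isGeneralized (D.beta_isGeneralized P.hz P.h4)

theorem theta_four {g : G} (h : orderOf (twoPart g) = 4) : D.theta g = 4 := by simp [theta, wFn, h]

theorem theta_of_ne {g : G} (h : orderOf (twoPart g) ≠ 4) : D.theta g = 0 := by simp [theta, wFn, h]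

theorem alpha_four (P : D.PsiData) {g : G} (h : orderOf (twoPart g) = 4) : D.alpha P g = 2 := by
  simp [alpha, wFn, h, D.betaFn_eq_zero (ψ := (P.ψ : _ → ℂ)) (P.δ : ℂ) (g := g) (by omega)]

theorem alpha_one (P : D.PsiData) {g : G} (h : twoPart g = 1) : D.alpha P g = 0 := by
  have h1 : orderOf (twoPart g) = 1 := by rw [h, orderOf_one]
  simp [alpha, wFn, h1, D.betaFn_eq_zero (ψ := (P.ψ : _ → ℂ)) (P.δ : ℂ) (g := g) (by omega)]

theorem delta_sq (P : D.PsiData) : (P.δ : ℂ) * P.δ = 1 := by
  rcases P.hδ with h | h <;> rw [h] <;> norm_num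

theorem alpha_fiber (P : D.PsiData) {x : Subgroup.centralizer ({D.z} : Set G)}
    (h : twoPart x = D.toCentralizer.z) :
    D.alpha P (x : G) = 2 * (1 + P.δ * (P.ψ : _ → ℂ) x) := by
  have ha : (1 : G) * twoPart (x : G) * (1 : G)⁻¹ = D.z := by
    rw [twoPart_coe, h]; simp [toCentralizer]
  have h2 : orderOf (twoPart (x : G)) = 2 := by
    rw [twoPart_coe, h, Subgroup.orderOf_coe, D.toCentralizer.hz]
  simp only [alpha, wFn, h2, D.betaFn_eq (CfsgLib.Char.irr_isClassFunction P.ψ.2) (P.δ : ℂ) ha]
  rw [show (⟨(1 : G) * (x : G) * (1 : G)⁻¹, D.mem_centralizer_of_twoPart ha⟩ :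
    Subgroup.centralizer ({D.z} : Set G)) = x from Subtype.ext (by simp)]
  norm_num
  linear_combination (-2 : ℂ) * D.delta_sq P

theorem sum_phi [Fintype (Subgroup.centralizer ({D.z} : Set G))] (P : D.PsiData) :
    ∑ x : Subgroup.centralizer ({D.z} : Set G), (1 + (P.δ : ℂ) * (P.ψ : _ → ℂ) x) =
      Nat.card (Subgroup.centralizer ({D.z} : Set G)) := by
  have h := CfsgLib.Char.irr_classInner_ne P.ψ.2 CfsgLib.Char.isIrrCharacter_one P.hne
  rw [CfsgLib.Char.classInner_def, mul_eq_zero] at h
  simp only [map_one, mul_one] at h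
  rw [Finset.sum_add_distrib, ← Finset.mul_sum, h.resolve_left (inv_ne_zero CfsgLib.Char.natCard_ne_zero),
    mul_zero, add_zero, Finset.sum_const, Finset.card_univ, nsmul_one, Nat.card_eq_fintype_card]

theorem sum_phi_mul [Fintype (Subgroup.centralizer ({D.z} : Set G))] (P Q : D.PsiData)
    [Decidable (P.ψ = Q.ψ)] :
    ∑ x : Subgroup.centralizer ({D.z} : Set G), (1 + (P.δ : ℂ) * (P.ψ : _ → ℂ) x) *
        conj (1 + (Q.δ : ℂ) * (Q.ψ : _ → ℂ) x) =
      Nat.card (Subgroup.centralizer ({D.z} : Set G)) *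
        (1 + (if P.ψ = Q.ψ then (P.δ : ℂ) * Q.δ else 0)) := by
  classical
  have hcard := CfsgLib.Char.natCard_ne_zero (G := Subgroup.centralizer ({D.z} : Set G))
  have h1 : ∀ R : D.PsiData, ∑ x, (R.ψ : Subgroup.centralizer ({D.z} : Set G) → ℂ) x = 0 := fun R => by
    have h := CfsgLib.Char.irr_classInner_ne R.ψ.2 CfsgLib.Char.isIrrCharacter_one R.hne
    rw [CfsgLib.Char.classInner_def, mul_eq_zero] at h
    simp only [map_one, mul_one] at h
    exact h.resolve_left (inv_ne_zero hcard)
  have h2 : ∑ x, (P.ψ : Subgroup.centralizer ({D.z} : Set G) → ℂ) x * conj ((Q.ψ : Subgroup.centralizer ({D.z} : Set G) → ℂ) x) =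
      (Nat.card (Subgroup.centralizer ({D.z} : Set G)) : ℂ) * (if P.ψ = Q.ψ then 1 else 0) := by
    have h := CfsgLib.Char.irr_classInner P.ψ.2 Q.ψ.2
    rw [CfsgLib.Char.classInner_def, inv_mul_eq_iff_eq_mul₀ hcard] at h
    rw [h]
    simp [Subtype.ext_iff]
  simp only [map_add, map_one, map_mul, map_intCast, add_mul, mul_add, one_mul, mul_one,
    Finset.sum_add_distrib, Finset.sum_const, Finset.card_univ, nsmul_one, ← Finset.mul_sum, h1,
    ← map_sum, map_zero, mul_zero, add_zero, zero_add]
  rw [show ∑ x, (P.δ : ℂ) * (P.ψ : Subgroup.centralizer ({D.z} : Set G) → ℂ) x * ((Q.δ : ℂ) * conj ((Q.ψ : Subgroup.centralizer ({D.z} : Set G) → ℂ) x)) =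
    (P.δ : ℂ) * Q.δ * ∑ x, (P.ψ : Subgroup.centralizer ({D.z} : Set G) → ℂ) x * conj ((Q.ψ : Subgroup.centralizer ({D.z} : Set G) → ℂ) x) by
      rw [Finset.mul_sum]; exact Finset.sum_congr rfl fun x _ => by ring, h2, Nat.card_eq_fintype_card]
  split <;> ring

variable [Fintype G]

theorem inner_theta_one : classInner D.theta (fun _ => 1) = 1 := by
  classical
  rw [CfsgLib.Char.classInner_def]
  simp only [map_one, mul_one]
  have h := D.sum_section_four_of_const D.theta 4 fun g hg => D.theta_four hg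
  rw [D.sum_split, Finset.sum_eq_zero (fun g hg => D.theta_of_ne (by
      rw [(Finset.mem_filter.1 hg).2, orderOf_one]; norm_num)),
    Finset.sum_eq_zero (fun g hg => D.theta_of_ne (by rw [(Finset.mem_filter.1 hg).2]; norm_num)),
    zero_add, zero_add, inv_mul_eq_iff_eq_mul₀ CfsgLib.Char.natCard_ne_zero]
  linear_combination h / 4

theorem inner_theta_theta : classInner D.theta D.theta = 4 := by
  classical
  rw [CfsgLib.Char.classInner_def]
  have h := D.sum_section_four_of_const (fun g => D.theta g * conj (D.theta g)) 16 fun g hg => by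
    rw [D.theta_four hg, map_ofNat]; norm_num
  rw [D.sum_split, Finset.sum_eq_zero (fun g hg => by
      rw [D.theta_of_ne (g := g) (by rw [(Finset.mem_filter.1 hg).2, orderOf_one]; norm_num), zero_mul]),
    Finset.sum_eq_zero (fun g hg => by
      rw [D.theta_of_ne (g := g) (by rw [(Finset.mem_filter.1 hg).2]; norm_num), zero_mul]),
    zero_add, zero_add, inv_mul_eq_iff_eq_mul₀ CfsgLib.Char.natCard_ne_zero]
  linear_combination h / 4

theorem inner_alpha_theta (P : D.PsiData) : classInner (D.alpha P) D.theta = 2 := by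
  classical
  rw [CfsgLib.Char.classInner_def]
  have h := D.sum_section_four_of_const (fun g => D.alpha P g * conj (D.theta g)) 8 fun g hg => by
    rw [D.theta_four hg, D.alpha_four P hg, map_ofNat]; norm_num
  rw [D.sum_split, Finset.sum_eq_zero (fun g hg => by
      rw [D.theta_of_ne (g := g) (by rw [(Finset.mem_filter.1 hg).2, orderOf_one]; norm_num), map_zero, mul_zero]),
    Finset.sum_eq_zero (fun g hg => by
      rw [D.theta_of_ne (g := g) (by rw [(Finset.mem_filter.1 hg).2]; norm_num), map_zero, mul_zero]),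
    zero_add, zero_add, inv_mul_eq_iff_eq_mul₀ CfsgLib.Char.natCard_ne_zero]
  linear_combination h / 4

theorem phi_section_four (P : D.PsiData) {x : Subgroup.centralizer ({D.z} : Set G)}
    (hx : orderOf (twoPart x) = 4) : 1 + (P.δ : ℂ) * (P.ψ : _ → ℂ) x = 2 := by
  rw [P.h4 x hx, D.delta_sq P]; norm_num

theorem inner_alpha_one (P : D.PsiData) : classInner (D.alpha P) (fun _ => 1) = 1 := by
  classical
  have := Fintype.ofFinite (Subgroup.centralizer ({D.z} : Set G))
  rw [CfsgLib.Char.classInner_def]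
  simp only [map_one, mul_one]
  have h := D.sum_section_four_of_const (D.alpha P) 2 fun g hg => D.alpha_four P hg
  have hC := D.toCentralizer.sum_section_four_of_const
    (fun x : Subgroup.centralizer ({D.z} : Set G) => 1 + (P.δ : ℂ) * (P.ψ : Subgroup.centralizer ({D.z} : Set G) → ℂ) x) 2 fun x hx => D.phi_section_four P hx
  have hf := D.toCentralizer.two_mul_fiber D.toCentralizer_central
    (F := fun x : Subgroup.centralizer ({D.z} : Set G) => 1 + (P.δ : ℂ) * (P.ψ : Subgroup.centralizer ({D.z} : Set G) → ℂ) x) (fun x => by simp only [P.hz])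
  rw [D.sum_phi P] at hf
  rw [D.sum_split, Finset.sum_eq_zero (fun g hg => D.alpha_one P (Finset.mem_filter.1 hg).2), zero_add,
    D.sum_invol_section (D.alpha_class P),
    Finset.sum_congr rfl (fun x hx => D.alpha_fiber P (Finset.mem_filter.1 hx).2), ← Finset.mul_sum,
    inv_mul_eq_iff_eq_mul₀ CfsgLib.Char.natCard_ne_zero]
  have hidx : (Nat.card (Subgroup.centralizer ({D.z} : Set G)) : ℂ) * ((Subgroup.centralizer ({D.z} : Set G)).index : ℂ) = Nat.card G := by exact_mod_cast (Subgroup.centralizer ({D.z} : Set G)).card_mul_index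
  linear_combination h / 4 + ((Subgroup.centralizer ({D.z} : Set G)).index : ℂ) * hf - ((Subgroup.centralizer ({D.z} : Set G)).index : ℂ) / 4 * hC + hidx / 2

theorem inner_alpha_alpha (P Q : D.PsiData) [Decidable (P.ψ = Q.ψ)] :
    classInner (D.alpha P) (D.alpha Q) =
      1 + 2 * (if P.ψ = Q.ψ then (P.δ : ℂ) * Q.δ else 0) := by
  classical
  have := Fintype.ofFinite (Subgroup.centralizer ({D.z} : Set G))
  rw [CfsgLib.Char.classInner_def]
  have h := D.sum_section_four_of_const (fun g => D.alpha P g * conj (D.alpha Q g)) 4 fun g hg => by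
    rw [D.alpha_four P hg, D.alpha_four Q hg, map_ofNat]; norm_num
  have hC := D.toCentralizer.sum_section_four_of_const
    (fun x : Subgroup.centralizer ({D.z} : Set G) => (1 + (P.δ : ℂ) * (P.ψ : Subgroup.centralizer ({D.z} : Set G) → ℂ) x) * conj (1 + (Q.δ : ℂ) * (Q.ψ : Subgroup.centralizer ({D.z} : Set G) → ℂ) x)) 4
    fun x hx => by simp only [D.phi_section_four P hx, D.phi_section_four Q hx, map_ofNat]; norm_num
  have hf := D.toCentralizer.two_mul_fiber D.toCentralizer_central
    (F := fun x : Subgroup.centralizer ({D.z} : Set G) => (1 + (P.δ : ℂ) * (P.ψ : Subgroup.centralizer ({D.z} : Set G) → ℂ) x) * conj (1 + (Q.δ : ℂ) * (Q.ψ : Subgroup.centralizer ({D.z} : Set G) → ℂ) x))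
    (fun x => by simp only [P.hz, Q.hz])
  have hpt : ∀ x ∈ Finset.univ.filter (fun x : Subgroup.centralizer ({D.z} : Set G) => twoPart x = D.toCentralizer.z),
      D.alpha P (x : G) * conj (D.alpha Q (x : G)) =
      4 * ((1 + (P.δ : ℂ) * (P.ψ : Subgroup.centralizer ({D.z} : Set G) → ℂ) x) * conj (1 + (Q.δ : ℂ) * (Q.ψ : Subgroup.centralizer ({D.z} : Set G) → ℂ) x)) := by
    intro x hx
    rw [D.alpha_fiber P (Finset.mem_filter.1 hx).2, D.alpha_fiber Q (Finset.mem_filter.1 hx).2,
      map_mul, map_ofNat]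
    ring
  rw [D.sum_phi_mul P Q] at hf
  rw [D.sum_split, Finset.sum_eq_zero (fun g hg => by
      rw [D.alpha_one P (Finset.mem_filter.1 hg).2, zero_mul]), zero_add,
    D.sum_invol_section (F := fun g => D.alpha P g * conj (D.alpha Q g)) (fun g h => by
      simp only [D.alpha_class P g h, D.alpha_class Q g h]),
    Finset.sum_congr rfl hpt, ← Finset.mul_sum,
    inv_mul_eq_iff_eq_mul₀ CfsgLib.Char.natCard_ne_zero]
  have hidx : (Nat.card (Subgroup.centralizer ({D.z} : Set G)) : ℂ) * ((Subgroup.centralizer ({D.z} : Set G)).index : ℂ) = Nat.card G := by exact_mod_cast (Subgroup.centralizer ({D.z} : Set G)).card_mul_index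
  linear_combination h / 4 + 2 * ((Subgroup.centralizer ({D.z} : Set G)).index : ℂ) * hf - ((Subgroup.centralizer ({D.z} : Set G)).index : ℂ) / 2 * hC +
    2 * (if P.ψ = Q.ψ then (P.δ : ℂ) * Q.δ else 0) * hidx

/-- The three equations for `f - 1`, with `f` vanishing on elements of odd order. -/
theorem equations {f : G → ℂ} (hf : IsClassFunction G f) (h0 : ∀ g, twoPart g = 1 → f g = 0)
    {T : Finset (IrrCharacter G)} {a : IrrCharacter G → ℤ}
    (hzero : ∀ χ ∉ T, a χ = 0)
    (ha : ∀ χ : IrrCharacter G, classInner (f - fun _ => (1 : ℂ)) (χ : G → ℂ) = a χ)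
    (hsum : (f - fun _ => (1 : ℂ)) = ∑ χ ∈ T, (a χ : ℂ) • (χ : G → ℂ)) :
    ∑ χ ∈ T, (a χ : ℂ) * (χ : G → ℂ) 1 = -1 ∧
      ∑ χ ∈ T, (a χ : ℂ) * (χ : G → ℂ) D.z = f D.z - 1 ∧
      ∑ χ ∈ T, (a χ : ℂ) * ((χ : G → ℂ) D.z * (χ : G → ℂ) D.z / (χ : G → ℂ) 1) = -1 := by
  classical
  have := Fintype.ofFinite (IrrCharacter G)
  have hev : ∀ g, ∑ χ ∈ T, (a χ : ℂ) * (χ : G → ℂ) g = f g - 1 := fun g => by
    have := congrFun hsum g
    simpa [Finset.sum_apply] using this.symm
  refine ⟨by rw [hev, h0 1 (twoPart_of_odd (by simp))]; ring, hev _, ?_⟩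
  have h := CfsgLib.BlockB.sum_classFun_mul_conj (θ := f - fun _ => (1 : ℂ))
    (fun g x => by simp [hf g x]) D.z D.z
  have hl : ∑ t : G, (f - fun _ : G => (1 : ℂ) : G → ℂ) (D.z * (t * D.z * t⁻¹)) = -(Nat.card G : ℂ) := by
    rw [Finset.sum_congr rfl (g := fun _ => (-1 : ℂ)) (fun t _ => by
      simp [h0 _ (twoPart_of_odd (isolated_odd_mul_conj D.isolated t))]), Finset.sum_const,
      Finset.card_univ, Nat.card_eq_fintype_card, nsmul_eq_mul, mul_neg_one]
  rw [hl] at h
  simp only [ha] at h
  rw [← Finset.sum_subset (Finset.subset_univ T) (fun χ _ hχ => by simp [hzero χ hχ])] at h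
  refine mul_left_cancel₀ (CfsgLib.Char.natCard_ne_zero (G := G)) ?_
  rw [mul_neg_one, h]
  congr 1
  exact Finset.sum_congr rfl fun χ _ => by ring

theorem exists_psiData : ∃ f : Fin 3 → D.PsiData, (∀ i j : Fin 3, (f i).ψ = (f j).ψ → i = j) ∧
    ∑ k : Fin 3, ((f k).δ : ℂ) * ((f k).ψ : Subgroup.centralizer ({D.z} : Set G) → ℂ) 1 = -1 := by
  classical
  have := Fintype.ofFinite (Subgroup.centralizer ({D.z} : Set G))
  set C := Subgroup.centralizer ({D.z} : Set G)
  set D' := D.toCentralizer
  set one : C → ℂ := fun _ => 1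
  have h11 : classInner one one = 1 := CfsgLib.Char.irr_classInner_self CfsgLib.Char.isIrrCharacter_one
  have h1θ : classInner one D'.theta = 1 := by
    rw [← CfsgLib.Char.classInner_conj_symm, D'.inner_theta_one, map_one]
  have hη : IsGeneralizedCharacter C (D'.theta - one) :=
    CfsgLib.Char.isGeneralized_sub D'.theta_isGeneralized
      (CfsgLib.Char.isGeneralized_of_isCharacter CfsgLib.Char.isCharacter_one)
  obtain ⟨T, a, hT, hsign, hzero, ha, hsum⟩ := exists_signed hη (n := 3) (by
    rw [CfsgLib.Char.classInner_sub_left, CfsgLib.Char.classInner_sub_right,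
      CfsgLib.Char.classInner_sub_right, D'.inner_theta_theta, D'.inner_theta_one, h1θ, h11]
    norm_num) le_rfl
  obtain ⟨hE, -, -⟩ := D'.equations D'.theta_class (fun g hg => D'.theta_of_ne (by
    rw [hg, orderOf_one]; norm_num)) hzero ha hsum
  have hne : ∀ χ ∈ T, (χ : C → ℂ) ≠ one := by
    intro χ hχ h
    have h0 := ha χ
    rw [h, CfsgLib.Char.classInner_sub_left, D'.inner_theta_one, h11, sub_self] at h0
    rcases hsign χ hχ with h' | h' <;> rw [h'] at h0 <;> norm_num at h0
  have hpsi : ∀ χ ∈ T, (∀ x, (χ : C → ℂ) (D'.z * x) = (χ : C → ℂ) x) ∧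
      ∀ x, orderOf (twoPart x) = 4 → (χ : C → ℂ) x = a χ := by
    intro χ hχ
    refine D'.exists_psi D.toCentralizer_central rfl χ (hsign χ hχ) ?_
    have h0 := ha χ
    rw [CfsgLib.Char.classInner_sub_left, show classInner one (χ : C → ℂ) = 0 from
      CfsgLib.Char.irr_classInner_ne CfsgLib.Char.isIrrCharacter_one χ.2 (Ne.symm (hne χ hχ)), sub_zero] at h0
    exact h0
  let e : Fin 3 ≃ T := (T.equivFinOfCardEq hT).symm
  refine ⟨fun k => ⟨(e k : IrrCharacter C), a (e k), hsign _ (e k).2, hne _ (e k).2,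
    (hpsi _ (e k).2).1, (hpsi _ (e k).2).2⟩, fun i j h => e.injective (Subtype.ext h), ?_⟩
  rw [← hE, ← Finset.sum_coe_sort T (fun χ => (a χ : ℂ) * (χ : C → ℂ) 1)]
  exact Equiv.sum_comp e (fun χ : T => (a (χ : IrrCharacter C) : ℂ) * ((χ : IrrCharacter C) : C → ℂ) 1)

/-- Some non-trivial irreducible character has `χ(z)² = χ(1)²`. -/
theorem exists_char_scalar : ∃ χ : IrrCharacter G, (χ : G → ℂ) ≠ (fun _ => 1) ∧
    (χ : G → ℂ) D.z * (χ : G → ℂ) D.z = (χ : G → ℂ) 1 * (χ : G → ℂ) 1 := by
  classical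
  set one : G → ℂ := fun _ => 1
  have h11 : classInner one one = 1 := CfsgLib.Char.irr_classInner_self CfsgLib.Char.isIrrCharacter_one
  have hgen1 : IsGeneralizedCharacter G one :=
    CfsgLib.Char.isGeneralized_of_isCharacter CfsgLib.Char.isCharacter_one
  have hne1 : ∀ {f : G → ℂ} {a : IrrCharacter G → ℤ}, classInner f one = 1 →
      (∀ χ : IrrCharacter G, classInner (f - one) (χ : G → ℂ) = a χ) →
      ∀ χ : IrrCharacter G, a χ ≠ 0 → (χ : G → ℂ) ≠ one := by
    intro f a hf ha χ hne h
    have h0 := ha χ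
    rw [h, CfsgLib.Char.classInner_sub_left, hf, h11, sub_self] at h0
    exact hne (Int.cast_eq_zero.1 h0.symm)
  have h1θ : classInner one D.theta = 1 := by
    rw [← CfsgLib.Char.classInner_conj_symm, D.inner_theta_one, map_one]
  have hθ0 : ∀ g, twoPart g = 1 → D.theta g = 0 := fun g hg =>
    D.theta_of_ne (by rw [hg, orderOf_one]; norm_num)
  have hθz : D.theta D.z = 0 := D.theta_of_ne (by
    rw [twoPart_self ⟨1, by rw [D.hz, pow_one]⟩, D.hz]; norm_num)
  obtain ⟨T, a, hT, hsign, hzero, ha, hsum⟩ := exists_signed (show IsGeneralizedCharacter G (D.theta - one) from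
    CfsgLib.Char.isGeneralized_sub D.theta_isGeneralized hgen1) (n := 3) (by
    rw [CfsgLib.Char.classInner_sub_left, CfsgLib.Char.classInner_sub_right,
      CfsgLib.Char.classInner_sub_right, D.inner_theta_theta, D.inner_theta_one, h1θ, h11]
    norm_num) le_rfl
  obtain ⟨hE1, hE2, hE3⟩ := D.equations D.theta_class hθ0 hzero ha hsum
  rw [hθz] at hE2
  -- degrees and values as integers
  choose d hdpos hd using fun χ : IrrCharacter G => CfsgLib.Char.irr_apply_one_pos χ.2
  choose y hy using fun χ : IrrCharacter G => invol_value χ D.hz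
  have toInt : ∀ {T' : Finset (IrrCharacter G)} {a' : IrrCharacter G → ℤ} {A : ℤ},
      ∑ χ ∈ T', (a' χ : ℂ) * (χ : G → ℂ) 1 = -1 →
      ∑ χ ∈ T', (a' χ : ℂ) * (χ : G → ℂ) D.z = (A : ℂ) →
      ∑ χ ∈ T', (a' χ : ℂ) * ((χ : G → ℂ) D.z * (χ : G → ℂ) D.z / (χ : G → ℂ) 1) = -1 →
      ∑ χ ∈ T', a' χ * (d χ : ℤ) = -1 ∧ ∑ χ ∈ T', a' χ * y χ = A ∧
        ∑ χ ∈ T', (a' χ : ℝ) * ((y χ : ℝ) * y χ / (d χ : ℝ)) = -1 := by
    intro T' a' A h1 h2 h3
    simp only [hd, hy] at h1 h2 h3
    refine ⟨by exact_mod_cast h1, by exact_mod_cast h2, Complex.ofReal_injective ?_⟩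
    push_cast
    exact h3
  obtain ⟨f1, f2, f3⟩ := toInt (A := -1) hE1 (by rw [hE2]; norm_num) hE3
  -- conclusion from a value
  have done : ∀ χ : IrrCharacter G, (χ : G → ℂ) ≠ one → (y χ = d χ ∨ y χ = -(d χ : ℤ)) →
      ∃ χ : IrrCharacter G, (χ : G → ℂ) ≠ (fun _ => 1) ∧
        (χ : G → ℂ) D.z * (χ : G → ℂ) D.z = (χ : G → ℂ) 1 * (χ : G → ℂ) 1 := by
    intro χ hχ h
    refine ⟨χ, hχ, ?_⟩
    rcases h with h | h <;> simp [hy, hd, h]
  obtain ⟨p, q, r, hpq, hpr, hqr, rfl⟩ := Finset.card_eq_three.1 hT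
  have hmemp : p ∈ ({p, q, r} : Finset (IrrCharacter G)) := by simp
  have hmemq : q ∈ ({p, q, r} : Finset (IrrCharacter G)) := by simp
  have hmemr : r ∈ ({p, q, r} : Finset (IrrCharacter G)) := by simp
  have hTne : ∀ χ ∈ ({p, q, r} : Finset (IrrCharacter G)), (χ : G → ℂ) ≠ one := fun χ hχ =>
    hne1 D.inner_theta_one ha χ (by rcases hsign χ hχ with h | h <;> omega)
  rw [Finset.sum_insert (by simp [hpq, hpr]), Finset.sum_pair hqr] at f1 f2 f3
  -- one negative sign: equality in the Cauchy inequality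
  have one_neg : ∀ u v w : IrrCharacter G, (u : G → ℂ) ≠ one →
      (d u : ℤ) + d v + 1 = d w → y u + y v + 1 = y w →
      (y u : ℝ) * y u / (d u : ℝ) + (y v : ℝ) * y v / (d v : ℝ) + 1 = (y w : ℝ) * y w / (d w : ℝ) →
      ∃ χ : IrrCharacter G, (χ : G → ℂ) ≠ (fun _ => 1) ∧
        (χ : G → ℂ) D.z * (χ : G → ℂ) D.z = (χ : G → ℂ) 1 * (χ : G → ℂ) 1 := by
    intro u v w hu h1 h2 h3
    have := sq_sum_eq (a := 1) (b := (d u : ℤ)) (c := (d v : ℤ)) (ya := 1) (yb := y u) (yc := y v)
      one_pos (by exact_mod_cast hdpos u) (by exact_mod_cast hdpos v) (d := (d w : ℤ)) (y := y w)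
      (by omega) (by omega) (by push_cast; linear_combination -h3)
    exact done u hu (Or.inl (by omega))
  have two_neg : ∀ u v w : IrrCharacter G, u ≠ v → u ≠ w → v ≠ w →
      ({p, q, r} : Finset (IrrCharacter G)) = {u, v, w} → a u = 1 → a v = -1 → a w = -1 →
      ∃ χ : IrrCharacter G, (χ : G → ℂ) ≠ (fun _ => 1) ∧
        (χ : G → ℂ) D.z * (χ : G → ℂ) D.z = (χ : G → ℂ) 1 * (χ : G → ℂ) 1 := by
    intro u v w huv huw hvw hTe hau hav haw
    rw [hTe] at hsign hzero hsum
    obtain ⟨P, hPinj, hPsum⟩ := D.exists_psiData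
    have key : ∀ k : Fin 3, ∃ s ∈ ({u, v, w} : Finset (IrrCharacter G)), ∃ o : IrrCharacter G,
        (o : G → ℂ) ≠ one ∧ o ≠ s ∧ o ∉ ({u, v, w} : Finset (IrrCharacter G)) ∧
        (∀ χ : IrrCharacter G, classInner (D.alpha (P k) - one) (χ : G → ℂ) =
          ((if χ = s then a s else if χ = o then -a s else 0 : ℤ) : ℂ)) ∧
        a s * (d s : ℤ) - a s * d o = -1 ∧
        ((a s * y s - a s * y o : ℤ) : ℂ) = D.alpha (P k) D.z - 1 ∧
        (a s : ℝ) * ((y s : ℝ) * y s / (d s : ℝ)) - (a s : ℝ) * ((y o : ℝ) * y o / (d o : ℝ)) = -1 := by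
      intro k
      have h1α : classInner one (D.alpha (P k)) = 1 := by
        rw [← CfsgLib.Char.classInner_conj_symm, D.inner_alpha_one, map_one]
      obtain ⟨T', c, hT', hsign', hzero', hc, hsum'⟩ :=
        exists_signed (CfsgLib.Char.isGeneralized_sub (D.alpha_isGeneralized (P k)) hgen1) (n := 2) (by
          rw [CfsgLib.Char.classInner_sub_left, CfsgLib.Char.classInner_sub_right,
            CfsgLib.Char.classInner_sub_right, D.inner_alpha_alpha, D.inner_alpha_one, h1α, h11,
            if_pos rfl, D.delta_sq]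
          norm_num) (by norm_num)
      obtain ⟨e1, e2, e3⟩ := D.equations (D.alpha_class (P k)) (fun g hg => D.alpha_one (P k) hg)
        hzero' hc hsum'
      obtain ⟨s, o, hso, rfl⟩ := Finset.card_eq_two.1 hT'
      -- one of the two is shared with `θ - 1`
      have hin : classInner (D.alpha (P k) - one) (D.theta - one) = 1 := by
        rw [CfsgLib.Char.classInner_sub_left, CfsgLib.Char.classInner_sub_right,
          CfsgLib.Char.classInner_sub_right, D.inner_alpha_theta, D.inner_alpha_one, h1θ, h11]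
        norm_num
      have hexp := classInner_signed {s, o} c (D.theta - one) a ha
      rw [← hsum', hin, Finset.sum_pair hso] at hexp
      have hI : c s * a s + c o * a o = 1 := by exact_mod_cast hexp.symm
      have hcs := hsign' s (by simp)
      have hco := hsign' o (by simp)
      have hab : ∀ χ : IrrCharacter G, a χ = 1 ∨ a χ = -1 ∨ a χ = 0 := fun χ => by
        by_cases h : χ ∈ ({u, v, w} : Finset (IrrCharacter G))
        · rcases hsign χ h with h' | h' <;> simp [h']
        · simp [hzero χ h]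
      rw [Finset.sum_pair hso] at e1 e2 e3
      have main : ∀ s o : IrrCharacter G, s ≠ o → (c s = 1 ∨ c s = -1) → (c o = 1 ∨ c o = -1) →
          c s * a s = 1 → c o * a o = 0 → (∀ χ, χ ≠ s → χ ≠ o → c χ = 0) →
          (c s : ℂ) * (s : G → ℂ) 1 + (c o : ℂ) * (o : G → ℂ) 1 = -1 →
          (c s : ℂ) * (s : G → ℂ) D.z + (c o : ℂ) * (o : G → ℂ) D.z = D.alpha (P k) D.z - 1 →
          (c s : ℂ) * ((s : G → ℂ) D.z * (s : G → ℂ) D.z / (s : G → ℂ) 1) +
            (c o : ℂ) * ((o : G → ℂ) D.z * (o : G → ℂ) D.z / (o : G → ℂ) 1) = -1 →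
          ∃ s ∈ ({u, v, w} : Finset (IrrCharacter G)), ∃ o : IrrCharacter G,
            (o : G → ℂ) ≠ one ∧ o ≠ s ∧ o ∉ ({u, v, w} : Finset (IrrCharacter G)) ∧
            (∀ χ : IrrCharacter G, classInner (D.alpha (P k) - one) (χ : G → ℂ) =
              ((if χ = s then a s else if χ = o then -a s else 0 : ℤ) : ℂ)) ∧
            a s * (d s : ℤ) - a s * d o = -1 ∧
            ((a s * y s - a s * y o : ℤ) : ℂ) = D.alpha (P k) D.z - 1 ∧
            (a s : ℝ) * ((y s : ℝ) * y s / (d s : ℝ)) - (a s : ℝ) * ((y o : ℝ) * y o / (d o : ℝ)) = -1 := by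
        intro s o hso hcs hco hs ho hother e1 e2 e3
        have hds : (1 : ℤ) ≤ d s := by exact_mod_cast hdpos s
        have hdo : (1 : ℤ) ≤ d o := by exact_mod_cast hdpos o
        simp only [hd, hy] at e1 e2 e3
        have e1' : c s * (d s : ℤ) + c o * d o = -1 := by exact_mod_cast e1
        have hs' : a s = c s := by
          rcases hcs with h | h <;> rw [h] at hs <;> omega
        have ho' : c o = -a s := by
          rw [hs']
          rcases hcs with h | h <;> rcases hco with h' | h' <;> rw [h, h'] at e1' ⊢ <;> omega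
        have hsT : s ∈ ({u, v, w} : Finset (IrrCharacter G)) := by
          by_contra h; rw [hzero s h, mul_zero] at hs; omega
        have hoT : o ∉ ({u, v, w} : Finset (IrrCharacter G)) := by
          intro h
          rcases hsign o h with h' | h' <;> rcases hco with h'' | h'' <;> rw [h', h''] at ho <;> omega
        refine ⟨s, hsT, o, hne1 (D.inner_alpha_one (P k)) hc o (by rcases hco with h | h <;> omega),
          Ne.symm hso, hoT, fun χ => ?_, ?_, ?_, ?_⟩
        · rw [hc χ]
          congr 1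
          by_cases h1 : χ = s
          · rw [if_pos h1, h1, hs']
          rw [if_neg h1]
          by_cases h2 : χ = o
          · rw [if_pos h2, h2, ho']
          rw [if_neg h2, hother χ h1 h2]
        · rw [hs'] at ho'; rw [hs']; rw [ho'] at e1'; linarith
        · rw [← e2, hs', ho', hs']; push_cast; ring
        · refine Complex.ofReal_injective ?_
          push_cast
          rw [← e3, hs', ho', hs']
          push_cast; ring
      have hcase : (c s * a s = 1 ∧ c o * a o = 0) ∨ (c o * a o = 1 ∧ c s * a s = 0) := by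
        rcases hcs with h'' | h'' <;> rcases hco with h3 | h3 <;> rw [h'', h3] at hI ⊢ <;>
          rcases hab s with h | h | h <;> rcases hab o with h' | h' | h' <;>
          rw [h, h'] at hI ⊢ <;> omega
      rcases hcase with ⟨h1, h2⟩ | ⟨h1, h2⟩
      · exact main s o hso hcs hco h1 h2 (fun χ k1 k2 => hzero' χ (by simp [k1, k2])) e1 e2 e3
      · exact main o s (Ne.symm hso) hco hcs h1 h2 (fun χ k1 k2 => hzero' χ (by simp [k1, k2]))
          (by linear_combination e1) (by linear_combination e2) (by linear_combination e3)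
    choose s hs o ho hos hoT hA k1 k2 k3 using key
    -- the map `k ↦ s k` is injective
    have hinj : Function.Injective s := by
      intro i j hij
      by_contra hne
      have hψ : (P i).ψ ≠ (P j).ψ := fun h => hne (hPinj _ _ h)
      have h1α : ∀ k, classInner one (D.alpha (P k)) = 1 := fun k => by
        rw [← CfsgLib.Char.classInner_conj_symm, D.inner_alpha_one, map_one]
      have hin : classInner (D.alpha (P i) - one) (D.alpha (P j) - one) = 0 := by
        rw [CfsgLib.Char.classInner_sub_left, CfsgLib.Char.classInner_sub_right,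
          CfsgLib.Char.classInner_sub_right, D.inner_alpha_alpha, D.inner_alpha_one, h1α, h11,
          if_neg hψ]
        norm_num
      have := Fintype.ofFinite (IrrCharacter G)
      rw [CfsgLib.Char.classInner_eq_sum_mul (CfsgLib.Char.isGeneralized_isClassFunction
        (CfsgLib.Char.isGeneralized_sub (D.alpha_isGeneralized (P i)) hgen1))] at hin
      simp only [hA, map_intCast] at hin
      norm_cast at hin
      have hle : 1 ≤ ∑ χ : IrrCharacter G, (if χ = s i then a (s i) else if χ = o i then -a (s i) else 0) *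
          (if χ = s j then a (s j) else if χ = o j then -a (s j) else 0) := by
        refine le_trans ?_ (Finset.single_le_sum (f := fun χ =>
          (if χ = s i then a (s i) else if χ = o i then -a (s i) else 0) *
          (if χ = s j then a (s j) else if χ = o j then -a (s j) else 0)) (fun χ _ => ?_)
          (Finset.mem_univ (s i)))
        · rw [if_pos rfl, if_pos hij, ← hij]
          rcases hsign _ (hs i) with h | h <;> rw [h] <;> norm_num
        · rw [← hij]
          split_ifs <;> nlinarith [mul_self_nonneg (a (s i))]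
      omega
    have hsum3 : ∀ {M : Type} [AddCommMonoid M] (F : IrrCharacter G → M),
        F (s 0) + F (s 1) + F (s 2) = F u + F v + F w := by
      intro M _ F
      have himg : Finset.univ.image s = ({u, v, w} : Finset (IrrCharacter G)) := by
        refine Finset.eq_of_subset_of_card_le (fun x hx => ?_) ?_
        · obtain ⟨k, -, rfl⟩ := Finset.mem_image.1 hx; exact hs k
        · rw [Finset.card_image_of_injective _ hinj, Finset.card_univ, Fintype.card_fin]
          exact Finset.card_le_three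
      have h := Finset.sum_image (f := F) (s := Finset.univ) (g := s) hinj.injOn
      rw [himg, Finset.sum_insert (by simp [huv, huw]), Finset.sum_pair hvw, Fin.sum_univ_three] at h
      rw [← h]; abel
    have hαz : ∀ k, D.alpha (P k) D.z =
        2 + 2 * ((P k).δ : ℂ) * ((P k).ψ : Subgroup.centralizer ({D.z} : Set G) → ℂ) 1 := by
      intro k
      have h := D.alpha_fiber (P k) (x := D.toCentralizer.z)
        (twoPart_self ⟨1, by rw [D.toCentralizer.hz, pow_one]⟩)
      rw [D.toCentralizer_z] at h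
      have hz1 := (P k).hz 1
      rw [mul_one] at hz1
      rw [h, hz1]; ring
    rw [Fin.sum_univ_three] at hPsum
    have K2 : (a (s 0) * y (s 0) - a (s 0) * y (o 0)) + (a (s 1) * y (s 1) - a (s 1) * y (o 1)) +
        (a (s 2) * y (s 2) - a (s 2) * y (o 2)) = 1 := by
      have h0 := k2 0
      have h1 := k2 1
      have h2 := k2 2
      rw [hαz] at h0 h1 h2
      have : (((a (s 0) * y (s 0) - a (s 0) * y (o 0)) + (a (s 1) * y (s 1) - a (s 1) * y (o 1)) +
        (a (s 2) * y (s 2) - a (s 2) * y (o 2)) : ℤ) : ℂ) = ((1 : ℤ) : ℂ) := by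
        push_cast at h0 h1 h2 ⊢
        linear_combination h0 + h1 + h2 + 2 * hPsum
      exact_mod_cast this
    -- `θ - 1` on the same three characters
    have g1 := hsum3 (fun χ => a χ * (d χ : ℤ))
    have g2 := hsum3 (fun χ => a χ * y χ)
    have g3 := hsum3 (fun χ => (a χ : ℝ) * ((y χ : ℝ) * y χ / (d χ : ℝ)))
    have e1 : a u * (d u : ℤ) + a v * d v + a w * d w = -1 := by
      have := hE1
      rw [hTe, Finset.sum_insert (by simp [huv, huw]), Finset.sum_pair hvw] at this
      simp only [hd] at this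
      exact_mod_cast (by linear_combination this :
        (a u : ℂ) * (d u : ℂ) + (a v : ℂ) * (d v : ℂ) + (a w : ℂ) * (d w : ℂ) = -1)
    have e2 : a u * y u + a v * y v + a w * y w = -1 := by
      have := hE2
      rw [hTe, Finset.sum_insert (by simp [huv, huw]), Finset.sum_pair hvw] at this
      simp only [hy] at this
      exact_mod_cast (by linear_combination this :
        (a u : ℂ) * (y u : ℂ) + (a v : ℂ) * (y v : ℂ) + (a w : ℂ) * (y w : ℂ) = -1)
    have e3 : (a u : ℝ) * ((y u : ℝ) * y u / (d u : ℝ)) + (a v : ℝ) * ((y v : ℝ) * y v / (d v : ℝ)) +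
        (a w : ℝ) * ((y w : ℝ) * y w / (d w : ℝ)) = -1 := by
      have := hE3
      rw [hTe, Finset.sum_insert (by simp [huv, huw]), Finset.sum_pair hvw] at this
      simp only [hd, hy] at this
      refine Complex.ofReal_injective ?_
      push_cast
      linear_combination this
    have S1 : a (s 0) * (d (o 0) : ℤ) + a (s 1) * d (o 1) + a (s 2) * d (o 2) = 2 := by
      linarith [k1 0, k1 1, k1 2]
    have S2 : a (s 0) * y (o 0) + a (s 1) * y (o 1) + a (s 2) * y (o 2) = -2 := by
      linarith
    have S3 : (a (s 0) : ℝ) * ((y (o 0) : ℝ) * y (o 0) / (d (o 0) : ℝ)) +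
        (a (s 1) : ℝ) * ((y (o 1) : ℝ) * y (o 1) / (d (o 1) : ℝ)) +
        (a (s 2) : ℝ) * ((y (o 2) : ℝ) * y (o 2) / (d (o 2) : ℝ)) = 2 := by
      linarith [k3 0, k3 1, k3 2]
    have fin : ∀ A B C : Fin 3, a (s A) = 1 → a (s B) = -1 → a (s C) = -1 →
        a (s A) * (d (o A) : ℤ) + a (s B) * d (o B) + a (s C) * d (o C) = 2 →
        a (s A) * y (o A) + a (s B) * y (o B) + a (s C) * y (o C) = -2 →
        (a (s A) : ℝ) * ((y (o A) : ℝ) * y (o A) / (d (o A) : ℝ)) +
        (a (s B) : ℝ) * ((y (o B) : ℝ) * y (o B) / (d (o B) : ℝ)) +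
        (a (s C) : ℝ) * ((y (o C) : ℝ) * y (o C) / (d (o C) : ℝ)) = 2 →
        ∃ χ : IrrCharacter G, (χ : G → ℂ) ≠ (fun _ => 1) ∧
          (χ : G → ℂ) D.z * (χ : G → ℂ) D.z = (χ : G → ℂ) 1 * (χ : G → ℂ) 1 := by
      intro A B C hA hB hC h1 h2 h3
      rw [hA, hB, hC] at h1 h2 h3
      push_cast at h3
      have := sq_sum_eq (a := 2) (b := (d (o B) : ℤ)) (c := (d (o C) : ℤ)) (ya := -2) (yb := y (o B))
        (yc := y (o C)) two_pos (by exact_mod_cast hdpos _) (by exact_mod_cast hdpos _)
        (d := (d (o A) : ℤ)) (y := y (o A)) (by omega) (by omega) (by push_cast; linear_combination h3)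
      exact done (o B) (ho B) (Or.inr (by omega))
    -- which of the three is `u`
    obtain ⟨k, -, hk⟩ := Finset.mem_image.1 (show u ∈ Finset.univ.image s by
      have : Finset.univ.image s = ({u, v, w} : Finset (IrrCharacter G)) := by
        refine Finset.eq_of_subset_of_card_le (fun x hx => ?_) ?_
        · obtain ⟨k, -, rfl⟩ := Finset.mem_image.1 hx; exact hs k
        · rw [Finset.card_image_of_injective _ hinj, Finset.card_univ, Fintype.card_fin]
          exact Finset.card_le_three
      rw [this]; simp)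
    have hother : ∀ l, l ≠ k → a (s l) = -1 := by
      intro l hl
      have : s l = v ∨ s l = w := by
        have := hs l
        simp only [Finset.mem_insert, Finset.mem_singleton] at this
        exact this.resolve_left fun h => hl (hinj (h.trans hk.symm))
      rcases this with h | h <;> rw [h] <;> assumption
    have hku : a (s k) = 1 := hk ▸ hau
    fin_cases k
    · exact fin 0 1 2 hku (hother 1 (by decide)) (hother 2 (by decide)) S1 S2 S3
    · exact fin 1 0 2 hku (hother 0 (by decide)) (hother 2 (by decide)) (by linarith) (by linarith)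
        (by linarith)
    · exact fin 2 0 1 hku (hother 0 (by decide)) (hother 1 (by decide)) (by linarith) (by linarith)
        (by linarith)
  have hp1 : (1 : ℤ) ≤ d p := by exact_mod_cast hdpos p
  have hq1 : (1 : ℤ) ≤ d q := by exact_mod_cast hdpos q
  have hr1 : (1 : ℤ) ≤ d r := by exact_mod_cast hdpos r
  rcases hsign p hmemp with hp | hp <;> rcases hsign q hmemq with hq | hq <;>
    rcases hsign r hmemr with hr | hr <;> rw [hp, hq, hr] at f1 f2 f3 <;> push_cast at f3
  · omega
  · exact one_neg p q r (hTne p hmemp) (by omega) (by omega) (by linarith)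
  · exact one_neg p r q (hTne p hmemp) (by omega) (by omega) (by linarith)
  · exact two_neg p q r hpq hpr hqr rfl hp hq hr
  · exact one_neg q r p (hTne q hmemq) (by omega) (by omega) (by linarith)
  · exact two_neg q p r (Ne.symm hpq) hqr hpr (by ext; simp [or_left_comm]) hq hp hr
  · exact two_neg r p q (Ne.symm hpr) (Ne.symm hqr) hpq (by ext; simp [or_comm, or_left_comm]) hr hp hq
  · omega

end Q8Data

end CfsgLib.Invol
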