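import Cfsg.Agent.Lib.Coprime.MaxClassUniform
import Cfsg.Agent.Lib.Transfer.MaxClass

/-!
# Sectional rank of groups of maximal class, and pearls

Every subgroup of a `p`-group of maximal class needs at most `p` generators; a self-centralizing
nonabelian subgroup of order `p ^ 3` forces maximal class.
-/

set_option autoImplicit false
set_option linter.style.haveILetI false

namespace CfsgLib.Invol.MaxClassRank

open Subgroup CfsgLib.Coprime.MaxClassUniform
open scoped commutatorElement

universe u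

variable {p : ℕ} [hp : Fact p.Prime]

section Small

variable {P : Type*} [Group P] [Finite P]

/-- A subgroup of a group of order at most `p ^ 2` has at most two generators. -/
theorem exists_gen_small (hP : IsPGroup p P) (H : Subgroup P) (hH : Nat.card H ≤ p ^ 2) :
    ∃ T : Finset P, T.card ≤ 2 ∧ closure (T : Set P) = H := by
  classical
  rcases H.bot_or_exists_ne_one with rfl | ⟨x, hx, hx1⟩
  · exact ⟨∅, by simp, by simp⟩
  by_cases hc : H ≤ zpowers x
  · refine ⟨{x}, by simp, ?_⟩
    rw [Finset.coe_singleton, ← zpowers_eq_closure]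
    exact le_antisymm (zpowers_le.2 hx) hc
  obtain ⟨y, hy, hy'⟩ := SetLike.not_le_iff_exists.1 hc
  refine ⟨{x, y}, Finset.card_le_two, ?_⟩
  have hle : closure (({x, y} : Finset P) : Set P) ≤ H := by
    rw [closure_le]
    intro z hz
    simp only [Finset.coe_insert, Finset.coe_singleton, Set.mem_insert_iff,
      Set.mem_singleton_iff] at hz
    rcases hz with rfl | rfl
    · exact hx
    · exact hy
  refine eq_of_le_of_card_ge hle (hH.trans ?_)
  set C := closure (({x, y} : Finset P) : Set P)
  have hxC : zpowers x < C := by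
    refine lt_of_le_not_ge (zpowers_le.2 (subset_closure (by simp))) fun h => hy' (h ?_)
    exact subset_closure (by simp)
  obtain ⟨a, ha⟩ := (hP.to_subgroup (zpowers x)).exists_card_eq
  obtain ⟨b, hb⟩ := (hP.to_subgroup C).exists_card_eq
  have hlt : Nat.card (zpowers x) < Nat.card C :=
    lt_of_le_of_ne (card_le_of_le hxC.le) fun e => hxC.ne (eq_of_le_of_card_ge hxC.le e.ge)
  have ha0 : a ≠ 0 := by
    rintro rfl
    rw [pow_zero, Subgroup.card_eq_one] at ha
    exact hx1 (mem_bot.1 (ha.le (mem_zpowers x)))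
  rw [ha, hb, Nat.pow_lt_pow_iff_right hp.out.one_lt] at hlt
  rw [hb]
  exact Nat.pow_le_pow_right hp.out.pos (by omega)

end Small

section MC

variable {n : ℕ} {P : Type u} [Group P] [Finite P]

/-- Iterated `p`-th powers move the lower central series by steps of `p - 1`. -/
theorem pow_iter (h : IsMC p n P) {s : P} (hs : IsGood n s) (k : ℕ) :
    ∀ {i : ℕ} {u : P}, 1 ≤ i → u ∈ LC P i → u ∉ LC P (i + 1) → i + k * (p - 1) + 2 ≤ n →
      u ^ p ^ k ∈ LC P (i + k * (p - 1)) ∧ u ^ p ^ k ∉ LC P (i + k * (p - 1) + 1) := by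
  induction k with
  | zero =>
    intro i u _ hu hu' _
    simpa using ⟨hu, hu'⟩
  | succ k ih =>
    intro i u h1 hu hu' hn
    rw [Nat.succ_mul] at hn ⊢
    have hp2 := hp.out.two_le
    obtain ⟨h2, h3⟩ := ih h1 hu hu' (by omega)
    rw [pow_succ, pow_mul]
    refine ⟨?_, ?_⟩
    · have h4 := hs.pow_mem h n _ (by omega) (by omega) _ h2
      rwa [show i + (k * (p - 1) + (p - 1)) = i + k * (p - 1) + p - 1 by omega]
    · have h4 := hs.pow_not_mem h (by omega) h2 h3 (by omega)
      rwa [show i + (k * (p - 1) + (p - 1)) + 1 = i + k * (p - 1) + p by omega]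

/-- A subgroup of the derived subgroup of a group of maximal class has at most `p - 1` generators. -/
theorem exists_gen_le_LC_one (h : IsMC p n P) (H : Subgroup P) (hH : H ≤ LC P 1) :
    ∃ T : Finset P, T.card ≤ p - 1 ∧ closure (T : Set P) = H := by
  classical
  obtain ⟨s, _, hs, -, -⟩ := h.exists_two_good
  have hp2 := hp.out.two_le
  let J : ℕ → ℕ → Prop := fun r i =>
    1 ≤ i ∧ i % (p - 1) = r ∧ ∃ u ∈ H, u ∈ LC P i ∧ u ∉ LC P (i + 1)
  let f : ℕ → P := fun r => if hr : ∃ i, J r i then (Nat.find_spec hr).2.2.choose else 1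
  have hf : ∀ r, f r ∈ H := by
    intro r
    by_cases hr : ∃ i, J r i
    · simp only [f, dif_pos hr]
      exact (Nat.find_spec hr).2.2.choose_spec.1
    · simp only [f, dif_neg hr]
      exact one_mem H
  refine ⟨(Finset.range (p - 1)).image f, Finset.card_image_le.trans (by simp), ?_⟩
  set C := closure (((Finset.range (p - 1)).image f : Finset P) : Set P)
  have hCH : C ≤ H := by
    rw [closure_le]
    intro z hz
    simp only [Finset.coe_image, Set.mem_image] at hz
    obtain ⟨r, -, rfl⟩ := hz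
    exact hf r
  refine le_antisymm hCH ?_
  have key : ∀ d i, 1 ≤ i → n - i ≤ d → ∀ v ∈ H, v ∈ LC P i → v ∈ C := by
    intro d
    induction d with
    | zero =>
      intro i h1 hi v _ hv
      rw [h.LC_eq_bot (show n - 1 ≤ i by omega), mem_bot] at hv
      rw [hv]
      exact one_mem C
    | succ d ih =>
      intro i h1 hi v hvH hv
      by_cases hv' : v ∈ LC P (i + 1)
      · exact ih (i + 1) (by omega) (by omega) v hvH hv'
      have hin : i + 2 ≤ n := by
        by_contra hc
        rw [h.LC_eq_bot (show n - 1 ≤ i by omega), mem_bot] at hv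
        exact hv' (hv ▸ one_mem _)
      have hr : ∃ j, J (i % (p - 1)) j := ⟨i, h1, rfl, v, hvH, hv, hv'⟩
      obtain ⟨hj1, hjr, hju⟩ := Nat.find_spec hr
      have hji : Nat.find hr ≤ i := Nat.find_min' hr ⟨h1, rfl, v, hvH, hv, hv'⟩
      have hfC : f (i % (p - 1)) ∈ C :=
        subset_closure (Finset.mem_coe.2 (Finset.mem_image_of_mem f
          (Finset.mem_range.2 (Nat.mod_lt _ (by omega)))))
      have hfe : f (i % (p - 1)) = (Nat.find_spec hr).2.2.choose := dif_pos hr
      obtain ⟨hu, hu'⟩ := (Nat.find_spec hr).2.2.choose_spec.2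
      rw [← hfe] at hu hu'
      obtain ⟨k, hk⟩ : p - 1 ∣ i - Nat.find hr := (Nat.modEq_iff_dvd' hji).1 hjr
      have hik : Nat.find hr + k * (p - 1) = i := by rw [mul_comm, ← hk]; omega
      obtain ⟨h2, h3⟩ := pow_iter h hs k hj1 hu hu' (by omega)
      rw [hik] at h2 h3
      set w := f (i % (p - 1)) ^ p ^ k
      have hwC : w ∈ C := pow_mem hfC _
      obtain ⟨a, ha, b, hb, rfl⟩ := mem_sup_of_normal_right.1 (h.LC_gen h1 h2 h3 hv)
      have haC : a ∈ C := zpowers_le.2 hwC ha
      refine mul_mem haC (ih (i + 1) (by omega) (by omega) b ?_ hb)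
      have h5 := mul_mem (inv_mem (hCH haC)) hvH
      rwa [inv_mul_cancel_left] at h5
  exact fun v hv => key n 1 le_rfl (by omega) v hv (hH hv)

/-- A subgroup of a group of maximal class has at most `p` generators. -/
theorem exists_gen_le (h : IsMC p n P) (H : Subgroup P) :
    ∃ T : Finset P, T.card ≤ p ∧ closure (T : Set P) = H := by
  classical
  have hp2 := hp.out.two_le
  by_cases hH : H ≤ LC P 1
  · obtain ⟨T, hT, hT'⟩ := exists_gen_le_LC_one h H hH
    exact ⟨T, by omega, hT'⟩
  obtain ⟨x, hxH, hx⟩ := SetLike.not_le_iff_exists.1 hH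
  by_cases hH2 : H ≤ zpowers x ⊔ LC P 1
  · obtain ⟨T, hT, hT'⟩ := exists_gen_le_LC_one h (H ⊓ LC P 1) inf_le_right
    refine ⟨insert x T, (Finset.card_insert_le x T).trans (by omega), ?_⟩
    rw [Finset.coe_insert, Set.insert_eq, Subgroup.closure_union, hT', ← zpowers_eq_closure]
    refine le_antisymm (sup_le (zpowers_le.2 hxH) inf_le_left) fun v hv => ?_
    obtain ⟨a, ha, b, hb, rfl⟩ := mem_sup_of_normal_right.1 (hH2 hv)
    refine mul_mem (mem_sup_left ha) (mem_sup_right (mem_inf.2 ⟨?_, hb⟩))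
    have h5 := mul_mem (inv_mem (zpowers_le.2 hxH ha)) hv
    rwa [inv_mul_cancel_left] at h5
  obtain ⟨y, hyH, hy⟩ := SetLike.not_le_iff_exists.1 hH2
  refine ⟨{x, y}, Finset.card_le_two.trans hp2, ?_⟩
  have h1 : closure (({x, y} : Finset P) : Set P) = ⊤ :=
    h.eq_top_of_gen' hx hy (subset_closure (by simp)) (subset_closure (by simp))
  rw [h1]
  exact (h.eq_top_of_gen' hx hy hxH hyH).symm

end MC

section Pearl

variable {n : ℕ} {X : Type u} [Group X] [Finite X]

/-- A self-centralizing nonabelian subgroup of order `p ^ 3` forces maximal class. -/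
theorem maxClass_of_cube (hX : Nat.card X = p ^ n) (A : Subgroup X) (hA : Nat.card A = p ^ 3)
    (hnc : ¬ IsMulCommutative A) (hC : centralizer (A : Set X) ≤ A) :
    Group.nilpotencyClass X = n - 1 := by
  have hXp : IsPGroup p X := IsPGroup.of_card hX
  haveI := hXp.isNilpotent
  have hp2 := hp.out.two_le
  have hn3 : 3 ≤ n := by
    have := card_le_card_group A
    rw [hA, hX] at this
    exact (Nat.pow_le_pow_iff_right hp.out.one_lt).1 this
  haveI := CfsgLib.Transfer.nontrivial_of_card_pow hp.out.one_lt (show 1 ≤ n by omega) hX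
  obtain ⟨u, hu, v, hv, huv⟩ : ∃ u ∈ A, ∃ v ∈ A, u * v ≠ v * u := by
    by_contra hc
    push Not at hc
    exact hnc ⟨⟨fun a b => Subtype.ext (hc a a.2 b b.2)⟩⟩
  -- small subgroups of `A` are abelian
  have hsmall : ∀ B : Subgroup X, B ≤ A → u ∈ B → v ∈ B → B = A := by
    intro B hB huB hvB
    refine eq_of_le_of_card_ge hB ?_
    obtain ⟨b, hb⟩ := (hXp.to_subgroup B).exists_card_eq
    rw [hA, hb]
    refine Nat.pow_le_pow_right hp.out.pos ?_
    by_contra hb3
    have hab : IsMulCommutative B := by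
      rcases (show b = 0 ∨ b = 1 ∨ b = 2 by omega) with rfl | rfl | rfl
      · haveI := (Nat.card_eq_one_iff_unique.1 (hb.trans (pow_zero p))).1
        exact ⟨⟨fun a b => Subsingleton.elim _ _⟩⟩
      · haveI := isCyclic_of_prime_card (hb.trans (pow_one p))
        exact ⟨⟨fun a b => (IsCyclic.commGroup (α := B)).mul_comm a b⟩⟩
      · exact IsPGroup.isMulCommutative_of_card_eq_prime_sq hb
    exact huv (congrArg Subtype.val (hab.is_comm.comm ⟨u, huB⟩ ⟨v, hvB⟩))
  have hgen : closure ({u, v} : Set X) = A :=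
    hsmall _ ((closure_le A).2 (Set.insert_subset hu (Set.singleton_subset_iff.2 hv)))
      (subset_closure (by simp)) (subset_closure (by simp))
  set D := centralizer (A : Set X)
  have hDcard : Nat.card D ≤ p := by
    obtain ⟨d, hd⟩ := (hXp.to_subgroup D).exists_card_eq
    rw [hd]
    refine (Nat.pow_le_pow_right hp.out.pos (show d ≤ 1 from ?_)).trans_eq (pow_one p)
    by_contra hd2
    have huD : u ∉ D := fun h => huv (mem_centralizer_iff.1 h v hv).symm
    set B := closure (insert u (D : Set X))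
    have hBA : B ≤ A := (closure_le A).2 (Set.insert_subset hu fun a ha => hC ha)
    have hlt : Nat.card D < Nat.card B := by
      have hle : D ≤ B := fun a ha => subset_closure (Set.mem_insert_of_mem u ha)
      refine lt_of_le_of_ne (card_le_of_le hle) fun e => huD ?_
      exact (eq_of_le_of_card_ge hle e.ge).ge (subset_closure (Set.mem_insert u _))
    obtain ⟨b, hb⟩ := (hXp.to_subgroup B).exists_card_eq
    rw [hd, hb, Nat.pow_lt_pow_iff_right hp.out.one_lt] at hlt
    have hBeq : B = A := eq_of_le_of_card_ge hBA (by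
      rw [hA, hb]; exact Nat.pow_le_pow_right hp.out.pos (by omega))
    have hcu : B ≤ centralizer ({u} : Set X) := by
      rw [closure_le]
      intro a ha
      rcases Set.mem_insert_iff.1 ha with rfl | ha
      · exact mem_centralizer_singleton_iff.2 rfl
      · exact mem_centralizer_singleton_iff.2 (mem_centralizer_iff.1 ha u hu).symm
    exact huv (mem_centralizer_singleton_iff.1 (hcu (hBeq.ge hv))).symm
  set Z := center X with hZdef
  have hZD : Z ≤ D := center_le_centralizer _
  have hZp : Nat.card Z = p := by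
    refine le_antisymm ((card_le_of_le hZD).trans hDcard) ?_
    haveI := hXp.center_nontrivial
    obtain ⟨c, hc⟩ := (hXp.to_subgroup Z).exists_card_eq
    have h1 := Finite.one_lt_card (α := Z)
    rw [hc] at h1 ⊢
    refine Nat.le_self_pow ?_ p
    rintro rfl
    simp at h1
  have hDZ : D = Z := (eq_of_le_of_card_ge hZD (hDcard.trans_eq hZp.symm)).symm
  let π := QuotientGroup.mk' Z
  set A' := A.map π with hA'def
  have hA' : Nat.card A' = p ^ 2 := by
    rw [show Nat.card A' = π.ker.relIndex A from (relIndex_ker _ _).symm, QuotientGroup.ker_mk']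
    have h1 := relIndex_mul_relIndex ⊥ Z A bot_le (hZD.trans hC)
    rw [relIndex_bot_left, relIndex_bot_left, hZp, hA, show p ^ 3 = p * p ^ 2 by ring] at h1
    exact Nat.eq_of_mul_eq_mul_left hp.out.pos h1
  have hm : Nat.card (X ⧸ Z) = p ^ (n - 1) := by
    have h1 := Z.card_mul_index
    rw [hZp, index_eq_card, hX, show p ^ n = p * p ^ (n - 1) by
      rw [← pow_succ']; congr 1; omega] at h1
    exact Nat.eq_of_mul_eq_mul_left hp.out.pos h1
  haveI hab' : IsMulCommutative A' := IsPGroup.isMulCommutative_of_card_eq_prime_sq hA'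
  have hle : A' ≤ centralizer (A' : Set (X ⧸ Z)) := le_centralizer A'
  set K := centralizer (A' : Set (X ⧸ Z))
  have hmem : ∀ q ∈ K, ∀ a ∈ A, ⁅q.out, a⁆ ∈ Z := by
    intro q hq a ha
    refine (QuotientGroup.eq_one_iff _).1 ?_
    show π ⁅q.out, a⁆ = 1
    rw [map_commutatorElement, commutatorElement_eq_one_iff_mul_comm,
      show π q.out = q from QuotientGroup.out_eq' q]
    exact (mem_centralizer_iff.1 hq _ (mem_map_of_mem π ha)).symm
  let Φ : K → Z × Z := fun q => (⟨_, hmem q q.2 u hu⟩, ⟨_, hmem q q.2 v hv⟩)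
  have hΦ : Function.Injective Φ := by
    intro q r hqr
    have e1 : ⁅(q : X ⧸ Z).out, u⁆ = ⁅(r : X ⧸ Z).out, u⁆ := congrArg (fun t : Z × Z => (t.1 : X)) hqr
    have e2 : ⁅(q : X ⧸ Z).out, v⁆ = ⁅(r : X ⧸ Z).out, v⁆ := congrArg (fun t : Z × Z => (t.2 : X)) hqr
    have hcomm : ∀ a, ⁅(q : X ⧸ Z).out, a⁆ = ⁅(r : X ⧸ Z).out, a⁆ →
        (q : X ⧸ Z).out⁻¹ * (r : X ⧸ Z).out * a = a * ((q : X ⧸ Z).out⁻¹ * (r : X ⧸ Z).out) := by
      intro a e
      simp only [commutatorElement_def] at e
      have e' := mul_right_cancel e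
      calc (q : X ⧸ Z).out⁻¹ * (r : X ⧸ Z).out * a
            = (q : X ⧸ Z).out⁻¹ * ((r : X ⧸ Z).out * a * (r : X ⧸ Z).out⁻¹) * (r : X ⧸ Z).out := by
              simp [mul_assoc]
        _ = a * ((q : X ⧸ Z).out⁻¹ * (r : X ⧸ Z).out) := by rw [← e']; simp [mul_assoc]
    have hD : (q : X ⧸ Z).out⁻¹ * (r : X ⧸ Z).out ∈ D := by
      show _ ∈ centralizer (A : Set X)
      rw [← hgen, centralizer_closure, mem_centralizer_iff]
      rintro a (rfl | rfl)
      · exact (hcomm _ e1).symm
      · exact (hcomm _ e2).symm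
    refine Subtype.ext ?_
    rw [← QuotientGroup.out_eq' (q : X ⧸ Z), ← QuotientGroup.out_eq' (r : X ⧸ Z), QuotientGroup.eq]
    exact hDZ.le hD
  have hKA : K = A' := by
    refine (eq_of_le_of_card_ge hle ?_).symm
    have h1 := Nat.card_le_card_of_injective Φ hΦ
    rwa [Nat.card_prod, hZp, ← sq, ← hA'] at h1
  have hq := CfsgLib.Transfer.maxClass_of_self_centralizing hm A' hA' hKA
  rw [Group.nilpotencyClass_eq_quotient_center_plus_one, hq]
  omega

end Pearl

end CfsgLib.Invol.MaxClassRank
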