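import Cfsg.Agent.Lib.Invol.EssentialSmall
import Cfsg.Agent.Lib.Invol.MaxClassRank

/-!
# A pearl of order `9` forces exponent `3` on a group of order `27`
-/

set_option autoImplicit false
set_option linter.style.haveILetI false

namespace CfsgLib.Invol.PearlExponent

open Subgroup CfsgLib.Fusion CfsgLib.Invol.EssentialSmall
open scoped commutatorElement

variable {Ω : Type*} [Group Ω] {S : Subgroup Ω} [Finite S] {p : ℕ} [hp : Fact p.Prime]
  {F : Cfsg.FusionSystem S} {P : Subgroup Ω}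

/-- If a subgroup of order `p` of an essential subgroup of order `p ^ 2` contains every
commutator with a fixed outer element, some automorphism in the system moves it. -/
theorem exists_move (hS : IsPGroup p S) (hF : F.IsSaturated p) (hP : F.IsEssential p P)
    (hcard : Nat.card P = p ^ 2) (Z : Subgroup P) (hZ : Nat.card Z = p) :
    ∃ g ∈ F.autGroup P, ∃ z ∈ Z, g z ∉ Z := by
  classical
  haveI := finite_of_le hP.1.1
  by_contra hc
  push Not at hc
  have hab : ∀ x y : P, x * y = y * x :=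
    (IsPGroup.isMulCommutative_of_card_eq_prime_sq hcard).is_comm.comm
  obtain ⟨hN, a, ha, k, hk⟩ := exists_pElement hS hF hP
  let N : Subgroup (F.autGroup P) :=
    { carrier := {α | (∀ z ∈ Z, (α : MulAut P) z = z) ∧ ∀ x : P, x⁻¹ * (α : MulAut P) x ∈ Z}
      one_mem' := ⟨fun z _ => rfl, fun x => by simp⟩
      mul_mem' := fun {α β} hα hβ => ⟨fun z hz => by
          rw [Subgroup.coe_mul, MulAut.mul_apply, hβ.1 z hz, hα.1 z hz],
        fun x => by
          have h1 := mul_mem (hβ.2 x) (hα.2 ((β : MulAut P) x))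
          rw [Subgroup.coe_mul, MulAut.mul_apply]
          simpa [mul_assoc] using h1⟩
      inv_mem' := fun {α} hα => ⟨fun z hz => by
          rw [Subgroup.coe_inv]
          conv_lhs => rw [← hα.1 z hz]
          exact MulAut.inv_apply_self _ _ _,
        fun x => by
          have h1 := inv_mem (hα.2 ((α : MulAut P)⁻¹ x))
          rw [MulAut.apply_inv_self] at h1
          rw [Subgroup.coe_inv]
          simpa using h1⟩ }
  have hNn : N.Normal := by
    refine ⟨fun β hβ γ => ?_⟩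
    have hγ : ∀ z ∈ Z, (γ : MulAut P)⁻¹ z ∈ Z := fun z hz =>
      hc _ (inv_mem γ.2) z hz
    refine ⟨fun z hz => ?_, fun x => ?_⟩
    · rw [Subgroup.coe_mul, Subgroup.coe_mul, Subgroup.coe_inv, MulAut.mul_apply, MulAut.mul_apply,
        hβ.1 _ (hγ z hz), MulAut.apply_inv_self]
    · have h1 := hc _ γ.2 _ (hβ.2 ((γ : MulAut P)⁻¹ x))
      rw [map_mul, map_inv, MulAut.apply_inv_self] at h1
      rw [Subgroup.coe_mul, Subgroup.coe_mul, Subgroup.coe_inv, MulAut.mul_apply, MulAut.mul_apply]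
      exact h1
  have hNp : IsPGroup p N := by
    rintro ⟨α, hα⟩
    refine ⟨1, Subtype.ext (Subtype.ext (MulEquiv.ext fun x => ?_))⟩
    have h1 := pow_apply_mul (β := (α : MulAut P)) (x := x) (mul_inv_cancel_left x _).symm
      (hα.1 _ (hα.2 x)) (p ^ 1)
    have h2 : (x⁻¹ * (α : MulAut P) x) ^ p = 1 := by
      have h3 := pow_card_eq_one' (x := (⟨_, hα.2 x⟩ : Z))
      rw [hZ] at h3
      simpa using congrArg Subtype.val h3
    rw [pow_one, h2, mul_one] at h1
    simpa using h1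
  -- `p`-elements lie in `N`
  have hfix : ∀ (K : Type _) [Group K] [Finite K], Nat.card K = p → ∀ γ : MulAut K,
      (∃ j : ℕ, γ ^ p ^ j = 1) → ∀ z, γ z = z := by
    intro K _ _ hK γ ⟨j, hj⟩ z
    haveI := isCyclic_of_prime_card hK
    obtain ⟨m, hm⟩ := MonoidHom.map_cyclic γ.toMonoidHom
    have hpow : ∀ i : ℕ, (γ ^ i) z = z ^ m ^ i := by
      intro i
      induction i with
      | zero => simp
      | succ i ih =>
        rw [pow_succ, MulAut.mul_apply, show γ z = z ^ m from hm z, map_zpow, ih, ← zpow_mul,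
          pow_succ]
    by_contra hne
    have hz1 : z ≠ 1 := fun e => hne (by rw [e, map_one])
    have hord : orderOf z = p := ((Nat.dvd_prime hp.out).1 (hK ▸ orderOf_dvd_natCard z)).resolve_left
      fun e => hz1 (orderOf_eq_one_iff.1 e)
    have h1 := hpow (p ^ j)
    rw [hj, MulAut.one_apply] at h1
    have h2 : (m : ZMod p) ^ p ^ j = m := ZMod.pow_card_pow _
    have h3 : z ^ m ^ p ^ j = z ^ m := by
      rw [zpow_eq_zpow_iff_modEq, hord, ← ZMod.intCast_eq_intCast_iff, Int.cast_pow, h2]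
    exact hne ((hm z).trans (h3.symm.trans h1.symm))
  have haN : a ∈ N := by
    have hres : ∀ z ∈ Z, (a : MulAut P) z ∈ Z := hc _ a.2
    let γ : MulAut Z :=
      { toFun := fun z => ⟨(a : MulAut P) z, hres z z.2⟩
        invFun := fun z => ⟨(a : MulAut P)⁻¹ z, hc _ (inv_mem a.2) z z.2⟩
        left_inv := fun z => Subtype.ext (MulAut.inv_apply_self _ _ _)
        right_inv := fun z => Subtype.ext (MulAut.apply_inv_self _ _ _)
        map_mul' := fun y z => Subtype.ext (map_mul (a : MulAut P) (y : P) z) }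
    haveI hZn : Z.Normal := ⟨fun z hz x => by rwa [hab x z, mul_inv_cancel_right]⟩
    have hγk : ∀ i : ℕ, ∀ z : Z, (((γ ^ i) z : Z) : P) = ((a : MulAut P) ^ i) z := by
      intro i
      induction i with
      | zero => exact fun z => rfl
      | succ i ih =>
        intro z
        rw [pow_succ, pow_succ, MulAut.mul_apply, MulAut.mul_apply, ih]
        rfl
    refine ⟨fun z hz => congrArg Subtype.val (hfix Z hZ γ ⟨k, MulEquiv.ext fun y => Subtype.ext (by
      rw [hγk, hk]; rfl)⟩ ⟨z, hz⟩), fun x => ?_⟩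
    have hmap : Z.map (a : MulAut P).toMonoidHom = Z := by
      refine eq_of_le_of_card_ge (map_le_iff_le_comap.2 hres) ?_
      rw [card_map_of_injective (a : MulAut P).injective]
    let δ : MulAut (P ⧸ Z) := QuotientGroup.congr Z Z (a : MulAut P) hmap
    have hδk : ∀ i : ℕ, ∀ y : P, (δ ^ i) (QuotientGroup.mk y) = QuotientGroup.mk (((a : MulAut P) ^ i) y) := by
      intro i
      induction i with
      | zero => exact fun y => rfl
      | succ i ih =>
        intro y
        rw [pow_succ, pow_succ, MulAut.mul_apply, MulAut.mul_apply,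
          show δ (QuotientGroup.mk y) = QuotientGroup.mk ((a : MulAut P) y) from rfl, ih]
    have hQ : Nat.card (P ⧸ Z) = p := by
      have h1 := card_eq_card_quotient_mul_card_subgroup Z
      rw [hcard, hZ, sq] at h1
      exact (Nat.eq_of_mul_eq_mul_right hp.out.pos h1).symm
    have hδ := hfix _ hQ δ ⟨k, MulEquiv.ext fun q => by
      induction q using QuotientGroup.induction_on with | H y => ?_
      rw [hδk, hk]; rfl⟩ (QuotientGroup.mk x)
    exact QuotientGroup.eq.1 hδ.symm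
  exact ha (hN N hNn hNp a haN)

variable [Fact (Nat.Prime 3)]

/-- A group of order `27` with a pearl of order `9` has exponent `3`. -/
theorem cube_eq_one {S : Subgroup Ω} [Finite S] {F : Cfsg.FusionSystem S} (hS : IsPGroup 3 S)
    (hF : F.IsSaturated 3) (hP : F.IsEssential 3 P) (hcard : Nat.card P = 3 ^ 2)
    (hexp : ∀ x ∈ P, x ^ 3 = 1) (hSc : Nat.card S = 3 ^ 3)
    (hcomm : ∀ x ∈ S, ∀ y ∈ S, ∀ g ∈ S, g * ⁅x, y⁆ = ⁅x, y⁆ * g) :
    ∀ x ∈ S, x ^ 3 = 1 := by
  classical
  have hPS : P ≤ S := hP.1.1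
  haveI := finite_of_le hPS
  have hab : ∀ x y : P, x * y = y * x :=
    (IsPGroup.isMulCommutative_of_card_eq_prime_sq hcard).is_comm.comm
  have hcent : ∀ g ∈ S, (∀ x : P, g * (x : Ω) = x * g) → g ∈ P := fun g hg h =>
    (hP.1.2 P (isConj_refl hPS)) ⟨hg, mem_centralizer_iff.2 fun x hx => (h ⟨x, hx⟩).symm⟩
  -- `P` is normal of index `3`
  have hidx : (P.subgroupOf S).index = 3 := by
    have h1 := (P.subgroupOf S).card_mul_index
    rw [Nat.card_congr (subgroupOfEquivOfLe hPS).toEquiv, hcard, hSc] at h1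
    omega
  haveI hPn : (P.subgroupOf S).Normal := by
    refine normal_of_index_eq_minFac_card ?_
    rw [hidx, hSc]
    exact (Nat.Prime.pow_minFac (Fact.out) (by norm_num)).symm
  have hnorm : ∀ g ∈ S, g ∈ normalizer (P : Set Ω) := by
    intro g hg n
    refine ⟨fun hn => ?_, fun hn => ?_⟩
    · exact mem_subgroupOf.1 (hPn.conj_mem ⟨n, hPS hn⟩ (mem_subgroupOf.2 hn) ⟨g, hg⟩)
    · have h1 := mem_subgroupOf.1 (hPn.conj_mem ⟨_, hPS hn⟩ (mem_subgroupOf.2 hn) ⟨g, hg⟩⁻¹)
      simpa [mul_assoc] using h1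
  have hlt : P < S := lt_of_essential hS hF hP
  obtain ⟨s, hs, hsP⟩ := SetLike.exists_of_lt hlt
  let τ : MulAut P := P.normalizerMonoidHom ⟨s, hnorm s hs⟩
  have hτv : ∀ x : P, ((τ x : P) : Ω) = s * (x : Ω) * s⁻¹ := fun x => rfl
  have hτ : τ ∈ F.autGroup P :=
    autInducedBy_le_autGroup hPS (mem_autInducedBy_iff.2 ⟨s, hs, hτv⟩)
  have hτZ : ∀ x y : P, τ (x⁻¹ * τ x) = x⁻¹ * τ x := by
    intro x _
    apply Subtype.ext
    rw [hτv]
    have h1 := hcomm (x : Ω)⁻¹ (inv_mem (hPS x.2)) s hs s hs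
    have e : ((x⁻¹ * τ x : P) : Ω) = ⁅(x : Ω)⁻¹, s⁆ := by
      rw [Subgroup.coe_mul, Subgroup.coe_inv, hτv]
      simp [commutatorElement_def, mul_assoc]
    rw [e, h1, mul_inv_cancel_right]
  obtain ⟨w0, hw0⟩ : ∃ w : P, τ w ≠ w := by
    by_contra hc
    push Not at hc
    refine hsP (hcent s hs fun x => ?_)
    have h1 := congrArg Subtype.val (hc x)
    rw [hτv] at h1
    exact mul_inv_eq_iff_eq_mul.1 h1
  set z0 : P := w0⁻¹ * τ w0
  have hz0 : z0 ≠ 1 := fun e => hw0 (inv_mul_eq_one.1 e).symm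
  have hτz0 : τ z0 = z0 := hτZ w0 w0
  have hp3 : ∀ x : P, x ^ 3 = 1 := fun x => Subtype.ext (hexp x x.2)
  have hord : orderOf z0 = 3 := orderOf_eq_prime (hp3 z0) hz0
  set Z := zpowers z0 with hZdef
  have hZc : Nat.card Z = 3 := by rw [Nat.card_zpowers, hord]
  have hτfix : ∀ x : P, τ x = x → x ∈ Z := by
    intro x hx
    by_contra hxZ
    refine hsP (hcent s hs fun y => ?_)
    let Fx : Subgroup P :=
      { carrier := {y | τ y = y}
        one_mem' := map_one τ
        mul_mem' := fun {a b} ha hb => by show τ (a * b) = a * b; rw [map_mul, ha, hb]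
        inv_mem' := fun {a} ha => by show τ a⁻¹ = a⁻¹; rw [map_inv, ha] }
    have hZF : Z ≤ Fx := zpowers_le.2 hτz0
    have htop : Fx = ⊤ := by
      refine Subgroup.eq_top_of_card_eq _ ?_
      have hlt : Nat.card Z < Nat.card Fx := lt_of_le_of_ne (card_le_of_le hZF)
        fun e => hxZ ((eq_of_le_of_card_ge hZF e.ge).ge hx)
      have h2 := Fx.card_subgroup_dvd_card
      rw [hcard] at h2 ⊢
      obtain ⟨i, hi, hie⟩ := (Nat.dvd_prime_pow Fact.out).1 h2
      rw [hZc, hie] at hlt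
      rcases (show i = 0 ∨ i = 1 ∨ i = 2 by omega) with rfl | rfl | rfl
      · simp at hlt
      · simp at hlt
      · exact hie
    have h1 := congrArg Subtype.val (htop.ge (mem_top y) : τ y = y)
    rw [hτv] at h1
    exact mul_inv_eq_iff_eq_mul.1 h1
  obtain ⟨g, hg, z1, hz1, hgz⟩ := exists_move hS hF hP hcard Z hZc
  -- the new basis
  set w := g z1
  set z := w⁻¹ * τ w
  have hτw : τ w = w * z := (mul_inv_cancel_left w _).symm
  have hτz : τ z = z := hτZ w w
  have hz : z ≠ 1 := fun e => hgz (hτfix w (inv_mul_eq_one.1 e).symm)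
  have hzZ : z ∈ Z := hτfix z hτz
  have hsub : ∀ u : P, u ∈ Z → u ≠ 1 → zpowers u = Z := by
    intro u hu hu1
    refine eq_of_le_of_card_ge (zpowers_le.2 hu) ?_
    rw [hZc, Nat.card_zpowers, orderOf_eq_prime (hp3 u) hu1]
  have hz1ne : z1 ≠ 1 := fun e => hgz (by rw [show w = g z1 from rfl, e, map_one]; exact one_mem _)
  obtain ⟨v, hv⟩ : ∃ v, g v = z := ⟨g⁻¹ z, MulAut.apply_inv_self _ _ _⟩
  have hvZ : v ∉ Z := by
    intro hvZ
    refine hgz ?_
    rw [← hsub v hvZ (fun e => hz (by rw [← hv, e, map_one]))] at hz1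
    obtain ⟨i, rfl⟩ := mem_zpowers_iff.1 hz1
    show g (v ^ i) ∈ Z
    rw [map_zpow, hv]
    exact zpow_mem hzZ i
  set u := v⁻¹ * τ v
  have hu : u ∈ Z := hτfix u (hτZ v v)
  have hu1 : u ≠ 1 := fun e => hvZ (hτfix v (inv_mul_eq_one.1 e).symm)
  obtain ⟨m, hm⟩ : ∃ m : ℤ, u ^ m = z1⁻¹ := by
    rw [← hsub u hu hu1] at hz1
    exact mem_zpowers_iff.1 (inv_mem hz1)
  have hτi : ∀ i : ℤ, (τ ^ i) z1 = z1 ∧ (τ ^ i) v = v * u ^ i := by
    have hτu : τ u = u := hτZ v v
    have hτz1 : τ z1 = z1 := by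
      have hle : Z ≤ (MonoidHom.eqLocus τ.toMonoidHom (MonoidHom.id P)) := zpowers_le.2 hτz0
      exact hle hz1
    intro i
    induction i using Int.induction_on with
    | zero => simp
    | succ i ih =>
      rw [zpow_add_one, MulAut.mul_apply, MulAut.mul_apply, hτz1, ih.1,
        show τ v = v * u from (mul_inv_cancel_left v _).symm, map_mul, ih.2]
      refine ⟨rfl, ?_⟩
      have hfix : (τ ^ (i : ℤ)) u = u := by
        rw [zpow_natCast]
        clear ih
        induction i with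
        | zero => rfl
        | succ i ih2 => rw [pow_succ, MulAut.mul_apply, hτu, ih2]
      rw [hfix, mul_assoc, ← zpow_add_one]
    | pred i ih =>
      have hinv : τ⁻¹ z1 = z1 := by
        conv_lhs => rw [← hτz1]
        exact MulAut.inv_apply_self _ _ _
      have hinvu : τ⁻¹ u = u := by
        conv_lhs => rw [← hτu]
        exact MulAut.inv_apply_self _ _ _
      have hinvv : τ⁻¹ v = v * u⁻¹ := by
        apply τ.injective
        rw [MulAut.apply_inv_self, map_mul, map_inv, hτu,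
          show τ v = v * u from (mul_inv_cancel_left v _).symm, mul_inv_cancel_right]
      have hfix : (τ ^ (-(i : ℤ))) u = u := by
        rw [zpow_neg, zpow_natCast, ← inv_pow]
        clear ih
        induction i with
        | zero => rfl
        | succ i ih2 => rw [pow_succ, MulAut.mul_apply, hinvu, ih2]
      rw [zpow_sub_one, MulAut.mul_apply, MulAut.mul_apply, hinv, ih.1, hinvv, map_mul, ih.2,
        map_inv, hfix]
      exact ⟨rfl, by rw [mul_assoc, ← zpow_sub_one]⟩
  set β := g * τ ^ m * g⁻¹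
  have hβw : β w = w := by
    rw [MulAut.mul_apply, MulAut.mul_apply, MulAut.inv_apply_self, (hτi m).1]
  have hβz : β z = z * w⁻¹ := by
    rw [← hv, MulAut.mul_apply, MulAut.mul_apply, MulAut.inv_apply_self, (hτi m).2, map_mul, hm,
      map_inv, hv]
  set t := τ * β * τ
  have htz : t z = w⁻¹ := by
    show τ (β (τ z)) = _
    rw [hτz, hβz, map_mul, hτz, map_inv, hτw, mul_inv_rev, ← mul_assoc, mul_inv_cancel, one_mul]
  have htw : t w = z := by
    show τ (β (τ w)) = _
    rw [hτw, map_mul, hβw, hβz, hab z, mul_inv_cancel_left, hτz]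
  set α := t * t
  have hα : α ∈ F.autGroup P :=
    mul_mem (mul_mem (mul_mem hτ (mul_mem (mul_mem hg (zpow_mem hτ m)) (inv_mem hg))) hτ)
      (mul_mem (mul_mem hτ (mul_mem (mul_mem hg (zpow_mem hτ m)) (inv_mem hg))) hτ)
  have hαinv : ∀ x : P, α x = x⁻¹ := by
    let I : Subgroup P :=
      { carrier := {x | α x = x⁻¹}
        one_mem' := by show α 1 = 1⁻¹; rw [map_one, inv_one]
        mul_mem' := fun {a b} ha hb => by
          show α (a * b) = (a * b)⁻¹
          rw [map_mul, ha, hb, mul_inv_rev, hab]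
        inv_mem' := fun {a} ha => by show α a⁻¹ = a⁻¹⁻¹; rw [map_inv, ha] }
    have hzI : z ∈ I := by show t (t z) = _; rw [htz, map_inv, htw]
    have hwI : w ∈ I := by show t (t w) = _; rw [htw, htz]
    have hI : I = ⊤ := by
      refine Subgroup.eq_top_of_card_eq _ ?_
      have hlt : Nat.card Z < Nat.card I := by
        have hle : Z ≤ I := hsub z hzZ hz ▸ zpowers_le.2 hzI
        exact lt_of_le_of_ne (card_le_of_le hle)
          fun e => hgz ((eq_of_le_of_card_ge hle e.ge).ge hwI)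
      have h2 := I.card_subgroup_dvd_card
      rw [hcard] at h2 ⊢
      obtain ⟨i, hi, hie⟩ := (Nat.dvd_prime_pow Fact.out).1 h2
      rw [hZc, hie] at hlt
      rcases (show i = 0 ∨ i = 1 ∨ i = 2 by omega) with rfl | rfl | rfl
      · simp at hlt
      · simp at hlt
      · exact hie
    exact fun x => hI.ge (mem_top x)
  -- extend to `S`
  have hf := isMap_of_autGroup hPS hα
  obtain ⟨ψ, hψ, hψx⟩ := receptive_extend (receptive_of_fullyNormalized hS hF hP.2.1) hf
    (img_toFun_aut α) hPS fun a ha => ⟨ha, hnorm a ha, a, ha, fun x hx => by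
      have hax : a * x * a⁻¹ ∈ P := (hnorm a ha x).1 hx
      rw [toFun_aut_apply α hx, toFun_aut_apply α hax, hαinv, hαinv]
      simp [mul_assoc]⟩
  have hval : ∀ x ∈ P, ψ x = x⁻¹ := fun x hx => by
    rw [hψx x hx, toFun_aut_apply α hx, hαinv]; rfl
  intro x hx
  by_cases hxP : x ∈ P
  · exact hexp x hxP
  have hx3 : x ^ 3 ∈ P := by
    have h1 := (P.subgroupOf S).pow_index_mem (⟨x, hx⟩ : S)
    rw [hidx] at h1
    exact mem_subgroupOf.1 h1
  set e := x⁻¹ * ψ x
  have hψS : ψ x ∈ S := hψ.mem hx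
  have heS : e ∈ S := mul_mem (inv_mem hx) hψS
  have he : e ∈ P := by
    refine hcent e heS fun y => ?_
    have hy : x * (y : Ω) * x⁻¹ ∈ P := (hnorm x hx y).1 y.2
    have h1 : ψ (x * (y : Ω) * x⁻¹) = ψ x * ψ y * (ψ x)⁻¹ := hψ.map_conj hx (hPS y.2)
    rw [hval _ hy, hval _ y.2] at h1
    have h2 := congrArg (fun q => q⁻¹) h1
    simp only [inv_inv, mul_inv_rev] at h2
    calc e * (y : Ω) = x⁻¹ * (ψ x * ((y : Ω) * (ψ x)⁻¹)) * ψ x := by simp [e, mul_assoc]
      _ = y * e := by rw [← h2]; simp [e, mul_assoc]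
  have h1 : ψ (x ^ 3) = ψ x ^ 3 := hψ.map_pow hx 3
  rw [hval _ hx3, show ψ x = x * e from (mul_inv_cancel_left x _).symm] at h1
  have hcc : (x * e) ^ 3 = x ^ 3 * e ^ 3 := by
    have hz' : ∀ gg : S, Commute ⁅(⟨e, heS⟩ : S), (⟨x, hx⟩ : S)⁆ gg := fun gg =>
      Subtype.ext (hcomm e heS x hx gg gg.2).symm
    have h2 := congrArg Subtype.val
      (CfsgLib.PGroup.mul_pow_of_central_comm (⟨x, hx⟩ : S) ⟨e, heS⟩ hz' 3)
    simp only [Subgroup.coe_mul, SubmonoidClass.coe_pow] at h2
    rw [h2]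
    have h3 : (⁅(⟨e, heS⟩ : S), (⟨x, hx⟩ : S)⁆ : S).1 ∈ P := by
      rw [commutatorElement_def]
      show e * x * e⁻¹ * x⁻¹ ∈ P
      have := mul_mem he ((hnorm x hx e⁻¹).1 (inv_mem he))
      simpa [mul_assoc] using this
    rw [show Nat.choose 3 2 = 3 by decide, hexp _ h3, mul_one]
  rw [hcc, hexp e he, mul_one] at h1
  have h6 : x ^ 3 * x ^ 3 = 1 := by
    conv_lhs => arg 1; rw [← h1]
    exact inv_mul_cancel _
  have h9 : (x ^ 3) ^ 3 = 1 := hexp _ hx3
  rw [pow_three, h6, mul_one] at h9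
  exact h9

end CfsgLib.Invol.PearlExponent
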