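import Mathlib

/-!
# Automorphisms of an elementary abelian group of order p²

Transvections, the torus generated by two opposite transvections, and the consequence that a group
with a transvection either fixes its line or contains that torus.
-/

set_option autoImplicit false

namespace CfsgLib.Invol.PlanePairs

open Subgroup

/-- The automorphism of the abelianization induced by an automorphism. -/
noncomputable def abAut (G : Type*) [Group G] : MulAut G →* MulAut (Abelianization G) where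
  toFun α := MulEquiv.abelianizationCongr α
  map_one' := MulEquiv.ext fun x => by
    obtain ⟨y, rfl⟩ := QuotientGroup.mk_surjective x
    rfl
  map_mul' α β := MulEquiv.ext fun x => by
    obtain ⟨y, rfl⟩ := QuotientGroup.mk_surjective x
    rfl

theorem abAut_of {G : Type*} [Group G] (α : MulAut G) (x : G) :
    abAut G α (Abelianization.of x) = Abelianization.of (α x) :=
  abelianizationCongr_of α x

variable {V : Type*} [CommGroup V] [Finite V] {p : ℕ} [hp : Fact p.Prime]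

theorem aut_pow_succ (f : MulAut V) (n : ℕ) (x : V) : (f ^ (n + 1)) x = f ((f ^ n) x) := by
  rw [pow_succ', MulAut.mul_apply]

theorem aut_fix_pow {f : MulAut V} {x : V} (h : f x = x) (n : ℕ) : (f ^ n) x = x := by
  induction n with
  | zero => simp
  | succ n ih => rw [aut_pow_succ, ih, h]

omit [Finite V] in
theorem zpow_congr (hexp : ∀ x : V, x ^ p = 1) (x : V) {i j : ℤ} (h : (p : ℤ) ∣ i - j) :
    x ^ i = x ^ j := by
  obtain ⟨k, hk⟩ := h
  rw [show i = j + (p : ℤ) * k by omega, zpow_add, zpow_mul, zpow_natCast, hexp, one_zpow, mul_one]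

omit [Finite V] in
theorem zpow_eq_one_imp (hexp : ∀ x : V, x ^ p = 1) {x : V} (hx : x ≠ 1) {i : ℤ} (h : x ^ i = 1) :
    (p : ℤ) ∣ i := by
  have h1 : orderOf x = p := orderOf_eq_prime (hexp x) hx
  rw [← h1]
  exact orderOf_dvd_iff_zpow_eq_one.2 h

omit [Finite V] in
theorem zpow_eq_imp (hexp : ∀ x : V, x ^ p = 1) {x : V} (hx : x ≠ 1) {i j : ℤ} (h : x ^ i = x ^ j) :
    (p : ℤ) ∣ i - j := zpow_eq_one_imp hexp hx (by rw [zpow_sub, h, mul_inv_cancel])

omit [Finite V] in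
theorem mem_of_zpow_mem (hexp : ∀ x : V, x ^ p = 1) {w : V} {H : Subgroup V} {i : ℤ}
    (hi : ¬ (p : ℤ) ∣ i) (h : w ^ i ∈ H) : w ∈ H := by
  have hco : IsCoprime (p : ℤ) i := (Nat.prime_iff_prime_int.1 hp.out).coprime_iff_not_dvd.2 hi
  obtain ⟨a, b, hab⟩ := hco
  have h2 : (w ^ i) ^ b ∈ H := H.zpow_mem h b
  rwa [← zpow_mul, zpow_congr hexp w (j := 1) (⟨-a, by linear_combination hab⟩ : (p : ℤ) ∣ i * b - 1),
    zpow_one] at h2

section Plane

variable (hexp : ∀ x : V, x ^ p = 1) (hcard : Nat.card V = p ^ 2)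

include hexp hcard

theorem exists_coords {l w : V} (hl : l ≠ 1) (hw : w ∉ zpowers l) (x : V) :
    ∃ i j : ℤ, x = l ^ i * w ^ j := by
  have h1 : Nat.card (zpowers l) = p := by
    rw [Nat.card_zpowers]; exact orderOf_eq_prime (hexp l) hl
  have h2 : zpowers l ⊔ zpowers w = ⊤ := by
    have hlt : zpowers l < zpowers l ⊔ zpowers w :=
      lt_of_le_of_ne le_sup_left fun h => hw (h ▸ mem_sup_right (mem_zpowers w))
    obtain ⟨e, he, hc⟩ := (Nat.dvd_prime_pow hp.out).1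
      (hcard ▸ Subgroup.card_subgroup_dvd_card (zpowers l ⊔ zpowers w))
    refine eq_top_of_card_eq _ ?_
    rw [hcard, hc]
    have he2 : e ≠ 0 ∧ e ≠ 1 := by
      constructor <;> intro h <;>
      · refine (ne_of_lt hlt) (eq_of_le_of_card_ge hlt.le ?_)
        rw [hc, h1, h]
        simp [hp.out.one_lt.le]
    rw [show e = 2 by omega]
  obtain ⟨a, ha, b, hb, rfl⟩ := mem_sup.1 (h2 ▸ mem_top x : x ∈ zpowers l ⊔ zpowers w)
  obtain ⟨i, rfl⟩ := mem_zpowers_iff.1 ha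
  obtain ⟨j, rfl⟩ := mem_zpowers_iff.1 hb
  exact ⟨i, j, rfl⟩

theorem aut_ext {l w : V} (hl : l ≠ 1) (hw : w ∉ zpowers l) {f g : MulAut V} (h1 : f l = g l)
    (h2 : f w = g w) : f = g := MulEquiv.ext fun x => by
  obtain ⟨i, j, rfl⟩ := exists_coords hexp hcard hl hw x
  rw [map_mul, map_mul, map_zpow, map_zpow, map_zpow, map_zpow, h1, h2]

omit hcard in
theorem coords_eq {l w : V} (hl : l ≠ 1) (hw : w ∉ zpowers l) {i j : ℤ}
    (h : l ^ i * w ^ j = 1) : (p : ℤ) ∣ i ∧ (p : ℤ) ∣ j := by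
  have hj : (p : ℤ) ∣ j := by
    by_contra hc
    refine hw (mem_of_zpow_mem hexp hc ?_)
    rw [eq_inv_of_mul_eq_one_right h]
    exact inv_mem (zpow_mem (mem_zpowers l) i)
  rw [zpow_congr hexp w (j := 0) (by simpa using hj), zpow_zero, mul_one] at h
  exact ⟨zpow_eq_one_imp hexp hl h, hj⟩

/-- A nontrivial automorphism of `p`-power order is a transvection. -/
theorem exists_line {f : MulAut V} (hf : ∃ k : ℕ, f ^ p ^ k = 1) (hf1 : f ≠ 1) :
    ∃ l : V, l ≠ 1 ∧ f l = l ∧ (∀ x, f x = x → x ∈ zpowers l) ∧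
      ∀ x, ∃ i : ℤ, f x = x * l ^ i := by
  obtain ⟨k, hk⟩ := hf
  have hP : IsPGroup p (zpowers f) := by
    rintro ⟨y, hy⟩
    obtain ⟨m, rfl⟩ := mem_zpowers_iff.1 hy
    refine ⟨k, Subtype.ext ?_⟩
    show (f ^ m) ^ p ^ k = 1
    rw [← zpow_natCast, ← zpow_mul, mul_comm, zpow_mul, zpow_natCast, hk, one_zpow]
  obtain ⟨l, hl, hl1⟩ := hP.exists_fixed_point_of_prime_dvd_card_of_fixed_point V
    (a := (1 : V)) (hcard ▸ dvd_pow_self p two_ne_zero) (fun g => smul_one g)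
  have hfl : f l = l := hl ⟨f, mem_zpowers f⟩
  obtain ⟨w, hw⟩ : ∃ w, w ∉ zpowers l := by
    by_contra hc
    push Not at hc
    have h0 : zpowers l = ⊤ := eq_top_iff.2 fun x _ => hc x
    have h1 := Nat.card_zpowers l
    rw [h0, Subgroup.card_top, hcard, orderOf_eq_prime (hexp l) hl1.symm] at h1
    have := hp.out.two_le
    nlinarith
  obtain ⟨a, j, hj⟩ := exists_coords hexp hcard hl1.symm hw (f w)
  have hpow : ∀ n : ℕ, ∃ b : ℤ, (f ^ n) w = l ^ b * w ^ (j ^ n) := by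
    intro n
    induction n with
    | zero => exact ⟨0, by simp⟩
    | succ n ih =>
      obtain ⟨b, hb⟩ := ih
      refine ⟨b + a * j ^ n, ?_⟩
      rw [aut_pow_succ, hb, map_mul, map_zpow, map_zpow, hfl, hj, mul_zpow, ← zpow_mul, ← zpow_mul,
        ← mul_assoc, ← zpow_add, mul_comm j, ← pow_succ]
  have hj1 : (p : ℤ) ∣ j - 1 := by
    obtain ⟨b, hb⟩ := hpow (p ^ k)
    rw [hk, MulAut.one_apply] at hb
    have h2 := (coords_eq hexp hl1.symm hw (i := b) (j := j ^ p ^ k - 1)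
      (by rw [zpow_sub, zpow_one, ← mul_assoc, ← hb, mul_inv_cancel])).2
    rw [← ZMod.intCast_zmod_eq_zero_iff_dvd] at h2 ⊢
    push_cast at h2 ⊢
    rwa [ZMod.pow_card_pow] at h2
  have hfw : f w = w * l ^ a := by
    rw [hj, zpow_congr hexp w hj1, zpow_one, mul_comm]
  have hgen : ∀ x, ∃ i : ℤ, f x = x * l ^ i ∧ (f x = x → x ∈ zpowers l) := by
    intro x
    obtain ⟨c, d, rfl⟩ := exists_coords hexp hcard hl1.symm hw x
    have e : f (l ^ c * w ^ d) = (l ^ c * w ^ d) * l ^ (a * d) := by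
      rw [map_mul, map_zpow, map_zpow, hfl, hfw, mul_zpow, ← zpow_mul, mul_assoc]
    refine ⟨a * d, e, fun hfix => ?_⟩
    rw [e] at hfix
    have ha : ¬ (p : ℤ) ∣ a := fun ha => hf1 (aut_ext hexp hcard hl1.symm hw hfl
      (by rw [hfw, zpow_congr hexp l (j := 0) (by simpa using ha)]; simp))
    have hd : (p : ℤ) ∣ d :=
      (((Nat.prime_iff_prime_int.1 hp.out).dvd_mul).1
        (zpow_eq_one_imp hexp hl1.symm (mul_eq_left.1 hfix))).resolve_left ha
    rw [zpow_congr hexp w (j := 0) (by simpa using hd), zpow_zero, mul_one]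
    exact zpow_mem (mem_zpowers l) c
  exact ⟨l, hl1.symm, hfl, fun x hx => (hgen x).choose_spec.2 hx,
    fun x => ⟨_, (hgen x).choose_spec.1⟩⟩

/-- The properties of the line of a transvection, for any generator of its fixed points. -/
theorem of_fixed {f : MulAut V} (hf : ∃ k : ℕ, f ^ p ^ k = 1) (hf1 : f ≠ 1) {l : V} (hl : l ≠ 1)
    (hfl : f l = l) : (∀ x, f x = x → x ∈ zpowers l) ∧ ∀ x, ∃ i : ℤ, f x = x * l ^ i := by
  obtain ⟨l₀, hl₀, -, hfix, hgen⟩ := exists_line hexp hcard hf hf1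
  obtain ⟨c, hc⟩ := mem_zpowers_iff.1 (hfix l hfl)
  have hc' : ¬ (p : ℤ) ∣ c := fun h => hl (by
    rw [← hc, zpow_congr hexp l₀ (j := 0) (by simpa using h), zpow_zero])
  have hl₀m : l₀ ∈ zpowers l := mem_of_zpow_mem hexp hc' (hc ▸ mem_zpowers l)
  refine ⟨fun x hx => zpowers_le.2 hl₀m (hfix x hx), fun x => ?_⟩
  obtain ⟨i, hi⟩ := hgen x
  obtain ⟨d, hd⟩ := mem_zpowers_iff.1 hl₀m
  exact ⟨d * i, by rw [hi, zpow_mul, hd]⟩

/-- A transvection and its line: the moved vectors. -/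
theorem transvection {f : MulAut V} (hf : ∃ k : ℕ, f ^ p ^ k = 1) (hf1 : f ≠ 1) {l w : V}
    (hl : l ≠ 1) (hfl : f l = l) (hw : w ∉ zpowers l) :
    ∃ a : ℤ, ¬ (p : ℤ) ∣ a ∧ f w = w * l ^ a := by
  obtain ⟨hfix, hgen⟩ := of_fixed hexp hcard hf hf1 hl hfl
  obtain ⟨a, ha⟩ := hgen w
  refine ⟨a, fun h => hw (hfix w ?_), ha⟩
  rw [ha, zpow_congr hexp l (j := 0) (by simpa using h), zpow_zero, mul_one]

omit hcard in
theorem not_mem_symm {l w : V} (hl : l ≠ 1) (hw : w ∉ zpowers l) : l ∉ zpowers w := by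
  intro h
  obtain ⟨i, hi⟩ := mem_zpowers_iff.1 h
  refine hw (mem_of_zpow_mem hexp (i := i) (fun hd => hl ?_) (by rw [hi]; exact mem_zpowers l))
  rw [← hi, zpow_congr hexp w (j := 0) (by simpa using hd), zpow_zero]

/-- Two opposite transvections generate the split torus of determinant one. -/
theorem torus {G : Subgroup (MulAut V)} {f g : MulAut V} (hfG : f ∈ G) (hgG : g ∈ G) {l w : V}
    (hl : l ≠ 1) (hw : w ∉ zpowers l) {a b : ℤ} (ha : ¬ (p : ℤ) ∣ a) (hb : ¬ (p : ℤ) ∣ b)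
    (hfl : f l = l) (hfw : f w = w * l ^ a) (hgw : g w = w) (hgl : g l = l * w ^ b)
    {t s : ℤ} (hts : (p : ℤ) ∣ t * s - 1) :
    ∃ h ∈ G, h l = l ^ t ∧ h w = w ^ s := by
  have hco : ∀ a : ℤ, ¬ (p : ℤ) ∣ a → ∀ c : ℤ, ∃ n : ℕ, (p : ℤ) ∣ a * n - c := by
    intro a ha c
    obtain ⟨u, v, huv⟩ := (Nat.prime_iff_prime_int.1 hp.out).coprime_iff_not_dvd.2 ha
    refine ⟨((c * v) % (p : ℤ)).toNat, ?_⟩
    rw [Int.toNat_of_nonneg (Int.emod_nonneg _ (by exact_mod_cast hp.out.ne_zero))]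
    refine ⟨-c * u - a * ((c * v) / (p : ℤ)), ?_⟩
    have := Int.emod_add_ediv_mul (c * v) (p : ℤ)
    linear_combination a * this + c * huv
  have pw : ∀ (f : MulAut V) (l w : V) (a : ℤ), f ∈ G → f l = l → f w = w * l ^ a →
      ¬ (p : ℤ) ∣ a → ∀ c : ℤ, ∃ k ∈ G, k l = l ∧ k w = w * l ^ c := by
    intro f l w a hf h1 h2 h3 c
    obtain ⟨n, hn⟩ := hco a h3 c
    refine ⟨f ^ n, pow_mem hf n, aut_fix_pow h1 n, ?_⟩
    rw [← zpow_congr hexp l hn]
    clear hn
    induction n with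
    | zero => simp
    | succ n ih =>
      rw [aut_pow_succ, ih, map_mul, map_zpow, h1, h2, mul_assoc, ← zpow_add]
      congr 2
      push_cast
      ring
  have key : ∀ t s : ℤ, (p : ℤ) ∣ t * s - 1 → ∃ k ∈ G, k l = w ^ (-s) ∧ k w = l ^ t := by
    intro t s hts
    obtain ⟨u, hu, hul, huw⟩ := pw f l w a hfG hfl hfw ha t
    obtain ⟨v, hv, hvw, hvl⟩ := pw g w l b hgG hgw hgl hb (-s)
    refine ⟨u * v * u, mul_mem (mul_mem hu hv) hu, ?_, ?_⟩
    · rw [MulAut.mul_apply, MulAut.mul_apply, hul, hvl, map_mul, map_zpow, hul, huw, mul_zpow,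
        ← zpow_mul, mul_comm (w ^ (-s)), ← mul_assoc, ← zpow_one_add,
        zpow_congr hexp l (j := 0) (⟨-hts.choose, by linear_combination -hts.choose_spec⟩ :
          (p : ℤ) ∣ 1 + t * -s - 0), zpow_zero, one_mul]
    · have h1 : v (u w) = l ^ t := by
        rw [huw, map_mul, map_zpow, hvw, hvl, mul_zpow, ← zpow_mul, mul_left_comm, ← zpow_one_add,
          zpow_congr hexp w (j := 0) (⟨-hts.choose, by linear_combination -hts.choose_spec⟩ :
            (p : ℤ) ∣ 1 + -s * t - 0), zpow_zero, mul_one]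
      rw [MulAut.mul_apply, MulAut.mul_apply, h1, map_zpow, hul]
  obtain ⟨k₁, hk₁, h1l, h1w⟩ := key t s hts
  obtain ⟨k₂, hk₂, h2l, h2w⟩ := key (-1) (-1) (by simp)
  refine ⟨k₁ * k₂, mul_mem hk₁ hk₂, ?_, ?_⟩
  · rw [MulAut.mul_apply, h2l, map_zpow, h1w]
    simp
  · rw [MulAut.mul_apply, h2w, map_zpow, h1l, ← zpow_mul]
    simp

/-- A group with a transvection that moves its line contains the torus. -/
theorem torus_of_move {G : Subgroup (MulAut V)} {f g : MulAut V} (hfG : f ∈ G) (hgG : g ∈ G)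
    (hf : ∃ k : ℕ, f ^ p ^ k = 1) (hf1 : f ≠ 1) {l : V} (hl : l ≠ 1) (hfl : f l = l)
    (hmove : g l ∉ zpowers l) {t s : ℤ} (hts : (p : ℤ) ∣ t * s - 1) :
    ∃ h ∈ G, h l = l ^ t ∧ h (g l) = g l ^ s := by
  obtain ⟨a, ha, hfw⟩ := transvection hexp hcard hf hf1 hl hfl hmove
  have hc : g * f * g⁻¹ ∈ G := mul_mem (mul_mem hgG hfG) (inv_mem hgG)
  have hcf : (g * f * g⁻¹) (g l) = g l := by
    rw [MulAut.mul_apply, MulAut.mul_apply, MulAut.inv_apply_self, hfl]
  have hcp : ∃ k : ℕ, (g * f * g⁻¹) ^ p ^ k = 1 := by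
    obtain ⟨k, hk⟩ := hf
    exact ⟨k, by rw [conj_pow, hk, mul_one, mul_inv_cancel]⟩
  have hgl : g l ≠ 1 := fun h => hmove (h ▸ one_mem _)
  obtain ⟨b, hb, hcl⟩ := transvection hexp hcard hcp (fun h => hf1 (conj_eq_one_iff.1 h)) hgl hcf
    (not_mem_symm hexp hl hmove)
  exact torus hexp hcard hfG hc hl hmove ha hb hfl hfw hcf hcl hts

/-- In a `p`-group of automorphisms all elements fix the line of each nontrivial one. -/
theorem pgroup_fixes (hp2 : p ≠ 2) {P : Subgroup (MulAut V)} (hP : IsPGroup p P) {f g : MulAut V}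
    (hfP : f ∈ P) (hgP : g ∈ P) (hf1 : f ≠ 1) {l : V} (hl : l ≠ 1) (hfl : f l = l) : g l = l := by
  have hel : ∀ {x}, x ∈ P → ∃ k : ℕ, x ^ p ^ k = 1 := fun {x} hx => by
    obtain ⟨k, hk⟩ := hP ⟨x, hx⟩
    exact ⟨k, congrArg Subtype.val hk⟩
  obtain ⟨k, hk⟩ := hel hgP
  by_cases hmem : g l ∈ zpowers l
  · obtain ⟨j, hj⟩ := mem_zpowers_iff.1 hmem
    have hpow : ∀ n : ℕ, (g ^ n) l = l ^ (j ^ n) := by
      intro n
      induction n with
      | zero => simp
      | succ n ih => rw [aut_pow_succ, ih, map_zpow, ← hj, ← zpow_mul, pow_succ', mul_comm j]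
    have h2 := hpow (p ^ k)
    rw [hk, MulAut.one_apply] at h2
    have h3 := zpow_eq_imp hexp hl ((zpow_one l).trans h2)
    rw [← ZMod.intCast_zmod_eq_zero_iff_dvd] at h3
    push_cast at h3
    rw [ZMod.pow_card_pow] at h3
    rw [← hj, ← zpow_congr hexp l (i := 1) (j := j)
      ((ZMod.intCast_zmod_eq_zero_iff_dvd _ _).1 (by push_cast; exact h3)), zpow_one]
  · exfalso
    obtain ⟨h, hh, hhl, -⟩ := torus_of_move hexp hcard hfP hgP (hel hfP) hf1 hl hfl hmem
      (t := -1) (s := -1) (by simp)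
    have h2 : (h ^ 2) l = l := by
      rw [pow_two, MulAut.mul_apply, hhl, map_zpow, hhl]
      simp
    obtain ⟨k, hk⟩ := hel hh
    obtain ⟨m, hm⟩ := (hp.out.odd_of_ne_two hp2).pow (n := k)
    have h4 : (h ^ (p ^ k)) l = h l := by
      rw [hm, aut_pow_succ, pow_mul, aut_fix_pow h2]
    rw [hk, MulAut.one_apply, hhl] at h4
    have h5 := zpow_eq_imp hexp hl (i := 1) (j := -1) (by simpa using h4)
    have h6 : p ∣ 2 := by exact_mod_cast (show (p : ℤ) ∣ 2 by simpa using h5)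
    exact hp2 ((Nat.prime_dvd_prime_iff_eq hp.out Nat.prime_two).1 h6)

end Plane

end CfsgLib.Invol.PlanePairs
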