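import Cfsg.Agent.Lib.Invol.AutPElements
import Cfsg.Agent.Lib.Fusion.Alperin
import Cfsg.Agent.Lib.PLocal.SLTwoInvolve
import Cfsg.Agent.Lib.PLocal.DicksonSLTwoCount
import Cfsg.Agent.Lib.Solvable.UniqueSubgroup
import Cfsg.Agent.Lib.Coprime.SymplecticType
import Cfsg.Agent.Lib.PGroup.MetacyclicTwoAut
import Cfsg.Agent.Lib.Solvable.PCore
import Mathlib

/-!
# Small essential subgroups of saturated fusion systems
-/

set_option autoImplicit false

namespace CfsgLib.Invol.EssentialSmall

open Subgroup CfsgLib.Fusion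
open scoped MatrixGroups commutatorElement

section Essential

variable {Ω : Type*} [Group Ω] {S : Subgroup Ω} [Finite S] {p : ℕ} [Fact p.Prime]
  {F : Cfsg.FusionSystem S} {P : Subgroup Ω}

/-- Some `p`-element of `Aut_F(P)` is outside `Inn(P)`, and `Inn(P)` holds all normal `p`-subgroups. -/
theorem exists_pElement (hS : IsPGroup p S) (hF : F.IsSaturated p) (hP : F.IsEssential p P) :
    (∀ N : Subgroup (F.autGroup P), N.Normal → IsPGroup p N →
      ∀ a ∈ N, (a : MulAut P) ∈ Cfsg.Inn P) ∧
    ∃ a : F.autGroup P, (a : MulAut P) ∉ Cfsg.Inn P ∧ ∃ k : ℕ, (a : MulAut P) ^ p ^ k = 1 := by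
  haveI := finite_of_le hP.1.1
  refine ⟨fun N hN hNp a ha => ?_, ?_⟩
  · exact (essential_isRadical hS hF hP).2 ▸ ⟨a, CfsgLib.Solvable.le_pCore hN hNp ha, rfl⟩
  · obtain ⟨W, Y, hW, -, -, -⟩ := exists_locals_of_essential hS hF hP
    obtain ⟨w, hw, hw1⟩ := (Subgroup.bot_or_exists_ne_one (W : Subgroup (OutGrp F P))).resolve_left hW
    obtain ⟨a, rfl⟩ := QuotientGroup.mk'_surjective ((Cfsg.Inn P).subgroupOf (F.autGroup P)) w
    refine ⟨a, fun h => hw1 ((QuotientGroup.eq_one_iff a).2 h), ?_⟩
    have hinn : IsPGroup p ((Cfsg.Inn P).subgroupOf (F.autGroup P)) :=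
      ((isPGroup_autInducedBy hS P).to_le (inn_le_autInducedBy hP.1.1)).comap_of_injective _
        (Subgroup.subtype_injective (F.autGroup P))
    have hX := W.isPGroup'.comap_of_ker_isPGroup
      (QuotientGroup.mk' ((Cfsg.Inn P).subgroupOf (F.autGroup P))) (by rwa [QuotientGroup.ker_mk'])
    obtain ⟨k, hk⟩ := hX ⟨a, hw⟩
    exact ⟨k, congrArg (fun t => ((t : F.autGroup P) : MulAut P)) (congrArg Subtype.val hk)⟩

theorem not_pTrivialAut (hS : IsPGroup p S) (hF : F.IsSaturated p) (hP : F.IsEssential p P) :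
    ¬ PTrivialAut p P := by
  rintro ⟨N, hN, hNp, hmem⟩
  obtain ⟨h1, a, ha, hk⟩ := exists_pElement hS hF hP
  exact ha (h1 (N.comap (F.autGroup P).subtype) inferInstance
    (hNp.comap_of_injective _ (Subgroup.subtype_injective (F.autGroup P))) a (hmem _ hk))

theorem inn_eq_bot_of_comm (hab : ∀ x y : P, x * y = y * x) {α : MulAut P} (h : α ∈ Cfsg.Inn P) :
    α = 1 := by
  obtain ⟨g, rfl⟩ := h
  refine MulEquiv.ext fun x => ?_
  rw [MulAut.conj_apply, hab g x, mul_inv_cancel_right]
  rfl

end Essential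

section Abelian

variable {G : Type*} [Group G] [Finite G] {p : ℕ} [hp : Fact p.Prime]

theorem powKer_char {hab : ∀ a b : G, a * b = b * a} {n : ℕ} (α : MulAut G) :
    ∀ x ∈ powKer hab n, α x ∈ powKer hab n := fun x hx =>
  show (α x) ^ n = 1 by rw [← map_pow, (hx : x ^ n = 1), map_one]

/-- The image of the `n`-th power map. -/
def powRange (hab : ∀ a b : G, a * b = b * a) (n : ℕ) : Subgroup G where
  carrier := {y | ∃ x, x ^ n = y}
  one_mem' := ⟨1, one_pow n⟩
  mul_mem' := by
    rintro _ _ ⟨a, rfl⟩ ⟨b, rfl⟩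
    exact ⟨a * b, (show Commute a b from hab a b).mul_pow n⟩
  inv_mem' := by
    rintro _ ⟨a, rfl⟩
    exact ⟨a⁻¹, inv_pow a n⟩

theorem powRange_char {hab : ∀ a b : G, a * b = b * a} {n : ℕ} (α : MulAut G) :
    ∀ x ∈ powRange hab n, α x ∈ powRange hab n := by
  rintro _ ⟨x, rfl⟩
  exact ⟨α x, (map_pow α x n).symm⟩

theorem card_powKer_mul_powRange (hab : ∀ a b : G, a * b = b * a) (n : ℕ) :
    Nat.card G = Nat.card (powKer hab n) * Nat.card (powRange hab n) := by
  let f : G →* G := MonoidHom.mk' (fun x => x ^ n) fun a b => (show Commute a b from hab a b).mul_pow n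
  have h1 : f.ker = powKer hab n := by ext x; exact Iff.rfl
  have h2 : f.range = powRange hab n := by ext x; exact Iff.rfl
  rw [← card_mul_index f.ker, index_ker, h1, h2]

theorem pTrivialAut_of_omega_le (hG : IsPGroup p G) (hab : ∀ a b : G, a * b = b * a)
    (h : Nat.card (powKer hab p) ≤ p) : PTrivialAut p G :=
  pTrivialAut_of_omega_flag hG hab (powKer hab p) powKer_char le_rfl h
    (Nat.le_mul_of_pos_left _ hp.out.pos)

theorem pTrivialAut_of_cyclic (hG : IsPGroup p G) [IsCyclic G] : PTrivialAut p G := by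
  have hab : ∀ a b : G, a * b = b * a := fun a b => (IsCyclic.commGroup (α := G)).mul_comm a b
  refine pTrivialAut_of_omega_le hG hab ?_
  letI : CommGroup G := IsCyclic.commGroup
  have e : powKer hab p = (powMonoidHom p : G →* G).ker := by ext x; exact Iff.rfl
  rw [e, IsCyclic.card_powMonoidHom_ker]
  exact Nat.le_of_dvd hp.out.pos (Nat.gcd_dvd_right _ _)

/-- An abelian `p`-group with at most `p²` solutions of `x ^ p = 1` and a nontrivial automorphism
problem is homocyclic of rank two. -/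
theorem homocyclic_of_omega_sq (hG : IsPGroup p G) (hab : ∀ a b : G, a * b = b * a)
    (h2 : Nat.card (powKer hab p) = p ^ 2) (hne : ¬ PTrivialAut p G) :
    ∃ k : ℕ, 1 ≤ k ∧ (∀ x : G, x ^ p ^ k = 1) ∧ (∀ y : G, y ^ p = 1 → ∃ x, x ^ p ^ (k - 1) = y) ∧
      Nonempty (G ≃* Multiplicative (ZMod (p ^ k) × ZMod (p ^ k))) := by
  classical
  obtain ⟨e, he⟩ := IsPGroup.iff_card.1 hG
  obtain ⟨k, -, hk⟩ := (Nat.dvd_prime_pow hp.out).1 (he ▸ (Group.exponent_dvd_nat_card (G := G)))
  have hexp : ∀ x : G, x ^ p ^ k = 1 := fun x => hk ▸ Monoid.pow_exponent_eq_one x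
  have hk1 : 1 ≤ k := by
    by_contra hk0
    have : Nat.card (powKer hab p) = 1 := by
      refine Subgroup.card_eq_one.2 ((eq_bot_iff_forall _).2 fun x _ => ?_)
      simpa [show k = 0 by omega] using hexp x
    rw [h2] at this
    nlinarith [hp.out.two_le]
  set L := powRange hab (p ^ (k - 1)) with hLdef
  have hLo : L ≤ powKer hab p := by
    rintro _ ⟨x, rfl⟩
    show (x ^ p ^ (k - 1)) ^ p = 1
    rw [← pow_mul, ← pow_succ, show k - 1 + 1 = k by omega]
    exact hexp x
  have hL1 : L ≠ ⊥ := by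
    intro h
    have h1 : Monoid.exponent G ∣ p ^ (k - 1) := Monoid.exponent_dvd_of_forall_pow_eq_one fun x =>
      mem_bot.1 (h ▸ (⟨x, rfl⟩ : x ^ p ^ (k - 1) ∈ L))
    rw [hk, Nat.pow_dvd_pow_iff_le_right hp.out.one_lt] at h1
    omega
  have hLeq : L = powKer hab p := by
    refine eq_of_le_of_card_ge hLo ?_
    obtain ⟨i, hi, hic⟩ := (Nat.dvd_prime_pow hp.out).1 (h2 ▸ card_dvd_of_le hLo)
    rcases (show i = 0 ∨ i = 1 ∨ i = 2 by omega) with rfl | rfl | rfl
    · exact absurd (Subgroup.card_eq_one.1 (by simpa using hic)) hL1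
    · refine absurd (pTrivialAut_of_omega_flag hG hab L powRange_char hLo (by rw [hic, pow_one]) ?_) hne
      rw [h2, hic]; ring_nf; exact le_rfl
    · rw [h2, hic]
  have hsurj : ∀ y : G, y ^ p = 1 → ∃ x, x ^ p ^ (k - 1) = y := fun y hy => hLeq.ge (show y ∈ powKer hab p from hy)
  refine ⟨k, hk1, hexp, hsurj, ?_⟩
  -- generators
  obtain ⟨u, hu, hu1⟩ := (powKer hab p).bot_or_exists_ne_one.resolve_left (fun h => by
    rw [h, card_bot] at h2; nlinarith [hp.out.two_le])
  have hu' : u ^ p = 1 := hu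
  have huo : orderOf u = p := orderOf_eq_prime hu' hu1
  obtain ⟨v, hv, hvu⟩ : ∃ v ∈ powKer hab p, v ∉ zpowers u := by
    by_contra h
    push Not at h
    have h1 := card_le_of_le (show powKer hab p ≤ zpowers u from h)
    rw [h2, Nat.card_zpowers, huo] at h1
    nlinarith [hp.out.two_le]
  have hv' : v ^ p = 1 := hv
  have hspan : ∀ y : G, y ^ p = 1 → ∃ s t : ℕ, u ^ s * v ^ t = y := by
    intro y hy
    have hle : zpowers u ⊔ zpowers v ≤ powKer hab p := sup_le (zpowers_le.2 hu) (zpowers_le.2 hv)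
    have hgen : zpowers u ⊔ zpowers v = powKer hab p := by
      refine eq_of_le_of_card_ge hle ?_
      obtain ⟨i, hi, hic⟩ := (Nat.dvd_prime_pow hp.out).1 (h2 ▸ card_dvd_of_le hle)
      have hlt : Nat.card (zpowers u) < Nat.card (zpowers u ⊔ zpowers v : Subgroup G) :=
        lt_of_le_of_ne (card_le_of_le le_sup_left) fun e =>
          hvu ((eq_of_le_of_card_ge le_sup_left e.ge).ge (mem_sup_right (mem_zpowers v)))
      rw [hic, Nat.card_zpowers, huo] at hlt
      rw [hic, h2]
      refine Nat.pow_le_pow_right hp.out.pos ?_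
      by_contra hi2
      have h1 : p ^ i ≤ p ^ 1 := Nat.pow_le_pow_right hp.out.pos (by omega)
      rw [pow_one] at h1
      omega
    haveI : (zpowers u).Normal := ⟨fun a ha g => by rwa [hab g a, mul_inv_cancel_right]⟩
    obtain ⟨a, ha, b, hb, rfl⟩ := mem_sup_of_normal_left.1 (hgen.ge (show y ∈ powKer hab p from hy))
    obtain ⟨s, rfl⟩ := (isOfFinOrder_of_finite u).mem_powers_iff_mem_zpowers.2 ha
    obtain ⟨t, rfl⟩ := (isOfFinOrder_of_finite v).mem_powers_iff_mem_zpowers.2 hb
    exact ⟨s, t, rfl⟩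
  have hindep : ∀ s t : ℕ, u ^ s * v ^ t = 1 → p ∣ s ∧ p ∣ t := by
    intro s t h
    have ht : p ∣ t := by
      by_contra ht
      refine hvu ?_
      obtain ⟨c, d, hcd⟩ := (Nat.prime_iff_prime_int.1 hp.out).coprime_iff_not_dvd.2
        (mt Int.natCast_dvd_natCast.1 ht)
      have hvt : v ^ t ∈ zpowers u := by
        rw [eq_inv_of_mul_eq_one_right h]
        exact inv_mem (pow_mem (mem_zpowers u) s)
      have e : v = (v ^ t) ^ d := by
        have h0 : (v ^ t) ^ d = v ^ (c * (p : ℤ) + d * t) := by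
          rw [zpow_add, mul_comm c, zpow_mul, zpow_natCast, hv', one_zpow, one_mul, ← zpow_natCast,
            ← zpow_mul, mul_comm]
        rw [h0, hcd, zpow_one]
      rw [e]; exact zpow_mem hvt d
    refine ⟨?_, ht⟩
    obtain ⟨t', rfl⟩ := ht
    rw [pow_mul, hv', one_pow, mul_one] at h
    exact huo ▸ orderOf_dvd_of_pow_eq_one h
  obtain ⟨a, ha⟩ := hsurj u hu'
  obtain ⟨b, hb⟩ := hsurj v hv'
  haveI : NeZero (p ^ k) := ⟨pow_ne_zero _ hp.out.ne_zero⟩
  have hpow : ∀ (x : G) (s t : ZMod (p ^ k)), x ^ (s + t).val = x ^ s.val * x ^ t.val := by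
    intro x s t
    rw [← pow_add, pow_eq_pow_iff_modEq, ZMod.val_add]
    exact (Nat.mod_modEq _ _).of_dvd (orderOf_dvd_of_pow_eq_one (hexp x))
  let φ : Multiplicative (ZMod (p ^ k) × ZMod (p ^ k)) →* G :=
    MonoidHom.mk' (fun w => a ^ w.toAdd.1.val * b ^ w.toAdd.2.val) fun w w' => by
      simp only [toAdd_mul, Prod.fst_add, Prod.snd_add, hpow]
      calc a ^ w.toAdd.1.val * a ^ w'.toAdd.1.val * (b ^ w.toAdd.2.val * b ^ w'.toAdd.2.val)
            = a ^ w.toAdd.1.val * (a ^ w'.toAdd.1.val * b ^ w.toAdd.2.val) * b ^ w'.toAdd.2.val := by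
              simp only [mul_assoc]
        _ = _ := by rw [hab (a ^ w'.toAdd.1.val)]; simp only [mul_assoc]
  have hinj : ∀ i ≤ k, ∀ s t : ℕ, a ^ s * b ^ t = 1 → p ^ i ∣ s ∧ p ^ i ∣ t := by
    intro i hi
    induction i with
    | zero => intro s t _; simp
    | succ i ih =>
      intro s t h
      obtain ⟨⟨s', hs⟩, ⟨t', ht⟩⟩ := ih (by omega) s t h
      have h1 := congrArg (fun z => z ^ p ^ (k - 1 - i)) h
      simp only [one_pow] at h1
      have hexpo : ∀ r : ℕ, p ^ i * r * p ^ (k - 1 - i) = p ^ (k - 1) * r := fun r => by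
        rw [mul_right_comm, ← pow_add, show i + (k - 1 - i) = k - 1 by omega]
      rw [(show Commute (a ^ s) (b ^ t) from hab _ _).mul_pow, ← pow_mul, ← pow_mul, hs, ht,
        hexpo, hexpo, pow_mul, pow_mul, ha, hb] at h1
      obtain ⟨⟨c, hc⟩, ⟨d, hd⟩⟩ := hindep _ _ h1
      exact ⟨⟨c, by rw [hs, hc, pow_succ, mul_assoc]⟩, ⟨d, by rw [ht, hd, pow_succ, mul_assoc]⟩⟩
  have hgen : ∀ i, ∀ x : G, x ^ p ^ i = 1 → i ≤ k → ∃ s t : ℕ, a ^ s * b ^ t = x := by
    intro i
    induction i with
    | zero => intro x hx _; exact ⟨0, 0, by simpa using hx.symm⟩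
    | succ i ih =>
      intro x hx hik
      obtain ⟨s, t, hst⟩ := hspan (x ^ p ^ i) (by rw [← pow_mul, ← pow_succ]; exact hx)
      set w := a ^ (p ^ (k - 1 - i) * s) * b ^ (p ^ (k - 1 - i) * t) with hw
      have hwp : w ^ p ^ i = x ^ p ^ i := by
        rw [hw, (show Commute (a ^ (p ^ (k - 1 - i) * s)) (b ^ (p ^ (k - 1 - i) * t)) from hab _ _).mul_pow,
          ← pow_mul, ← pow_mul]
        have hexpo : ∀ r : ℕ, p ^ (k - 1 - i) * r * p ^ i = p ^ (k - 1) * r := fun r => by
          rw [mul_right_comm, ← pow_add, show k - 1 - i + i = k - 1 by omega]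
        rw [hexpo, hexpo, pow_mul, pow_mul, ha, hb, hst]
      obtain ⟨s', t', hst'⟩ := ih (x * w⁻¹) (by
        rw [(show Commute x w⁻¹ from hab _ _).mul_pow, inv_pow, hwp, mul_inv_cancel]) (by omega)
      refine ⟨s' + p ^ (k - 1 - i) * s, t' + p ^ (k - 1 - i) * t, ?_⟩
      calc a ^ (s' + p ^ (k - 1 - i) * s) * b ^ (t' + p ^ (k - 1 - i) * t)
            = a ^ s' * (a ^ (p ^ (k - 1 - i) * s) * b ^ t') * b ^ (p ^ (k - 1 - i) * t) := by
              rw [pow_add, pow_add]; simp only [mul_assoc]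
        _ = a ^ s' * b ^ t' * w := by rw [hab _ (b ^ t'), hw]; simp only [mul_assoc]
        _ = x := by rw [hst', inv_mul_cancel_right]
  refine ⟨(MulEquiv.ofBijective φ ⟨?_, ?_⟩).symm⟩
  · rw [injective_iff_map_eq_one]
    intro w hw
    obtain ⟨h1, h2'⟩ := hinj k le_rfl _ _ hw
    have e1 := Nat.eq_zero_of_dvd_of_lt h1 (ZMod.val_lt _)
    have e2 := Nat.eq_zero_of_dvd_of_lt h2' (ZMod.val_lt _)
    rw [ZMod.val_eq_zero] at e1 e2
    exact Multiplicative.toAdd.injective (Prod.ext e1 e2)
  · intro x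
    obtain ⟨s, t, rfl⟩ := hgen k x (hexp x) le_rfl
    refine ⟨Multiplicative.ofAdd ((s : ZMod (p ^ k)), (t : ZMod (p ^ k))), ?_⟩
    show a ^ ((s : ZMod (p ^ k))).val * b ^ ((t : ZMod (p ^ k))).val = _
    rw [ZMod.val_natCast, ZMod.val_natCast]
    congr 1 <;>
      exact pow_eq_pow_iff_modEq.2 ((Nat.mod_modEq _ _).of_dvd (orderOf_dvd_of_pow_eq_one (hexp _)))

/-- For `p ≥ 5` an automorphism of order `p` of a homocyclic group fixes the elements of order `p`. -/
theorem fix_omega_of_five_le (hab : ∀ a b : G, a * b = b * a) (hp5 : 5 ≤ p)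
    (h2 : Nat.card (powKer hab p) = p ^ 2)
    (hroot : ∀ y : G, y ^ p = 1 → ∃ x, x ^ p = y) {α : MulAut G} (hα : α ^ p = 1) :
    ∀ x : G, x ^ p = 1 → α x = x := by
  classical
  letI : CommGroup G := { (inferInstance : Group G) with mul_comm := hab }
  let M := Additive G
  let T : Module.End ℤ M := (MonoidHom.toAdditive α.toMonoidHom).toIntLinearMap
  set β : Module.End ℤ M := T - 1 with hβ
  have hT : ∀ (n : ℕ) (m : M), (T ^ n) m = Additive.ofMul ((α ^ n) (Additive.toMul m)) := by
    intro n m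
    induction n with
    | zero => simp
    | succ n ih => rw [pow_succ', Module.End.mul_apply, ih, pow_succ', MulAut.mul_apply]; rfl
  have hTβ : T = β + 1 := by rw [hβ]; abel
  have hsum : ∀ m : M, ∑ i ∈ Finset.range (p + 1), p.choose i • (β ^ i) m = m := by
    intro m
    have h := hT p m
    rw [hα, MulAut.one_apply, hTβ, (Commute.one_right β).add_pow, LinearMap.sum_apply] at h
    simp only [one_pow, mul_one] at h
    refine Eq.trans (Finset.sum_congr rfl fun i _ => ?_) h
    rw [Module.End.mul_apply, Module.End.natCast_apply, map_nsmul]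
  have hch : ∀ (m : M), (∀ i, 2 ≤ i → p • (β ^ i) m = 0) → (β ^ p) m = 0 → p • β m = 0 := by
    intro m h1 h2'
    have h := hsum m
    rw [← Finset.sum_subset (s₁ := Finset.range 2) (by intro i hi; simp at hi ⊢; omega) (fun i hi hi' => ?_)] at h
    · simpa [Finset.sum_range_succ] using h
    · simp only [Finset.mem_range] at hi hi'
      rcases (show i < p ∨ i = p by omega) with hip | rfl
      · obtain ⟨c, hc⟩ := hp.out.dvd_choose_self (show i ≠ 0 by omega) hip
        rw [hc, mul_comm, mul_nsmul', h1 i (by omega), smul_zero]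
      · rw [h2', smul_zero]
  -- on the elements of order `p`
  have hkill : ∀ m : M, p • m = 0 → ∀ i, p • (β ^ i) m = 0 := fun m hm i => by
    rw [← map_nsmul, hm, map_zero]
  have hbp : ∀ m : M, p • m = 0 → (β ^ p) m = 0 := by
    intro m hm
    have h := hsum m
    rw [Finset.sum_range_succ, Finset.sum_eq_single_of_mem 0 (by simp [hp.out.pos]) (fun i hi hi0 => ?_)] at h
    · simpa using h
    · obtain ⟨c, hc⟩ := hp.out.dvd_choose_self hi0 (Finset.mem_range.1 hi)
      rw [hc, mul_comm, mul_nsmul', hkill m hm i, smul_zero]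
  let Om : AddSubgroup M := (powKer hab p).toAddSubgroup
  have hOm : ∀ m : M, m ∈ Om ↔ p • m = 0 := fun m => Iff.rfl
  have hOc : Nat.card Om = p ^ 2 := h2
  have hb2 : ∀ m : M, p • m = 0 → (β ^ 2) m = 0 := by
    let I : AddSubgroup M := Om.map β.toAddMonoidHom
    have hIO : I ≤ Om := by
      rintro _ ⟨m, hm, rfl⟩
      refine (hOm _).2 ?_
      show p • β m = 0
      rw [← map_nsmul, (hOm m).1 hm, map_zero]
    have hIc : Nat.card I ≤ p := by
      obtain ⟨i, hi, hic⟩ := (Nat.dvd_prime_pow hp.out).1 (hOc ▸ AddSubgroup.card_dvd_of_le hIO)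
      rcases (show i ≤ 1 ∨ i = 2 by omega) with h | h
      · rw [hic]; exact (Nat.pow_le_pow_right hp.out.pos h).trans_eq (pow_one p)
      · exfalso
        have hIeq : I = Om := AddSubgroup.eq_of_le_of_card_ge hIO (by rw [hic, h, hOc])
        have hall : ∀ n, ∀ m ∈ Om, ∃ m' ∈ Om, (β ^ n) m' = m := by
          intro n
          induction n with
          | zero => exact fun m hm => ⟨m, hm, rfl⟩
          | succ n ih =>
            intro m hm
            obtain ⟨m1, hm1, rfl⟩ := hIeq.ge hm
            obtain ⟨m2, hm2, rfl⟩ := ih m1 hm1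
            exact ⟨m2, hm2, by rw [pow_succ', Module.End.mul_apply]; rfl⟩
        have hbot : Om = ⊥ := (AddSubgroup.eq_bot_iff_forall _).2 fun m hm => by
          obtain ⟨m', hm', rfl⟩ := hall p m hm
          exact hbp m' ((hOm m').1 hm')
        rw [hbot, AddSubgroup.card_bot] at hOc
        nlinarith [hp.out.two_le]
    intro m hm
    by_contra hne
    have hmem : β m ∈ I := ⟨m, (hOm m).2 hm, rfl⟩
    have hI' : I.map β.toAddMonoidHom ≤ I := by
      rintro _ ⟨x, hx, rfl⟩; exact ⟨x, hIO hx, rfl⟩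
    have hI'eq : I.map β.toAddMonoidHom = I := by
      refine AddSubgroup.eq_of_le_of_card_ge hI' ?_
      obtain ⟨i, -, hic⟩ := (Nat.dvd_prime_pow hp.out).1
        (hOc ▸ AddSubgroup.card_dvd_of_le (hI'.trans hIO))
      have : 1 < Nat.card (I.map β.toAddMonoidHom) := by
        rw [Finite.one_lt_card_iff_nontrivial, AddSubgroup.nontrivial_iff_exists_ne_zero]
        exact ⟨_, ⟨β m, hmem, rfl⟩, by rw [sq, Module.End.mul_apply] at hne; exact hne⟩
      rw [hic] at this ⊢
      have hi0 : i ≠ 0 := fun e => by rw [e, pow_zero] at this; omega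
      exact hIc.trans (Nat.le_self_pow hi0 p)
    have hall : ∀ n, ∀ x ∈ I, ∃ x' ∈ I, (β ^ n) x' = x := by
      intro n
      induction n with
      | zero => exact fun x hx => ⟨x, hx, rfl⟩
      | succ n ih =>
        intro x hx
        obtain ⟨x1, hx1, rfl⟩ := hI'eq.ge hx
        obtain ⟨x2, hx2, rfl⟩ := ih x1 hx1
        exact ⟨x2, hx2, by rw [pow_succ', Module.End.mul_apply]; rfl⟩
    obtain ⟨x', hx', he⟩ := hall p _ hmem
    rw [hbp x' ((hOm x').1 (hIO hx'))] at he
    rw [sq, Module.End.mul_apply, ← he, map_zero] at hne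
    exact hne rfl
  intro y hy
  obtain ⟨x, hx⟩ := hroot y hy
  have hpm : p • (p • (Additive.ofMul x : M)) = 0 := by
    show Additive.ofMul ((x ^ p) ^ p) = 0
    rw [hx, hy]; rfl
  have h2i : ∀ i, 2 ≤ i → p • (β ^ i) (Additive.ofMul x : M) = 0 := by
    intro i hi
    rw [← map_nsmul, show i = (i - 2) + 2 by omega, pow_add, Module.End.mul_apply, hb2 _ hpm, map_zero]
  have h4 : ∀ i, 4 ≤ i → (β ^ i) (Additive.ofMul x : M) = 0 := by
    intro i hi
    rw [show i = (i - 4) + (2 + 2) by omega, pow_add, Module.End.mul_apply, pow_add, Module.End.mul_apply,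
      hb2 _ (h2i 2 le_rfl), map_zero]
  have h := hch _ h2i (h4 p (by omega))
  rw [← map_nsmul] at h
  have hy' : p • (Additive.ofMul x : M) = Additive.ofMul y := by rw [← hx]; rfl
  rw [hy', hβ, LinearMap.sub_apply, Module.End.one_apply, sub_eq_zero] at h
  exact Additive.ofMul.injective h

end Abelian

section Elementary

variable {P : Type*} [Group P] [Finite P] {p : ℕ} [hp : Fact p.Prime]

/-- Automorphisms of an elementary abelian group of order `p²` as invertible matrices. -/
theorem exists_mulAut_equiv_gl (hab : ∀ a b : P, a * b = b * a) (hexp : ∀ a : P, a ^ p = 1)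
    (hcard : Nat.card P = p ^ 2) : Nonempty (MulAut P ≃* GL (Fin 2) (ZMod p)) := by
  classical
  letI : CommGroup P := { (inferInstance : Group P) with mul_comm := hab }
  have hexp' : ∀ x : Additive P, p • x = 0 := fun x => by
    show Additive.ofMul ((Additive.toMul x) ^ p) = 0
    rw [hexp, ofMul_one]
  letI : Module (ZMod p) (Additive P) := AddCommGroup.zmodModule (n := p) hexp'
  haveI : Finite (Additive P) := inferInstanceAs (Finite P)
  haveI : Module.Finite (ZMod p) (Additive P) := Module.Finite.of_finite (R := ZMod p) (M := Additive P)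
  have hfr : Module.finrank (ZMod p) (Additive P) = 2 := by
    have h := Module.natCard_eq_pow_finrank (K := ZMod p) (V := Additive P)
    rw [Nat.card_zmod, show Nat.card (Additive P) = p ^ 2 from hcard] at h
    exact (Nat.pow_right_injective hp.out.two_le h).symm
  let b : Module.Basis (Fin 2) (ZMod p) (Additive P) :=
    @Module.finBasisOfFinrankEq (ZMod p) (Additive P) _ _ _ _ _ _ 2 hfr
  let e₁ : MulAut P ≃* (Module.End (ZMod p) (Additive P))ˣ :=
    { toFun := fun α => ⟨CfsgLib.PLocal.autRep p P α, CfsgLib.PLocal.autRep p P α⁻¹,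
        by rw [← map_mul, mul_inv_cancel, map_one], by rw [← map_mul, inv_mul_cancel, map_one]⟩
      invFun := fun L =>
        { toFun := fun x => Additive.toMul ((L : Module.End (ZMod p) (Additive P)) (Additive.ofMul x))
          invFun := fun x =>
            Additive.toMul ((↑L⁻¹ : Module.End (ZMod p) (Additive P)) (Additive.ofMul x))
          left_inv := fun x => by
            show Additive.toMul (((↑L⁻¹ : Module.End (ZMod p) (Additive P)) * ↑L) (Additive.ofMul x)) = x
            rw [Units.inv_mul]; rfl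
          right_inv := fun x => by
            show Additive.toMul (((↑L : Module.End (ZMod p) (Additive P)) * ↑L⁻¹) (Additive.ofMul x)) = x
            rw [Units.mul_inv]; rfl
          map_mul' := fun x y => by
            rw [ofMul_mul, map_add, toMul_add] }
      left_inv := fun α => MulEquiv.ext fun x => rfl
      right_inv := fun L => Units.ext (LinearMap.ext fun x => rfl)
      map_mul' := fun α β => Units.ext (map_mul (CfsgLib.PLocal.autRep p P) α β) }
  exact ⟨e₁.trans (Units.mapEquiv (LinearMap.toMatrixAlgEquiv b).toMulEquiv)⟩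

/-- A subgroup of `SL(2, p)` with more than one Sylow `p`-subgroup is everything. -/
theorem slTwo_eq_top (H : Subgroup SL(2, ZMod p)) (h : 1 < Nat.card (Sylow p H)) : H = ⊤ := by
  by_cases h2 : p = 2
  · subst h2
    haveI : Fact (Nat.Prime 2) := ⟨Nat.prime_two⟩
    refine eq_top_of_card_eq H ?_
    have hcard : Nat.card SL(2, ZMod 2) = 6 := by rw [Nat.card_eq_fintype_card]; decide
    have h1 : Nat.card (Sylow 2 H) ≡ 1 [MOD 2] := card_sylow_modEq_one 2 H
    have h3 : Nat.card (Sylow 2 H) ∣ Nat.card H := (Sylow.card_dvd_index (Classical.arbitrary _)).trans (index_dvd_card _)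
    have h4 := Subgroup.card_subgroup_dvd_card H
    rw [hcard] at h4 ⊢
    have hH : Nat.card H ≤ 6 := Nat.le_of_dvd (by norm_num) h4
    by_contra hne
    have h5 : Nat.card H ∈ ({1, 2, 3} : Finset ℕ) := by
      have := Nat.card_pos (α := H)
      interval_cases hh : Nat.card H <;> simp_all
    have h6 : Nat.card (Sylow 2 H) ≤ 3 := (Nat.le_of_dvd Nat.card_pos h3).trans (by
      simp only [Finset.mem_insert, Finset.mem_singleton] at h5; omega)
    unfold Nat.ModEq at h1
    have h7 : Nat.card (Sylow 2 H) = 3 := by omega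
    have h8 : Nat.card H = 3 := by
      rw [h7] at h3
      have := Nat.le_of_dvd Nat.card_pos h3
      simp only [Finset.mem_insert, Finset.mem_singleton] at h5; omega
    haveI : Subsingleton (Sylow 2 H) := ⟨fun A B => by
      have hb : ∀ C : Sylow 2 H, (C : Subgroup H) = ⊥ := fun C => Subgroup.card_eq_one.1 (by
        rw [C.card_eq_multiplicity, h8, Nat.factorization_eq_zero_of_not_dvd (by norm_num), pow_zero])
      exact Sylow.ext ((hb A).trans (hb B).symm)⟩
    rw [Nat.card_of_subsingleton (Classical.arbitrary (Sylow 2 H))] at h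
    omega
  · obtain ⟨φ, hφ, hle⟩ := CfsgLib.PLocal.exists_slTwo_le_of_two_sylow h2 H h
    rw [eq_top_iff, ← (MonoidHom.range_eq_top.2 ((Finite.injective_iff_surjective).1 hφ))]
    exact hle

end Elementary

section Main

variable {Ω : Type*} [Group Ω] {S : Subgroup Ω} [Finite S] {p : ℕ} [hp : Fact p.Prime]
  {F : Cfsg.FusionSystem S} {P : Subgroup Ω}

/-- An elementary abelian essential subgroup of order `p²` has an automizer containing `SL(2, p)`. -/
theorem exists_slTwo (hS : IsPGroup p S) (hF : F.IsSaturated p) (hP : F.IsEssential p P)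
    (hel : Cfsg.IsElementaryAbelian p P) (hcard : Nat.card P = p ^ 2) :
    ∃ K : Subgroup ↥(F.autGroup P), Nonempty (↥K ≃* Matrix.SpecialLinearGroup (Fin 2) (ZMod p)) := by
  haveI := finite_of_le hP.1.1
  have hab : ∀ a b : P, a * b = b * a := fun a b => hel.1.is_comm.comm a b
  obtain ⟨e⟩ := exists_mulAut_equiv_gl hab (fun a => Subtype.ext (by simpa using hel.2 a a.2)) hcard
  let θ : SL(2, ZMod p) →* MulAut P := e.symm.toMonoidHom.comp Matrix.SpecialLinearGroup.toGL
  have hθ : Function.Injective θ := e.symm.injective.comp Matrix.SpecialLinearGroup.toGL_injective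
  set A := F.autGroup P
  let H : Subgroup SL(2, ZMod p) := A.comap θ
  -- every `p`-element comes from `SL(2, p)`
  have hpel : ∀ α : MulAut P, (∃ k : ℕ, α ^ p ^ k = 1) → ∃ x, θ x = α := by
    rintro α ⟨k, hk⟩
    have hdet : Matrix.GeneralLinearGroup.det (e α) = 1 := by
      have h1 : Matrix.GeneralLinearGroup.det (e α) ^ p ^ k = 1 := by
        rw [← map_pow, ← map_pow, hk, map_one, map_one]
      refine Units.ext ?_
      have h2 := congrArg Units.val h1
      rw [Units.val_pow_eq_pow_val, ZMod.pow_card_pow] at h2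
      exact h2
    refine ⟨⟨(e α : Matrix (Fin 2) (Fin 2) (ZMod p)), congrArg Units.val hdet⟩, ?_⟩
    apply e.injective
    show e (e.symm (Matrix.SpecialLinearGroup.toGL _)) = e α
    rw [e.apply_symm_apply]
    exact Units.ext rfl
  have hH : 1 < Nat.card (Sylow p H) := by
    by_contra hcon
    haveI : Subsingleton (Sylow p H) := Finite.card_le_one_iff_subsingleton.1 (not_lt.1 hcon)
    obtain ⟨W⟩ : Nonempty (Sylow p H) := inferInstance
    have hall : ∀ x : H, (∃ k : ℕ, x ^ p ^ k = 1) → x ∈ (W : Subgroup H) := by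
      rintro x ⟨k, hk⟩
      have hz : IsPGroup p (zpowers x) := by
        rintro ⟨y, hy⟩
        obtain ⟨m, rfl⟩ := mem_zpowers_iff.1 hy
        refine ⟨k, Subtype.ext ?_⟩
        show (x ^ m) ^ p ^ k = 1
        rw [← zpow_natCast, ← zpow_mul, mul_comm, zpow_mul, zpow_natCast, hk, one_zpow]
      obtain ⟨W', hW'⟩ := hz.exists_le_sylow
      rw [Subsingleton.elim W W']
      exact hW' (mem_zpowers x)
    let N : Subgroup A :=
      (W : Subgroup H).map ((θ.comp H.subtype).codRestrict A fun x => x.2)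
    have hNp : IsPGroup p N := W.2.map _
    have hmem : ∀ a : A, (∃ k : ℕ, (a : MulAut P) ^ p ^ k = 1) → a ∈ N := by
      rintro a ⟨k, hk⟩
      obtain ⟨x, hx⟩ := hpel _ ⟨k, hk⟩
      have hxH : x ∈ H := show θ x ∈ A by rw [hx]; exact a.2
      refine ⟨⟨x, hxH⟩, hall _ ⟨k, Subtype.ext (hθ ?_)⟩, Subtype.ext hx⟩
      rw [SubmonoidClass.coe_pow, map_pow, hx, hk]
      exact (map_one θ).symm
    have hN : N.Normal := ⟨fun a ha g => hmem _ (by
      obtain ⟨k, hk⟩ := hNp ⟨a, ha⟩
      refine ⟨k, ?_⟩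
      have h1 : (a : MulAut P) ^ p ^ k = 1 :=
        congrArg (fun t => ((t : A) : MulAut P)) (congrArg Subtype.val hk)
      rw [Subgroup.coe_mul, Subgroup.coe_mul, Subgroup.coe_inv, conj_pow, h1, mul_one, mul_inv_cancel])⟩
    obtain ⟨h1, a, ha, hk⟩ := exists_pElement hS hF hP
    exact ha (h1 N hN hNp a (hmem a hk))
  have htop := slTwo_eq_top H hH
  refine ⟨(θ.codRestrict A fun x => htop.ge (mem_top x)).range,
    ⟨(MonoidHom.ofInjective (fun x y h => hθ (congrArg Subtype.val h))).symm⟩⟩

theorem isPGroup_P (hS : IsPGroup p S) (hP : F.IsEssential p P) : IsPGroup p P := hS.to_le hP.1.1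

/-- Essential subgroups of order `p²`. -/
theorem card_sq (hS : IsPGroup p S) (hF : F.IsSaturated p) (hP : F.IsEssential p P)
    (hcard : Nat.card P = p ^ 2) : Cfsg.IsElementaryAbelian p P := by
  haveI := finite_of_le hP.1.1
  have hPp := isPGroup_P hS hP
  have hab : ∀ a b : P, a * b = b * a := (IsPGroup.isMulCommutative_of_card_eq_prime_sq hcard).is_comm.comm
  refine ⟨⟨⟨hab⟩⟩, fun a ha => ?_⟩
  by_contra hne
  refine not_pTrivialAut hS hF hP ?_
  obtain ⟨i, hi, he⟩ := (Nat.dvd_prime_pow hp.out).1 (hcard ▸ orderOf_dvd_natCard (⟨a, ha⟩ : P))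
  have hi2 : i = 2 := by
    by_contra h2
    refine hne ?_
    have h1 : (⟨a, ha⟩ : P) ^ p = 1 := orderOf_dvd_iff_pow_eq_one.1
      (he ▸ (pow_dvd_pow p (show i ≤ 1 by omega)).trans (pow_one p).dvd)
    simpa using congrArg Subtype.val h1
  haveI : IsCyclic P := isCyclic_of_orderOf_eq_card _ (by rw [he, hi2, hcard])
  exact pTrivialAut_of_cyclic hPp

/-- Essential abelian subgroups of rank two. -/
theorem abelian_rank_two (hS : IsPGroup p S) (hF : F.IsSaturated p) (hP : F.IsEssential p P)
    (hab : ∀ a b : P, a * b = b * a) (h2 : Nat.card (powKer hab p) ≤ p ^ 2) :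
    (Cfsg.IsElementaryAbelian p P ∧ Nat.card P = p ^ 2) ∨
      (p ≤ 3 ∧ ∃ k : ℕ, 2 ≤ k ∧ Nonempty (P ≃* Multiplicative (ZMod (p ^ k) × ZMod (p ^ k)))) := by
  haveI := finite_of_le hP.1.1
  have hPp := isPGroup_P hS hP
  have hne := not_pTrivialAut hS hF hP
  obtain ⟨i, hi⟩ := IsPGroup.iff_card.1 (hPp.to_subgroup (powKer hab p))
  have hi2 : i = 2 := by
    rw [hi, Nat.pow_le_pow_iff_right hp.out.one_lt] at h2
    by_contra h
    refine hne (pTrivialAut_of_omega_le hPp hab ?_)
    rw [hi]
    exact (Nat.pow_le_pow_right hp.out.pos (show i ≤ 1 by omega)).trans_eq (pow_one p)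
  have hc : Nat.card (powKer hab p) = p ^ 2 := by rw [hi, hi2]
  obtain ⟨k, hk1, hexp, hsurj, ⟨e⟩⟩ := homocyclic_of_omega_sq hPp hab hc hne
  rcases (show k = 1 ∨ 2 ≤ k by omega) with rfl | hk2
  · refine Or.inl ⟨⟨⟨⟨hab⟩⟩, fun a ha => ?_⟩, ?_⟩
    · simpa using congrArg Subtype.val (hexp ⟨a, ha⟩)
    · rw [Nat.card_congr e.toEquiv]
      show Nat.card (ZMod (p ^ 1) × ZMod (p ^ 1)) = p ^ 2
      rw [Nat.card_prod, Nat.card_zmod, pow_one, sq]
  refine Or.inr ⟨?_, k, hk2, ⟨e⟩⟩
  by_contra h3
  have hp5 : 5 ≤ p := by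
    have := hp.out.two_le
    rcases (show p = 4 ∨ 5 ≤ p by omega) with h | h
    · exact absurd (h ▸ hp.out) (by norm_num)
    · exact h
  obtain ⟨hN, a, ha, n, hn⟩ := exists_pElement hS hF hP
  have hroot : ∀ y : P, y ^ p = 1 → ∃ x, x ^ p = y := by
    intro y hy
    obtain ⟨x, hx⟩ := hsurj y hy
    exact ⟨x ^ p ^ (k - 2), by rw [← pow_mul, ← pow_succ, show k - 2 + 1 = k - 1 by omega, hx]⟩
  -- automorphisms fixing the elements of order `p` are trivial
  have hfix : ∀ b : F.autGroup P, (∀ x : P, x ^ p = 1 → (b : MulAut P) x = x) → (b : MulAut P) = 1 := by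
    intro b hb
    let N : Subgroup (MulAut P) :=
      { carrier := {α | ∀ x : P, x ^ p = 1 → α x = x}
        one_mem' := fun x _ => rfl
        mul_mem' := fun {α β} hα hβ x hx => by rw [MulAut.mul_apply, hβ x hx, hα x hx]
        inv_mem' := fun {α} hα x hx => by
          conv_lhs => rw [← hα x hx]
          exact MulAut.inv_apply_self _ _ _ }
    haveI : N.Normal := ⟨fun β hβ γ x hx => by
      rw [MulAut.mul_apply, MulAut.mul_apply, hβ _ (by rw [← map_pow, hx, map_one]),
        MulAut.apply_inv_self]⟩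
    have hNp : IsPGroup p N := by
      rintro ⟨γ, hγ⟩
      obtain ⟨j, hj⟩ := pow_eq_one_of_fix_omega hPp hab hγ
      exact ⟨j, Subtype.ext hj⟩
    exact inn_eq_bot_of_comm hab (hN (N.comap (F.autGroup P).subtype) inferInstance
      (hNp.comap_of_injective _ (Subgroup.subtype_injective (F.autGroup P))) b hb)
  -- an element of order `p`
  have hgood : ∀ n : ℕ, ∀ b : F.autGroup P, (b : MulAut P) ^ p ^ n = 1 → (b : MulAut P) = 1 := by
    intro n
    induction n with
    | zero => intro b hb; simpa using hb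
    | succ n ih =>
      intro b hb
      have h1 : ((b ^ p ^ n : F.autGroup P) : MulAut P) ^ p = 1 := by
        rw [SubmonoidClass.coe_pow, ← pow_mul, ← pow_succ]; exact hb
      have h4 := hfix _ (fix_omega_of_five_le hab hp5 hc hroot h1)
      rw [SubmonoidClass.coe_pow] at h4
      exact ih b h4
  exact ha (by rw [hgood n a hn]; exact one_mem _)

/-- Essential subgroups of order `p³`. -/
theorem card_cube (hS : IsPGroup p S) (hF : F.IsSaturated p) (hP : F.IsEssential p P)
    (hcard : Nat.card P = p ^ 3) :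
    Cfsg.IsElementaryAbelian p P ∨ (Odd p ∧ Cfsg.IsExtraspecial p ↥P ∧ ∀ x ∈ P, x ^ p = 1) ∨
      (p = 2 ∧ Nonempty (↥P ≃* QuaternionGroup 2)) := by
  classical
  haveI := finite_of_le hP.1.1
  have hPp := isPGroup_P hS hP
  have hne := not_pTrivialAut hS hF hP
  have hp2 := hp.out.two_le
  have hle : ∀ {U : Subgroup P} {i : ℕ}, Nat.card U = p ^ i → i ≤ 3 := fun {U i} h =>
    (Nat.pow_le_pow_iff_right hp.out.one_lt).1 (h ▸ hcard ▸ Nat.le_of_dvd Nat.card_pos (card_subgroup_dvd_card U))
  by_cases hab : ∀ a b : P, a * b = b * a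
  · refine Or.inl ?_
    obtain ⟨i, hi⟩ := IsPGroup.iff_card.1 (hPp.to_subgroup (powKer hab p))
    have hi3 := hle hi
    rcases (show i ≤ 1 ∨ i = 2 ∨ i = 3 by omega) with h | h | h
    · refine absurd (pTrivialAut_of_omega_le hPp hab ?_) hne
      rw [hi]; exact (Nat.pow_le_pow_right hp.out.pos h).trans_eq (pow_one p)
    · exfalso
      subst h
      have h1 := card_powKer_mul_powRange hab p
      rw [hcard, hi, pow_succ] at h1
      have hc : Nat.card (powRange hab p) = p := (Nat.eq_of_mul_eq_mul_left (pow_pos hp.out.pos 2) h1).symm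
      have hLo : powRange hab p ≤ powKer hab p := fun y hy => by
        show y ^ p = 1
        have h3 := pow_card_eq_one' (x := (⟨y, hy⟩ : powRange hab p))
        rw [hc] at h3
        simpa using congrArg Subtype.val h3
      exact hne (pTrivialAut_of_omega_flag hPp hab (powRange hab p) powRange_char hLo hc.le
        (by rw [hi, hc, sq]))
    · subst h
      have htop : powKer hab p = ⊤ := eq_top_of_card_eq _ (by rw [hi, hcard])
      exact ⟨⟨⟨hab⟩⟩, fun a ha => by
        simpa using congrArg Subtype.val (show (⟨a, ha⟩ : P) ^ p = 1 from htop.ge (mem_top _))⟩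
  push Not at hab
  obtain ⟨a0, b0, hab0⟩ := hab
  -- the centre
  haveI : Nontrivial P := ⟨a0, b0, fun h => hab0 (by rw [h])⟩
  set Z := center P with hZdef
  have hquot : ¬ IsCyclic (P ⧸ Z) := fun h => hab0
    (commutative_of_cyclic_center_quotient (QuotientGroup.mk' Z) (QuotientGroup.ker_mk' Z).le a0 b0)
  have hZc : Nat.card Z = p := by
    obtain ⟨i, hi⟩ := IsPGroup.iff_card.1 (hPp.to_subgroup Z)
    have hi3 := hle hi
    have hi0 : i ≠ 0 := fun h => by
      haveI := hPp.center_nontrivial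
      have := Finite.one_lt_card (α := Z)
      rw [hi, h, pow_zero] at this
      omega
    have h1 := card_eq_card_quotient_mul_card_subgroup Z
    rw [hcard, hi] at h1
    rcases (show i = 1 ∨ i = 2 ∨ i = 3 by omega) with rfl | rfl | rfl
    · rw [hi, pow_one]
    · refine absurd (isCyclic_of_prime_card (p := p) ?_) hquot
      exact (Nat.eq_of_mul_eq_mul_right (pow_pos hp.out.pos 2) ((pow_succ' p 2).symm.trans h1)).symm
    · haveI : Subsingleton (P ⧸ Z) := Finite.card_le_one_iff_subsingleton.1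
        (Nat.eq_of_mul_eq_mul_right (pow_pos hp.out.pos 3) ((one_mul _).trans h1)).ge
      exact absurd isCyclic_of_subsingleton hquot
  have hQc : Nat.card (P ⧸ Z) = p ^ 2 := by
    have h1 := card_eq_card_quotient_mul_card_subgroup Z
    rw [hcard, hZc, pow_succ] at h1
    exact (Nat.eq_of_mul_eq_mul_right hp.out.pos h1).symm
  have hQab := (IsPGroup.isMulCommutative_of_card_eq_prime_sq hQc).is_comm.comm
  have hcom : ∀ x y : P, ⁅x, y⁆ ∈ Z := fun x y => (QuotientGroup.eq_one_iff _).1 (by
    show QuotientGroup.mk' Z ⁅x, y⁆ = 1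
    rw [map_commutatorElement, commutatorElement_eq_one_iff_mul_comm]; exact hQab _ _)
  have hpow : ∀ x : P, x ^ p ∈ Z := fun x => (QuotientGroup.eq_one_iff _).1 (by
    show QuotientGroup.mk' Z (x ^ p) = 1
    rw [map_pow]
    by_contra hx
    refine hquot (isCyclic_of_orderOf_eq_card (QuotientGroup.mk' Z x) ?_)
    obtain ⟨i, hi, he⟩ := (Nat.dvd_prime_pow hp.out).1 (hQc ▸ orderOf_dvd_natCard (QuotientGroup.mk' Z x))
    have : i = 2 := by
      by_contra h2
      exact hx (orderOf_dvd_iff_pow_eq_one.1 (he ▸ (pow_dvd_pow p (show i ≤ 1 by omega)).trans (pow_one p).dvd))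
    rw [he, this, hQc])
  have hZp : ∀ z ∈ Z, z ^ p = 1 := fun z hz => by
    have h3 := pow_card_eq_one' (x := (⟨z, hz⟩ : Z))
    rw [hZc] at h3
    simpa using congrArg Subtype.val h3
  have hex : Cfsg.IsExtraspecial p ↥P := CfsgLib.Coprime.isExtraspecial_of_central hPp Z hZc rfl hcom hpow
    (fun h => hab0 (mem_center_iff.1 (h.ge (mem_top b0)) a0))
  -- a characteristic subgroup of order `p²` is impossible
  have hflag : ∀ U : Subgroup P, Z ≤ U → Nat.card U = p ^ 2 → (∀ α : MulAut P, ∀ x ∈ U, α x ∈ U) → False := by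
    intro U hZU hUc hUchar
    haveI hUn : U.Normal := ⟨fun x hx g => by
      have h := U.mul_mem (hZU (hcom g x)) hx
      rwa [commutatorElement_def, inv_mul_cancel_right] at h⟩
    refine hne (pTrivialAut_of_series hPp 3 (fun i => if i = 0 then ⊥ else if i = 1 then Z else if i = 2 then U else ⊤)
      (by simp) (by simp) ?_ ?_ ?_ ?_)
    · intro i hi; interval_cases i <;> simp [hZU]
    · intro i hi α x hx
      interval_cases i
      · simp at hx ⊢; exact hx
      · exact characteristic_iff_map_le.1 (inferInstance : (center P).Characteristic) α ⟨x, hx, rfl⟩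
      · exact hUchar α x hx
      · trivial
    · intro i hi x _ y hy
      interval_cases i
      · simp at hy ⊢; exact hy
      · exact (inferInstance : (center P).Normal).conj_mem y hy x
      · exact hUn.conj_mem y hy x
    · intro i hi
      interval_cases i
      · simp [hZc]
      · simp [hZc, hUc, sq]
      · simp [hUc, hcard, pow_succ]
  have hcentral : ∀ u w g : P, Commute ⁅u, w⁆ g := fun u w g =>
    (mem_center_iff.1 (hcom u w) g).symm
  by_cases h2 : p = 2
  · refine Or.inr (Or.inr ⟨h2, ?_⟩)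
    subst h2
    by_cases huni : ∀ y : P, y ^ 2 = 1 → y ∈ Z
    · obtain hc | ⟨-, n, ⟨e⟩⟩ := CfsgLib.Solvable.isCyclic_or_quaternion_of_unique hPp fun H K hH hK => by
        have hEq : ∀ H : Subgroup P, Nat.card H = 2 → H = Z := fun H hH => by
          refine eq_of_le_of_card_ge (fun y hy => huni y ?_) (by rw [hH, hZc])
          have h3 := pow_card_eq_one' (x := (⟨y, hy⟩ : H))
          rw [hH] at h3
          simpa using congrArg Subtype.val h3
        rw [hEq H hH, hEq K hK]
      · exact absurd ((IsCyclic.commGroup (α := P)).mul_comm a0 b0) hab0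
      · have hn : n = 1 := by
          have h := Nat.card_congr e.toEquiv
          haveI : NeZero (2 ^ n) := ⟨by positivity⟩
          rw [hcard, Nat.card_eq_fintype_card, QuaternionGroup.card] at h
          rcases (show n = 0 ∨ n = 1 ∨ 2 ≤ n by omega) with rfl | rfl | hn2
          · norm_num at h
          · rfl
          · have : 4 ≤ 2 ^ n := le_trans (by norm_num) (Nat.pow_le_pow_right two_pos hn2)
            omega
        subst hn
        exact ⟨e⟩
    push Not at huni
    obtain ⟨y, hy2, hyZ⟩ := huni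
    obtain ⟨x, hx2⟩ : ∃ x : P, x ^ 2 ≠ 1 := by
      by_contra h
      push Not at h
      refine hab0 ?_
      have h1 := h (a0 * b0); have h2 := h a0; have h3 := h b0
      rw [sq] at h1 h2 h3
      calc a0 * b0 = a0 * (a0 * b0 * (a0 * b0)) * b0 := by rw [h1, mul_one]
        _ = (a0 * a0) * (b0 * a0) * (b0 * b0) := by group
        _ = b0 * a0 := by rw [h2, h3, one_mul, mul_one]
    have hxZ : x ∉ Z := fun h => hx2 (hZp x h)
    exfalso
    haveI hUn : (Z ⊔ zpowers x).Normal := ⟨fun w hw g => by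
      have h := mul_mem (mem_sup_left (T := zpowers x) (hcom g w)) hw
      rwa [commutatorElement_def, inv_mul_cancel_right] at h⟩
    have hUc : Nat.card (Z ⊔ zpowers x : Subgroup P) = 2 ^ 2 := by
      have hox : orderOf (QuotientGroup.mk' Z x) = 2 := orderOf_eq_prime
        (by rw [← map_pow]; exact (QuotientGroup.eq_one_iff _).2 (hpow x))
        (fun h => hxZ ((QuotientGroup.eq_one_iff x).1 h))
      have h2' : Z.relIndex (Z ⊔ zpowers x) = 2 := by
        rw [show Z.relIndex (Z ⊔ zpowers x) = ((QuotientGroup.mk' Z).ker).relIndex (Z ⊔ zpowers x) by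
            rw [QuotientGroup.ker_mk'],
          relIndex_ker, Subgroup.map_sup, QuotientGroup.map_mk'_self, bot_sup_eq, MonoidHom.map_zpowers,
          Nat.card_zpowers, hox]
      have h3 := relIndex_mul_relIndex ⊥ Z (Z ⊔ zpowers x) bot_le le_sup_left
      rw [relIndex_bot_left, relIndex_bot_left, h2', hZc] at h3
      omega
    have hU : ∀ w ∈ Z ⊔ zpowers x, w ∈ Z ∨ w * x⁻¹ ∈ Z := by
      intro w hw
      obtain ⟨z, hz, _, ⟨i, rfl⟩, rfl⟩ := mem_sup_of_normal_left.1 hw
      have hx2Z : x ^ (2 : ℤ) ∈ Z := by rw [zpow_ofNat]; exact hpow x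
      rcases Int.even_or_odd' i with ⟨j, rfl | rfl⟩
      · exact Or.inl (mul_mem hz (by show x ^ (2 * j) ∈ Z; rw [zpow_mul]; exact zpow_mem hx2Z j))
      · exact Or.inr (by
          show z * x ^ (2 * j + 1) * x⁻¹ ∈ Z
          rw [zpow_add, zpow_one, mul_assoc, mul_inv_cancel_right, zpow_mul]
          exact mul_mem hz (zpow_mem hx2Z j))
    have hyU : y ∉ Z ⊔ zpowers x := fun h => by
      rcases hU y h with h' | h'
      · exact hyZ h'
      · refine hx2 ?_
        have e : y = (y * x⁻¹) * x := (inv_mul_cancel_right y x).symm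
        rw [e, (show Commute (y * x⁻¹) x from (mem_center_iff.1 h' x).symm).mul_pow, hZp _ h', one_mul] at hy2
        exact hy2
    have hidx : (Z ⊔ zpowers x).index = 2 := by
      have h := card_mul_index (Z ⊔ zpowers x)
      rw [hUc, hcard] at h
      omega
    have hcc : ⁅y, x⁆ = x ^ 2 := by
      have hc1 : ⁅y, x⁆ ≠ 1 := fun h => by
        refine hxZ (mem_center_iff.2 fun g => ?_)
        have hle : Z ⊔ zpowers x ≤ centralizer ({x} : Set P) :=
          sup_le (fun z hz => mem_centralizer_singleton_iff.2 (mem_center_iff.1 hz x).symm)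
            (zpowers_le.2 (mem_centralizer_singleton_iff.2 rfl))
        have hy' : y ∈ centralizer ({x} : Set P) :=
          mem_centralizer_singleton_iff.2 (commutatorElement_eq_one_iff_mul_comm.1 h)
        by_cases hg : g ∈ Z ⊔ zpowers x
        · exact mem_centralizer_singleton_iff.1 (hle hg)
        · have h1 := hle ((mul_mem_iff_of_index_two hidx).2 (iff_of_false hg hyU))
          have h2 := mul_mem h1 (inv_mem hy')
          rw [mul_inv_cancel_right] at h2
          exact mem_centralizer_singleton_iff.1 h2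
      have hZ2 : ∀ u ∈ Z, ∀ v ∈ Z, u ≠ 1 → v ≠ 1 → u = v := by
        intro u hu v hv hu1 hv1
        obtain ⟨w0, -, huniq⟩ := (Nat.card_eq_two_iff' (1 : Z)).1 hZc
        exact congrArg Subtype.val ((huniq ⟨u, hu⟩ fun e => hu1 (congrArg Subtype.val e)).trans
          (huniq ⟨v, hv⟩ fun e => hv1 (congrArg Subtype.val e)).symm)
      exact hZ2 _ (hcom y x) _ (hpow x) hc1 hx2
    refine hflag _ le_sup_left hUc fun α w hw => ?_
    by_contra hout
    have hαw : (α w) ^ 2 = 1 := by
      have h1 := (mul_mem_iff_of_index_two hidx).2 (iff_of_false hout hyU)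
      have h1' : α w = (α w * y) * y⁻¹ := (mul_inv_cancel_right _ _).symm
      have hy1 : y⁻¹ = y := inv_eq_of_mul_eq_one_left (by rw [← sq]; exact hy2)
      rcases hU _ h1 with h' | h'
      · rw [h1', hy1, (show Commute (α w * y) y from (mem_center_iff.1 h' y).symm).mul_pow, hZp _ h', hy2, one_mul]
      · have e : α w = (α w * y * x⁻¹) * (x * y) := by
          have : α w = α w * y * x⁻¹ * x * y⁻¹ := by group
          rw [hy1, mul_assoc (α w * y * x⁻¹)] at this
          exact this
        rw [e, (show Commute (α w * y * x⁻¹) (x * y) from (mem_center_iff.1 h' (x * y)).symm).mul_pow, hZp _ h',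
          one_mul, CfsgLib.PGroup.mul_pow_of_central_comm x y (hcentral y x) 2, hy2, mul_one,
          Nat.choose_self, pow_one, hcc, ← pow_add]
        have := hZp _ (hpow x)
        rwa [← pow_mul] at this
    rcases hU w hw with h' | h'
    · exact hout (mem_sup_left (characteristic_iff_map_le.1 (inferInstance : (center P).Characteristic) α ⟨w, h', rfl⟩))
    · have : w ^ 2 = x ^ 2 := by
        rw [(inv_mul_cancel_right w x).symm, (show Commute (w * x⁻¹) x from (mem_center_iff.1 h' x).symm).mul_pow,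
          hZp _ h', one_mul]
      rw [← map_pow, this, MulEquiv.map_eq_one_iff] at hαw
      exact hx2 hαw
  · have hodd : Odd p := hp.out.odd_of_ne_two h2
    refine Or.inr (Or.inl ⟨hodd, hex, fun x hx => ?_⟩)
    -- the power map
    let f : P →* P := MonoidHom.mk' (fun w => w ^ p) fun u w => by
      rw [CfsgLib.PGroup.mul_pow_of_central_comm u w (hcentral w u)]
      obtain ⟨c, hc⟩ : p ∣ p.choose 2 := hp.out.dvd_choose_self (by norm_num) (by omega)
      rw [hc, pow_mul, hZp _ (hcom w u), one_pow, mul_one]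
    by_contra hx1
    have hrange : f.range = Z := by
      refine eq_of_le_of_card_ge (fun _ ⟨w, hw⟩ => hw ▸ hpow w) ?_
      rw [hZc]
      obtain ⟨i, hi⟩ := IsPGroup.iff_card.1 (hPp.to_subgroup f.range)
      rw [hi]
      refine Nat.le_self_pow (fun h0 => hx1 ?_) p
      rw [h0, pow_zero, Subgroup.card_eq_one] at hi
      have : f ⟨x, hx⟩ ∈ f.range := ⟨_, rfl⟩
      rw [hi, mem_bot] at this
      simpa [f] using congrArg Subtype.val this
    refine hflag f.ker (fun z hz => MonoidHom.mem_ker.2 (hZp z hz)) ?_ fun α w hw =>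
      MonoidHom.mem_ker.2 (by
        show (α w) ^ p = 1
        rw [← map_pow, show w ^ p = 1 from hw, map_one])
    have h := card_mul_index f.ker
    rw [index_ker, hrange, hZc, hcard, pow_succ] at h
    exact Nat.eq_of_mul_eq_mul_right hp.out.pos h

end Main

end CfsgLib.Invol.EssentialSmall
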