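import Cfsg.Agent.Lib.Invol.Wreathed
import Cfsg.Agent.Lib.Invol.TwoGroups
import Cfsg.Agent.Lib.Invol.FusionBasics

/-!
The subgroups `Q Z(S)` and the quaternion subgroups of a wreathed 2-group.
-/

set_option autoImplicit false
set_option linter.unusedSectionVars false

namespace CfsgLib.Invol

open Subgroup

/-- Transport of wreathed generators along an isomorphism. -/
def WrData.congr {S S' : Type*} [Group S] [Group S'] (D : WrData S) (e : S ≃* S') : WrData S' where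
  n := D.n
  two_le := D.two_le
  x := e D.x
  y := e D.y
  t := e D.t
  orderOf_x := by rw [MulEquiv.orderOf_eq, D.orderOf_x]
  comm := D.comm.map e
  inter := by
    have h := congrArg (Subgroup.map e.toMonoidHom) D.inter
    rw [Subgroup.map_inf _ _ _ e.injective, MonoidHom.map_zpowers, MonoidHom.map_zpowers,
      Subgroup.map_bot] at h
    exact h
  orderOf_t := by rw [MulEquiv.orderOf_eq, D.orderOf_t]
  conj_x := by rw [← map_inv, ← map_mul, ← map_mul, D.conj_x]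
  card_eq := by rw [← Nat.card_congr e.toEquiv, D.card_eq]

theorem WrData.congr_el {S S' : Type*} [Group S] [Group S'] (D : WrData S) (e : S ≃* S') (i j : ℤ) :
    (D.congr e).el i j = e (D.el i j) := by
  simp [WrData.el, WrData.congr]

namespace WrData

variable {S : Type*} [Group S] (D : WrData S)

/-- A quarter of the order of the generators. -/
def k : ℤ := 2 ^ (D.n - 2)

theorem h_eq_two_k : D.h = 2 * D.k := by
  unfold h k
  rw [← pow_succ']
  congr 1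
  have := D.two_le
  omega

theorem not_N_dvd_h : ¬ D.N ∣ D.h := fun hd => by
  have := Int.le_of_dvd D.h_pos hd
  have := D.N_eq_two_h
  have := D.h_pos
  omega

theorem N_dvd_mul_h {m : ℤ} : D.N ∣ D.h * m ↔ Even m := by
  rw [D.N_eq_two_h, mul_comm 2, mul_dvd_mul_iff_left D.h_pos.ne', even_iff_two_dvd]

theorem not_h_dvd_one : ¬ D.h ∣ 1 := by
  intro hd
  have := Int.le_of_dvd one_pos hd
  obtain ⟨j, hj⟩ := D.h_eq_two_mul
  have := D.h_pos
  omega

theorem h_dvd_sub_cases {a b : ℤ} (hd : D.h ∣ a - b) :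
    D.el a b = D.el b b ∨ D.el a b = D.el b b * D.el D.h 0 := by
  obtain ⟨m, hm⟩ := hd
  rcases Int.even_or_odd' m with ⟨j, rfl | rfl⟩
  · exact Or.inl (D.el_eq_iff.2 ⟨⟨j, by rw [D.N_eq_two_h]; linarith⟩, ⟨0, by ring⟩⟩)
  · right
    rw [el_mul, el_eq_iff]
    exact ⟨⟨j, by rw [D.N_eq_two_h]; linarith⟩, ⟨0, by ring⟩⟩

/-- The subgroup `Q Z(S)` for the standard quaternion subgroup `Q`. -/
def V0 : Subgroup S where
  carrier := {s | ∃ a b, D.h ∣ a - b ∧ (s = D.el a b ∨ s = D.el a b * D.t)}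
  one_mem' := ⟨0, 0, by simp, Or.inl D.el_zero.symm⟩
  mul_mem' := by
    rintro _ _ ⟨a, b, hab, (rfl | rfl)⟩ ⟨c, d, hcd, (rfl | rfl)⟩
    · exact ⟨a + c, b + d, by simpa [add_sub_add_comm] using dvd_add hab hcd, Or.inl (D.el_mul a b c d)⟩
    · exact ⟨a + c, b + d, by simpa [add_sub_add_comm] using dvd_add hab hcd, Or.inr (D.el_mul_t a b c d)⟩
    · refine ⟨a + d, b + c, ?_, Or.inr (D.mul_t_mul_el a b c d)⟩
      rw [show a + d - (b + c) = a - b - (c - d) by ring]; exact dvd_sub hab hcd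
    · refine ⟨a + d, b + c, ?_, Or.inl (D.mul_t_mul_t a b c d)⟩
      rw [show a + d - (b + c) = a - b - (c - d) by ring]; exact dvd_sub hab hcd
  inv_mem' := by
    rintro _ ⟨a, b, hab, (rfl | rfl)⟩
    · refine ⟨-a, -b, ?_, Or.inl (D.el_inv a b)⟩
      rw [show -a - -b = -(a - b) by ring]; exact hab.neg_right
    · refine ⟨-b, -a, ?_, Or.inr (D.inv_t a b)⟩
      rwa [show -b - -a = a - b by ring]

theorem el_mem_V0 {a b : ℤ} : D.el a b ∈ D.V0 ↔ D.h ∣ a - b := by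
  constructor
  · rintro ⟨c, d, hcd, e | e⟩
    · obtain ⟨⟨p, hp⟩, q, hq⟩ := D.el_eq_iff.1 e
      obtain ⟨m, hm⟩ := hcd
      refine ⟨m + 2 * p - 2 * q, ?_⟩
      rw [D.N_eq_two_h] at hp hq; linarith
    · exact absurd e.symm (D.el_t_ne c d a b)
  · exact fun hd => ⟨a, b, hd, Or.inl rfl⟩

theorem el_t_mem_V0 {a b : ℤ} : D.el a b * D.t ∈ D.V0 ↔ D.h ∣ a - b := by
  constructor
  · rintro ⟨c, d, hcd, e | e⟩
    · exact absurd e (D.el_t_ne a b c d)
    · obtain ⟨⟨p, hp⟩, q, hq⟩ := D.el_t_eq_iff.1 e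
      obtain ⟨m, hm⟩ := hcd
      refine ⟨m + 2 * p - 2 * q, ?_⟩
      rw [D.N_eq_two_h] at hp hq; linarith
  · exact fun hd => ⟨a, b, hd, Or.inr rfl⟩

theorem center_le_V0 : Subgroup.center S ≤ D.V0 := fun s hs => by
  obtain ⟨i, rfl⟩ := D.mem_center_iff.1 hs
  exact D.el_mem_V0.2 (by simp)

theorem e1_mem_V0 : D.el D.h 0 ∈ D.V0 := D.el_mem_V0.2 (by simp)

theorem t_mem_V0 : D.el 0 0 * D.t ∈ D.V0 := D.el_t_mem_V0.2 (by simp)

/-- Commutators in `V0` are central. -/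
theorem V0_comm {p q : S} (hp : p ∈ D.V0) (hq : q ∈ D.V0) :
    p * q * p⁻¹ * q⁻¹ ∈ Subgroup.center S := by
  have cen : ∀ x : ℤ, D.h ∣ x → D.el x (-x) ∈ Subgroup.center S := fun x hx =>
    D.mem_center_iff.2 ⟨x, D.el_eq_iff.2 ⟨⟨0, by ring⟩, by
      rw [show -x - x = -(2 * x) by ring]; exact (D.dvd_two_mul_iff.2 hx).neg_right⟩⟩
  obtain ⟨a, b, hab, rfl | rfl⟩ := hp <;> obtain ⟨c, d, hcd, rfl | rfl⟩ := hq
  · rw [D.conj_el, mul_inv_cancel]; exact one_mem _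
  · rw [D.conj_t_by_el, D.inv_t, D.mul_t_mul_t]
    convert cen (a - b) hab using 1
    rw [D.el_eq_iff]; exact ⟨⟨0, by ring⟩, ⟨0, by ring⟩⟩
  · rw [D.conj_el_by_t, D.el_inv, D.el_mul]
    convert cen (d - c) (by rw [show d - c = -(c - d) by ring]; exact hcd.neg_right) using 1
    rw [D.el_eq_iff]; exact ⟨⟨0, by ring⟩, ⟨0, by ring⟩⟩
  · rw [D.mul_t_mul_t, D.inv_t, D.el_mul_t, D.inv_t, D.mul_t_mul_t]
    convert cen (a - b - (c - d)) (dvd_sub hab hcd) using 1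
    rw [D.el_eq_iff]; exact ⟨⟨0, by ring⟩, ⟨0, by ring⟩⟩

theorem center_of_commute_V0 {s : S} (hs : s ∈ D.V0) (h1 : Commute s (D.el D.h 0))
    (h2 : Commute s (D.el 0 0 * D.t)) : s ∈ Subgroup.center S := by
  obtain ⟨a, b, hab, rfl | rfl⟩ := hs
  · exact D.mem_center_iff.2 ⟨a, D.el_eq_iff.2 ⟨⟨0, by ring⟩, by
      rw [show b - a = -(a - b) by ring]; exact (D.el_commute_t_iff.1 h2).neg_right⟩⟩
  · exfalso
    have := D.el_commute_t_iff.1 h1.symm
    rw [sub_zero] at this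
    exact D.not_N_dvd_h this

/-- An element of `S` acting trivially on `V0` modulo the centre lies in `V0`. -/
theorem mem_V0_of_trivial {s : S}
    (h : s * (D.el 0 0 * D.t) * s⁻¹ * (D.el 0 0 * D.t)⁻¹ ∈ Subgroup.center S) : s ∈ D.V0 := by
  rw [D.mem_center_iff] at h
  obtain ⟨c, hc⟩ := h
  rcases D.cases s with ⟨a, b, rfl⟩ | ⟨a, b, rfl⟩
  · rw [D.conj_t_by_el, D.inv_t, D.mul_t_mul_t, D.el_eq_iff] at hc
    refine D.el_mem_V0.2 (D.dvd_two_mul_iff.1 ?_)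
    exact (dvd_sub hc.1 hc.2).trans (dvd_of_eq (by ring))
  · rw [D.mul_t_mul_t, D.inv_t, D.el_mul_t, D.inv_t, D.mul_t_mul_t, D.el_eq_iff] at hc
    refine D.el_t_mem_V0.2 (D.dvd_two_mul_iff.1 ?_)
    exact (dvd_sub hc.1 hc.2).trans (dvd_of_eq (by ring))

theorem conj_invol_to_t {a b : ℤ} (h : D.N ∣ a + b) :
    D.el (-a) 0 * (D.el a b * D.t) * (D.el (-a) 0)⁻¹ = D.el 0 0 * D.t := by
  rw [D.conj_t_by_el, D.el_t_eq_iff]
  exact ⟨⟨0, by ring⟩, h.trans (dvd_of_eq (by ring))⟩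

theorem conj_same_sum {a b c d : ℤ} (h : D.N ∣ a + b - (c + d)) :
    D.el (c - a) 0 * (D.el a b * D.t) * (D.el (c - a) 0)⁻¹ = D.el c d * D.t := by
  rw [D.conj_t_by_el, D.el_t_eq_iff]
  exact ⟨⟨0, by ring⟩, h.trans (dvd_of_eq (by ring))⟩

/-! ### Quaternion subgroups -/

theorem quat_data {Q : Subgroup S} (e : Q ≃* QuaternionGroup 2) :
    ∃ i a b : ℤ, D.el i (-i) ∈ Q ∧ D.el a b * D.t ∈ Q ∧ D.h ∣ 2 * i ∧ ¬ D.N ∣ 2 * i ∧
      D.N ∣ a + b - D.h ∧
      (∀ u ∈ Q, u = 1 ∨ u = D.el i (-i) * D.el i (-i) ∨ u = D.el i (-i) ∨ u = (D.el i (-i))⁻¹ ∨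
        u = D.el a b * D.t ∨ u = (D.el a b * D.t)⁻¹ ∨ u = D.el i (-i) * (D.el a b * D.t) ∨
        u = (D.el i (-i) * (D.el a b * D.t))⁻¹) := by
  have := D.finite
  -- an element of order four inside `A`
  have ex : ∃ v ∈ Q, v ∈ D.A ∧ v * v ≠ 1 := by
    have key : ∀ p q : QuaternionGroup 2, p = QuaternionGroup.a 1 → q = QuaternionGroup.xa 0 →
        p * p ≠ 1 ∧ q * q ≠ 1 ∧ (p * q) * (p * q) ≠ 1 := by decide
    obtain ⟨h1, h2, h3⟩ := key _ _ rfl rfl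
    have lift : ∀ p : QuaternionGroup 2, p * p ≠ 1 → (e.symm p : S) * (e.symm p : S) ≠ 1 := fun p hp hc =>
      hp (e.symm.injective (by rw [map_mul, map_one]; exact Subtype.ext hc))
    by_cases hp : (e.symm (QuaternionGroup.a 1) : S) ∈ D.A
    · exact ⟨_, SetLike.coe_mem _, hp, lift _ h1⟩
    by_cases hq : (e.symm (QuaternionGroup.xa 0) : S) ∈ D.A
    · exact ⟨_, SetLike.coe_mem _, hq, lift _ h2⟩
    refine ⟨_, SetLike.coe_mem _, ?_, lift _ h3⟩
    rw [map_mul]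
    exact (D.mul_mem_A_iff hp).2 hq
  obtain ⟨v, hvQ, hvA, hv2⟩ := ex
  -- an element outside `A`
  obtain ⟨w, hwQ, hwA⟩ : ∃ w ∈ Q, w ∉ D.A := by
    by_contra hcon
    push Not at hcon
    have key : ∃ p q : QuaternionGroup 2, p * q ≠ q * p := by decide
    obtain ⟨p, q, hpq⟩ := key
    exact hpq (e.symm.injective (by
      rw [map_mul, map_mul]
      exact Subtype.ext (D.A_commute (hcon _ (SetLike.coe_mem _)) (hcon _ (SetLike.coe_mem _))).eq))
  have hw2 : w * w ≠ 1 := by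
    intro hc
    have hu : ∀ p q : QuaternionGroup 2, q * q = 1 → q = 1 ∨ p * p = 1 ∨ q = p * p := by decide
    rcases hu (e ⟨v, hvQ⟩) (e ⟨w, hwQ⟩) (by rw [← map_mul, ← map_one e]; exact congrArg e (Subtype.ext hc))
      with h | h | h
    · rw [← map_one e, EmbeddingLike.apply_eq_iff_eq] at h
      exact hwA (by rw [show w = 1 from congrArg Subtype.val h]; exact one_mem _)
    · rw [← map_mul, ← map_one e, EmbeddingLike.apply_eq_iff_eq] at h
      exact hv2 (congrArg Subtype.val h)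
    · rw [← map_mul, EmbeddingLike.apply_eq_iff_eq] at h
      exact hwA (by rw [show w = v * v from congrArg Subtype.val h]; exact mul_mem hvA hvA)
  obtain ⟨hall, hwv, -, hv4, hww, -⟩ := q8_facts e hvQ hwQ hv2 hw2
    (fun h => hwA (by rw [h]; exact hvA)) (fun h => hwA (by rw [h]; exact inv_mem hvA))
  obtain ⟨i, j, rfl⟩ := hvA
  rcases D.cases w with ⟨a, b, rfl⟩ | ⟨a, b, rfl⟩
  · exact absurd (D.el_mem_A a b) hwA
  rw [D.conj_el_by_t, D.el_inv, D.el_eq_iff] at hwv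
  have hij : D.el i j = D.el i (-i) := D.el_eq_iff.2 ⟨⟨0, by ring⟩, hwv.1.trans (dvd_of_eq (by ring))⟩
  rw [hij] at hvQ hv2 hall hww hv4
  rw [el_mul, el_mul, el_eq_one_iff] at hv4
  rw [el_mul, Ne, el_eq_one_iff] at hv2
  have h2i : D.h ∣ 2 * i := D.dvd_two_mul_iff.1 (hv4.1.trans (dvd_of_eq (by ring)))
  have hn2i : ¬ D.N ∣ 2 * i := fun hc =>
    hv2 ⟨hc.trans (dvd_of_eq (by ring)), hc.neg_right.trans (dvd_of_eq (by ring))⟩
  refine ⟨i, a, b, hvQ, hwQ, h2i, hn2i, ?_, hall⟩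
  rw [D.sq_el_t, el_mul, el_eq_iff] at hww
  obtain ⟨m, hm⟩ := h2i
  obtain ⟨l, rfl⟩ : Odd m := by
    rw [← Int.not_even_iff_odd]
    intro hev
    exact hn2i (hm ▸ D.N_dvd_mul_h.2 hev)
  have h3 := dvd_add hww.1 (D.N_dvd_mul_h.2 ⟨l, by ring⟩ : D.N ∣ D.h * (2 * l))
  exact h3.trans (dvd_of_eq (by linarith))

include D in
theorem center_of_commute_quat {Q : Subgroup S} (e : Q ≃* QuaternionGroup 2) {s : S}
    (hs : ∀ u ∈ Q, Commute s u) : s ∈ Subgroup.center S := by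
  obtain ⟨i, a, b, hv, hw, -, hn, -, -⟩ := D.quat_data e
  rcases D.cases s with ⟨c, d, rfl⟩ | ⟨c, d, rfl⟩
  · exact D.mem_center_iff.2 ⟨c, D.el_eq_iff.2 ⟨⟨0, by ring⟩, by
      rw [show d - c = -(c - d) by ring]; exact (D.el_commute_t_iff.1 (hs _ hw)).neg_right⟩⟩
  · exfalso
    have := D.el_commute_t_iff.1 (hs _ hv).symm
    exact hn (this.trans (dvd_of_eq (by ring)))

/-- `Q Z(S)` is conjugate to `V0`. -/
theorem quat_sup_center {Q : Subgroup S} (e : Q ≃* QuaternionGroup 2) :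
    ∃ c : ℤ, (Q ⊔ Subgroup.center S).map (MulAut.conj (D.el c 0)).toMonoidHom = D.V0 := by
  obtain ⟨i, a, b, hvQ, hwQ, h2i, hn2i, hab, hall⟩ := D.quat_data e
  refine ⟨D.k - a, ?_⟩
  have hcv : D.el (D.k - a) 0 * D.el i (-i) * (D.el (D.k - a) 0)⁻¹ = D.el i (-i) := D.conj_el _ _ _ _
  have hcw : D.el (D.k - a) 0 * (D.el a b * D.t) * (D.el (D.k - a) 0)⁻¹ = D.el D.k D.k * D.t :=
    D.conj_same_sum (by rw [← two_mul, ← D.h_eq_two_k]; exact hab)
  set f := (MulAut.conj (D.el (D.k - a) 0)).toMonoidHom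
  have hv0 : D.el i (-i) ∈ D.V0 := D.el_mem_V0.2 (h2i.trans (dvd_of_eq (by ring)))
  have hw0 : D.el D.k D.k * D.t ∈ D.V0 := D.el_t_mem_V0.2 (by simp)
  apply le_antisymm
  · rw [Subgroup.map_sup]
    refine sup_le ?_ ?_
    · rintro _ ⟨u, hu, rfl⟩
      have e1 : f (D.el i (-i)) ∈ D.V0 := by rw [show f (D.el i (-i)) = _ from hcv]; exact hv0
      have e2 : f (D.el a b * D.t) ∈ D.V0 := by rw [show f (D.el a b * D.t) = _ from hcw]; exact hw0
      show u ∈ D.V0.comap f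
      have e1' : D.el i (-i) ∈ D.V0.comap f := e1
      have e2' : D.el a b * D.t ∈ D.V0.comap f := e2
      rcases hall u hu with rfl | rfl | rfl | rfl | rfl | rfl | rfl | rfl
      exacts [one_mem _, mul_mem e1' e1', e1', inv_mem e1', e2', inv_mem e2', mul_mem e1' e2',
        inv_mem (mul_mem e1' e2')]
    · rintro _ ⟨u, hu, rfl⟩
      show D.el (D.k - a) 0 * u * (D.el (D.k - a) 0)⁻¹ ∈ D.V0
      rw [Subgroup.mem_center_iff.1 hu, mul_inv_cancel_right]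
      exact D.center_le_V0 hu
  · have hz : ∀ c, D.el c c ∈ (Q ⊔ Subgroup.center S).map f := fun c =>
      ⟨D.el c c, Subgroup.mem_sup_right (D.mem_center_iff.2 ⟨c, rfl⟩), D.conj_el _ _ _ _⟩
    have hT : D.el 0 0 * D.t ∈ (Q ⊔ Subgroup.center S).map f := by
      have h1 := mul_mem (hz (-D.k)) (Subgroup.mem_map_of_mem f (Subgroup.mem_sup_left hwQ :
        D.el a b * D.t ∈ Q ⊔ Subgroup.center S))
      rw [show f (D.el a b * D.t) = _ from hcw, D.el_mul_t, neg_add_cancel] at h1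
      exact h1
    have he : D.el D.h 0 ∈ (Q ⊔ Subgroup.center S).map f := by
      have h1 := mul_mem (Subgroup.mem_map_of_mem f (Subgroup.mem_sup_left hvQ :
        D.el i (-i) ∈ Q ⊔ Subgroup.center S)) (hz i)
      rw [show f (D.el i (-i)) = _ from hcv, D.el_mul, neg_add_cancel] at h1
      convert h1 using 1
      rw [D.el_eq_iff]
      refine ⟨?_, ⟨0, by ring⟩⟩
      obtain ⟨m, hm⟩ := h2i
      obtain ⟨l, rfl⟩ : Odd m := by
        rw [← Int.not_even_iff_odd]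
        intro hev
        exact hn2i (hm ▸ D.N_dvd_mul_h.2 hev)
      exact ⟨-l, by rw [D.N_eq_two_h]; linarith⟩
    rintro _ ⟨x, y, hxy, hform⟩
    have hA : D.el x y ∈ (Q ⊔ Subgroup.center S).map f := by
      rcases D.h_dvd_sub_cases hxy with h | h <;> rw [h]
      exacts [hz y, mul_mem (hz y) he]
    rcases hform with rfl | rfl
    · exact hA
    · have := mul_mem hA hT
      rwa [D.el_mul_t, add_zero, add_zero] at this

/-- The standard quaternion subgroup. -/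
def Q0 : Subgroup S := Subgroup.closure {D.el D.k (-D.k), D.el D.k D.k * D.t}

theorem orderOf_el_neg : orderOf (D.el 1 (-1)) = 2 ^ D.n := by
  refine Nat.dvd_antisymm ?_ ?_
  · rw [← Int.natCast_dvd_natCast, orderOf_dvd_iff_zpow_eq_one, natCast_pow, el_zpow, el_eq_one_iff]
    exact ⟨⟨1, by ring⟩, ⟨-1, by ring⟩⟩
  · rw [← Int.natCast_dvd_natCast, natCast_pow]
    have := zpow_natCast (D.el 1 (-1)) (orderOf (D.el 1 (-1)))
    rw [pow_orderOf_eq_one, el_zpow, one_mul, el_eq_one_iff] at this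
    exact this.1

theorem Q0_equiv : Nonempty (D.Q0 ≃* QuaternionGroup 2) := by
  have hk := D.h_eq_two_k
  have hN := D.N_eq_two_h
  have h2 : D.el D.k (-D.k) * D.el D.k (-D.k) = D.z := by
    rw [el_mul, z, el_eq_iff]; exact ⟨⟨0, by linarith⟩, ⟨-1, by linarith⟩⟩
  refine exists_mulEquiv_quaternion ?_ ?_ ?_ ?_
  · refine orderOf_eq_prime_pow (p := 2) (n := 1) ?_ ?_
    · rw [pow_one, pow_two, h2]; exact invol_ne_one D.orderOf_z
    · rw [show 2 ^ (1 + 1) = 2 * 2 from rfl, pow_mul, pow_two (D.el _ _), h2, pow_two,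
        invol_mul_self D.orderOf_z]
  · rw [pow_two, h2, sq_el_t, z, el_eq_iff]; exact ⟨⟨0, by linarith⟩, ⟨0, by linarith⟩⟩
  · rw [conj_el_by_t, el_inv, el_eq_iff]; exact ⟨⟨0, by ring⟩, ⟨0, by ring⟩⟩
  · rintro ⟨i, hi⟩
    simp only [el_zpow] at hi
    exact D.el_t_ne _ _ _ _ hi.symm

theorem Q0_le : D.Q0 ≤ D.V0 := by
  rw [Q0, Subgroup.closure_le]
  rintro w (rfl | rfl)
  · exact D.el_mem_V0.2 ⟨1, by rw [D.h_eq_two_k]; ring⟩
  · exact D.el_t_mem_V0.2 (by simp)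

/-- The residual candidate. -/
def Y0 : Subgroup S := Subgroup.closure {D.el 1 (-1), D.el D.h 0 * D.t}

theorem Y0_equiv : Nonempty (D.Y0 ≃* QuaternionGroup (2 ^ (D.n - 1))) := by
  have : NeZero (2 ^ (D.n - 1)) := ⟨by positivity⟩
  refine exists_mulEquiv_quaternion ?_ ?_ ?_ ?_
  · rw [orderOf_el_neg, ← pow_succ']; congr 1; have := D.two_le; omega
  · rw [sq_el_t, ← zpow_natCast, el_zpow, el_eq_iff]
    push_cast
    exact ⟨⟨0, by rw [h]; ring⟩, ⟨1, by rw [D.N_eq_two_h, h]; ring⟩⟩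
  · rw [conj_el_by_t, el_inv, el_eq_iff]; exact ⟨⟨0, by ring⟩, ⟨0, by ring⟩⟩
  · rintro ⟨i, hi⟩
    simp only [el_zpow] at hi
    exact D.el_t_ne _ _ _ _ hi.symm

theorem index_Y0 : D.Y0.index = 2 ^ D.n := by
  have := D.finite
  have : NeZero (2 ^ (D.n - 1)) := ⟨by positivity⟩
  obtain ⟨e⟩ := D.Y0_equiv
  have h := D.Y0.card_mul_index
  rw [Nat.card_congr e.toEquiv, Nat.card_eq_fintype_card, QuaternionGroup.card, D.card_eq] at h
  have h2 : 4 * 2 ^ (D.n - 1) * 2 ^ D.n = 2 ^ (2 * D.n + 1) := by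
    rw [show 4 = 2 ^ 2 from rfl, ← pow_add, ← pow_add]; congr 1; have := D.two_le; omega
  exact Nat.eq_of_mul_eq_mul_left (by positivity) (h.trans h2.symm)

theorem el_mem_Y0 {a b : ℤ} (h : D.N ∣ a + b) : D.el a b ∈ D.Y0 := by
  have he : D.el a b = (D.el 1 (-1)) ^ a := by
    rw [el_zpow, el_eq_iff]; exact ⟨⟨0, by ring⟩, h.trans (dvd_of_eq (by ring))⟩
  rw [he]
  exact zpow_mem (Subgroup.subset_closure (by simp)) a

theorem el_t_mem_Y0 {a b : ℤ} (h : D.N ∣ a + b - D.h) : D.el a b * D.t ∈ D.Y0 := by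
  have he : D.el a b * D.t = D.el (a - D.h) b * (D.el D.h 0 * D.t) := by
    rw [el_mul_t, el_t_eq_iff]; exact ⟨⟨0, by ring⟩, ⟨0, by ring⟩⟩
  rw [he]
  exact mul_mem (D.el_mem_Y0 (h.trans (dvd_of_eq (by ring)))) (Subgroup.subset_closure (by simp))

end WrData

end CfsgLib.Invol
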