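import Cfsg.Agent.Lib.Invol.L34Parabolic
import Cfsg.Agent.Lib.Solvable.Gaschutz
import Cfsg.Agent.Lib.Solvable.PGroupBasics

/-!
The two maximal elementary abelian 2-subgroups in covers of `PSL₃(4)`.
-/

set_option autoImplicit false
set_option linter.style.haveILetI false

namespace CfsgLib.Invol.L34Covers

open Matrix CfsgLib.Trans3.L34 CfsgLib.Invol.L34Parabolic
open scoped MatrixGroups

variable {F : Type*} [Field F] [Fintype F]

theorem odd_index_uT (hF : Fintype.card F = 4) :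
    Odd (uT : Subgroup (ProjectiveSpecialLinearGroup (Fin 3) F)).index := by
  have h1 := (uT : Subgroup (ProjectiveSpecialLinearGroup (Fin 3) F)).card_mul_index
  rw [uT_card hF] at h1
  have h2 := CfsgLib.Classical.card_psl_mul (F := F) (n := 3) (by norm_num)
  rw [hF] at h2
  norm_num [Fin.prod_univ_three] at h2
  exact Nat.odd_iff.2 (by omega)

theorem card_colT (hF : Fintype.card F = 4) :
    Nat.card (colT : Subgroup (ProjectiveSpecialLinearGroup (Fin 3) F)) = 16 := by
  let f : F × F → (colT : Subgroup (ProjectiveSpecialLinearGroup (Fin 3) F)) :=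
    fun q => ⟨pu 0 q.1 q.2, _, _, rfl⟩
  have hf : Function.Bijective f := by
    refine ⟨fun q r h => ?_, fun g => ?_⟩
    · obtain ⟨-, h2, h3⟩ := pu_inj (congrArg Subtype.val h)
      exact Prod.ext h2 h3
    · obtain ⟨b, c, e⟩ := g.2
      exact ⟨(b, c), Subtype.ext e.symm⟩
  rw [← Nat.card_eq_of_bijective f hf, Nat.card_eq_fintype_card, Fintype.card_prod, hF]

theorem card_rowT (hF : Fintype.card F = 4) :
    Nat.card (rowT : Subgroup (ProjectiveSpecialLinearGroup (Fin 3) F)) = 16 := by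
  rw [← card_colT hF, ← map_graph_rowT,
    Subgroup.card_map_of_injective (MulEquiv.injective _)]

/-- The elementary abelian subgroups of order 16 of the unitriangular group. -/
theorem eq_colT_or_rowT (hF : Fintype.card F = 4)
    {A : Subgroup (ProjectiveSpecialLinearGroup (Fin 3) F)} (hA : A ≤ uT) (hA2 : ∀ x ∈ A, x * x = 1)
    (hc : Nat.card A = 16) : A = colT ∨ A = rowT := by
  obtain ⟨hchar, -⟩ := f4_facts hF
  have hab : ∀ {a b c : F}, pu a b c ∈ A → a = 0 ∨ b = 0 := fun {a b c} h => by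
    have h' := hA2 _ h
    rw [pu_mul, ← pu_zero] at h'
    have := (pu_inj h').2.2
    rw [hchar c, zero_add] at this
    exact mul_eq_zero.1 this
  have key : A ≤ colT ∨ A ≤ rowT := by
    by_contra hcon
    rw [not_or, SetLike.not_le_iff_exists, SetLike.not_le_iff_exists] at hcon
    obtain ⟨⟨x, hx, hxc⟩, ⟨y, hy, hyr⟩⟩ := hcon
    obtain ⟨a, b, c, rfl⟩ := hA hx
    obtain ⟨a', b', c', rfl⟩ := hA hy
    have ha : a ≠ 0 := fun h => hxc ⟨b, c, by rw [h]⟩
    have hb' : b' ≠ 0 := fun h => hyr ⟨a', c', by rw [h]⟩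
    have hb : b = 0 := (hab hx).resolve_left ha
    have ha' : a' = 0 := (hab hy).resolve_right hb'
    have h := hab (a := a + a') (b := b + b') (c := c + c' + a * b')
      (by rw [← pu_mul]; exact mul_mem hx hy)
    rw [ha', hb, add_zero, zero_add] at h
    exact h.elim ha hb'
  rcases key with h | h
  · exact Or.inl (Subgroup.eq_of_le_of_card_ge h (by rw [hc, card_colT hF]))
  · exact Or.inr (Subgroup.eq_of_le_of_card_ge h (by rw [hc, card_rowT hF]))

variable {X : Type*} [Group X] [Finite X] {p : X →* ProjectiveSpecialLinearGroup (Fin 3) F}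

theorem preimages_elementary (hF : Fintype.card F = 4) (hp : Function.Surjective p)
    (hZ : ∀ z ∈ p.ker, ∀ e : X, z * e = e * z) (hZ2 : ∀ z ∈ p.ker, z * z = 1) :
    ((∀ x ∈ colT.comap p, x * x = 1) ∧ ∀ x ∈ colT.comap p, ∀ y ∈ colT.comap p, x * y = y * x) ∧
      ((∀ x ∈ rowT.comap p, x * x = 1) ∧ ∀ x ∈ rowT.comap p, ∀ y ∈ rowT.comap p, x * y = y * x) := by
  obtain ⟨hchar, -⟩ := f4_facts hF
  exact ⟨preimage_elementary p hp hZ hZ2 colT (a₀ := pu 0 0 1) ⟨0, 1, rfl⟩
      (by rintro _ ⟨b, c, rfl⟩; rw [pu_mul, ← pu_zero]; simp [hchar])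
      (by rintro _ ⟨b, c, rfl⟩ h; exact col_trans h) (colT_big hF),
    preimage_elementary p hp hZ hZ2 rowT (a₀ := pu 1 0 0) ⟨1, 0, rfl⟩
      (by rintro _ ⟨a, c, rfl⟩; rw [pu_mul, ← pu_zero]; simp [hchar])
      (by rintro _ ⟨a, c, rfl⟩ h; exact row_trans h) (rowT_big hF)⟩

/-- The normalizer of the column preimage splits over it with complement `SL₂(4)`. -/
theorem complement_col (hF : Fintype.card F = 4) (hp : Function.Surjective p)
    (hZ : ∀ z ∈ p.ker, ∀ e : X, z * e = e * z) (hZ2 : ∀ z ∈ p.ker, z * z = 1)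
    {A : Subgroup X} (hA : A = colT.comap p) :
    ∃ C : Subgroup X, C ≤ Subgroup.normalizer (A : Set X) ∧ C ⊓ A = ⊥ ∧
      A ⊔ C = Subgroup.normalizer (A : Set X) ∧
      Nonempty (↥C ≃* SpecialLinearGroup (Fin 2) F) := by
  classical
  subst hA
  obtain ⟨⟨hA2, hAc⟩, hB2, hBc⟩ := preimages_elementary hF hp hZ hZ2
  set A := (colT (F := F)).comap p
  set B := (rowT (F := F)).comap p
  set T := (uT (F := F)).comap p
  set N := Subgroup.normalizer (A : Set X)
  have hN : N = (Subgroup.normalizer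
      ((colT : Subgroup (ProjectiveSpecialLinearGroup (Fin 3) F)) : Set _)).comap p :=
    (Subgroup.comap_normalizer_eq_of_surjective _ hp).symm
  have hTN : T ≤ N := hN ▸ Subgroup.comap_mono uT_le_normalizer
  have hAT : A ≤ T := fun x ⟨b, c, h⟩ => ⟨0, b, c, h⟩
  have hBT : B ≤ T := fun x ⟨a, c, h⟩ => ⟨a, 0, c, h⟩
  have hT : A ⊔ B = T := by
    refine le_antisymm (sup_le hAT hBT) fun u hu => ?_
    obtain ⟨a, b, c, h⟩ := hu
    obtain ⟨y, hy⟩ := hp (pu a 0 0)
    have hx : u * y⁻¹ ∈ A := ⟨b, c, by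
      rw [map_mul, map_inv, h, hy, pu_inv, pu_mul]; congr 1 <;> ring⟩
    have := mul_mem (Subgroup.mem_sup_left (T := B) hx)
      (Subgroup.mem_sup_right (S := A) (show y ∈ B from ⟨a, 0, hy⟩))
    rwa [inv_mul_cancel_right] at this
  -- a complement of `A ⊓ B` in `B`
  obtain ⟨R, hR⟩ := by
    letI : CommGroup B :=
      { (inferInstance : Group B) with mul_comm := fun x y => Subtype.ext (hBc x x.2 y y.2) }
    haveI : Fact (Nat.Prime 2) := ⟨Nat.prime_two⟩
    exact CfsgLib.Solvable.exists_isCompl_of_pow_eq_one (p := 2)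
      (fun q : B => Subtype.ext (by rw [Subgroup.coe_pow, pow_two]; exact hB2 q q.2))
      ((A ⊓ B).subgroupOf B)
  set R' := R.map B.subtype
  have hR'B : R' ≤ B := Subgroup.map_subtype_le R
  have hRA : R' ⊓ A = ⊥ := by
    rw [eq_bot_iff]
    rintro _ ⟨⟨r, hr, rfl⟩, hrA⟩
    have : r ∈ (A ⊓ B).subgroupOf B ⊓ R := ⟨Subgroup.mem_subgroupOf.2 ⟨hrA, r.2⟩, hr⟩
    rw [hR.inf_eq_bot, Subgroup.mem_bot] at this
    rw [this]
    exact one_mem _
  have hAR : A ⊔ R' = T := by
    refine le_antisymm (sup_le hAT (hR'B.trans hBT)) (hT ▸ sup_le le_sup_left ?_)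
    have h := congrArg (Subgroup.map B.subtype) hR.sup_eq_top
    rw [Subgroup.map_sup, ← MonoidHom.range_eq_map, Subgroup.range_subtype,
      Subgroup.map_subgroupOf_eq_of_le inf_le_right] at h
    exact h.ge.trans (sup_le_sup_right inf_le_left _)
  -- Gaschütz
  have hcardA : ∃ k, Nat.card A = 2 ^ k := by
    haveI : Fact (Nat.Prime 2) := ⟨Nat.prime_two⟩
    exact IsPGroup.exists_card_eq (p := 2) fun x =>
      ⟨1, Subtype.ext (by rw [pow_one, Subgroup.coe_pow, pow_two]; exact hA2 x x.2)⟩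
  have hodd : Odd (T.relIndex N) := by
    refine (odd_index_uT hF).of_dvd_nat ?_
    rw [hN, Subgroup.relIndex_comap, Subgroup.map_comap_eq_self_of_surjective hp]
    exact ⟨_, (Subgroup.relIndex_mul_index uT_le_normalizer).symm⟩
  have hAN : A ≤ N := Subgroup.le_normalizer
  have hRN : R' ≤ N := hR'B.trans (hBT.trans hTN)
  haveI : (A.subgroupOf N).Normal := Subgroup.normal_in_normalizer
  haveI : IsMulCommutative (A.subgroupOf N) :=
    ⟨⟨fun x y => Subtype.ext (Subtype.ext (hAc _ x.2 _ y.2))⟩⟩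
  obtain ⟨H, hH⟩ := CfsgLib.Solvable.gaschutz_exists (K := A.subgroupOf N) (U := T.subgroupOf N)
    (A := R'.subgroupOf N) (Subgroup.comap_mono hAT) (by
      rw [Nat.card_congr (Subgroup.subgroupOfEquivOfLe hAN).toEquiv]
      obtain ⟨k, hk⟩ := hcardA
      rw [hk]
      exact Nat.Coprime.pow_left k (Nat.coprime_two_left.2 hodd)) (by
      rw [eq_bot_iff]
      rintro x ⟨hx1, hx2⟩
      have : (x : X) ∈ R' ⊓ A := ⟨hx1, hx2⟩
      rw [hRA] at this
      exact Subtype.ext this) (by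
      rw [← Subgroup.subgroupOf_sup hAN hRN, hAR])
  set C := H.map N.subtype
  have hCN : C ≤ N := Subgroup.map_subtype_le H
  have hCA : C ⊓ A = ⊥ := by
    rw [eq_bot_iff]
    rintro _ ⟨⟨c, hc, rfl⟩, hcA⟩
    have := Subgroup.disjoint_def.1 hH.disjoint (x := c) hcA hc
    rw [this]
    exact one_mem _
  have hACN : A ⊔ C = N := by
    have h := congrArg (Subgroup.map N.subtype) hH.sup_eq_top
    rw [Subgroup.map_sup, ← MonoidHom.range_eq_map, Subgroup.range_subtype,
      Subgroup.map_subgroupOf_eq_of_le hAN] at h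
    exact h
  refine ⟨C, hCN, hCA, hACN, ?_⟩
  -- `C` maps isomorphically to the quotient of the normalizer
  set M := Subgroup.normalizer
    ((colT : Subgroup (ProjectiveSpecialLinearGroup (Fin 3) F)) :
      Set (ProjectiveSpecialLinearGroup (Fin 3) F)) with hMdef
  haveI : ((colT : Subgroup (ProjectiveSpecialLinearGroup (Fin 3) F)).subgroupOf M).Normal :=
    Subgroup.normal_in_normalizer
  set K := (colT : Subgroup (ProjectiveSpecialLinearGroup (Fin 3) F)).subgroupOf M
  let φ : SpecialLinearGroup (Fin 2) F →* M ⧸ K :=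
    (QuotientGroup.mk' K).comp (levi.codRestrict M levi_normalizes)
  have hpC : ∀ c : C, p c ∈ M := fun c => by
    have := hCN c.2
    rwa [hN] at this
  let ψ : C →* M ⧸ K := (QuotientGroup.mk' K).comp ((p.comp C.subtype).codRestrict M hpC)
  have hφ : Function.Bijective φ := by
    refine ⟨(injective_iff_map_eq_one φ).2 fun a ha => levi_inf_colT a ?_, fun q => ?_⟩
    · exact Subgroup.mem_subgroupOf.1 ((QuotientGroup.eq_one_iff _).1 ha)
    · obtain ⟨g, rfl⟩ := QuotientGroup.mk_surjective q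
      obtain ⟨v, hv, a, h⟩ := mem_normalizer_colT hF g.2
      refine ⟨a, QuotientGroup.eq.2 (Subgroup.mem_subgroupOf.2 ?_)⟩
      show (levi a)⁻¹ * (g : ProjectiveSpecialLinearGroup (Fin 3) F) ∈ colT
      rw [h]
      have h' := Subgroup.mem_normalizer_iff.1 (Subgroup.inv_mem _ (levi_normalizes a)) v
      simpa [mul_assoc] using h'.1 hv
  have hψ : Function.Bijective ψ := by
    refine ⟨(injective_iff_map_eq_one ψ).2 fun c hc => ?_, fun q => ?_⟩
    · have h : (c : X) ∈ C ⊓ A :=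
        ⟨c.2, (Subgroup.mem_subgroupOf.1 ((QuotientGroup.eq_one_iff (N := K) (⟨p c, hpC c⟩ : M)).1 hc) :
          p c ∈ colT)⟩
      rw [hCA, Subgroup.mem_bot] at h
      exact Subtype.ext h
    · obtain ⟨g, rfl⟩ := QuotientGroup.mk_surjective q
      obtain ⟨x, hx⟩ := hp g
      have hxN : x ∈ N := by rw [hN, Subgroup.mem_comap, hx]; exact g.2
      have hx' : (⟨x, hxN⟩ : N) ∈ A.subgroupOf N ⊔ H := by rw [hH.sup_eq_top]; exact Subgroup.mem_top _
      obtain ⟨u, hu, c, hc, huc⟩ := Subgroup.mem_sup_of_normal_left.1 hx'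
      refine ⟨⟨c, c, hc, rfl⟩, QuotientGroup.eq.2 (Subgroup.mem_subgroupOf.2 ?_)⟩
      show (p c)⁻¹ * (g : ProjectiveSpecialLinearGroup (Fin 3) F) ∈ colT
      have hcM : p c ∈ M := hpC ⟨c, c, hc, rfl⟩
      have h' := Subgroup.mem_normalizer_iff.1 (Subgroup.inv_mem _ hcM) (p u)
      rw [← hx, show x = (u : X) * c from (congrArg Subtype.val huc).symm, map_mul]
      simpa [mul_assoc] using h'.1 (Subgroup.mem_subgroupOf.1 hu)
  exact ⟨(MulEquiv.ofBijective ψ hψ).trans (MulEquiv.ofBijective φ hφ).symm⟩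

omit [Finite X] in
/-- The intersection of the two preimages is the centre of what they generate. -/
theorem inf_eq_center (hF : Fintype.card F = 4) (hp : Function.Surjective p)
    {H K : Subgroup X} (hH : H = colT.comap p) (hK : K = rowT.comap p)
    (hHc : ∀ x ∈ H, ∀ y ∈ H, x * y = y * x) (hKc : ∀ x ∈ K, ∀ y ∈ K, x * y = y * x) :
    H ⊓ K = (Subgroup.center ↥(H ⊔ K)).map (H ⊔ K).subtype := by
  apply le_antisymm
  · intro z hz
    obtain ⟨hzH, hzK⟩ := Subgroup.mem_inf.1 hz
    refine ⟨⟨z, Subgroup.mem_sup_left hzH⟩, Subgroup.mem_center_iff.2 fun g => Subtype.ext ?_, rfl⟩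
    show (g : X) * z = z * g
    have : H ⊔ K ≤ Subgroup.centralizer ({z} : Set X) := sup_le
      (fun x hx => Subgroup.mem_centralizer_singleton_iff.2 (hHc x hx z hzH))
      (fun x hx => Subgroup.mem_centralizer_singleton_iff.2 (hKc x hx z hzK))
    exact Subgroup.mem_centralizer_singleton_iff.1 (this g.2)
  · rintro _ ⟨z, hz, rfl⟩
    have hcomm : ∀ x ∈ H ⊔ K, (z : X) * x = x * z := fun x hx =>
      (congrArg Subtype.val (Subgroup.mem_center_iff.1 hz ⟨x, hx⟩)).symm
    refine Subgroup.mem_inf.2 ⟨?_, ?_⟩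
    · refine hH.ge (show p (z : X) ∈ colT from centralizer_colT hF fun v hv => ?_)
      obtain ⟨x, rfl⟩ := hp v
      show p z * p x = p x * p z
      rw [← map_mul, ← map_mul, hcomm x (Subgroup.mem_sup_left (hH ▸ hv))]
    · refine hK.ge ?_
      show p z ∈ rowT
      have h := centralizer_colT hF (g := graph (p z)) fun v hv => by
        rw [← map_graph_rowT] at hv
        obtain ⟨w, hw, rfl⟩ := hv
        obtain ⟨x, rfl⟩ := hp w
        show graph (p z) * graph (p x) = graph (p x) * graph (p z)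
        rw [← map_mul, ← map_mul, ← map_mul, ← map_mul,
          hcomm x (Subgroup.mem_sup_right (hK ▸ hw))]
      rw [← map_graph_rowT] at h
      obtain ⟨w, hw, e⟩ := h
      rwa [← graph.injective e]

/-- The main statement, for a quotient map. -/
theorem main (hF : Fintype.card F = 4) (hp : Function.Surjective p)
    (hZ : ∀ z ∈ p.ker, ∀ e : X, z * e = e * z) (hZ2 : ∀ z ∈ p.ker, z * z = 1)
    (T : Sylow 2 X) (H K : Subgroup X) (hHK : H ≠ K) (hHT : H ≤ T) (hKT : K ≤ T)
    (hZH : p.ker ≤ H) (hZK : p.ker ≤ K)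
    (hH : (∀ x ∈ H.map p, x * x = 1) ∧ Nat.card (H.map p) = 16)
    (hK : (∀ x ∈ K.map p, x * x = 1) ∧ Nat.card (K.map p) = 16) :
    ((∀ x ∈ H, x * x = 1) ∧ ∀ x ∈ H, ∀ y ∈ H, x * y = y * x) ∧
    ((∀ x ∈ K, x * x = 1) ∧ ∀ x ∈ K, ∀ y ∈ K, x * y = y * x) ∧
    H ⊓ K = (Subgroup.center ↥(H ⊔ K)).map (H ⊔ K).subtype ∧
    (∃ C : Subgroup X, C ≤ Subgroup.normalizer (H : Set X) ∧ C ⊓ H = ⊥ ∧
      H ⊔ C = Subgroup.normalizer (H : Set X) ∧ Nonempty (↥C ≃* SpecialLinearGroup (Fin 2) F)) ∧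
    (∃ C : Subgroup X, C ≤ Subgroup.normalizer (K : Set X) ∧ C ⊓ K = ⊥ ∧
      K ⊔ C = Subgroup.normalizer (K : Set X) ∧ Nonempty (↥C ≃* SpecialLinearGroup (Fin 2) F)) := by
  haveI : Fact (Nat.Prime 2) := ⟨Nat.prime_two⟩
  -- move the Sylow subgroup into the unitriangular group
  have huP : IsPGroup 2 (uT : Subgroup (ProjectiveSpecialLinearGroup (Fin 3) F)) :=
    IsPGroup.of_card (n := 6) (by rw [uT_card hF]; norm_num)
  let P : Sylow 2 (ProjectiveSpecialLinearGroup (Fin 3) F) :=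
    huP.toSylow (by rw [← even_iff_two_dvd, Nat.not_even_iff_odd]; exact odd_index_uT hF)
  obtain ⟨g, hg⟩ : ∃ g : ProjectiveSpecialLinearGroup (Fin 3) F,
      ∀ x ∈ (T : Subgroup X).map p, g * x * g⁻¹ ∈ uT := by
    obtain ⟨Q, hQ⟩ := (T.2.map p).exists_le_sylow
    obtain ⟨g, hg⟩ := MulAction.exists_smul_eq (ProjectiveSpecialLinearGroup (Fin 3) F) Q P
    refine ⟨g, fun x hx => ?_⟩
    show g * x * g⁻¹ ∈ (P : Subgroup (ProjectiveSpecialLinearGroup (Fin 3) F))
    rw [← hg]
    exact Subgroup.smul_mem_pointwise_smul x (MulAut.conj g) _ (hQ hx)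
  let q : X →* ProjectiveSpecialLinearGroup (Fin 3) F := (MulAut.conj g).toMonoidHom.comp p
  have hq : Function.Surjective q := (MulAut.conj g).surjective.comp hp
  have hker : q.ker = p.ker := by
    ext x
    rw [MonoidHom.mem_ker, MonoidHom.mem_ker]
    show MulAut.conj g (p x) = 1 ↔ p x = 1
    exact EmbeddingLike.map_eq_one_iff
  have hcls : ∀ {A : Subgroup X}, A ≤ T → p.ker ≤ A →
      (∀ x ∈ A.map p, x * x = 1) ∧ Nat.card (A.map p) = 16 →
      A = colT.comap q ∨ A = rowT.comap q := by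
    intro A hAT hAZ hA
    have h1 : A.map q ≤ uT := by
      rintro _ ⟨x, hx, rfl⟩
      exact hg _ ⟨x, hAT hx, rfl⟩
    have h2 : ∀ x ∈ A.map q, x * x = 1 := by
      rintro _ ⟨x, hx, rfl⟩
      show MulAut.conj g (p x) * MulAut.conj g (p x) = 1
      rw [← map_mul, hA.1 _ ⟨x, hx, rfl⟩, map_one]
    have h3 : Nat.card (A.map q) = 16 := by
      rw [← Subgroup.map_map, Subgroup.card_map_of_injective (MulAut.conj g).injective]
      exact hA.2
    have e : A = (A.map q).comap q := (Subgroup.comap_map_eq_self (hker.le.trans hAZ)).symm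
    rcases eq_colT_or_rowT hF h1 h2 h3 with h | h <;> rw [h] at e
    · exact Or.inl e
    · exact Or.inr e
  wlog hcol : H = colT.comap q generalizing H K with Hsym
  · obtain ⟨a, b, c, d, e⟩ := Hsym K H hHK.symm hKT hHT hZK hZH hK hH (by
      rcases hcls hHT hZH hH with h | h
      · exact absurd h hcol
      · rcases hcls hKT hZK hK with h' | h'
        · exact h'
        · exact absurd (h.trans h'.symm) hHK)
    exact ⟨b, a, by rw [inf_comm, c, sup_comm], e, d⟩
  have hrow : K = rowT.comap q := by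
    rcases hcls hKT hZK hK with h | h
    · exact absurd (hcol.trans h.symm) hHK
    · exact h
  obtain ⟨hA, hB⟩ := preimages_elementary hF hq (hker ▸ hZ) (hker ▸ hZ2)
  rw [← hcol] at hA
  rw [← hrow] at hB
  refine ⟨hA, hB, inf_eq_center hF hq hcol hrow hA.2 hB.2,
    complement_col hF hq (hker ▸ hZ) (hker ▸ hZ2) hcol, ?_⟩
  let q' : X →* ProjectiveSpecialLinearGroup (Fin 3) F := graph.toMonoidHom.comp q
  have hker' : q'.ker = p.ker := by
    rw [← hker]
    ext x
    rw [MonoidHom.mem_ker, MonoidHom.mem_ker]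
    show graph (q x) = 1 ↔ q x = 1
    exact EmbeddingLike.map_eq_one_iff
  refine complement_col (p := q') hF (graph.surjective.comp hq) (hker' ▸ hZ) (hker' ▸ hZ2) ?_
  rw [hrow]
  show _ = (colT.comap graph.toMonoidHom).comap q
  rw [← map_graph_rowT, Subgroup.comap_map_eq_self_of_injective (MulEquiv.injective _)]

/-- `SL₂(F) ≅ PSL₂(F)` for `|F| = 4`. -/
theorem sl_two_equiv_psl (hF : Fintype.card F = 4) :
    Nonempty (SpecialLinearGroup (Fin 2) F ≃* ProjectiveSpecialLinearGroup (Fin 2) F) := by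
  obtain ⟨hchar, -⟩ := f4_facts hF
  refine ⟨MulEquiv.ofBijective (QuotientGroup.mk' (Subgroup.center (SpecialLinearGroup (Fin 2) F)))
    ⟨(injective_iff_map_eq_one _).2 fun a ha => ?_, QuotientGroup.mk'_surjective _⟩⟩
  obtain ⟨r, hr, e⟩ := Matrix.SpecialLinearGroup.mem_center_iff.1
    ((QuotientGroup.eq_one_iff a).1 ha)
  have h1 : r = 1 := by
    have h2 : r * r = 1 := by simpa [pow_two] using hr
    have h3 : (r + 1) * (r + 1) = 0 := by
      linear_combination h2 + hchar 1 + hchar r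
    have h4 := mul_self_eq_zero.1 h3
    linear_combination h4 - hchar 1
  refine Subtype.ext ?_
  rw [← e, h1, map_one]
  rfl

end CfsgLib.Invol.L34Covers
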