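import Cfsg.Agent.Lib.Invol.Wreathed
import Cfsg.Agent.Lib.Invol.IsoElt

/-!
The centre of a wreathed Sylow 2-subgroup with an isolated involution consists of isolated
elements.
-/

set_option autoImplicit false
set_option linter.unusedSectionVars false

namespace CfsgLib.Invol

universe u

variable {X : Type u} [Group X] [Finite X] (P : Sylow 2 X) (D : WrData (P : Subgroup X))

/-- The element `x ^ i * y ^ j` in the ambient group. -/
abbrev wel (i j : ℤ) : X := ((D.el i j : (P : Subgroup X)) : X)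

/-- The abelian maximal subgroup in the ambient group. -/
abbrev wA : Subgroup X := D.A.map (P : Subgroup X).subtype

theorem wA_le : wA P D ≤ (P : Subgroup X) := Subgroup.map_subtype_le _

theorem wA_commute {a b : X} (ha : a ∈ wA P D) (hb : b ∈ wA P D) : Commute a b := by
  obtain ⟨a, ha, rfl⟩ := ha
  obtain ⟨b, hb, rfl⟩ := hb
  exact congrArg Subtype.val (D.A_commute ha hb).eq

theorem wel_commute (i : ℤ) {s : X} (hs : s ∈ (P : Subgroup X)) : Commute (wel P D i i) s :=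
  congrArg Subtype.val (Subgroup.mem_center_iff.1 (D.mem_center_iff.2 ⟨i, rfl⟩) ⟨s, hs⟩).symm

theorem wA_card : Nat.card (wA P D) = 2 ^ (2 * D.n) := by
  rw [← Nat.card_congr (D.A.equivMapOfInjective _ (P : Subgroup X).subtype_injective).toEquiv, D.card_A]

theorem eq_wA {U : Subgroup X} (hU : U ≤ (P : Subgroup X)) (hc : ∀ a ∈ U, ∀ b ∈ U, Commute a b)
    (hcard : Nat.card U = 2 ^ (2 * D.n)) : U = wA P D := by
  have h := D.eq_A (U := U.subgroupOf (P : Subgroup X))
    (fun a ha b hb => Subtype.ext (hc _ ha _ hb).eq)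
    (by rw [Nat.card_congr (Subgroup.subgroupOfEquivOfLe hU).toEquiv, hcard])
  rw [wA, ← h, Subgroup.map_subgroupOf_eq_of_le hU]

variable (hz : Cfsg.IsIsolatedInvolution ((D.z : (P : Subgroup X)) : X))
include hz

theorem fix_z {g : X} (h : g * (D.z : X) * g⁻¹ ∈ (P : Subgroup X)) : g * (D.z : X) * g⁻¹ = D.z :=
  eq_of_mem_sylow_of_isolated P hz (isConj_iff.2 ⟨g, rfl⟩) (IsConj.refl _) h (Subtype.coe_prop _)

theorem odd_normalizer_fix {m : X} (hm : m ∈ Subgroup.normalizer (wA P D : Set X))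
    (hodd : Odd (orderOf m)) {a : X} (ha : a ∈ wA P D) : m * a * m⁻¹ = a := by
  have hmem : ∀ b ∈ wA P D, m * b * m⁻¹ ∈ wA P D := fun b hb =>
    (Subgroup.mem_normalizer_iff.1 hm b).1 hb
  have hzA : (D.z : X) ∈ wA P D := ⟨D.z, D.el_mem_A _ _, rfl⟩
  have hzf : m * (D.z : X) * m⁻¹ = D.z := fix_z P D hz (wA_le P D (hmem _ hzA))
  have hinj : ∀ {b c : X}, m * b * m⁻¹ = m * c * m⁻¹ → b = c := fun h =>
    mul_left_cancel (mul_right_cancel h)
  have hinvol : ∀ e ∈ wA P D, e * e = 1 → m * e * m⁻¹ = e := by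
    have cls : ∀ e ∈ wA P D, e * e = 1 →
        e = 1 ∨ e = (D.z : X) ∨ e = wel P D D.h 0 ∨ e = wel P D 0 D.h := by
      rintro _ ⟨e, he, rfl⟩ h2
      rcases D.invol_mem_A he (Subtype.ext h2) with h | h | h | h <;> simp [wel, h]
    intro e he h2
    have hsq : ∀ {b : X}, b * b = 1 → (m * b * m⁻¹) * (m * b * m⁻¹) = 1 := fun h => by
      rw [conj_mul, h, mul_one, mul_inv_cancel]
    by_contra hne
    have h1 : e ≠ 1 := by rintro rfl; exact hne (by group)
    have h3 : e ≠ (D.z : X) := by rintro rfl; exact hne hzf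
    set e' := m * e * m⁻¹
    have h1' : e' ≠ 1 := fun h => h1 (hinj (h.trans (by group)))
    have h3' : e' ≠ (D.z : X) := fun h => h3 (hinj (h.trans hzf.symm))
    set e'' := m * e' * m⁻¹
    have h1'' : e'' ≠ 1 := fun h => h1' (hinj (h.trans (by group)))
    have h3'' : e'' ≠ (D.z : X) := fun h => h3' (hinj (h.trans hzf.symm))
    have h12 : e'' ≠ e' := fun h => hne (hinj h)
    rcases cls e he h2 with h | h | h
    · exact h1 h
    · exact h3 h
    rcases cls e' (hmem _ he) (hsq h2) with k | k | k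
    · exact h1' k
    · exact h3' k
    rcases cls e'' (hmem _ (hmem _ he)) (hsq (hsq h2)) with l | l | l
    · exact h1'' l
    · exact h3'' l
    have he2 : e'' = e := by
      rcases h with h | h <;> rcases k with k | k <;> rcases l with l | l <;>
        first
          | exact l.trans h.symm
          | exact absurd (k.trans h.symm) hne
          | exact absurd (l.trans k.symm) h12
    exact hne (conj_eq_of_sq_conj_eq hodd (by
      rw [show m * m * e * (m * m)⁻¹ = m * e' * m⁻¹ by simp [e', mul_assoc]]; exact he2))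
  suffices key : ∀ k, ∀ b ∈ wA P D, b ^ 2 ^ k = 1 → m * b * m⁻¹ = b by
    obtain ⟨k, hk⟩ := P.2 ⟨a, wA_le P D ha⟩
    exact key k a ha (congrArg Subtype.val hk)
  intro k
  induction k with
  | zero => intro b _ hb; rw [pow_zero, pow_one] at hb; rw [hb]; group
  | succ k ih =>
    intro b hb hbk
    have h2 := ih (b * b) (mul_mem hb hb) (by rw [← pow_two, ← pow_mul, ← pow_succ']; exact hbk)
    set d := b⁻¹ * (m * b * m⁻¹) with hd
    have hdA : d ∈ wA P D := mul_mem (inv_mem hb) (hmem b hb)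
    have hd2 : d * d = 1 := by
      have hc : Commute (b⁻¹) (m * b * m⁻¹) := wA_commute P D (inv_mem hb) (hmem b hb)
      rw [hd, hc.symm.mul_mul_mul_comm, conj_mul, h2]
      group
    have hdf := hinvol d hdA hd2
    have hpow : ∀ j : ℕ, m ^ j * b * (m ^ j)⁻¹ = b * d ^ j := by
      intro j
      induction j with
      | zero => simp
      | succ j ihj =>
        calc m ^ (j + 1) * b * (m ^ (j + 1))⁻¹ = m * (m ^ j * b * (m ^ j)⁻¹) * m⁻¹ := by
              rw [pow_succ']; group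
          _ = m * (b * d ^ j) * m⁻¹ := by rw [ihj]
          _ = m * b * m⁻¹ * (m * d * m⁻¹) ^ j := by rw [conj_pow]; group
          _ = b * d * d ^ j := by rw [hdf, hd, mul_inv_cancel_left]
          _ = b * d ^ (j + 1) := by rw [pow_succ', mul_assoc]
    have h3 := hpow (orderOf m)
    rw [pow_orderOf_eq_one, inv_one, mul_one, one_mul] at h3
    obtain ⟨j, hj⟩ := hodd
    have h4 : d ^ orderOf m = 1 := by
      have := congrArg (b⁻¹ * ·) h3
      simpa using this.symm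
    rw [hj, pow_succ, pow_mul, pow_two, hd2, one_pow, one_mul] at h4
    rw [h4] at hd
    exact (eq_inv_mul_iff_mul_eq.1 hd).symm.trans (mul_one b)

theorem normalizer_fix {m : X} (hm : m ∈ Subgroup.normalizer (wA P D : Set X)) (l : ℤ) :
    m * wel P D l l * m⁻¹ = wel P D l l := by
  set N := Subgroup.normalizer (wA P D : Set X)
  set F : Subgroup N := (Subgroup.centralizer ({wel P D l l} : Set X)).subgroupOf N
  have hPN : (P : Subgroup X) ≤ N := by
    have := Subgroup.normal_of_index_eq_two D.index_A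
    intro s hs
    refine Subgroup.mem_normalizer_iff.2 fun a => ⟨fun ⟨b, hb, hba⟩ => ?_, fun ⟨b, hb, hba⟩ => ?_⟩
    · exact ⟨⟨s, hs⟩ * b * ⟨s, hs⟩⁻¹, this.conj_mem b hb _, by simp [← hba]⟩
    · refine ⟨⟨s, hs⟩⁻¹ * b * (⟨s, hs⟩⁻¹)⁻¹, this.conj_mem b hb _, ?_⟩
      have hb' : (b : X) = s * a * s⁻¹ := hba
      simp [hb', mul_assoc]
  have h1 : ((P.subtype hPN : Sylow 2 N) : Subgroup N) ≤ F := fun s hs =>
    Subgroup.mem_centralizer_singleton_iff.2 (wel_commute P D l hs).eq.symm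
  have h2 : Cfsg.pResidual 2 N ≤ F := by
    refine (Subgroup.closure_le _).2 fun s hs => Subgroup.mem_centralizer_singleton_iff.2 ?_
    refine mul_inv_eq_iff_eq_mul.1 (odd_normalizer_fix P D hz s.2 ?_ ⟨_, D.el_mem_A l l, rfl⟩)
    rw [Subgroup.orderOf_coe]
    exact Nat.coprime_two_right.1 hs
  have h3 := sup_le h2 h1
  rw [CfsgLib.Transfer.pResidual_sup_sylow] at h3
  exact mul_inv_eq_iff_eq_mul.2 (Subgroup.mem_centralizer_singleton_iff.1 (h3 (Subgroup.mem_top ⟨m, hm⟩)))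

theorem fix_of_mem_A {l : ℤ} {g : X} (hg : g * wel P D l l * g⁻¹ ∈ wA P D) :
    g * wel P D l l * g⁻¹ = wel P D l l := by
  set c := wel P D l l
  set c' := g * c * g⁻¹ with hc'
  set C := Subgroup.centralizer ({c'} : Set X)
  have hAC : wA P D ≤ C := fun a ha => Subgroup.mem_centralizer_singleton_iff.2 (wA_commute P D ha hg).eq
  set A' := (wA P D).map (MulAut.conj g).toMonoidHom
  have hA'C : A' ≤ C := by
    rintro _ ⟨a, ha, rfl⟩
    refine Subgroup.mem_centralizer_singleton_iff.2 ?_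
    have := (wA_commute P D ha (show c ∈ wA P D from ⟨_, D.el_mem_A l l, rfl⟩)).map
      (MulAut.conj g).toMonoidHom
    exact this.eq
  have hpA : IsPGroup 2 (wA P D) := P.2.to_le (wA_le P D)
  obtain ⟨T, hT⟩ := (hpA.comap_subtype (K := C)).exists_le_sylow
  obtain ⟨h, hh⟩ := exists_conj_mem_sylow (p := 2) T (H := A'.subgroupOf C) ((hpA.map _).comap_subtype)
  obtain ⟨S1, hS1⟩ := (T.2.map C.subtype).exists_le_sylow
  obtain ⟨r, rfl⟩ := MulAction.exists_smul_eq X P S1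
  have key : ∀ w : X, (∀ a ∈ wA P D, w * a * w⁻¹ ∈ (T : Subgroup C).map C.subtype) →
      (wA P D).map (MulAut.conj (r⁻¹ * w)).toMonoidHom = wA P D := by
    intro w hw
    refine eq_wA P D ?_ ?_ ?_
    · rintro _ ⟨a, ha, rfl⟩
      obtain ⟨b, hb, hbe⟩ := hS1 (hw a ha)
      have hb' : r * b * r⁻¹ = w * a * w⁻¹ := hbe
      show r⁻¹ * w * a * (r⁻¹ * w)⁻¹ ∈ (P : Subgroup X)
      rw [show r⁻¹ * w * a * (r⁻¹ * w)⁻¹ = r⁻¹ * (w * a * w⁻¹) * r by group, ← hb']
      rw [show r⁻¹ * (r * b * r⁻¹) * r = b by group]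
      exact hb
    · rintro _ ⟨a, ha, rfl⟩ _ ⟨b, hb, rfl⟩
      exact (wA_commute P D ha hb).map _
    · rw [← Nat.card_congr ((wA P D).equivMapOfInjective _ (MulEquiv.injective _)).toEquiv, wA_card]
  have k1 := key 1 fun a ha => ⟨⟨a, hAC ha⟩, hT ha, by simp⟩
  have k2 := key ((h : X) * g) fun a ha => by
    refine ⟨_, hh ⟨_, hA'C ⟨a, ha, rfl⟩⟩ ⟨a, ha, rfl⟩, ?_⟩
    simp [mul_assoc]
  have hn : (h : X) * g ∈ Subgroup.normalizer (wA P D : Set X) := by
    have memN : ∀ w : X, (wA P D).map (MulAut.conj w).toMonoidHom = wA P D →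
        w ∈ Subgroup.normalizer (wA P D : Set X) := fun w hw => by
      refine Subgroup.mem_normalizer_iff.2 fun a => ⟨fun ha => hw ▸ ⟨a, ha, rfl⟩, fun ha => ?_⟩
      rw [← hw] at ha
      obtain ⟨b, hb, hba⟩ := ha
      exact (MulAut.conj w).injective hba ▸ hb
    have := mul_mem (inv_mem (memN _ k1)) (memN _ k2)
    simpa [mul_assoc] using this
  have h5 := normalizer_fix P D hz hn l
  have hhc : (h : X) * c' * (h : X)⁻¹ = c' :=
    mul_inv_eq_iff_eq_mul.2 (Subgroup.mem_centralizer_singleton_iff.1 h.2)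
  rw [← hhc]
  refine Eq.trans ?_ h5
  rw [hc']; simp [c, mul_assoc]

theorem isoElt_wel (l : ℤ) : IsoElt (P : Subgroup X) (wel P D l l) := by
  suffices main : ∀ (l : ℤ) (g : X), g * wel P D l l * g⁻¹ ∈ (P : Subgroup X) →
      g * wel P D l l * g⁻¹ = wel P D l l by
    refine ⟨Subtype.coe_prop _, fun k g hg => ?_⟩
    have e : (wel P D l l) ^ k = wel P D (l * k) (l * k) := by
      show ((D.el l l : (P : Subgroup X)) : X) ^ k = _
      rw [← Subgroup.coe_pow, ← zpow_natCast, D.el_zpow]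
    rw [e] at hg ⊢
    exact main _ g hg
  clear l
  intro l g hg
  by_contra hne
  have notA : ∀ w : X, w * wel P D l l * w⁻¹ ≠ wel P D l l →
      ∀ (hw : w * wel P D l l * w⁻¹ ∈ (P : Subgroup X)),
      ∃ a b, (⟨_, hw⟩ : (P : Subgroup X)) = D.el a b * D.t ∧ D.N ∣ a + b - 2 * l := by
    intro w hne hw
    rcases D.cases ⟨_, hw⟩ with ⟨a, b, h⟩ | ⟨a, b, h⟩
    · exact absurd (fix_of_mem_A P D hz ⟨_, D.el_mem_A a b, (congrArg Subtype.val h).symm⟩) hne
    refine ⟨a, b, h, ?_⟩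
    have h2 : w * wel P D (2 * l) (2 * l) * w⁻¹ = wel P D (a + b) (a + b) := by
      have e : wel P D (2 * l) (2 * l) = wel P D l l * wel P D l l := by
        rw [two_mul, ← Subgroup.coe_mul, D.el_mul]
      have h' := congrArg Subtype.val h
      rw [e, ← conj_mul, show w * wel P D l l * w⁻¹ = _ from h', ← Subgroup.coe_mul, D.sq_el_t]
    have h3 := fix_of_mem_A P D hz (g := w) (l := 2 * l) (h2 ▸ ⟨_, D.el_mem_A _ _, rfl⟩)
    rw [h2] at h3
    exact (D.el_eq_iff.1 (Subtype.coe_injective h3)).1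
  -- move to `c * t`
  obtain ⟨a, b, hab, hsum⟩ := notA g hne hg
  set c := wel P D l l with hcdef
  set T : X := ((D.el 0 0 * D.t : (P : Subgroup X)) : X) with hTdef
  have hTP : T ∈ (P : Subgroup X) := Subtype.coe_prop _
  have hcP : c ∈ (P : Subgroup X) := Subtype.coe_prop _
  set g1 := wel P D (l - a) 0 * g
  have hg1 : g1 * c * g1⁻¹ = c * T := by
    have e := congrArg Subtype.val (show D.el (l - a) 0 * ⟨_, hg⟩ * (D.el (l - a) 0)⁻¹ =
        D.el l l * (D.el 0 0 * D.t) by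
      rw [hab, D.conj_t_by_el, D.el_mul_t, D.el_t_eq_iff]
      refine ⟨⟨0, by ring⟩, ?_⟩
      rwa [show b + 0 - (l - a) - (l + 0) = a + b - 2 * l by ring])
    rw [Subgroup.coe_mul, Subgroup.coe_mul, InvMemClass.coe_inv, Subgroup.coe_mul (P : Subgroup X) (D.el l l)] at e
    refine Eq.trans ?_ e
    simp [g1, c, wel, mul_assoc]
  have hT2 : T * T = 1 := by
    rw [hTdef, ← Subgroup.coe_mul, D.sq_el_t]
    simp [D.el_zero]
  have hTA : ∀ i j, T ≠ wel P D i j := fun i j h => D.el_t_ne 0 0 i j (Subtype.coe_injective h)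
  have hT1 : T ≠ 1 := fun h => hTA 0 0 (h.trans (by rw [wel, D.el_zero]; rfl))
  have hcT : Commute c T := wel_commute P D l hTP
  -- a conjugate of `⟨c, T⟩` in `P` with `c T` sent to `c`
  set C := Subgroup.centralizer ({c} : Set X)
  set C' := Subgroup.centralizer ({c * T} : Set X)
  set V := Subgroup.zpowers c ⊔ Subgroup.zpowers T
  have hVP : V ≤ (P : Subgroup X) := sup_le (Subgroup.zpowers_le.2 hcP) (Subgroup.zpowers_le.2 hTP)
  have hcV : c ∈ V := Subgroup.mem_sup_left (Subgroup.mem_zpowers c)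
  have hTV : T ∈ V := Subgroup.mem_sup_right (Subgroup.mem_zpowers T)
  have hVC' : V ≤ C' := sup_le
    (Subgroup.zpowers_le.2 (Subgroup.mem_centralizer_singleton_iff.2 ((Commute.refl c).mul_right hcT).eq))
    (Subgroup.zpowers_le.2 (Subgroup.mem_centralizer_singleton_iff.2 (hcT.symm.mul_right (Commute.refl T)).eq))
  set V1 := V.map (MulAut.conj g1⁻¹).toMonoidHom
  have hV1C : V1 ≤ C := by
    rintro _ ⟨v, hv, rfl⟩
    refine Subgroup.mem_centralizer_singleton_iff.2 ?_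
    have h1 := (show Commute v (c * T) from Subgroup.mem_centralizer_singleton_iff.1 (hVC' hv)).map
      (MulAut.conj g1⁻¹).toMonoidHom
    simp only [MulEquiv.coe_toMonoidHom, MulAut.conj_apply, ← hg1] at h1
    simp only [MulEquiv.coe_toMonoidHom, MulAut.conj_apply]
    rw [show g1⁻¹ * (g1 * c * g1⁻¹) * g1⁻¹⁻¹ = c by group] at h1
    exact h1.eq
  have hPC : (P : Subgroup X) ≤ C := fun s hs =>
    Subgroup.mem_centralizer_singleton_iff.2 (wel_commute P D l hs).eq.symm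
  obtain ⟨k, hk⟩ := exists_conj_mem_sylow (p := 2) (P.subtype hPC) (H := V1.subgroupOf C)
    ((P.2.to_le hVP).map _ |>.comap_subtype)
  set m := (k : X) * g1⁻¹ with hmdef
  have hmV : ∀ v ∈ V, m * v * m⁻¹ ∈ (P : Subgroup X) := fun v hv => by
    have := hk ⟨_, hV1C ⟨v, hv, rfl⟩⟩ ⟨v, hv, rfl⟩
    have h9 : (k : X) * (g1⁻¹ * v * g1⁻¹⁻¹) * (k : X)⁻¹ ∈ (P : Subgroup X) := this
    simpa [hmdef, mul_assoc] using h9
  have hmc : m * (c * T) * m⁻¹ = c := by
    rw [← hg1, hmdef, show (k : X) * g1⁻¹ * (g1 * c * g1⁻¹) * ((k : X) * g1⁻¹)⁻¹ =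
      (k : X) * c * (k : X)⁻¹ by group]
    exact mul_inv_eq_iff_eq_mul.2 (Subgroup.mem_centralizer_singleton_iff.1 k.2)
  have hcTP : (m * c * m⁻¹) * (m * T * m⁻¹) = c := by rw [conj_mul]; exact hmc
  rcases D.cases ⟨_, hmV T hTV⟩ with ⟨i, j, hs⟩ | ⟨i, j, hs⟩
  · -- the image of `T` is in `A`
    have hs' : m * T * m⁻¹ = wel P D i j := congrArg Subtype.val hs
    have h1 : m * c * m⁻¹ = wel P D (l - i) (l - j) := by
      rw [eq_mul_inv_iff_mul_eq.2 hcTP, hs', hcdef]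
      rw [← InvMemClass.coe_inv, ← Subgroup.coe_mul, D.el_inv, D.el_mul, sub_eq_add_neg, sub_eq_add_neg]
    have h2 := fix_of_mem_A P D hz (g := m) (l := l) (h1 ▸ ⟨_, D.el_mem_A _ _, rfl⟩)
    rw [h2, mul_eq_left, mul_inv_eq_one, mul_eq_left] at hcTP
    exact hT1 hcTP
  have hs' : m * T * m⁻¹ = ((D.el i j * D.t : (P : Subgroup X)) : X) := congrArg Subtype.val hs
  have hij : D.N ∣ i + j := by
    have h1 : (m * T * m⁻¹) * (m * T * m⁻¹) = 1 := by rw [conj_mul, hT2, mul_one, mul_inv_cancel]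
    rw [hs', ← Subgroup.coe_mul, D.sq_el_t, OneMemClass.coe_eq_one, D.el_eq_one_iff] at h1
    exact h1.1
  set m' := wel P D (-i) 0 * m with hm'def
  have hm'T : m' * T * m'⁻¹ = T := by
    have e := congrArg Subtype.val (show D.el (-i) 0 * ⟨_, hmV T hTV⟩ * (D.el (-i) 0)⁻¹ =
        D.el 0 0 * D.t by
      rw [hs, D.conj_t_by_el, D.el_t_eq_iff]
      refine ⟨⟨0, by ring⟩, ?_⟩
      rwa [show j + 0 - -i - 0 = i + j by ring])
    rw [Subgroup.coe_mul, Subgroup.coe_mul, InvMemClass.coe_inv] at e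
    refine Eq.trans ?_ e
    simp [hm'def, wel, mul_assoc]
  have hm'c : m' * c * m'⁻¹ = c * T := by
    have h1 : m' * (c * T) * m'⁻¹ = c := by
      rw [hm'def, show wel P D (-i) 0 * m * (c * T) * (wel P D (-i) 0 * m)⁻¹ =
        wel P D (-i) 0 * (m * (c * T) * m⁻¹) * (wel P D (-i) 0)⁻¹ by group, hmc]
      exact mul_inv_eq_iff_eq_mul.2 (wel_commute P D l (Subtype.coe_prop _)).eq.symm
    rw [← conj_mul, hm'T] at h1
    rw [eq_mul_inv_iff_mul_eq.2 h1, inv_eq_of_mul_eq_one_right hT2]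
  have hpow : ∀ r : ℕ, m' ^ r * c * (m' ^ r)⁻¹ = c * T ^ r ∧ m' ^ r * T * (m' ^ r)⁻¹ = T := by
    intro r
    induction r with
    | zero => simp
    | succ r ih =>
      constructor
      · calc m' ^ (r + 1) * c * (m' ^ (r + 1))⁻¹ = m' * (m' ^ r * c * (m' ^ r)⁻¹) * m'⁻¹ := by
              rw [pow_succ']; group
          _ = (m' * c * m'⁻¹) * (m' * T * m'⁻¹) ^ r := by rw [ih.1, conj_pow]; group
          _ = c * T ^ (r + 1) := by rw [hm'c, hm'T, pow_succ', mul_assoc]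
      · calc m' ^ (r + 1) * T * (m' ^ (r + 1))⁻¹ = m' * (m' ^ r * T * (m' ^ r)⁻¹) * m'⁻¹ := by
              rw [pow_succ']; group
          _ = T := by rw [ih.2, hm'T]
  -- the odd power of `m'`
  have hn := orderOf_pos m'
  obtain ⟨e2, r, hr, hord⟩ := Nat.exists_eq_pow_mul_and_not_dvd hn.ne' 2 (by norm_num)
  set m2 := m' ^ r
  have hrodd : Odd r := Nat.odd_iff.2 (Nat.two_dvd_ne_zero.1 hr)
  have hTr : T ^ r = T := by
    obtain ⟨j, rfl⟩ := hrodd
    rw [pow_succ, pow_mul, pow_two, hT2, one_pow, one_mul]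
  have hm2c : m2 * c * m2⁻¹ = c * T := by rw [(hpow r).1, hTr]
  have hm2p : IsPGroup 2 (Subgroup.zpowers m2) := by
    refine IsPGroup.of_card (n := e2) ?_
    have : r ≠ 0 := fun h => hr (h ▸ dvd_zero 2)
    rw [Nat.card_zpowers, orderOf_pow' m' this, hord, Nat.gcd_mul_left_left,
      Nat.mul_div_cancel _ (Nat.pos_of_ne_zero this)]
  have hm2N : Subgroup.zpowers m2 ≤ Subgroup.normalizer (V : Set X) := by
    refine Subgroup.zpowers_le.2 ?_
    have hle : V.map (MulAut.conj m2).toMonoidHom ≤ V := by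
      rw [Subgroup.map_sup, MonoidHom.map_zpowers, MonoidHom.map_zpowers]
      refine sup_le (Subgroup.zpowers_le.2 ?_) (Subgroup.zpowers_le.2 ?_)
      · simp only [MulEquiv.coe_toMonoidHom, MulAut.conj_apply, hm2c]; exact mul_mem hcV hTV
      · simp only [MulEquiv.coe_toMonoidHom, MulAut.conj_apply, show m2 * T * m2⁻¹ = T from (hpow r).2]
        exact hTV
    have heq := Subgroup.eq_of_le_of_card_ge hle
      (le_of_eq (Nat.card_congr (V.equivMapOfInjective _ (MulEquiv.injective _)).toEquiv))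
    refine Subgroup.mem_normalizer_iff.2 fun a => ⟨fun ha => heq ▸ ⟨a, ha, rfl⟩, fun ha => ?_⟩
    rw [← heq] at ha
    obtain ⟨b, hb, hba⟩ := ha
    exact (MulAut.conj m2).injective hba ▸ hb
  obtain ⟨q, hq⟩ := exists_conj_mem_sylow (p := 2) P (H := V ⊔ Subgroup.zpowers m2)
    ((P.2.to_le hVP).to_sup_of_normal_left' hm2p hm2N)
  set u := q * m2 * q⁻¹
  have hu : u ∈ (P : Subgroup X) := hq _ (Subgroup.mem_sup_right (Subgroup.mem_zpowers m2))
  have hc1 : q * c * q⁻¹ ∈ (P : Subgroup X) := hq _ (Subgroup.mem_sup_left hcV)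
  have hT' : q * T * q⁻¹ ∈ (P : Subgroup X) := hq _ (Subgroup.mem_sup_left hTV)
  have hc2 : (q * m2) * c * (q * m2)⁻¹ = (q * c * q⁻¹) * (q * T * q⁻¹) := by
    rw [conj_mul, ← hm2c]; group
  have hc2u : (q * m2) * c * (q * m2)⁻¹ = u * (q * c * q⁻¹) * u⁻¹ := by simp only [u]; group
  have hc2P : (q * m2) * c * (q * m2)⁻¹ ∈ (P : Subgroup X) := by rw [hc2]; exact mul_mem hc1 hT'
  have hT'1 : q * T * q⁻¹ ≠ 1 := fun h => hT1 (by
    have h' := congrArg (fun y => q⁻¹ * y * q) h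
    simpa [mul_assoc] using h')
  have hne1 : q * c * q⁻¹ ≠ c := by
    intro h
    have h3 := hc2
    rw [hc2u, h, (wel_commute P D l hu).symm.eq, mul_inv_cancel_right] at h3
    exact hT'1 (mul_eq_left.1 h3.symm)
  have hne2 : (q * m2) * c * (q * m2)⁻¹ ≠ c := by
    intro h
    rw [hc2u] at h
    refine hne1 ?_
    have h4 : q * c * q⁻¹ = u⁻¹ * c * u := by
      have h5 := congrArg (fun y => u⁻¹ * y * u) h
      simpa [mul_assoc] using h5
    rw [h4, mul_assoc, (wel_commute P D l hu).eq, inv_mul_cancel_left]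
  obtain ⟨a1, b1, e1, s1⟩ := notA q hne1 hc1
  obtain ⟨a2, b2, e3, s2⟩ := notA (q * m2) hne2 hc2P
  have hTel : q * T * q⁻¹ = wel P D (b2 - b1) (a2 - a1) := by
    have h1 : q * T * q⁻¹ = (q * c * q⁻¹)⁻¹ * ((q * m2) * c * (q * m2)⁻¹) := by
      rw [hc2, inv_mul_cancel_left]
    have h2 := congrArg Subtype.val (show (⟨_, hc1⟩ : (P : Subgroup X))⁻¹ * ⟨_, hc2P⟩ =
        D.el (b2 - b1) (a2 - a1) by
      rw [e1, e3, D.inv_t, D.mul_t_mul_t, D.el_eq_iff]
      exact ⟨⟨0, by ring⟩, ⟨0, by ring⟩⟩)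
    rw [h1]; exact h2
  have hsq : (q * T * q⁻¹) * (q * T * q⁻¹) = 1 := by rw [conj_mul, hT2, mul_one, mul_inv_cancel]
  rw [hTel, ← Subgroup.coe_mul, OneMemClass.coe_eq_one, D.sq_el_eq_one_iff] at hsq
  have hdiff : D.el (b2 - b1) (a2 - a1) = D.el (b2 - b1) (b2 - b1) := by
    refine D.el_eq_iff.2 ⟨by rw [sub_self]; exact dvd_zero _, ?_⟩
    have h1 := D.dvd_two_mul_iff.2 hsq.1
    have h2 := dvd_sub (dvd_sub s2 s1) h1
    rwa [show a2 + b2 - 2 * l - (a1 + b1 - 2 * l) - 2 * (b2 - b1) = a2 - a1 - (b2 - b1) by ring] at h2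
  have hzz : q * T * q⁻¹ = D.z := by
    obtain ⟨w, hw⟩ := hsq.1
    rw [hTel, wel, hdiff, hw]
    have hN := D.N_eq_two_h
    rcases Int.even_or_odd w with ⟨w', rfl⟩ | ⟨w', rfl⟩
    · refine absurd ?_ hT'1
      rw [hTel, wel, hdiff, hw, OneMemClass.coe_eq_one, D.el_eq_one_iff]
      exact ⟨⟨w', by rw [hN]; ring⟩, ⟨w', by rw [hN]; ring⟩⟩
    · refine congrArg Subtype.val (D.el_eq_iff.2 ?_)
      exact ⟨⟨w', by rw [hN]; ring⟩, ⟨w', by rw [hN]; ring⟩⟩
  have h7 := fix_z P D hz (g := q⁻¹) (by rw [← hzz]; simpa [mul_assoc] using hTP)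
  refine hTA D.h D.h ?_
  rw [← hzz] at h7
  show T = (D.z : X)
  rw [← hzz]
  simpa [mul_assoc] using h7

end CfsgLib.Invol
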