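import Cfsg.Agent.Lib.Invol.WreathedV
import Cfsg.Agent.Lib.Invol.WreathedIso

/-!
Fusion in groups with wreathed Sylow 2-subgroups.
-/

set_option autoImplicit false
set_option linter.unusedSectionVars false

namespace CfsgLib.Invol

open Subgroup

universe u

section Generic

variable {X : Type u} [Group X] [Finite X]

/-- An element of odd order normalising a cyclic 2-group centralises it. -/
theorem odd_fix_cyclic {c m : X} {k : ℕ} (hc : orderOf c = 2 ^ k)
    (hm : m ∈ normalizer (zpowers c : Set X)) (hodd : Odd (orderOf m)) : m * c * m⁻¹ = c := by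
  let f : normalizer (zpowers c : Set X) →* MulAut (zpowers c) := normalizerMonoidHom (zpowers c)
  have h1 : orderOf (f ⟨m, hm⟩) ∣ orderOf m := by
    have := orderOf_map_dvd f ⟨m, hm⟩
    rwa [Subgroup.orderOf_mk] at this
  have h2 : orderOf (f ⟨m, hm⟩) ∣ Nat.totient (2 ^ k) := by
    have hcard : Nat.card (MulAut (zpowers c)) = Nat.totient (2 ^ k) := by
      rw [IsCyclic.card_mulAut, Nat.card_zpowers, hc]
    exact hcard ▸ orderOf_dvd_natCard _
  have h3 : orderOf (f ⟨m, hm⟩) = 1 := by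
    refine Nat.eq_one_of_dvd_coprimes ?_ h1 h2
    rcases k with _ | k
    · simp
    · rw [Nat.totient_prime_pow_succ Nat.prime_two, show (2 : ℕ) - 1 = 1 from rfl, mul_one]
      exact Nat.Coprime.pow_right k (Nat.coprime_two_right.2 hodd)
  rw [orderOf_eq_one_iff] at h3
  exact congrArg Subtype.val (DFunLike.congr_fun h3 ⟨c, mem_zpowers c⟩)

/-- An element of odd order normalising an abelian 2-subgroup and fixing its involutions
centralises it. -/
theorem odd_fix_of_fix_invol {A : Subgroup X} (hA : ∀ a ∈ A, ∀ b ∈ A, Commute a b) (hp : IsPGroup 2 A)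
    {m : X} (hm : m ∈ normalizer (A : Set X)) (hodd : Odd (orderOf m))
    (hinvol : ∀ e ∈ A, e * e = 1 → m * e * m⁻¹ = e) {a : X} (ha : a ∈ A) : m * a * m⁻¹ = a := by
  have hmem : ∀ b ∈ A, m * b * m⁻¹ ∈ A := fun b hb => (mem_normalizer_iff.1 hm b).1 hb
  suffices key : ∀ k, ∀ b ∈ A, b ^ 2 ^ k = 1 → m * b * m⁻¹ = b by
    obtain ⟨k, hk⟩ := hp ⟨a, ha⟩
    exact key k a ha (congrArg Subtype.val hk)
  intro k
  induction k with
  | zero => intro b _ hb; rw [pow_zero, pow_one] at hb; rw [hb]; group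
  | succ k ih =>
    intro b hb hbk
    have h2 := ih (b * b) (mul_mem hb hb) (by rw [← pow_two, ← pow_mul, ← pow_succ']; exact hbk)
    set d := b⁻¹ * (m * b * m⁻¹) with hd
    have hd2 : d * d = 1 := by
      have hc : Commute (b⁻¹) (m * b * m⁻¹) := hA _ (inv_mem hb) _ (hmem b hb)
      rw [hd, hc.symm.mul_mul_mul_comm, conj_mul, h2]
      group
    have hdf := hinvol d (mul_mem (inv_mem hb) (hmem b hb)) hd2
    have hpow : ∀ j : ℕ, m ^ j * b * (m ^ j)⁻¹ = b * d ^ j := by
      intro j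
      induction j with
      | zero => simp
      | succ j ihj =>
        calc m ^ (j + 1) * b * (m ^ (j + 1))⁻¹ = m * (m ^ j * b * (m ^ j)⁻¹) * m⁻¹ := by
              rw [pow_succ']; group
          _ = m * (b * d ^ j) * m⁻¹ := by rw [ihj]
          _ = m * b * m⁻¹ * (m * d * m⁻¹) ^ j := by rw [conj_pow]; group
          _ = b * d * d ^ j := by rw [hdf, hd, mul_inv_cancel_left]
          _ = b * d ^ (j + 1) := by rw [pow_succ', mul_assoc]
    have h3 := hpow (orderOf m)
    rw [pow_orderOf_eq_one, inv_one, mul_one, one_mul] at h3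
    obtain ⟨j, hj⟩ := hodd
    have h4 : d ^ orderOf m = 1 := by
      have := congrArg (b⁻¹ * ·) h3
      simpa using this.symm
    rw [hj, pow_succ, pow_mul, pow_two, hd2, one_pow, one_mul] at h4
    rw [h4] at hd
    exact (eq_inv_mul_iff_mul_eq.1 hd).symm.trans (mul_one b)

/-- A group generated by its elements of odd order and a Sylow 2-subgroup. -/
theorem top_le_of_odd_of_sylow {L : Subgroup X} (T : Sylow 2 X)
    (hodd : ∀ x : X, Odd (orderOf x) → x ∈ L) (hT : (T : Subgroup X) ≤ L) : (⊤ : Subgroup X) ≤ L := by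
  have h1 : Cfsg.pResidual 2 X ≤ L :=
    (closure_le _).2 fun x hx => hodd x (Nat.coprime_two_right.1 hx)
  have h := sup_le h1 hT
  rwa [CfsgLib.Transfer.pResidual_sup_sylow] at h

theorem map_centralizer_conj (g : X) (A : Subgroup X) :
    (centralizer (A : Set X)).map (MulAut.conj g).toMonoidHom =
      centralizer ((A.map (MulAut.conj g).toMonoidHom : Subgroup X) : Set X) := by
  ext x
  simp only [mem_centralizer_iff, SetLike.mem_coe, Subgroup.mem_map,
    MulEquiv.coe_toMonoidHom, MulAut.conj_apply]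
  constructor
  · rintro ⟨y, hy, rfl⟩ _ ⟨a, ha, rfl⟩
    rw [conj_mul, hy a ha, ← conj_mul]
  · intro h
    refine ⟨g⁻¹ * x * g, fun a ha => ?_, by group⟩
    have := congrArg (fun w => g⁻¹ * w * g) (h _ ⟨a, ha, rfl⟩)
    simpa [mul_assoc] using this

theorem index_conj_invariant (g : X) (V : Subgroup X) :
    (V.map (MulAut.conj g).toMonoidHom ⊔ centralizer ((V.map (MulAut.conj g).toMonoidHom : Subgroup X) : Set X)).relIndex
      (normalizer ((V.map (MulAut.conj g).toMonoidHom : Subgroup X) : Set X)) =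
    (V ⊔ centralizer (V : Set X)).relIndex (normalizer (V : Set X)) := by
  rw [← map_centralizer_conj, ← Subgroup.map_sup,
    show normalizer ((V.map (MulAut.conj g).toMonoidHom : Subgroup X) : Set X) =
      (normalizer (V : Set X)).map (MulAut.conj g).toMonoidHom from (map_equiv_normalizer_eq V _).symm,
    relIndex_map_map_of_injective _ _ (MulAut.conj g).injective]

/-- The set of elements congruent to `u` modulo `Z`. -/
def cst (Z : Subgroup X) (u : X) : Set X := {p | u⁻¹ * p ∈ Z}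

theorem cst_eq_iff {Z : Subgroup X} {u v : X} : cst Z u = cst Z v ↔ u⁻¹ * v ∈ Z := by
  constructor
  · intro h
    have : v ∈ cst Z u := by rw [h]; show v⁻¹ * v ∈ Z; rw [inv_mul_cancel]; exact one_mem Z
    exact this
  · intro h
    ext p
    show u⁻¹ * p ∈ Z ↔ v⁻¹ * p ∈ Z
    rw [show u⁻¹ * p = (u⁻¹ * v) * (v⁻¹ * p) by group]
    exact mul_mem_cancel_left h

end Generic

variable {G : Type u} [Group G] [Finite G] (S : Sylow 2 G) (D : WrData (S : Subgroup G))

/-- The central subgroup. -/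
abbrev wZ : Subgroup G := (Subgroup.center (S : Subgroup G)).map (S : Subgroup G).subtype
/-- The subgroup `Q Z(S)`. -/
abbrev wV : Subgroup G := D.V0.map (S : Subgroup G).subtype
/-- The involution outside the abelian maximal subgroup. -/
abbrev wt : G := ((D.el 0 0 * D.t : (S : Subgroup G)) : G)

theorem mem_wS {s : G} (hs : s ∈ (S : Subgroup G)) {M : Subgroup (S : Subgroup G)} :
    s ∈ M.map (S : Subgroup G).subtype ↔ (⟨s, hs⟩ : (S : Subgroup G)) ∈ M :=
  ⟨fun ⟨a, ha, e⟩ => (show (⟨s, hs⟩ : (S : Subgroup G)) = a from Subtype.ext e.symm) ▸ ha,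
    fun h => ⟨_, h, rfl⟩⟩

theorem coe_mem_wS {s : (S : Subgroup G)} {M : Subgroup (S : Subgroup G)} :
    (s : G) ∈ M.map (S : Subgroup G).subtype ↔ s ∈ M := mem_wS S s.2

theorem wZ_eq : wZ S = zpowers (wel S D 1 1) := by
  rw [wZ, D.center_eq, MonoidHom.map_zpowers]; rfl

theorem wc_order : orderOf (wel S D 1 1) = 2 ^ D.n :=
  (Subgroup.orderOf_coe _).trans D.orderOf_el_one_one

theorem wel_mem_wZ (i : ℤ) : wel S D i i ∈ wZ S :=
  coe_mem_wS S |>.2 (D.mem_center_iff.2 ⟨i, rfl⟩)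

theorem wZ_commute {z s : G} (hz : z ∈ wZ S) (hs : s ∈ (S : Subgroup G)) : Commute z s := by
  obtain ⟨z, hz, rfl⟩ := hz
  exact congrArg Subtype.val (mem_center_iff.1 hz ⟨s, hs⟩).symm

theorem S_le_normalizer_wA : (S : Subgroup G) ≤ normalizer (wA S D : Set G) := fun s hs => by
  have := Subgroup.normal_of_index_eq_two D.index_A
  refine mem_normalizer_iff_of_finite fun a ha => ?_
  obtain ⟨a, ha, rfl⟩ := ha
  exact ⟨⟨s, hs⟩ * a * ⟨s, hs⟩⁻¹, this.conj_mem a ha _, rfl⟩

/-- Any conjugation taking the abelian maximal subgroup into the Sylow subgroup normalises it. -/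
theorem mem_normalizer_of_le {g : G} (h : ∀ a ∈ wA S D, g * a * g⁻¹ ∈ (S : Subgroup G)) :
    g ∈ normalizer (wA S D : Set G) := by
  have heq : (wA S D).map (MulAut.conj g).toMonoidHom = wA S D := by
    refine eq_wA S D ?_ ?_ ?_
    · rintro _ ⟨a, ha, rfl⟩; exact h a ha
    · rintro _ ⟨a, ha, rfl⟩ _ ⟨b, hb, rfl⟩
      exact (wA_commute S D ha hb).map _
    · rw [← Nat.card_congr ((wA S D).equivMapOfInjective _ (MulAut.conj g).injective).toEquiv, wA_card]
  exact mem_normalizer_iff_of_finite fun a ha => heq.le ⟨a, ha, rfl⟩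

/-- Given an element of the abelian maximal subgroup, a conjugation into the Sylow subgroup of a
2-subgroup centralizing it may be composed with a normalizing element. -/
theorem exists_adjust_A {a : G} (ha : a ∈ wA S D) {H : Subgroup G} (hH : IsPGroup 2 H)
    (hc : H ≤ centralizer ({a} : Set G)) :
    ∃ h ∈ centralizer ({a} : Set G), ∃ m ∈ normalizer (wA S D : Set G),
      ∀ x ∈ H, m * (h * x * h⁻¹) * m⁻¹ ∈ (S : Subgroup G) := by
  set C := centralizer ({a} : Set G)
  have hAC : wA S D ≤ C := fun b hb => mem_centralizer_singleton_iff.2 (wA_commute S D hb ha).eq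
  have hpA : IsPGroup 2 (wA S D) := S.2.to_le (wA_le S D)
  obtain ⟨T, hT⟩ := (hpA.comap_subtype (K := C)).exists_le_sylow
  obtain ⟨h, hh⟩ := exists_conj_mem_sylow (p := 2) T (H := H.subgroupOf C) hH.comap_subtype
  obtain ⟨m, hm⟩ := exists_conj_mem_sylow (p := 2) S (T.2.map C.subtype)
  refine ⟨h, h.2, m, mem_normalizer_of_le S D fun b hb => hm b ⟨⟨b, hAC hb⟩, hT hb, rfl⟩, fun x hx => ?_⟩
  exact hm _ ⟨_, hh ⟨x, hc hx⟩ hx, rfl⟩

/-- Fusion in the abelian maximal subgroup is controlled by its normalizer. -/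
theorem exists_normalizer_conj {x g : G} (hx : x ∈ wA S D) (hg : g * x * g⁻¹ ∈ wA S D) :
    ∃ m ∈ normalizer (wA S D : Set G), m * x * m⁻¹ = g * x * g⁻¹ := by
  obtain ⟨h, hh, r, hr, hS⟩ := exists_adjust_A S D hg
    (H := (wA S D).map (MulAut.conj g).toMonoidHom) ((S.2.to_le (wA_le S D)).map _) (by
      rintro _ ⟨b, hb, rfl⟩
      exact mem_centralizer_singleton_iff.2 ((wA_commute S D hb hx).map (MulAut.conj g).toMonoidHom).eq)
  have h1 : r * h * g ∈ normalizer (wA S D : Set G) := mem_normalizer_of_le S D fun b hb => by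
    have := hS _ ⟨b, hb, rfl⟩
    simpa [mul_assoc] using this
  refine ⟨h * g, ?_, ?_⟩
  · simpa [mul_assoc] using mul_mem (inv_mem hr) h1
  · rw [show h * g * x * (h * g)⁻¹ = h * (g * x * g⁻¹) * h⁻¹ by group]
    exact mul_inv_eq_iff_eq_mul.2 (mem_centralizer_singleton_iff.1 hh)

/-- The central involution is isolated in its centralizer, where the centre therefore consists of
isolated elements. -/
theorem fix_c_of_fix_z {g : G} (hg : g * (D.z : G) * g⁻¹ = D.z)
    (hc : g * wel S D 1 1 * g⁻¹ ∈ (S : Subgroup G)) :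
    g * wel S D 1 1 * g⁻¹ = wel S D 1 1 := by
  set X := centralizer ({(D.z : G)} : Set G)
  have hSX : (S : Subgroup G) ≤ X := fun s hs =>
    mem_centralizer_singleton_iff.2 (wel_commute S D D.h hs).eq.symm
  let P' : Sylow 2 X := S.subtype hSX
  let e : (S : Subgroup G) ≃* (P' : Subgroup X) := (subgroupOfEquivOfLe hSX).symm
  let D' : WrData (P' : Subgroup X) := D.congr e
  have hel : ∀ i j, ((wel P' D' i j : X) : G) = wel S D i j := fun i j => by
    show (((D.congr e).el i j : (P' : Subgroup X)) : G) = _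
    rw [WrData.congr_el]; rfl
  have hz : Cfsg.IsIsolatedInvolution ((D'.z : (P' : Subgroup X)) : X) := by
    refine ⟨(Subgroup.orderOf_coe _).trans D'.orderOf_z, fun k _ => Subtype.ext ?_⟩
    have h1 : (((D'.z : (P' : Subgroup X)) : X) : G) = (D.z : G) := hel _ _
    simp only [Subgroup.coe_mul, InvMemClass.coe_inv, h1]
    exact mul_inv_eq_iff_eq_mul.2 (mem_centralizer_singleton_iff.1 k.2)
  have hgX : g ∈ X := mem_centralizer_singleton_iff.2 (mul_inv_eq_iff_eq_mul.1 hg)
  have h := isoElt_fix (isoElt_wel P' D' hz 1) (g := ⟨g, hgX⟩) (by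
    show g * ((wel P' D' 1 1 : X) : G) * g⁻¹ ∈ (S : Subgroup G)
    rw [hel]; exact hc)
  have h2 := congrArg Subtype.val h
  simpa only [Subgroup.coe_mul, InvMemClass.coe_inv, hel] using h2

/-- If an element outside the abelian maximal subgroup is conjugate into it, the involution `t` is
conjugate to `e₁` by an element centralizing the centre. -/
theorem exists_t_to_e {b : (S : Subgroup G)} (hb : b ∉ D.A) {g : G}
    (hg : g * (b : G) * g⁻¹ ∈ wA S D) :
    ∃ k : G, k * wel S D 1 1 * k⁻¹ = wel S D 1 1 ∧ k * wt S D * k⁻¹ = wel S D D.h 0 := by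
  set c := wel S D 1 1
  have hcS : c ∈ (S : Subgroup G) := SetLike.coe_mem _
  have hHC : (zpowers c ⊔ zpowers (b : G)).map (MulAut.conj g).toMonoidHom ≤
      centralizer ({g * (b : G) * g⁻¹} : Set G) := by
    rw [map_le_iff_le_comap]
    refine sup_le (zpowers_le.2 ?_) (zpowers_le.2 ?_) <;> refine mem_centralizer_singleton_iff.2 ?_
    · exact ((wel_commute S D 1 b.2).map (MulAut.conj g).toMonoidHom).eq
    · exact rfl
  obtain ⟨h, hh, r, hr, hS⟩ := exists_adjust_A S D hg
    ((S.2.to_le (sup_le (zpowers_le.2 hcS) (zpowers_le.2 b.2))).map _) hHC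
  set g' := r * h * g
  have hb' : g' * (b : G) * g'⁻¹ ∈ wA S D := by
    rw [show g' * (b : G) * g'⁻¹ = r * (h * (g * (b : G) * g⁻¹) * h⁻¹) * r⁻¹ by simp only [g']; group,
      mul_inv_eq_iff_eq_mul.2 (mem_centralizer_singleton_iff.1 hh)]
    exact (mem_normalizer_iff.1 hr _).1 hg
  have hc' : g' * c * g'⁻¹ ∈ (S : Subgroup G) := by
    have := hS _ ⟨c, mem_sup_left (mem_zpowers c), rfl⟩
    simpa [g', mul_assoc] using this
  have hcA : c ∈ wA S D := ⟨_, D.el_mem_A 1 1, rfl⟩
  have hc'A : g' * c * g'⁻¹ ∈ wA S D := by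
    rcases D.cases ⟨_, hc'⟩ with ⟨p, q, hpq⟩ | ⟨p, q, hpq⟩
    · exact ⟨_, D.el_mem_A p q, (congrArg Subtype.val hpq).symm⟩
    -- otherwise `z` is fixed, so `c` is
    have hz : g' * (D.z : G) * g'⁻¹ = D.z := by
      have hN := D.N_eq_two_h
      have hk := D.h_eq_two_k
      have h2 : (g' * c * g'⁻¹) * (g' * c * g'⁻¹) = wel S D (p + q) (p + q) :=
        congrArg Subtype.val (show (⟨_, hc'⟩ : (S : Subgroup G)) * ⟨_, hc'⟩ = D.el (p + q) (p + q) by
          rw [hpq, D.sq_el_t])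
      have hzc : (D.z : G) = (c * c) ^ D.k := congrArg Subtype.val
        (show D.z = (D.el 1 1 * D.el 1 1) ^ D.k by
          rw [D.el_mul, D.el_zpow, WrData.z, D.el_eq_iff]
          exact ⟨⟨0, by linarith⟩, ⟨0, by linarith⟩⟩)
      have h3 : g' * (D.z : G) * g'⁻¹ = wel S D ((p + q) * D.k) ((p + q) * D.k) := by
        rw [hzc, conj_zpow_eq, ← conj_mul, h2]
        exact (Subgroup.coe_zpow _ _ _).symm.trans (congrArg Subtype.val (D.el_zpow _ _ _))
      have h4 : D.el ((p + q) * D.k) ((p + q) * D.k) = D.z := by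
        have ho : orderOf (D.el ((p + q) * D.k) ((p + q) * D.k)) = 2 := by
          rw [← Subgroup.orderOf_coe, show ((D.el ((p + q) * D.k) ((p + q) * D.k) : (S : Subgroup G)) : G) =
            wel S D ((p + q) * D.k) ((p + q) * D.k) from rfl, ← h3, orderOf_conj_eq, Subgroup.orderOf_coe,
            D.orderOf_z]
        rcases D.invol_mem_A (D.el_mem_A _ _) (invol_mul_self ho) with e | e | e | e
        · exact absurd e (invol_ne_one ho)
        · exact e
        all_goals
          exfalso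
          obtain ⟨h5, h6⟩ := D.el_eq_iff.1 e
          refine D.not_N_dvd_h ?_
          first
            | exact (dvd_sub h5 h6).trans (dvd_of_eq (by linarith))
            | exact (dvd_sub h6 h5).trans (dvd_of_eq (by linarith))
      rw [h3]
      exact congrArg Subtype.val h4
    have := fix_c_of_fix_z S D hz hc'
    rw [this]; exact hcA
  obtain ⟨m, hm, hmc⟩ := exists_normalizer_conj S D hcA hc'A
  set k := m⁻¹ * g'
  have hkc : k * c * k⁻¹ = c := by
    rw [show k * c * k⁻¹ = m⁻¹ * (g' * c * g'⁻¹) * m by simp only [k]; group, ← hmc]; group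
  have hkb : k * (b : G) * k⁻¹ ∈ wA S D := by
    rw [show k * (b : G) * k⁻¹ = m⁻¹ * (g' * (b : G) * g'⁻¹) * m⁻¹⁻¹ by simp only [k]; group]
    exact (mem_normalizer_iff.1 (inv_mem hm) _).1 hb'
  obtain ⟨a, ⟨p, q, rfl⟩, ha⟩ := hkb
  rcases D.cases b with ⟨i, j, rfl⟩ | ⟨i, j, rfl⟩
  · exact absurd (D.el_mem_A i j) hb
  have hfix : ∀ l : ℤ, k * wel S D l l * k⁻¹ = wel S D l l := fun l => by
    have e : wel S D l l = c ^ l := by
      show _ = ((D.el 1 1 : (S : Subgroup G)) : G) ^ l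
      rw [← Subgroup.coe_zpow, D.el_zpow, one_mul]
    rw [e, conj_zpow_eq, hkc]
  have hN := D.N_eq_two_h
  have hsq : D.el (p + p) (q + q) = D.el (i + j) (i + j) := by
    refine Subtype.ext ?_
    rw [← D.el_mul, Subgroup.coe_mul, show ((D.el p q : (S : Subgroup G)) : G) =
      k * ((D.el i j * D.t : (S : Subgroup G)) : G) * k⁻¹ from ha, conj_mul, ← Subgroup.coe_mul,
      D.sq_el_t]
    exact hfix _
  obtain ⟨⟨u, hu⟩, ⟨v, hv⟩⟩ := D.el_eq_iff.1 hsq
  -- `p - h u` is half of the sum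
  have hsum : D.N ∣ i - p + (j - p) := ⟨-u, by linarith⟩
  have hdiff : D.h ∣ q - p := ⟨v - u, by rw [hN] at hu hv; linarith⟩
  set b₁ : G := ((D.el (i - p) (j - p) * D.t : (S : Subgroup G)) : G)
  have hkb₁ : k * b₁ * k⁻¹ = wel S D 0 (q - p) := by
    have e1 : b₁ = wel S D (-p) (-p) * ((D.el i j * D.t : (S : Subgroup G)) : G) :=
      congrArg Subtype.val (show D.el (i - p) (j - p) * D.t = D.el (-p) (-p) * (D.el i j * D.t) by
        rw [D.el_mul_t, D.el_t_eq_iff]; exact ⟨⟨0, by ring⟩, ⟨0, by ring⟩⟩)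
    rw [e1, ← conj_mul, hfix, show k * ((D.el i j * D.t : (S : Subgroup G)) : G) * k⁻¹ =
      ((D.el p q : (S : Subgroup G)) : G) from ha.symm]
    exact congrArg Subtype.val (show D.el (-p) (-p) * D.el p q = D.el 0 (q - p) by
      rw [D.el_mul, D.el_eq_iff]; exact ⟨⟨0, by ring⟩, ⟨0, by ring⟩⟩)
  have he2 : wel S D 0 (q - p) = wel S D 0 D.h := by
    obtain ⟨w, hw⟩ := hdiff
    rcases Int.even_or_odd' w with ⟨l, rfl | rfl⟩
    · exfalso
      have : wel S D 0 (q - p) = 1 := OneMemClass.coe_eq_one.2 (D.el_eq_one_iff.2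
        ⟨dvd_zero _, ⟨l, by rw [hN, hw]; ring⟩⟩)
      rw [this] at hkb₁
      exact D.el_t_ne (i - p) (j - p) 0 0 (Subtype.ext ((conj_eq_one_iff.1 hkb₁).trans (by
        rw [D.el_zero]; rfl)))
    · exact congrArg Subtype.val (D.el_eq_iff.2 ⟨⟨0, by ring⟩, ⟨l, by rw [hN, hw]; ring⟩⟩)
  set s₀ := wel S D (-(i - p)) 0
  have hs₀ : s₀ * b₁ * s₀⁻¹ = wt S D := congrArg Subtype.val (D.conj_invol_to_t hsum)
  refine ⟨wt S D * (k * s₀⁻¹), ?_, ?_⟩
  · have e1 : s₀⁻¹ * c * s₀⁻¹⁻¹ = c := by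
      rw [← (wel_commute S D 1 (inv_mem (SetLike.coe_mem _))).eq, mul_inv_cancel_right]
    rw [show wt S D * (k * s₀⁻¹) * c * (wt S D * (k * s₀⁻¹))⁻¹ =
      wt S D * (k * (s₀⁻¹ * c * s₀⁻¹⁻¹) * k⁻¹) * (wt S D)⁻¹ by group, e1, hkc,
      ← (wel_commute S D 1 (SetLike.coe_mem _)).eq, mul_inv_cancel_right]
  · rw [show wt S D * (k * s₀⁻¹) * wt S D * (wt S D * (k * s₀⁻¹))⁻¹ =
      wt S D * (k * (s₀⁻¹ * wt S D * s₀) * k⁻¹) * (wt S D)⁻¹ by group,
      show s₀⁻¹ * wt S D * s₀ = b₁ by rw [← hs₀]; group, hkb₁, he2]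
    exact congrArg Subtype.val (D.conj_el_by_t 0 0 0 D.h)

/-- A conjugate of `V0` in the Sylow subgroup is brought back by an element of it. -/
theorem exists_adjust_V {g : G} (hg : ∀ p ∈ wV S D, g * p * g⁻¹ ∈ (S : Subgroup G)) :
    ∃ s ∈ (S : Subgroup G), s * g ∈ normalizer (wV S D : Set G) := by
  let f : D.V0 →* (S : Subgroup G) :=
    MonoidHom.mk' (fun p => ⟨g * (p.1.1 : G) * g⁻¹, hg _ ⟨p.1, p.2, rfl⟩⟩)
      fun p q => Subtype.ext (conj_mul).symm
  have hf : Function.Injective f := fun p q h =>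
    Subtype.ext (Subtype.ext ((MulAut.conj g).injective (congrArg Subtype.val h)))
  obtain ⟨e⟩ := D.Q0_equiv
  let Q' : Subgroup (S : Subgroup G) := (D.Q0.subgroupOf D.V0).map f
  let e' : Q' ≃* QuaternionGroup 2 :=
    (((D.Q0.subgroupOf D.V0).equivMapOfInjective f hf).symm.trans (subgroupOfEquivOfLe D.Q0_le)).trans e
  set Z := (Subgroup.center (S : Subgroup G)).subgroupOf D.V0
  have hZ : Z.map f = Subgroup.center (S : Subgroup G) := by
    have := D.finite
    refine eq_of_le_of_card_ge ?_ ?_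
    · rintro _ ⟨z, hz, rfl⟩
      refine D.center_of_commute_quat e' ?_
      rintro _ ⟨q, -, rfl⟩
      have hc : Commute z q := Subtype.ext (mem_center_iff.1 hz q.1).symm
      exact hc.map f
    · rw [← Nat.card_congr (Z.equivMapOfInjective f hf).toEquiv,
        Nat.card_congr (subgroupOfEquivOfLe D.center_le_V0).toEquiv]
  obtain ⟨c, hc⟩ := D.quat_sup_center e'
  refine ⟨_, (D.el c 0).2, mem_normalizer_iff_of_finite ?_⟩
  rintro _ ⟨p, hp, rfl⟩
  have hmem : f ⟨p, hp⟩ ∈ Q' ⊔ Subgroup.center (S : Subgroup G) := by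
    rw [← hZ, ← Subgroup.map_sup]
    refine mem_map_of_mem f ?_
    rw [← Subgroup.subgroupOf_sup D.Q0_le D.center_le_V0, mem_subgroupOf]
    -- `V0` is generated by the quaternion group and the centre
    obtain ⟨a, b, hab, hform⟩ := hp
    have hz : ∀ i, D.el i i ∈ D.Q0 ⊔ Subgroup.center (S : Subgroup G) := fun i =>
      mem_sup_right (D.mem_center_iff.2 ⟨i, rfl⟩)
    have hu : D.el D.k (-D.k) ∈ D.Q0 ⊔ Subgroup.center (S : Subgroup G) :=
      mem_sup_left (subset_closure (by simp))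
    have hw : D.el D.k D.k * D.t ∈ D.Q0 ⊔ Subgroup.center (S : Subgroup G) :=
      mem_sup_left (subset_closure (by simp))
    have hA : D.el a b ∈ D.Q0 ⊔ Subgroup.center (S : Subgroup G) := by
      rcases D.h_dvd_sub_cases hab with e | e <;> rw [e]
      · exact hz b
      · refine mul_mem (hz b) ?_
        have := mul_mem hu (hz D.k)
        rw [D.el_mul, neg_add_cancel, ← two_mul, ← D.h_eq_two_k] at this
        exact this
    rcases hform with e | e
    · exact e ▸ hA
    · have := mul_mem hA (mul_mem (hz (-D.k)) hw)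
      rw [D.el_mul_t, neg_add_cancel, D.el_mul_t, add_zero, add_zero] at this
      exact e ▸ this
  have h9 : D.el c 0 * f ⟨p, hp⟩ * (D.el c 0)⁻¹ ∈ D.V0 := hc.le ⟨_, hmem, rfl⟩
  refine ⟨_, h9, ?_⟩
  show _ = (D.el c 0 : G) * g * (p : G) * ((D.el c 0 : G) * g)⁻¹
  simp [f, mul_assoc]

end CfsgLib.Invol
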