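import Cfsg.Agent.Lib.Invol.Basic
import Cfsg.Prelude.Def_CaseTheorems

/-!
Subgroups containing the normalisers of their large p-subgroups.
-/

set_option autoImplicit false
set_option linter.unusedSectionVars false

namespace CfsgLib.Invol

open Cfsg

variable {G : Type*} [Group G]

theorem prankLE_of_injective {A : Type*} [Group A] {p k : ℕ} (f : A →* G)
    (hf : Function.Injective f) (h : PRankLE p k G) : PRankLE p k A := by
  intro E hE hEp
  have h1 := h (E.map f) ⟨⟨fun a b => by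
    obtain ⟨a', ha, ha'⟩ := a.2
    obtain ⟨b', hb, hb'⟩ := b.2
    refine Subtype.ext ?_
    simp only [Subgroup.coe_mul, ← ha', ← hb', ← map_mul]
    exact congrArg f (congrArg Subtype.val (hE.is_comm.comm ⟨a', ha⟩ ⟨b', hb⟩))⟩⟩ (by
      rintro _ ⟨a, ha, rfl⟩
      rw [← map_pow, hEp a ha, map_one])
  rwa [Nat.card_congr (E.equivMapOfInjective f hf).toEquiv.symm] at h1

theorem prankLE_of_le {p k : ℕ} {A B : Subgroup G} (h : A ≤ B) (hB : PRankLE p k B) :
    PRankLE p k A :=
  prankLE_of_injective _ (Subgroup.inclusion_injective h) hB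

theorem prankLE_conj_iff {p k : ℕ} {A : Subgroup G} (g : G) :
    PRankLE p k (A.map (MulAut.conj g).toMonoidHom) ↔ PRankLE p k A := by
  let e := A.equivMapOfInjective (MulAut.conj g).toMonoidHom (MulAut.conj g).injective
  exact ⟨fun h => prankLE_of_injective e.toMonoidHom e.injective h,
    fun h => prankLE_of_injective e.symm.toMonoidHom e.symm.injective h⟩

theorem exists_elemAb_of_not_prankLE {p k : ℕ} {B : Subgroup G} (h : ¬ PRankLE p k B) :
    ∃ A : Subgroup G, A ≤ B ∧ IsMulCommutative A ∧ (∀ a ∈ A, a ^ p = 1) ∧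
      p ^ k < Nat.card A := by
  rw [PRankLE] at h
  push Not at h
  obtain ⟨A, hA, hAp, hcard⟩ := h
  refine ⟨A.map B.subtype, Subgroup.map_subtype_le A, ⟨⟨fun a b => ?_⟩⟩, ?_, ?_⟩
  · obtain ⟨a', ha, ha'⟩ := a.2
    obtain ⟨b', hb, hb'⟩ := b.2
    refine Subtype.ext ?_
    simp only [Subgroup.coe_mul, ← ha', ← hb', ← map_mul]
    exact congrArg B.subtype (congrArg Subtype.val (hA.is_comm.comm ⟨a', ha⟩ ⟨b', hb⟩))
  · rintro _ ⟨a, ha, rfl⟩
    rw [← map_pow, hAp a ha, map_one]
  · rwa [Nat.card_congr (A.equivMapOfInjective _ B.subtype_injective).toEquiv.symm]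

theorem isPGroup_of_forall_pow {p : ℕ} {A : Subgroup G} (h : ∀ a ∈ A, a ^ p = 1) : IsPGroup p A :=
  fun a => ⟨1, Subtype.ext (by simpa using h a a.2)⟩

/-- If `H` contains the normalisers of its `Q`-subgroups lying in one Sylow subgroup, then no
`p`-subgroup of `H ∩ gHg⁻¹`, `g ∉ H`, has property `Q`. -/
theorem not_prop_of_normalizer_le [Finite G] {p : ℕ} [Fact p.Prime] (H : Subgroup G) (P : Sylow p H)
    (Q : Subgroup G → Prop)
    (hmono : ∀ A B : Subgroup G, A ≤ B → IsPGroup p B → Q A → Q B)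
    (hconj : ∀ (A : Subgroup G) (g : G), Q A → Q (A.map (MulAut.conj g).toMonoidHom))
    (hN : ∀ X : Subgroup G, X ≤ (P : Subgroup H).map H.subtype → Q X →
      Subgroup.normalizer (X : Set G) ≤ H) {g : G} (hg : g ∉ H) {T₀ : Subgroup G}
    (hT₀ : IsPGroup p T₀) (hle : T₀ ≤ H ⊓ H.map (MulAut.conj g).toMonoidHom) : ¬ Q T₀ := by
  intro hQ₀
  set D := H ⊓ H.map (MulAut.conj g).toMonoidHom
  -- normalisers of `Q`-subgroups of `H`
  have hN' : ∀ X : Subgroup G, X ≤ H → IsPGroup p X → Q X →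
      Subgroup.normalizer (X : Set G) ≤ H := by
    intro X hXH hX hQX
    obtain ⟨S, hS⟩ := (hX.comap_subtype : IsPGroup p (X.subgroupOf H)).exists_le_sylow
    obtain ⟨h, rfl⟩ := MulAction.exists_smul_eq H P S
    intro n hn
    have hXP : X.map (MulAut.conj (h : G)⁻¹).toMonoidHom ≤ (P : Subgroup H).map H.subtype := by
      rintro _ ⟨x, hx, rfl⟩
      have hmem := hS (show (⟨x, hXH hx⟩ : H) ∈ X.subgroupOf H from hx)
      simp only [Sylow.coe_subgroup_smul] at hmem
      obtain ⟨w, hw, hw'⟩ := hmem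
      refine ⟨w, hw, ?_⟩
      have e : (h : G) * (w : G) * (h : G)⁻¹ = x := congrArg Subtype.val hw'
      simp [← e, mul_assoc]
    have hmem : (h : G)⁻¹ * n * (h : G) ∈ H := by
      refine hN _ hXP (hconj _ _ hQX) (Subgroup.mem_normalizer_iff.2 fun x => ?_)
      have hn' := Subgroup.mem_normalizer_iff.1 hn ((h : G) * x * (h : G)⁻¹)
      simp only [Subgroup.mem_map_equiv, MulAut.conj_symm_apply, inv_inv]
      convert hn' using 2
      group
    simpa [mul_assoc] using mul_mem (mul_mem h.2 hmem) (inv_mem h.2)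
  -- a maximal `p`-subgroup of `D` above `T₀`
  obtain ⟨R, hR⟩ := (hT₀.comap_subtype : IsPGroup p (T₀.subgroupOf D)).exists_le_sylow
  set T := (R : Subgroup D).map D.subtype
  have hT : IsPGroup p T := R.2.map _
  have hTD : T ≤ D := Subgroup.map_subtype_le _
  have hT₀T : T₀ ≤ T := fun x hx => ⟨⟨x, hle hx⟩, hR hx, rfl⟩
  have hQT := hmono _ _ hT₀T hT hQ₀
  set T' := T.map (MulAut.conj g⁻¹).toMonoidHom with hT'
  have hT'H : T' ≤ H := by
    rintro _ ⟨x, hx, rfl⟩
    obtain ⟨w, hw, hw'⟩ := (hTD hx).2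
    simp only [← hw', MulEquiv.coe_toMonoidHom, MulAut.conj_apply]
    simpa [mul_assoc] using hw
  have hTp' : IsPGroup p T' := hT.map _
  have hND : Subgroup.normalizer (T : Set G) ≤ D := by
    refine le_inf (hN' T (hTD.trans inf_le_left) hT hQT) fun n hn => ⟨g⁻¹ * n * g, ?_, by simp [mul_assoc]⟩
    refine hN' T' hT'H hTp' (hconj _ _ hQT) (Subgroup.mem_normalizer_iff.2 fun x => ?_)
    have hn' := Subgroup.mem_normalizer_iff.1 hn (g * x * g⁻¹)
    simp only [hT', Subgroup.mem_map_equiv, MulAut.conj_symm_apply, inv_inv]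
    convert hn' using 2
    group
  -- so `T` is a Sylow subgroup of `H`
  obtain ⟨S, hS⟩ := (hT.comap_subtype : IsPGroup p (T.subgroupOf H)).exists_le_sylow
  have hSmax : (S : Subgroup H) ≤ T.subgroupOf H := by
    by_contra hnot
    have hlt : T.subgroupOf H < (S : Subgroup H) := lt_of_le_not_ge hS hnot
    have := S.2.isNilpotent
    obtain ⟨y, hy⟩ : ∃ y : (S : Subgroup H), y ∈ Subgroup.normalizer
        (((T.subgroupOf H).subgroupOf (S : Subgroup H) : Subgroup _) : Set _) ∧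
        y ∉ (T.subgroupOf H).subgroupOf (S : Subgroup H) := by
      obtain ⟨y, hy, hy'⟩ := SetLike.exists_of_lt (Group.normalizerCondition_of_isNilpotent
        ((T.subgroupOf H).subgroupOf (S : Subgroup H))
        (lt_top_iff_ne_top.2 fun h => hnot (Subgroup.subgroupOf_eq_top.1 h)))
      exact ⟨y, hy, hy'⟩
    have hyn : ((y : H) : G) ∈ Subgroup.normalizer (T : Set G) := by
      refine Subgroup.mem_normalizer_iff.2 fun x => ⟨fun hx => ?_, fun hx => ?_⟩
      · have hxH : x ∈ H := (hTD hx).1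
        exact (Subgroup.mem_normalizer_iff.1 hy.1 ⟨⟨x, hxH⟩, hS hx⟩).1 hx
      · have hxH : x ∈ H := by
          simpa [mul_assoc] using mul_mem (mul_mem (inv_mem (y : H).2) (hTD hx).1) (y : H).2
        have hxS : (⟨x, hxH⟩ : H) ∈ (S : Subgroup H) := by
          have h1 : (y : H) * ⟨x, hxH⟩ * (y : H)⁻¹ ∈ (S : Subgroup H) := hS hx
          simpa [mul_assoc] using mul_mem (mul_mem (inv_mem y.2) h1) y.2
        exact (Subgroup.mem_normalizer_iff.1 hy.1 ⟨⟨x, hxH⟩, hxS⟩).2 hx
    -- `T ⊔ ⟨y⟩` would be a larger `p`-subgroup of `D`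
    set T2 := T ⊔ Subgroup.zpowers ((y : H) : G)
    have hT2p : IsPGroup p T2 := by
      refine IsPGroup.to_le (S.2.map H.subtype) (sup_le (fun x hx => ?_) ?_)
      · exact ⟨⟨x, (hTD hx).1⟩, hS hx, rfl⟩
      · exact Subgroup.zpowers_le.2 ⟨_, y.2, rfl⟩
    have hT2D : T2 ≤ D := sup_le hTD (Subgroup.zpowers_le.2 (hND hyn))
    have hle2 : (R : Subgroup D) ≤ T2.subgroupOf D := fun x hx =>
      (le_sup_left : T ≤ T2) ⟨x, hx, rfl⟩
    have hRT := R.3 hT2p.comap_subtype hle2
    apply hy.2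
    have : (⟨((y : H) : G), hND hyn⟩ : D) ∈ (R : Subgroup D) :=
      hRT ▸ (show ((y : H) : G) ∈ T2 from
        (le_sup_right : _ ≤ T2) (Subgroup.mem_zpowers _))
    exact ⟨_, this, rfl⟩
  have hST : (S : Subgroup H) = T.subgroupOf H := le_antisymm hSmax hS
  -- and its translate is another one
  have hcard : Nat.card (T'.subgroupOf H) = Nat.card S := by
    rw [Nat.card_congr (Subgroup.subgroupOfEquivOfLe hT'H).toEquiv,
      ← Nat.card_congr (T.equivMapOfInjective _ (MulAut.conj g⁻¹).injective).toEquiv,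
      hST, Nat.card_congr (Subgroup.subgroupOfEquivOfLe (hTD.trans inf_le_left)).toEquiv]
  let S' : Sylow p H := Sylow.ofCard (T'.subgroupOf H) (by rw [hcard, S.card_eq_multiplicity])
  obtain ⟨h, hh⟩ := MulAction.exists_smul_eq H S S'
  apply hg
  have hn : g * (h : G) ∈ Subgroup.normalizer (T : Set G) := by
    have hfin : T.map (MulAut.conj (g * (h : G))).toMonoidHom = T := by
      refine Subgroup.eq_of_le_of_card_ge ?_ (le_of_eq
        (Nat.card_congr (T.equivMapOfInjective _ (MulAut.conj (g * (h : G))).injective).toEquiv))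
      rintro _ ⟨x, hx, rfl⟩
      have hxH : x ∈ H := (hTD hx).1
      have h1 : (h * ⟨x, hxH⟩ * h⁻¹ : H) ∈ (S' : Subgroup H) := by
        rw [← hh, Sylow.coe_subgroup_smul]
        exact ⟨⟨x, hxH⟩, hST ▸ hx, rfl⟩
      obtain ⟨w, hw, hw'⟩ : ((h * ⟨x, hxH⟩ * h⁻¹ : H) : G) ∈ T' := Subgroup.mem_subgroupOf.1 h1
      simp only [MulEquiv.coe_toMonoidHom, MulAut.conj_apply, Subgroup.coe_mul, InvMemClass.coe_inv,
        inv_inv] at hw' ⊢
      have e : g * (h : G) * x * (g * (h : G))⁻¹ = w := by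
        rw [show g * (h : G) * x * (g * (h : G))⁻¹ = g * ((h : G) * x * (h : G)⁻¹) * g⁻¹ by group,
          ← hw']
        group
      rw [e]; exact hw
    refine Subgroup.mem_normalizer_iff.2 fun x => ?_
    conv_rhs => rw [← hfin]
    simp [Subgroup.mem_map_equiv, MulAut.conj_symm_apply, mul_assoc]
  have : g * (h : G) ∈ H := (Subgroup.mem_inf.1 (hND hn)).1
  simpa using mul_mem this (inv_mem h.2)

end CfsgLib.Invol
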