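import Mathlib
import Cfsg.Prelude.Def_CaseTheorems

/-!
Higman's theorem for 2-groups of rank 2 with an automorphism transitive on the involutions.
-/

set_option autoImplicit false
set_option linter.unusedSectionVars false
set_option linter.style.haveILetI false

namespace CfsgLib.Invol

open scoped commutatorElement

variable {T : Type*} [Group T]

section Basics

theorem eq_one_of_two_odd [Finite T] (hT : IsPGroup 2 T) {x : T} {n : ℕ} (hn : ¬ 2 ∣ n)
    (h : x ^ n = 1) : x = 1 := by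
  obtain ⟨k, hk⟩ := hT x
  refine orderOf_eq_one_iff.1 (Nat.eq_one_of_dvd_coprimes ?_ (orderOf_dvd_of_pow_eq_one hk)
    (orderOf_dvd_of_pow_eq_one h))
  exact Nat.Coprime.pow_left k (Nat.prime_two.coprime_iff_not_dvd.2 hn)

theorem mem_of_odd_pow [Finite T] (hT : IsPGroup 2 T) {Z : Subgroup T} {x : T} {n : ℕ} (hn : ¬ 2 ∣ n)
    (h : x ^ n ∈ Z) : x ∈ Z := by
  obtain ⟨k, hk⟩ := hT x
  have hcop : (2 ^ k).Coprime n := Nat.Coprime.pow_left k (Nat.prime_two.coprime_iff_not_dvd.2 hn)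
  have hb := Nat.gcd_eq_gcd_ab (2 ^ k) n
  rw [hcop.gcd_eq_one, Nat.cast_one] at hb
  have : x = (x ^ n) ^ Nat.gcdB (2 ^ k) n := by
    calc x = x ^ (((2 ^ k : ℕ) : ℤ) * Nat.gcdA (2 ^ k) n + (n : ℤ) * Nat.gcdB (2 ^ k) n) := by
          rw [← hb, zpow_one]
      _ = _ := by rw [zpow_add, zpow_mul, zpow_natCast, hk, one_zpow, one_mul, zpow_mul, zpow_natCast]
  rw [this]; exact zpow_mem h _

theorem commutator_mul_left_of_central {x x' y : T} (h : ∀ g, Commute ⁅x', y⁆ g) :
    ⁅x * x', y⁆ = ⁅x, y⁆ * ⁅x', y⁆ := by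
  have e : ⁅x * x', y⁆ = x * ⁅x', y⁆ * x⁻¹ * ⁅x, y⁆ := by
    simp only [commutatorElement_def]; group
  rw [e, ← (h x).eq, mul_inv_cancel_right, (h _).eq]

theorem commutator_mul_right_of_central {x y y' : T} (h : ∀ g, Commute ⁅x, y'⁆ g) :
    ⁅x, y * y'⁆ = ⁅x, y⁆ * ⁅x, y'⁆ := by
  have e : ⁅x, y * y'⁆ = ⁅x, y⁆ * (y * ⁅x, y'⁆ * y⁻¹) := by
    simp only [commutatorElement_def]; group
  rw [e, ← (h y).eq, mul_inv_cancel_right]

theorem mul_sq_eq (u v : T) : (u * v) * (u * v) = u * u * (u⁻¹ * ⁅v, u⁆ * u) * (v * v) := by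
  simp only [commutatorElement_def]; group

theorem mul_sq_of_commute {u v : T} (h : Commute ⁅v, u⁆ u) (h' : Commute ⁅v, u⁆ (v * v)) :
    (u * v) * (u * v) = u * u * (v * v) * ⁅v, u⁆ := by
  have h1 : u⁻¹ * ⁅v, u⁆ * u = ⁅v, u⁆ := by rw [← h.inv_right.eq, inv_mul_cancel_right]
  have h2 : (u * v) * (u * v) = u * u * ⁅v, u⁆ * (v * v) := by rw [mul_sq_eq, h1]
  rw [h2, mul_assoc (u * u), h'.eq, ← mul_assoc]

theorem card_dvd_of_free {G α : Type*} [Group G] [Finite G] [MulAction G α] [Finite α]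
    (h : ∀ a : α, MulAction.stabilizer G a = ⊥) : Nat.card G ∣ Nat.card α := by
  classical
  haveI := Fintype.ofFinite (Quotient (MulAction.orbitRel G α))
  rw [Nat.card_congr (MulAction.selfEquivSigmaOrbitsQuotientStabilizer G α), Nat.card_sigma]
  refine Finset.dvd_sum fun o _ => ?_
  rw [← Subgroup.index_eq_card, h, Subgroup.index_bot]

/-- Adjoining a normalising element whose square lies in `H`. -/
theorem mem_sup_zpowers (H : Subgroup T) {g : T} (hg : g * g ∈ H)
    (hn : ∀ h ∈ H, g * h * g⁻¹ ∈ H) {x : T} (hx : x ∈ H ⊔ Subgroup.zpowers g) :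
    x ∈ H ∨ g⁻¹ * x ∈ H := by
  have hn' : ∀ h ∈ H, g⁻¹ * h * g ∈ H := fun h hh => by
    have := mul_mem (mul_mem (inv_mem hg) (hn h hh)) hg
    convert this using 1; group
  let S : Subgroup T :=
    { carrier := {x | x ∈ H ∨ g⁻¹ * x ∈ H}
      one_mem' := Or.inl H.one_mem
      mul_mem' := by
        rintro a b (ha | ha) (hb | hb)
        · exact Or.inl (mul_mem ha hb)
        · refine Or.inr ?_
          have := mul_mem (hn' a ha) hb
          convert this using 1; group
        · refine Or.inr ?_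
          have := mul_mem ha hb
          convert this using 1; group
        · refine Or.inl ?_
          have := mul_mem (mul_mem (hn _ ha) hg) hb
          convert this using 1; group
      inv_mem' := by
        rintro a (ha | ha)
        · exact Or.inl (inv_mem ha)
        · refine Or.inr ?_
          have := mul_mem (inv_mem hg) (hn _ (inv_mem ha))
          convert this using 1; group }
  have hle : H ⊔ Subgroup.zpowers g ≤ S := sup_le (fun x hx => Or.inl hx)
    (Subgroup.zpowers_le.2 (Or.inr (by rw [inv_mul_cancel]; exact H.one_mem)))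
  exact hle hx

/-- Adjoining a normalising element whose square lies in `H` at most doubles the order. -/
theorem card_sup_zpowers_le [Finite T] (H : Subgroup T) {g : T} (hg : g * g ∈ H)
    (hn : ∀ h ∈ H, g * h * g⁻¹ ∈ H) :
    Nat.card (H ⊔ Subgroup.zpowers g : Subgroup T) ≤ 2 * Nat.card H := by
  classical
  let f : (H ⊔ Subgroup.zpowers g : Subgroup T) → H ⊕ H := fun x =>
    if hx : (x : T) ∈ H then Sum.inl ⟨x, hx⟩
    else Sum.inr ⟨g⁻¹ * x, (mem_sup_zpowers H hg hn x.2).resolve_left hx⟩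
  refine (Nat.card_le_card_of_injective f ?_).trans_eq (by rw [Nat.card_sum, two_mul])
  intro a b e
  simp only [f] at e
  split_ifs at e with h1 h2
  · have e' : (⟨a.1, h1⟩ : H) = ⟨b.1, h2⟩ := Sum.inl.inj e
    exact Subtype.ext (congrArg (fun w : H => (w : T)) e')
  · exact Subtype.ext (mul_left_cancel (congrArg (fun w : H => (w : T)) (Sum.inr.inj e)))

/-- A strictly larger subgroup of a finite group is at least twice as large. -/
theorem two_mul_card_le [Finite T] {H K : Subgroup T} (h : H < K) :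
    2 * Nat.card H ≤ Nat.card K := by
  rw [← Subgroup.card_mul_index (H.subgroupOf K),
    Nat.card_congr (Subgroup.subgroupOfEquivOfLe h.le).toEquiv, mul_comm 2]
  refine Nat.mul_le_mul_left _ ?_
  have h1 : (H.subgroupOf K).index ≠ 0 := Subgroup.index_ne_zero_of_finite
  have h2 : (H.subgroupOf K).index ≠ 1 := fun e => h.not_ge (Subgroup.relIndex_eq_one.1 e)
  omega

theorem exists_notMem_of_card_lt [Finite T] {H K : Subgroup T} (h : Nat.card H < Nat.card K) :
    ∃ g ∈ K, g ∉ H := by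
  by_contra hc
  push Not at hc
  exact absurd (Subgroup.card_le_of_le hc) (by omega)

/-- A group of automorphisms generated by `σ` acting freely on `E ∖ Z` has order dividing
`|E : Z| - 1`. -/
theorem orderOf_dvd_relIndex_sub_one [Finite T] (hT : IsPGroup 2 T) (σ : MulAut T) {Z E : Subgroup T}
    (hZE : Z ≤ E) (hZ : ∀ x ∈ Z, σ x ∈ Z) (hE : ∀ x ∈ E, σ x ∈ E)
    (hodd : ¬ 2 ∣ orderOf σ)
    (hfree : ∀ k : ℤ, ∀ x ∈ E, x ∉ Z → (σ ^ k) x = x → σ ^ k = 1) :
    orderOf σ ∣ Z.relIndex E - 1 := by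
  classical
  have himg : ∀ S : Subgroup T, (∀ x ∈ S, σ x ∈ S) → ∀ τ ∈ Subgroup.zpowers σ, ∀ x ∈ S, τ x ∈ S := by
    intro S hS τ hτ
    haveI : Finite (MulAut T) := Finite.of_injective (fun τ : MulAut T => (τ : T → T)) DFunLike.coe_injective
    obtain ⟨n, rfl⟩ := (mem_powers_iff_mem_zpowers (x := σ) (y := τ)).2 hτ
    induction n with
    | zero => intro x hx; simpa using hx
    | succ n ih =>
      intro x hx
      show (σ ^ (n + 1)) x ∈ S
      rw [pow_succ]
      exact ih (Subgroup.pow_mem _ (Subgroup.mem_zpowers σ) n) _ (hS x hx)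
  let A : SubMulAction (Subgroup.zpowers σ) T :=
    { carrier := {x | x ∈ E ∧ x ∉ Z}
      smul_mem' := fun τ x hx => ⟨himg E hE τ τ.2 x hx.1, fun h => hx.2 (by
        have := himg Z hZ _ (inv_mem τ.2) _ h
        have e : ((τ : MulAut T)⁻¹) ((τ : MulAut T) x) = x := (τ : MulAut T).symm_apply_apply x
        rwa [show τ • x = (τ : MulAut T) x from rfl, e] at this)⟩ }
  haveI : Finite (MulAut T) := Finite.of_injective (fun τ : MulAut T => (τ : T → T)) DFunLike.coe_injective
  have hd := card_dvd_of_free (G := Subgroup.zpowers σ) (α := A) (fun a => by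
    rw [Subgroup.eq_bot_iff_forall]
    rintro ⟨τ, k, rfl⟩ hτ
    exact Subtype.ext (hfree k a a.2.1 a.2.2 (congrArg Subtype.val hτ)))
  rw [Nat.card_zpowers] at hd
  haveI := Fintype.ofFinite T
  have hA : Nat.card A = Nat.card E - Nat.card Z := by
    have e1 : Nat.card A = (Finset.univ.filter fun x => x ∈ E ∧ x ∉ Z).card :=
      Nat.subtype_card _ fun x => by simp [A]; exact Iff.rfl
    rw [e1, Nat.subtype_card (Finset.univ.filter (· ∈ E)) (fun x => by simp),
      Nat.subtype_card (Finset.univ.filter (· ∈ Z)) (fun x => by simp),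
      ← Finset.card_sdiff_of_subset (fun x hx => by simp at hx ⊢; exact hZE hx)]
    congr 1
    ext x; simp
  rw [hA, ← Subgroup.card_mul_index (Z.subgroupOf E),
    Nat.card_congr (Subgroup.subgroupOfEquivOfLe hZE).toEquiv] at hd
  change orderOf σ ∣ Nat.card Z * Z.relIndex E - Nat.card Z at hd
  rw [← Nat.mul_sub_one] at hd
  obtain ⟨n, hn⟩ := IsPGroup.iff_card.1 (hT.to_subgroup Z)
  rw [hn] at hd
  exact (Nat.Coprime.pow_right n (Nat.prime_two.coprime_iff_not_dvd.2 hodd).symm).dvd_of_dvd_mul_left hd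

end Basics

section Three

/-- Fixed-point-free automorphism of order three: `x · σx · σ²x = 1`. -/
theorem fpf_three_norm [Finite T] (σ : MulAut T) (h3 : ∀ x, σ (σ (σ x)) = x)
    (hf : ∀ x, σ x = x → x = 1) (x : T) : x * σ x * σ (σ x) = 1 := by
  have hinj : Function.Injective fun u : T => u⁻¹ * σ u := by
    intro u v h
    have h' : u⁻¹ * σ u = v⁻¹ * σ v := h
    refine mul_inv_eq_one.1 (hf _ ?_)
    rw [map_mul, map_inv, mul_inv_eq_iff_eq_mul, mul_assoc, ← h', mul_inv_cancel_left]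
  obtain ⟨u, rfl⟩ := Finite.injective_iff_surjective.1 hinj x
  simp only [map_mul, map_inv, h3]
  group

theorem fpf_three_commute [Finite T] (σ : MulAut T) (h3 : ∀ x, σ (σ (σ x)) = x)
    (hf : ∀ x, σ x = x → x = 1) (x : T) : Commute x (σ x) := by
  have h1 := fpf_three_norm σ h3 hf x⁻¹
  have h2 := fpf_three_norm σ h3 hf x
  rw [map_inv, map_inv] at h1
  have e1 : σ (σ x) = (x * σ x)⁻¹ := eq_inv_of_mul_eq_one_right h2
  have e2 : σ (σ x) = (σ x * x)⁻¹ := by
    rw [← mul_inv_rev] at h1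
    have := eq_inv_of_mul_eq_one_right h1
    rw [inv_inv, inv_eq_iff_eq_inv] at this
    exact this
  exact inv_injective (e1.symm.trans e2)

theorem fpf_three_commute_conj [Finite T] (σ : MulAut T) (h3 : ∀ x, σ (σ (σ x)) = x)
    (hf : ∀ x, σ x = x → x = 1) (x g : T) : Commute x (g * σ x * g⁻¹) := by
  have hinj : Function.Injective fun u : T => u * (σ u)⁻¹ := by
    intro u v h
    have h' : u * (σ u)⁻¹ = v * (σ v)⁻¹ := h
    refine inv_mul_eq_one.1 (hf _ ?_) |>.symm
    rw [map_mul, map_inv]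
    have h'' : v⁻¹ * u = (σ v)⁻¹ * σ u := by
      calc v⁻¹ * u = v⁻¹ * (u * (σ u)⁻¹) * σ u := by group
        _ = _ := by rw [h']; group
    rw [h'']
  obtain ⟨u, rfl⟩ := Finite.injective_iff_surjective.1 hinj g
  have h := fpf_three_commute σ h3 hf (u⁻¹ * x * u)
  have e : σ (u⁻¹ * x * u) = (σ u)⁻¹ * σ x * σ u := by simp only [map_mul, map_inv]
  rw [e] at h
  have h2 := h.map (MulAut.conj u).toMonoidHom
  simp only [MulEquiv.coe_toMonoidHom, MulAut.conj_apply] at h2
  convert h2 using 1 <;> group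

theorem fpf_three_engel [Finite T] (σ : MulAut T) (h3 : ∀ x, σ (σ (σ x)) = x)
    (hf : ∀ x, σ x = x → x = 1) (x g : T) : Commute x (g * x * g⁻¹) := by
  have h1 := fpf_three_commute_conj σ h3 hf x g
  have h2 : Commute x (g * σ (σ x) * g⁻¹) := by
    let τ : MulAut T := σ * σ
    have := fpf_three_commute_conj τ (fun y => by simp [τ, MulAut.mul_apply, h3])
      (fun y hy => hf y (by
        have hy' : σ (σ y) = y := hy
        have h4 := h3 y
        rw [hy'] at h4
        exact h4)) x g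
    simpa [τ, MulAut.mul_apply] using this
  have e : σ x * σ (σ x) = x⁻¹ := by
    have := fpf_three_norm σ h3 hf x
    rw [mul_assoc] at this
    exact eq_inv_of_mul_eq_one_right this
  have h4 := h1.mul_right h2
  have e2 : g * σ x * g⁻¹ * (g * σ (σ x) * g⁻¹) = g * x⁻¹ * g⁻¹ := by rw [← e]; group
  rw [e2] at h4
  have h5 := h4.inv_right
  convert h5 using 1; group

theorem engel_commute_left [Finite T] (σ : MulAut T) (h3 : ∀ x, σ (σ (σ x)) = x)
    (hf : ∀ x, σ x = x → x = 1) (x y : T) : Commute ⁅x, y⁆ x ∧ Commute ⁅x, y⁆ y := by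
  have key : ∀ a b : T, Commute ⁅a, b⁆ a := fun a b => by
    have e : ⁅a, b⁆ = a * (b * a⁻¹ * b⁻¹) := by simp only [commutatorElement_def]; group
    rw [e]
    refine (Commute.refl a).mul_left ?_
    have := (fpf_three_engel σ h3 hf a b).inv_right
    have e2 : (b * a * b⁻¹)⁻¹ = b * a⁻¹ * b⁻¹ := by group
    rw [e2] at this
    exact this.symm
  refine ⟨key x y, ?_⟩
  have := key y x
  rw [← commutatorElement_inv] at this
  simpa using this.inv_left

/-- A 2-group with a fixed-point-free automorphism of order three has class at most two. -/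
theorem class_two_of_fpf_three : ∀ (n : ℕ) {T : Type*} [Group T] [Finite T], Nat.card T = n →
    IsPGroup 2 T → ∀ σ : MulAut T, (∀ x, σ (σ (σ x)) = x) → (∀ x, σ x = x → x = 1) →
    ∀ x y g : T, Commute ⁅x, y⁆ g := by
  intro n
  induction n using Nat.strong_induction_on with
  | _ n ih =>
    intro T _ _ hn hT σ h3 hf
    rcases subsingleton_or_nontrivial T with hs | hnt
    · intro x y g; exact Subsingleton.elim _ _
    haveI := hT.center_nontrivial
    set Z := Subgroup.center T with hZdef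
    have hmap : Z.map (σ : T →* T) = Z := by
      haveI : Z.Characteristic := inferInstance
      exact Subgroup.characteristic_iff_map_eq.1 inferInstance σ
    let τ : MulAut (T ⧸ Z) := QuotientGroup.congr Z Z σ hmap
    have hτ : ∀ a : T, τ a = ((σ a : T) : T ⧸ Z) := fun a => rfl
    have hτ3 : ∀ q, τ (τ (τ q)) = q := fun q => by
      obtain ⟨a, rfl⟩ := QuotientGroup.mk_surjective q
      rw [hτ, hτ, hτ, h3]
    have hτf : ∀ q, τ q = q → q = 1 := fun q hq => by
      obtain ⟨a, rfl⟩ := QuotientGroup.mk_surjective q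
      rw [hτ, eq_comm, QuotientGroup.eq] at hq
      rw [QuotientGroup.eq_one_iff]
      refine mem_of_odd_pow hT (by norm_num : ¬ 2 ∣ 3) ?_
      set c := a⁻¹ * σ a with hc
      have hσc : σ c ∈ Z := by rw [← hmap]; exact Subgroup.mem_map_of_mem _ hq
      have h1 : σ a = a * c := by rw [hc]; group
      have h2 : σ (σ a) = a * c * σ c := by rw [h1, map_mul, h1]
      have h := fpf_three_norm σ h3 hf a
      rw [h1, map_mul, h1] at h
      have hcc := Subgroup.mem_center_iff.1 hq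
      have e : a ^ 3 * (c * c * σ c) = 1 := by
        calc a ^ 3 * (c * c * σ c) = a * a * (a * c) * c * σ c := by
              simp only [pow_succ, pow_zero, one_mul, mul_assoc]
          _ = a * a * (c * a) * c * σ c := by rw [hcc a]
          _ = a * (a * c) * (a * c) * σ c := by group
          _ = a * (a * c) * (a * c * σ c) := by group
          _ = 1 := h
      rw [eq_inv_of_mul_eq_one_left e]
      exact inv_mem (mul_mem (mul_mem hq hq) hσc)
    have hlt : Nat.card (T ⧸ Z) < n := by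
      rw [← hn, Subgroup.card_eq_card_quotient_mul_card_subgroup Z]
      exact lt_mul_of_one_lt_right Nat.card_pos Finite.one_lt_card
    have hq2 := ih _ hlt rfl (hT.to_quotient Z) τ hτ3 hτf
    -- third commutators are central
    have hμc : ∀ x y z g : T, Commute ⁅⁅x, y⁆, z⁆ g := fun x y z g => by
      have h : ((⁅⁅x, y⁆, z⁆ : T) : T ⧸ Z) = 1 := by
        rw [← QuotientGroup.mk'_apply, map_commutatorElement, map_commutatorElement]
        exact commutatorElement_eq_one_iff_commute.2 (hq2 _ _ _)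
      exact (Subgroup.mem_center_iff.1 ((QuotientGroup.eq_one_iff _).1 h) g).symm
    have hlinc : ∀ c c' z : T, (∀ g, Commute ⁅c', z⁆ g) → ⁅c * c', z⁆ = ⁅c, z⁆ * ⁅c', z⁆ :=
      fun c c' z h => commutator_mul_left_of_central h
    have hlin1 : ∀ x x' y z : T, ⁅⁅x * x', y⁆, z⁆ = ⁅⁅x, y⁆, z⁆ * ⁅⁅x', y⁆, z⁆ := by
      intro x x' y z
      -- conjugate by a central commutator
      have hk : ∀ g, Commute ⁅x, ⁅x', y⁆⁆ g := fun g => by
        rw [← commutatorElement_inv]
        exact (hμc _ _ _ _).inv_left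
      have hk1 : ∀ g, Commute ⁅⁅x, ⁅x', y⁆⁆, z⁆ g := fun g => by
        rw [commutatorElement_eq_one_iff_commute.2 (hk z)]; exact Commute.one_left g
      have e : ⁅x * x', y⁆ = ⁅x, ⁅x', y⁆⁆ * ⁅x', y⁆ * ⁅x, y⁆ := by
        simp only [commutatorElement_def]; group
      rw [e, hlinc _ _ _ (hμc x y z), hlinc _ _ _ (hμc x' y z),
        commutatorElement_eq_one_iff_commute.2 (hk z), one_mul, (hμc x' y z _).eq]
    have hlin3 : ∀ x y z z' : T, ⁅⁅x, y⁆, z * z'⁆ = ⁅⁅x, y⁆, z⁆ * ⁅⁅x, y⁆, z'⁆ :=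
      fun x y z z' => commutator_mul_right_of_central (hμc x y z')
    have hswap : ∀ x y z : T, ⁅⁅y, x⁆, z⁆ = ⁅⁅x, y⁆, z⁆⁻¹ := by
      intro x y z
      refine eq_inv_of_mul_eq_one_left ?_
      rw [← hlinc _ _ _ (hμc x y z)]
      rw [← commutatorElement_inv x y, inv_mul_cancel, commutatorElement_one_left]
    have hlin2 : ∀ x y y' z : T, ⁅⁅x, y * y'⁆, z⁆ = ⁅⁅x, y⁆, z⁆ * ⁅⁅x, y'⁆, z⁆ := by
      intro x y y' z
      rw [hswap (y * y') x, hlin1, mul_inv_rev, hswap x y', hswap x y, inv_inv, inv_inv]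
      exact (hμc x y' z _).eq
    have hE := fun a b => engel_commute_left σ h3 hf a b
    have h13 : ∀ x y z : T, ⁅⁅x, y⁆, z⁆ * ⁅⁅z, y⁆, x⁆ = 1 := by
      intro x y z
      have h := commutatorElement_eq_one_iff_commute.2 (hE (x * z) y).1
      rw [hlin1, hlin3, hlin3, commutatorElement_eq_one_iff_commute.2 (hE x y).1,
        commutatorElement_eq_one_iff_commute.2 (hE z y).1, one_mul, mul_one] at h
      exact h
    have hcyc : ∀ x y z : T, ⁅⁅x, y⁆, z⁆ = ⁅⁅y, z⁆, x⁆ := by
      intro x y z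
      rw [eq_inv_of_mul_eq_one_left (h13 x y z), ← hswap z y x]
    have hmove : ∀ x y z : T, ⁅⁅x, σ y⁆, z⁆ = ⁅⁅σ x, y⁆, z⁆ := by
      intro x y z
      have h0 : ∀ a, ⁅⁅a, σ a⁆, z⁆ = 1 := fun a => by
        rw [commutatorElement_eq_one_iff_commute.2 (fpf_three_commute σ h3 hf a)]
        exact commutatorElement_eq_one_iff_commute.2 (Commute.one_left z)
      have h := h0 (x * y)
      rw [map_mul, hlin1, hlin2, hlin2, h0, h0, one_mul, mul_one] at h
      rw [eq_inv_of_mul_eq_one_left h, ← hswap y (σ x) z]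
    intro x y z
    rw [← commutatorElement_eq_one_iff_commute]
    refine hf _ ?_
    rw [map_commutatorElement, map_commutatorElement]
    calc ⁅⁅σ x, σ y⁆, σ z⁆ = ⁅⁅x, σ (σ y)⁆, σ z⁆ := (hmove _ _ _).symm
      _ = ⁅⁅σ (σ y), σ z⁆, x⁆ := hcyc _ _ _
      _ = ⁅⁅σ y, σ (σ z)⁆, x⁆ := (hmove _ _ _).symm
      _ = ⁅⁅y, σ (σ (σ z))⁆, x⁆ := (hmove _ _ _).symm
      _ = ⁅⁅y, z⁆, x⁆ := by rw [h3]
      _ = ⁅⁅x, y⁆, z⁆ := (hcyc x y z).symm

end Three

/-- A 2-group with a fixed-point-free automorphism `ψ` of order a power of 3 permuting transitively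
the three involutions, which are central. -/
structure HigData (T : Type*) [Group T] where
  /-- the automorphism -/
  ψ : MulAut T
  /-- a reference involution -/
  z : T
  pgroup : IsPGroup 2 T
  order : ∃ a : ℕ, ψ ^ 3 ^ a = 1
  fpf : ∀ x : T, ψ x = x → x = 1
  z_two : orderOf z = 2
  central : ∀ s : T, s * s = 1 → ∀ g : T, Commute s g
  cover : ∀ s : T, s * s = 1 → s = 1 ∨ s = z ∨ s = ψ z ∨ s = ψ (ψ z)

namespace HigData

variable [Finite T] (H : HigData T)
include H

/-- The subgroup of elements squaring to one. -/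
def V : Subgroup T where
  carrier := {s | s * s = 1}
  one_mem' := one_mul 1
  mul_mem' {a b} ha hb := by
    show a * b * (a * b) = 1
    calc a * b * (a * b) = a * (b * a) * b := by group
      _ = (a * a) * (b * b) := by rw [(H.central b hb a).eq]; group
      _ = 1 := by rw [show a * a = 1 from ha, show b * b = 1 from hb, one_mul]
  inv_mem' {a} ha := by
    show a⁻¹ * a⁻¹ = 1
    rw [← mul_inv_rev, show a * a = 1 from ha, inv_one]

theorem mem_V {s : T} : s ∈ H.V ↔ s * s = 1 := Iff.rfl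

theorem z_ne : H.z ≠ 1 := fun h => by
  have := H.z_two
  rw [h, orderOf_one] at this
  omega

theorem z_sq : H.z * H.z = 1 := by rw [← pow_two, ← H.z_two, pow_orderOf_eq_one]

theorem psi_sq {s : T} (hs : s * s = 1) : H.ψ s * H.ψ s = 1 := by rw [← map_mul, hs, map_one]

theorem psi_z_ne : H.ψ H.z ≠ H.z := fun h => H.z_ne (H.fpf _ h)

theorem psi_ne_one {s : T} (hs : s ≠ 1) : H.ψ s ≠ 1 := fun h =>
  hs (H.ψ.injective (h.trans (map_one _).symm))

theorem psi_psi_z_ne : H.ψ (H.ψ H.z) ≠ H.z := by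
  intro h
  obtain ⟨a, ha⟩ := H.order
  have hn : ∀ n : ℕ, (H.ψ ^ (2 * n + 1)) H.z = H.ψ H.z := by
    intro n
    induction n with
    | zero => rw [Nat.mul_zero, Nat.zero_add, pow_one]
    | succ n ih =>
      rw [show 2 * (n + 1) + 1 = (2 * n + 1) + 1 + 1 by ring, pow_succ, pow_succ]
      show (H.ψ ^ (2 * n + 1)) (H.ψ (H.ψ H.z)) = H.ψ H.z
      rw [h, ih]
  obtain ⟨k, hk⟩ : ∃ k, 3 ^ a = 2 * k + 1 := ⟨3 ^ a / 2, by
    have : 3 ^ a % 2 = 1 := by rw [Nat.pow_mod]; norm_num
    omega⟩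
  have := hn k
  rw [← hk, ha, MulAut.one_apply] at this
  exact H.psi_z_ne this.symm

theorem prod_z : H.z * H.ψ H.z = H.ψ (H.ψ H.z) := by
  have hm : H.z * H.ψ H.z ∈ H.V := mul_mem (show H.z ∈ H.V from H.z_sq) (H.psi_sq H.z_sq)
  rcases H.cover _ hm with h | h | h | h
  · exact absurd (mul_left_cancel (h.trans H.z_sq.symm)) H.psi_z_ne
  · exact absurd (mul_eq_left.1 h) (H.psi_ne_one H.z_ne)
  · exact absurd (mul_eq_right.1 h) H.z_ne
  · exact h

theorem psi_three_z : H.ψ (H.ψ (H.ψ H.z)) = H.z := by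
  have e : H.ψ H.z * H.ψ (H.ψ H.z) = H.ψ (H.ψ (H.ψ H.z)) := by rw [← map_mul, H.prod_z]
  rw [← e, ← H.prod_z, ← mul_assoc, (H.central _ (H.psi_sq H.z_sq) H.z).eq, mul_assoc,
    H.psi_sq H.z_sq, mul_one]

theorem psi_three_V {s : T} (hs : s ∈ H.V) : H.ψ (H.ψ (H.ψ s)) = s := by
  rcases H.cover s hs with rfl | rfl | rfl | rfl
  · simp
  · exact H.psi_three_z
  · rw [H.psi_three_z]
  · rw [H.psi_three_z]

theorem card_V : Nat.card H.V = 4 := by
  classical
  haveI := Fintype.ofFinite T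
  rw [Nat.card_eq_fintype_card]
  refine (Fintype.card_of_subtype {1, H.z, H.ψ H.z, H.ψ (H.ψ H.z)} fun s => ?_).trans ?_
  · constructor
    · intro hs
      simp only [Finset.mem_insert, Finset.mem_singleton] at hs
      rcases hs with rfl | rfl | rfl | rfl
      · exact one_mul 1
      · exact H.z_sq
      · exact H.psi_sq H.z_sq
      · exact H.psi_sq (H.psi_sq H.z_sq)
    · intro hs
      simp only [Finset.mem_insert, Finset.mem_singleton]
      exact H.cover s hs
  · have h0 := H.z_ne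
    have h1 := H.psi_ne_one h0
    have h2 := H.psi_ne_one h1
    have h3 : H.ψ H.z ≠ H.ψ (H.ψ H.z) := fun e => H.psi_z_ne (H.ψ.injective e.symm)
    rw [Finset.card_insert_of_notMem, Finset.card_insert_of_notMem, Finset.card_pair h3]
    · simp [H.psi_z_ne.symm, H.psi_psi_z_ne.symm]
    · simp [h0.symm, h1.symm, h2.symm]

theorem exists_fourth {a s t : T} (ha : a ∈ H.V) (hs : s ∈ H.V) (ht : t ∈ H.V)
    (ha1 : a ≠ 1) (hs1 : s ≠ 1) (ht1 : t ≠ 1) (hsa : s ≠ a) (hta : t ≠ a) :
    s * t = 1 ∨ s * t = a := by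
  by_cases hst : s = t
  · subst hst; exact Or.inl hs
  right
  classical
  haveI := Fintype.ofFinite H.V
  let A : Finset H.V := {1, ⟨a, ha⟩, ⟨s, hs⟩, ⟨t, ht⟩}
  have hA : A = Finset.univ := by
    rw [← Finset.card_eq_iff_eq_univ, ← Nat.card_eq_fintype_card, H.card_V]
    simp only [A]
    rw [Finset.card_insert_of_notMem, Finset.card_insert_of_notMem, Finset.card_pair]
    · simpa using hst
    · simp [hsa.symm, hta.symm]
    · simp [Subtype.ext_iff, ha1.symm, hs1.symm, ht1.symm]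
  have := Finset.eq_univ_iff_forall.1 hA ⟨s * t, mul_mem hs ht⟩
  simp only [A, Finset.mem_insert, Finset.mem_singleton, Subtype.ext_iff, OneMemClass.coe_one] at this
  rcases this with h | h | h | h
  · exact absurd (mul_left_cancel (h.trans hs.symm)).symm hst
  · exact h
  · exact absurd (mul_eq_left.1 h) ht1
  · exact absurd (mul_eq_right.1 h) hs1

/-- A subgroup whose squares are involutions has index less than `64` over `V`. -/
theorem relIndex_lt_of_elementary (E : Subgroup T) (hVE : H.V ≤ E) (hsq : ∀ x ∈ E, x * x ∈ H.V) :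
    H.V.relIndex E < 64 := by
  by_contra hbig
  push Not at hbig
  have hcen : ∀ x ∈ E, ∀ y ∈ E, ⁅x, y⁆ ∈ H.V := by
    intro x hx y hy
    have h1 := hsq _ (mul_mem hy hx)
    rw [mul_sq_eq] at h1
    have h2 : y⁻¹ * ⁅x, y⁆ * y ∈ H.V := by
      have := mul_mem (mul_mem (inv_mem (hsq y hy)) h1) (inv_mem (hsq x hx))
      convert this using 1
      group
    rw [mem_V] at h2 ⊢
    calc ⁅x, y⁆ * ⁅x, y⁆ = y * ((y⁻¹ * ⁅x, y⁆ * y) * (y⁻¹ * ⁅x, y⁆ * y)) * y⁻¹ := by group
      _ = 1 := by rw [h2]; group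
  have hc : ∀ x ∈ E, ∀ y ∈ E, ∀ g : T, Commute ⁅x, y⁆ g := fun x hx y hy => H.central _ (hcen x hx y hy)
  obtain ⟨x, hxE, hxV⟩ : ∃ x ∈ E, x ∉ H.V := by
    by_contra hall
    push Not at hall
    have : H.V.relIndex E = 1 := Subgroup.relIndex_eq_one.2 hall
    omega
  let γ : E →* H.V :=
    { toFun := fun y => ⟨⁅x, (y : T)⁆, hcen x hxE y y.2⟩
      map_one' := Subtype.ext (by simp)
      map_mul' := fun y y' => Subtype.ext (commutator_mul_right_of_central (hc x hxE y' y'.2)) }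
  set K : Subgroup T := γ.ker.map E.subtype with hKdef
  have hKE : K ≤ E := Subgroup.map_subtype_le _
  have hKcomm : ∀ y ∈ K, Commute x y := by
    rintro _ ⟨w, hw, rfl⟩
    exact commutatorElement_eq_one_iff_commute.1 (congrArg Subtype.val (MonoidHom.mem_ker.1 hw))
  have hKidx : Nat.card E ≤ 4 * Nat.card K := by
    rw [Subgroup.card_map_of_injective E.subtype_injective, ← Subgroup.card_mul_index γ.ker,
      Subgroup.index_ker, mul_comm 4]
    refine Nat.mul_le_mul_left _ ?_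
    exact (Subgroup.card_le_card_group _).trans_eq H.card_V
  have hEV : Nat.card E = 4 * H.V.relIndex E := by
    rw [← H.card_V, ← Subgroup.card_mul_index (H.V.subgroupOf E),
      Nat.card_congr (Subgroup.subgroupOfEquivOfLe hVE).toEquiv]
    rfl
  have hKcard : 64 ≤ Nat.card K := by omega
  have hnorm : ∀ S : Subgroup T, H.V ≤ S → S ≤ E → ∀ g ∈ E, ∀ h ∈ S, g * h * g⁻¹ ∈ S := by
    intro S hVS hSE g hg h hh
    have e : g * h * g⁻¹ = ⁅g, h⁆ * h := by simp only [commutatorElement_def]; group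
    rw [e]
    exact mul_mem (hVS (hcen g hg h (hSE hh))) hh
  set X : Subgroup T := H.V ⊔ Subgroup.zpowers x with hX
  have hXE : X ≤ E := sup_le hVE (Subgroup.zpowers_le.2 hxE)
  have hVX : H.V ≤ X := le_sup_left
  have hXc : Nat.card X ≤ 8 := by
    have := card_sup_zpowers_le H.V (hsq x hxE) (hnorm H.V le_rfl hVE x hxE)
    rw [H.card_V] at this
    exact this
  obtain ⟨y, hyK, hyX⟩ := exists_notMem_of_card_lt (H := X) (K := K) (by omega)
  set Y := X ⊔ Subgroup.zpowers y with hY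
  have hYE : Y ≤ E := sup_le hXE (Subgroup.zpowers_le.2 (hKE hyK))
  have hYc : Nat.card Y ≤ 16 := by
    have := card_sup_zpowers_le X (hVX (hsq y (hKE hyK))) (hnorm X hVX hXE y (hKE hyK))
    rw [← hY] at this; omega
  obtain ⟨v, hvK, hvY⟩ := exists_notMem_of_card_lt (H := Y) (K := K) (by omega)
  set W := Y ⊔ Subgroup.zpowers v with hW
  have hWc : Nat.card W ≤ 32 := by
    have := card_sup_zpowers_le Y (le_sup_left (a := X) (hVX (hsq v (hKE hvK))))
      (hnorm Y (hVX.trans le_sup_left) hYE v (hKE hvK))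
    rw [← hW] at this; omega
  obtain ⟨w, hwK, hwW⟩ := exists_notMem_of_card_lt (H := W) (K := K) (by omega)
  set a := x * x with ha
  have haV : a ∈ H.V := hsq x hxE
  have ha1 : a ≠ 1 := hxV
  have hxX : x ∈ X := Subgroup.mem_sup_right (Subgroup.mem_zpowers x)
  have hout : ∀ g ∈ K, g ∉ X → g * g ≠ 1 ∧ g * g ≠ a := by
    intro g hg hgX
    refine ⟨fun h => hgX (hVX h), fun e => hgX ?_⟩
    have hcomm : Commute x⁻¹ g := (hKcomm g hg).inv_left
    have hV : x⁻¹ * g ∈ H.V := by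
      rw [mem_V]
      calc x⁻¹ * g * (x⁻¹ * g) = x⁻¹ * (g * x⁻¹) * g := by group
        _ = (x * x)⁻¹ * (g * g) := by rw [← hcomm.eq]; group
        _ = 1 := by rw [e, inv_mul_cancel]
    have := mul_mem hxX (hVX hV)
    rwa [mul_inv_cancel_left] at this
  have hpair : ∀ g ∈ K, ∀ g' ∈ K, g ∉ X → g' ∉ X → g⁻¹ * g' ∉ X →
      ⁅g', g⁆ ≠ 1 ∧ ⁅g', g⁆ ≠ a := by
    intro g hg g' hg' hgX hg'X hne
    have hgE := hKE hg
    have hg'E := hKE hg'
    have hgV := hsq g hgE
    have hmem : g * g' ∉ X := by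
      intro h
      apply hne
      have e : g⁻¹ * g' = (g * g)⁻¹ * (g * g') := by group
      rw [e]
      exact mul_mem (inv_mem (hVX hgV)) h
    obtain ⟨p1, p2⟩ := hout g hg hgX
    obtain ⟨q1, q2⟩ := hout g' hg' hg'X
    obtain ⟨r1, r2⟩ := hout _ (mul_mem hg hg') hmem
    rw [mul_sq_of_commute (hc g' hg'E g hgE _) (hc g' hg'E g hgE _)] at r1 r2
    rcases H.exists_fourth haV hgV (hsq g' hg'E) ha1 p1 q1 p2 q2 with e | e
    · rw [e, one_mul] at r1 r2; exact ⟨r1, r2⟩
    · rw [e] at r1 r2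
      refine ⟨fun e' => r2 (by rw [e', mul_one]), fun e' => r1 (by rw [e']; exact haV)⟩
  have hvX : v ∉ X := fun h => hvY (Subgroup.mem_sup_left h)
  have hwX : w ∉ X := fun h => hwW (Subgroup.mem_sup_left (Subgroup.mem_sup_left h))
  have hyY : y ∈ Y := Subgroup.mem_sup_right (Subgroup.mem_zpowers y)
  have hvW : v ∈ W := Subgroup.mem_sup_right (Subgroup.mem_zpowers v)
  have hyv := hpair y hyK v hvK hyX hvX fun h => hvY (by
    have := mul_mem hyY (Subgroup.mem_sup_left (T := Subgroup.zpowers y) h)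
    rwa [mul_inv_cancel_left] at this)
  have hyw := hpair y hyK w hwK hyX hwX fun h => hwW (Subgroup.mem_sup_left (by
    have := mul_mem hyY (Subgroup.mem_sup_left (T := Subgroup.zpowers y) h)
    rwa [mul_inv_cancel_left] at this))
  have hyvw := hpair y hyK (v * w) (mul_mem hvK hwK) hyX
    (fun h => hwW (by
      have := mul_mem (inv_mem hvW) (Subgroup.mem_sup_left (T := Subgroup.zpowers v)
        (Subgroup.mem_sup_left (T := Subgroup.zpowers y) h))
      rwa [inv_mul_cancel_left] at this))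
    (fun h => hwW (by
      have h1 : v * w ∈ Y := by
        have := mul_mem hyY (Subgroup.mem_sup_left (T := Subgroup.zpowers y) h)
        rwa [mul_inv_cancel_left] at this
      have := mul_mem (inv_mem hvW) (Subgroup.mem_sup_left (T := Subgroup.zpowers v) h1)
      rwa [inv_mul_cancel_left] at this))
  rw [commutator_mul_left_of_central (hc w (hKE hwK) y (hKE hyK))] at hyvw
  rcases H.exists_fourth haV (hcen v (hKE hvK) y (hKE hyK)) (hcen w (hKE hwK) y (hKE hyK)) ha1
    hyv.1 hyw.1 hyv.2 hyw.2 with e | e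
  · exact hyvw.1 e
  · exact hyvw.2 e

/-- If every involution is a square in the central subgroup `Z`, the index is at most four. -/
theorem relIndex_le_of_squares {Z E : Subgroup T} (hZE : Z ≤ E) (hVZ : H.V ≤ Z)
    (hcomm : ∀ z ∈ Z, ∀ x ∈ E, Commute z x) (hsq : ∀ x ∈ E, x * x ∈ Z)
    (hcom : ∀ x ∈ E, ∀ y ∈ E, ⁅x, y⁆ ∈ Z) (hroot : ∀ s ∈ H.V, ∃ w ∈ Z, w * w = s) :
    Z.relIndex E ≤ 4 := by
  haveI hZcomm : IsMulCommutative Z :=
    ⟨⟨fun a b => Subtype.ext (hcomm a a.2 b (hZE b.2)).eq⟩⟩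
  have hab : ∀ a b : Z, a * b = b * a := fun a b => Subtype.ext (hcomm a a.2 b (hZE b.2)).eq
  let sq : Z →* Z :=
    { toFun := fun a => a * a
      map_one' := one_mul 1
      map_mul' := fun a b => by
        calc a * b * (a * b) = a * (b * a) * b := by group
          _ = a * (a * b) * b := by rw [hab b a]
          _ = a * a * (b * b) := by group }
  haveI : sq.range.Normal := ⟨fun n hn g => by rw [hab g n, mul_inv_cancel_right]; exact hn⟩
  let f : E →* Z ⧸ sq.range :=
    { toFun := fun x => ((⟨(x : T) * x, hsq x x.2⟩ : Z) : Z ⧸ sq.range)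
      map_one' := by
        rw [QuotientGroup.eq_one_iff]
        exact ⟨1, Subtype.ext (by simp [sq])⟩
      map_mul' := fun x y => by
        have hc : ⁅(y : T), (x : T)⁆ ∈ Z := hcom y y.2 x x.2
        have hcV : ⁅(y : T), (x : T)⁆ ∈ H.V := by
          rw [mem_V]
          have h1 : ⁅(y : T) * y, (x : T)⁆ = 1 :=
            commutatorElement_eq_one_iff_commute.2 (hcomm _ (hsq y y.2) x x.2)
          rw [← h1]
          have e : ⁅(y : T) * y, (x : T)⁆ = y * ⁅(y : T), (x : T)⁆ * (y : T)⁻¹ * ⁅(y : T), (x : T)⁆ := by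
            simp only [commutatorElement_def]; group
          rw [e, ← (hcomm _ hc y y.2).eq, mul_inv_cancel_right]
        obtain ⟨w, hw, hwe⟩ := hroot _ hcV
        rw [← QuotientGroup.mk_mul]
        refine (QuotientGroup.eq.2 ?_).symm
        refine ⟨⟨w, hw⟩, Subtype.ext ?_⟩
        show w * w = ((x : T) * x * ((y : T) * y))⁻¹ * ((x * y : E) * (x * y : E) : T)
        rw [Subgroup.coe_mul, mul_sq_of_commute (hcomm _ hc x x.2) (hcomm _ hc _ (hZE (hsq y y.2))),
          inv_mul_cancel_left, hwe] }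
  have hker : Nat.card f.ker ≤ Nat.card Z := by
    rw [← Subgroup.card_map_of_injective E.subtype_injective]
    refine Subgroup.card_le_of_le ?_
    rintro _ ⟨x, hx, rfl⟩
    obtain ⟨w, hw⟩ := (QuotientGroup.eq_one_iff _).1 (MonoidHom.mem_ker.1 hx)
    have hw' : (w : T) * w = (x : T) * x := congrArg Subtype.val hw
    have hx' : (x : T) * (w : T)⁻¹ ∈ H.V := by
      have hc : Commute ((w : T)⁻¹) (x : T) := (hcomm w w.2 x x.2).inv_left
      rw [mem_V]
      calc (x : T) * (w : T)⁻¹ * ((x : T) * (w : T)⁻¹) = (x : T) * ((w : T)⁻¹ * x) * (w : T)⁻¹ := by group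
        _ = (x : T) * x * ((w : T) * w)⁻¹ := by rw [hc.eq]; group
        _ = 1 := by rw [hw', mul_inv_cancel]
    have := mul_mem (hVZ hx') w.2
    rwa [inv_mul_cancel_right] at this
  have hq : Nat.card (Z ⧸ sq.range) ≤ 4 := by
    have h1 := Subgroup.card_eq_card_quotient_mul_card_subgroup sq.range
    have h2 := Subgroup.card_mul_index sq.ker
    rw [Subgroup.index_ker, mul_comm] at h2
    have h3 : Nat.card sq.ker ≤ 4 := by
      rw [← H.card_V, ← Subgroup.card_map_of_injective Z.subtype_injective]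
      refine Subgroup.card_le_of_le ?_
      rintro _ ⟨w, hw, rfl⟩
      exact congrArg Subtype.val (MonoidHom.mem_ker.1 hw)
    have h4 : Nat.card (Z ⧸ sq.range) = Nat.card sq.ker := by
      have hpos : 0 < Nat.card sq.range := Nat.card_pos
      rw [← h2, mul_comm (Nat.card sq.range)] at h1
      exact (Nat.eq_of_mul_eq_mul_right hpos h1).symm
    omega
  have hE : Nat.card E ≤ Nat.card Z * 4 := by
    rw [← Subgroup.card_mul_index f.ker, Subgroup.index_ker]
    exact Nat.mul_le_mul hker ((Subgroup.card_le_card_group _).trans hq)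
  rw [← Subgroup.card_mul_index (Z.subgroupOf E),
    Nat.card_congr (Subgroup.subgroupOfEquivOfLe hZE).toEquiv] at hE
  exact Nat.le_of_mul_le_mul_left hE Nat.card_pos

theorem eq_V_or_roots {Z : Subgroup T} (hVZ : H.V ≤ Z) (hinv : ∀ x ∈ Z, H.ψ x ∈ Z) :
    Z = H.V ∨ ∀ s ∈ H.V, ∃ w ∈ Z, w * w = s := by
  by_cases hle : Z ≤ H.V
  · exact Or.inl (le_antisymm hle hVZ)
  right
  obtain ⟨w, hwZ, hwV⟩ := SetLike.not_le_iff_exists.1 hle
  obtain ⟨k, hk⟩ := H.pgroup w
  obtain ⟨u, huZ, hu, hu1⟩ : ∃ u ∈ Z, u * u ∈ H.V ∧ u * u ≠ 1 := by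
    induction k generalizing w with
    | zero => exact absurd (by rw [pow_zero, pow_one] at hk; rw [hk]; exact one_mem _) hwV
    | succ k ih =>
      by_cases h2 : w * w ∈ H.V
      · exact ⟨w, hwZ, h2, hwV⟩
      · exact ih (w * w) (mul_mem hwZ hwZ) h2 (by rw [← pow_two, ← pow_mul, ← pow_succ']; exact hk)
  have hp : ∀ s, (∃ w ∈ Z, w * w = s) → ∃ w ∈ Z, w * w = H.ψ s := by
    rintro s ⟨w, hw, rfl⟩
    exact ⟨H.ψ w, hinv w hw, (map_mul _ _ _).symm⟩
  have hu0 : ∃ w ∈ Z, w * w = u * u := ⟨u, huZ, rfl⟩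
  intro s hs
  rcases H.cover _ hu with e | e | e | e
  · exact absurd e hu1
  all_goals
    rw [e] at hu0
    rcases H.cover s hs with rfl | rfl | rfl | rfl
  all_goals first
    | exact ⟨1, one_mem _, one_mul 1⟩
    | exact hu0
    | exact hp _ hu0
    | exact hp _ (hp _ hu0)
    | (have h' := hp _ (hp _ hu0); rw [H.psi_three_z] at h'; exact h')
    | (have h' := hp _ hu0; rw [H.psi_three_z] at h'; exact h')

/-- `V` is fixed by `ψ ^ (3 n)`. -/
theorem pow_three_mul_V (n : ℕ) {s : T} (hs : s ∈ H.V) : (H.ψ ^ (3 * n)) s = s := by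
  induction n with
  | zero => simp
  | succ n ih =>
    rw [Nat.mul_succ, pow_add]
    show (H.ψ ^ (3 * n)) (H.ψ (H.ψ (H.ψ s))) = s
    rw [H.psi_three_V hs, ih]

omit H in
theorem three_exists : ∀ r < 9, r ≠ 0 → ∃ m < 9, r * m % 9 = 3 := by decide

/-- `ψ` has order three. -/
theorem psi_three (x : T) : H.ψ (H.ψ (H.ψ x)) = x := by
  classical
  set a := Nat.find H.order with hadef
  have ha : H.ψ ^ 3 ^ a = 1 := Nat.find_spec H.order
  by_cases ha1 : a ≤ 1
  · have h3 : H.ψ ^ 3 = 1 := by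
      have : (H.ψ ^ 3 ^ a) ^ 3 ^ (1 - a) = 1 := by rw [ha, one_pow]
      rwa [← pow_mul, ← pow_add, Nat.add_sub_cancel' ha1, pow_one] at this
    exact DFunLike.congr_fun h3 x
  exfalso
  obtain ⟨b, hb⟩ : ∃ b, a = b + 2 := ⟨a - 2, by omega⟩
  set σ := H.ψ ^ 3 ^ b with hσ
  set R := σ ^ 3 with hR
  have hRψ : R = H.ψ ^ (3 * 3 ^ b) := by rw [hR, hσ, ← pow_mul, mul_comm]
  have hR1 : R ≠ 1 := by
    intro e
    rw [hRψ, ← pow_succ'] at e
    exact Nat.find_min H.order (show b + 1 < a by omega) e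
  have hσ9 : σ ^ 9 = 1 := by
    rw [hσ, ← pow_mul, show 3 ^ b * 9 = 3 ^ a by rw [hb, pow_add]; ring]; exact ha
  haveI : Fact (Nat.Prime 3) := ⟨Nat.prime_three⟩
  have hord : orderOf σ = 9 := by
    have := orderOf_eq_prime_pow (p := 3) (n := 1) (x := σ) (by rw [pow_one]; exact hR1) (by norm_num; exact hσ9)
    norm_num at this; exact this
  have hcommψ : ∀ n : ℕ, ∀ y, (H.ψ ^ n) (H.ψ y) = H.ψ ((H.ψ ^ n) y) := fun n y => by
    show (H.ψ ^ n * H.ψ) y = (H.ψ * H.ψ ^ n) y
    rw [(Commute.refl H.ψ).pow_left n |>.eq]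
  have hcommsymm : ∀ n : ℕ, ∀ y, (H.ψ ^ n) (H.ψ⁻¹ y) = H.ψ⁻¹ ((H.ψ ^ n) y) := fun n y => by
    show (H.ψ ^ n * H.ψ⁻¹) y = (H.ψ⁻¹ * H.ψ ^ n) y
    rw [((Commute.refl H.ψ).pow_left n).inv_right.eq]
  let C : Subgroup T := R.toMonoidHom.eqLocus (MonoidHom.id T)
  have hC : ∀ y, y ∈ C ↔ R y = y := fun y => Iff.rfl
  have hVC : H.V ≤ C := fun s hs => (hC s).2 (by rw [hRψ]; exact H.pow_three_mul_V _ hs)
  have hCψ : ∀ y ∈ C, H.ψ y ∈ C := fun y hy => by
    rw [hC, hRψ, hcommψ, ← hRψ, (hC y).1 hy]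
  have hCψ' : ∀ y ∈ C, H.ψ⁻¹ y ∈ C := fun y hy => by
    rw [hC, hRψ, hcommsymm, ← hRψ, (hC y).1 hy]
  set D := Subgroup.centralizer (C : Set T)
  have hDψ : ∀ d ∈ D, H.ψ d ∈ D := fun d hd => by
    rw [Subgroup.mem_centralizer_iff]
    intro c hc
    have := congrArg H.ψ (Subgroup.mem_centralizer_iff.1 hd _ (hCψ' c hc))
    rwa [map_mul, map_mul, show H.ψ (H.ψ⁻¹ c) = c from H.ψ.apply_symm_apply c] at this
  have hpow : ∀ (S : Subgroup T), (∀ y ∈ S, H.ψ y ∈ S) → ∀ n : ℕ, ∀ y ∈ S, (H.ψ ^ n) y ∈ S := by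
    intro S hS n
    induction n with
    | zero => intro y hy; simpa using hy
    | succ n ih => intro y hy; rw [pow_succ]; exact ih _ (hS y hy)
  have hDC : D ≤ C := by
    by_contra hne
    set Z := D ⊓ C with hZdef
    have hZψ : ∀ y ∈ Z, H.ψ y ∈ Z := fun y hy => ⟨hDψ y hy.1, hCψ y hy.2⟩
    have hVZ : H.V ≤ Z := fun s hs =>
      ⟨Subgroup.mem_centralizer_iff.2 fun c _ => ((H.central s hs c).eq).symm, hVC hs⟩
    have hZD : ∀ z ∈ Z, ∀ d ∈ D, Commute z d := fun z hz d hd =>
      Subgroup.mem_centralizer_iff.1 hd z hz.2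
    let E : Subgroup T :=
      { carrier := {d | d ∈ D ∧ d * d ∈ Z ∧ ∀ e ∈ D, ⁅d, e⁆ ∈ Z}
        one_mem' := ⟨D.one_mem, by rw [one_mul]; exact Z.one_mem, fun e _ => by
          rw [commutatorElement_one_left]; exact Z.one_mem⟩
        mul_mem' := by
          rintro d f ⟨hd, hd2, hdc⟩ ⟨hf, hf2, hfc⟩
          refine ⟨mul_mem hd hf, ?_, fun e he => ?_⟩
          · rw [mul_sq_eq]
            refine mul_mem (mul_mem hd2 ?_) hf2
            rw [mul_assoc, (hZD _ (hfc d hd) d hd).eq, inv_mul_cancel_left]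
            exact hfc d hd
          · have e1 : ⁅d * f, e⁆ = d * ⁅f, e⁆ * d⁻¹ * ⁅d, e⁆ := by
              simp only [commutatorElement_def]; group
            rw [e1, ← (hZD _ (hfc e he) d hd).eq, mul_inv_cancel_right]
            exact mul_mem (hfc e he) (hdc e he)
        inv_mem' := by
          rintro d ⟨hd, hd2, hdc⟩
          refine ⟨inv_mem hd, ?_, fun e he => ?_⟩
          · rw [← mul_inv_rev]; exact inv_mem hd2
          · have e1 : ⁅d⁻¹, e⁆ = d⁻¹ * ⁅d, e⁆⁻¹ * d := by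
              simp only [commutatorElement_def]; group
            rw [e1, mul_assoc, ((hZD _ (hdc e he) d hd).inv_left).eq, inv_mul_cancel_left]
            exact inv_mem (hdc e he) }
    have hZE : Z ≤ E := fun z hz => ⟨hz.1, mul_mem hz hz, fun e he => by
      rw [commutatorElement_eq_one_iff_commute.2 (hZD z hz e he)]; exact Z.one_mem⟩
    have hED : E ≤ D := fun d hd => hd.1
    have hEψ : ∀ y ∈ E, H.ψ y ∈ E := by
      rintro y ⟨hy, hy2, hyc⟩
      refine ⟨hDψ y hy, by rw [← map_mul]; exact hZψ _ hy2, fun e he => ?_⟩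
      have he' : H.ψ⁻¹ e ∈ D := by
        rw [Subgroup.mem_centralizer_iff]
        intro c hc
        apply H.ψ.injective
        rw [map_mul, map_mul, show H.ψ (H.ψ⁻¹ e) = e from H.ψ.apply_symm_apply e]
        exact Subgroup.mem_centralizer_iff.1 he _ (hCψ c hc)
      have := hZψ _ (hyc _ he')
      rwa [map_commutatorElement, show H.ψ (H.ψ⁻¹ e) = e from H.ψ.apply_symm_apply e] at this
    -- an element of `E` outside `Z`
    obtain ⟨d0, hd0E, hd0Z⟩ : ∃ d ∈ E, d ∉ Z := by
      haveI hn : (Z.subgroupOf D).Normal := ⟨fun n hn g => by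
        rw [Subgroup.mem_subgroupOf] at hn ⊢
        rw [Subgroup.coe_mul, Subgroup.coe_mul, Subgroup.coe_inv, ← (hZD _ hn g g.2).eq,
          mul_inv_cancel_right]
        exact hn⟩
      haveI : Nontrivial (D ⧸ Z.subgroupOf D) := by
        refine QuotientGroup.nontrivial_iff.2 fun e => hne fun d hd => ?_
        exact (Subgroup.subgroupOf_eq_top.1 e hd).2
      have hQ : IsPGroup 2 (D ⧸ Z.subgroupOf D) := (H.pgroup.to_subgroup D).to_quotient _
      haveI := hQ.center_nontrivial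
      obtain ⟨w, hw⟩ := exists_prime_orderOf_dvd_card' 2
        ((hQ.to_subgroup (Subgroup.center (D ⧸ Z.subgroupOf D))).card_eq_or_dvd.resolve_left
          Finite.one_lt_card.ne')
      obtain ⟨d, hd⟩ := QuotientGroup.mk_surjective (w : D ⧸ Z.subgroupOf D)
      refine ⟨d, ⟨d.2, ?_, fun e he => ?_⟩, fun hdZ => ?_⟩
      · have : ((d * d : D) : D ⧸ Z.subgroupOf D) = 1 := by
          rw [QuotientGroup.mk_mul, hd, ← pow_two, ← Subgroup.coe_pow, ← hw, pow_orderOf_eq_one,
            Subgroup.coe_one]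
        exact Subgroup.mem_subgroupOf.1 ((QuotientGroup.eq_one_iff _).1 this)
      · have : ((⁅d, (⟨e, he⟩ : D)⁆ : D) : D ⧸ Z.subgroupOf D) = 1 := by
          rw [← QuotientGroup.mk'_apply, map_commutatorElement, QuotientGroup.mk'_apply, hd]
          exact commutatorElement_eq_one_iff_commute.2 ((Subgroup.mem_center_iff.1 w.2 _).symm)
        exact Subgroup.mem_subgroupOf.1 ((QuotientGroup.eq_one_iff _).1 this)
      · have : ((d : D) : D ⧸ Z.subgroupOf D) = 1 := (QuotientGroup.eq_one_iff _).2 hdZ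
        rw [hd] at this
        rw [show w = 1 from Subtype.ext this, orderOf_one] at hw
        omega
    have hr64 : Z.relIndex E < 64 := by
      rcases H.eq_V_or_roots hVZ hZψ with e | hroot
      · have := H.relIndex_lt_of_elementary E (hVZ.trans hZE) (fun y hy => e ▸ hy.2.1)
        rwa [← e] at this
      · exact lt_of_le_of_lt (H.relIndex_le_of_squares hZE hVZ (fun z hz y hy => hZD z hz y (hED hy))
          (fun y hy => hy.2.1) (fun y hy y' hy' => hy.2.2 y' (hED hy')) hroot) (by norm_num)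
    have hdvd := orderOf_dvd_relIndex_sub_one H.pgroup σ hZE
      (fun y hy => hpow Z hZψ _ y hy) (fun y hy => hpow E hEψ _ y hy)
      (by rw [hord]; norm_num) (fun k y hy hyZ hk => ?_)
    · obtain ⟨n, hn⟩ := (H.pgroup.to_subgroup E).index (Z.subgroupOf E)
      have hne1 : Z.relIndex E ≠ 1 := fun e => hd0Z (Subgroup.relIndex_eq_one.1 e hd0E)
      change Z.relIndex E = 2 ^ n at hn
      rw [hord, hn] at hdvd
      rw [hn] at hr64 hne1
      have hn6 : n < 6 := (Nat.pow_lt_pow_iff_right (by norm_num : 1 < 2)).1 (by norm_num; exact hr64)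
      interval_cases n <;> (revert hdvd hne1; norm_num)
    · by_contra hk1
      obtain ⟨r, hr⟩ : ∃ r : ℕ, k % 9 = r := ⟨(k % 9).toNat, (Int.toNat_of_nonneg (Int.emod_nonneg _ (by norm_num))).symm⟩
      have hkr : σ ^ k = σ ^ r := by rw [← zpow_mod_orderOf, hord, Nat.cast_ofNat, hr, zpow_natCast]
      have hr0 : r ≠ 0 := fun e => hk1 (by rw [hkr, e, pow_zero])
      obtain ⟨m, -, hm⟩ := three_exists r (by omega) hr0
      have hRm : R = (σ ^ r) ^ m := by
        rw [← pow_mul, ← pow_mod_orderOf σ (r * m), hord, hm]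
      have hfix : ∀ j : ℕ, ((σ ^ r) ^ j) y = y := by
        intro j
        induction j with
        | zero => simp
        | succ j ih =>
          rw [pow_succ]
          show ((σ ^ r) ^ j) ((σ ^ r) y) = y
          rw [← hkr, hk, hkr, ih]
      exact hyZ ⟨hED hy, (hC y).2 (by rw [hRm]; exact hfix m)⟩
  have htop : C = ⊤ := by
    by_contra hne
    haveI : Group.IsNilpotent T := H.pgroup.isNilpotent
    obtain ⟨u, hu, huC⟩ := SetLike.exists_of_lt
      (Group.normalizerCondition_of_isNilpotent C (lt_top_iff_ne_top.2 hne))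
    set c := u⁻¹ * R u with hc
    have hcD : c ∈ D := by
      rw [Subgroup.mem_centralizer_iff]
      intro y hy
      have h1 : R (u * y * u⁻¹) = u * y * u⁻¹ := (hC _).1 ((Subgroup.mem_normalizer_iff.1 hu y).1 hy)
      rw [map_mul, map_mul, map_inv, (hC y).1 hy] at h1
      have h2 : c * y * c⁻¹ = y := by
        calc c * y * c⁻¹ = u⁻¹ * (R u * y * (R u)⁻¹) * u := by rw [hc]; group
          _ = y := by rw [h1]; group
      exact (mul_inv_eq_iff_eq_mul.1 h2).symm
    have hRc : R c = c := (hC c).1 (hDC hcD)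
    have h1 : R u = u * c := by rw [hc]; group
    have h3 : R (R (R u)) = u := by
      show (R * R * R) u = u
      rw [hR, ← pow_add, ← pow_add, hσ9, MulAut.one_apply]
    rw [h1, map_mul, hRc, h1, map_mul, map_mul, hRc, h1] at h3
    have hc3 : c ^ 3 = 1 := by
      rw [mul_assoc, mul_assoc] at h3
      rw [pow_succ', pow_two]
      exact mul_eq_left.1 h3
    have hc1 : c = 1 := eq_one_of_two_odd H.pgroup (by norm_num) hc3
    exact huC ((hC u).2 (by rw [h1, hc1, mul_one]))
  refine hR1 (MulEquiv.ext fun y => ?_)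
  exact (hC y).1 (htop ▸ Subgroup.mem_top y)

theorem class_two (x y g : T) : Commute ⁅x, y⁆ g :=
  class_two_of_fpf_three _ rfl H.pgroup H.ψ H.psi_three H.fpf x y g

theorem psi_inv_eq (x : T) : H.ψ (H.ψ x) = H.ψ⁻¹ x := by
  apply H.ψ.injective
  rw [H.psi_three]
  exact (H.ψ.apply_symm_apply x).symm

theorem center_invariant {x : T} (hx : x ∈ Subgroup.center T) : H.ψ x ∈ Subgroup.center T := by
  rw [Subgroup.mem_center_iff]
  intro g
  obtain ⟨g, rfl⟩ := H.ψ.surjective g
  rw [← map_mul, ← map_mul, Subgroup.mem_center_iff.1 hx g]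

/-- An element fixed by `ψ` modulo a normal invariant subgroup lies in it. -/
theorem mem_of_inv_mul_mem {N : Subgroup T} [N.Normal] (hN : ∀ x ∈ N, H.ψ x ∈ N) {x : T}
    (hx : x⁻¹ * H.ψ x ∈ N) : x ∈ N := by
  refine mem_of_odd_pow H.pgroup (by norm_num : ¬ 2 ∣ 3) ?_
  have h1 : ((H.ψ x : T) : T ⧸ N) = (x : T ⧸ N) := (QuotientGroup.eq.2 hx).symm
  have h2 : ((H.ψ (H.ψ x) : T) : T ⧸ N) = (x : T ⧸ N) := by
    rw [← h1]
    refine (QuotientGroup.eq.2 ?_).symm
    have := hN _ hx
    rwa [map_mul, map_inv] at this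
  have h := congrArg (fun w : T => (w : T ⧸ N)) (fpf_three_norm H.ψ H.psi_three H.fpf x)
  simp only [QuotientGroup.mk_mul, QuotientGroup.mk_one, h1, h2] at h
  rw [← QuotientGroup.eq_one_iff, QuotientGroup.mk_pow, pow_succ, pow_two]
  exact h

theorem orderOf_psi : orderOf H.ψ = 3 := by
  haveI : Fact (Nat.Prime 3) := ⟨Nat.prime_three⟩
  exact orderOf_eq_prime (MulEquiv.ext fun x => H.psi_three x)
    (fun h => H.psi_z_ne (by rw [h]; rfl))

/-- A nonabelian example has order `64`. -/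
theorem card_eq_of_nonabelian (hna : ¬ IsMulCommutative T) :
    Nat.card T = 64 ∧ Subgroup.center T = H.V := by
  set Z := Subgroup.center T with hZ
  have hcl : ∀ x y : T, ⁅x, y⁆ ∈ Z := fun x y =>
    Subgroup.mem_center_iff.2 fun g => (H.class_two x y g).eq.symm
  have hZc : ∀ z ∈ Z, ∀ x : T, Commute z x := fun z hz x => (Subgroup.mem_center_iff.1 hz x).symm
  have hVZ : H.V ≤ Z := fun s hs => Subgroup.mem_center_iff.2 fun g => (H.central s hs g).eq.symm
  let E : Subgroup T :=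
    { carrier := {x | x * x ∈ Z}
      one_mem' := by show (1 : T) * 1 ∈ Z; rw [one_mul]; exact Z.one_mem
      mul_mem' := fun {a b} ha hb => by
        show a * b * (a * b) ∈ Z
        rw [mul_sq_of_commute (H.class_two b a a) (H.class_two b a _)]
        exact mul_mem (mul_mem ha hb) (hcl b a)
      inv_mem' := fun {a} ha => by
        show a⁻¹ * a⁻¹ ∈ Z
        rw [← mul_inv_rev]; exact inv_mem ha }
  have hZE : Z ≤ E := fun z hz => mul_mem hz hz
  have hreach : ∀ (k : ℕ) (y : T), y ^ 2 ^ k ∈ Z → y ∈ Z ∨ ∃ n : ℕ, y ^ n ∈ E ∧ y ^ n ∉ Z := by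
    intro k
    induction k with
    | zero => intro y hy; left; simpa using hy
    | succ k ih =>
      intro y hy
      by_cases hyk : y ^ 2 ^ k ∈ Z
      · exact ih y hyk
      · refine Or.inr ⟨2 ^ k, ?_, hyk⟩
        show y ^ 2 ^ k * y ^ 2 ^ k ∈ Z
        rw [← pow_add, ← two_mul, ← pow_succ']; exact hy
  have hall : ∀ y : T, y ∈ Z ∨ ∃ n : ℕ, y ^ n ∈ E ∧ y ^ n ∉ Z := fun y => by
    obtain ⟨k, hk⟩ := H.pgroup y
    exact hreach k y (by rw [hk]; exact Z.one_mem)
  obtain ⟨x0, hx0E, hx0Z⟩ : ∃ x ∈ E, x ∉ Z := by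
    by_contra hc
    push Not at hc
    refine hna ⟨⟨fun a b => ?_⟩⟩
    rcases hall a with h | ⟨n, h1, h2⟩
    · exact (hZc a h b).eq
    · exact absurd (hc _ h1) h2
  have hdvd : 3 ∣ Z.relIndex E - 1 := by
    rw [← H.orderOf_psi]
    refine orderOf_dvd_relIndex_sub_one H.pgroup H.ψ hZE (fun z hz => H.center_invariant hz)
      (fun x hx => ?_) (by rw [H.orderOf_psi]; norm_num) (fun k x hx hxZ hk => ?_)
    · show H.ψ x * H.ψ x ∈ Z
      rw [← map_mul]; exact H.center_invariant hx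
    · by_contra hk1
      obtain ⟨r, hr⟩ : ∃ r : ℕ, k % 3 = r :=
        ⟨(k % 3).toNat, (Int.toNat_of_nonneg (Int.emod_nonneg _ (by norm_num))).symm⟩
      have hkr : H.ψ ^ k = H.ψ ^ r := by
        rw [← zpow_mod_orderOf, H.orderOf_psi, Nat.cast_ofNat, hr, zpow_natCast]
      rw [hkr] at hk hk1
      have hr2 : r = 1 ∨ r = 2 := by
        have : r ≠ 0 := fun e => hk1 (by rw [e, pow_zero])
        omega
      refine hxZ ?_
      rw [H.fpf x ?_]
      · exact Z.one_mem
      rcases hr2 with rfl | rfl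
      · simpa using hk
      · have h2 : H.ψ (H.ψ x) = x := hk
        have := H.psi_three x
        rwa [h2] at this
  have hne1 : Z.relIndex E ≠ 1 := fun e => hx0Z (Subgroup.relIndex_eq_one.1 e hx0E)
  have hnot4 : Z.relIndex E ≠ 4 := by
    intro h4
    have hcardE : Nat.card E = 4 * Nat.card Z := by
      rw [← Subgroup.card_mul_index (Z.subgroupOf E),
        Nat.card_congr (Subgroup.subgroupOfEquivOfLe hZE).toEquiv, mul_comm 4, ← h4]
      rfl
    refine hx0Z ?_
    rw [Subgroup.mem_center_iff]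
    intro y
    rcases hall y with h | ⟨n, hnE, hnZ⟩
    · exact (hZc y h x0).eq
    set x := y ^ n with hxdef
    set F1 := Z ⊔ Subgroup.zpowers x with hF1
    set F := F1 ⊔ Subgroup.zpowers (H.ψ x) with hF
    have hψxE : H.ψ x ∈ E := by
      show H.ψ x * H.ψ x ∈ Z
      rw [← map_mul]; exact H.center_invariant hnE
    have hFE : F ≤ E := sup_le (sup_le hZE (Subgroup.zpowers_le.2 hnE)) (Subgroup.zpowers_le.2 hψxE)
    have hψxF1 : H.ψ x ∉ F1 := by
      intro h
      rcases mem_sup_zpowers Z hnE (fun z hz => by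
        rw [← (hZc z hz x).eq, mul_inv_cancel_right]; exact hz) h with h' | h'
      · refine hnZ ?_
        have := H.center_invariant (H.center_invariant h')
        rwa [H.psi_three] at this
      · exact hnZ (H.mem_of_inv_mul_mem (fun z hz => H.center_invariant hz) h')
    have h1 : 2 * Nat.card Z ≤ Nat.card F1 :=
      two_mul_card_le (lt_of_le_of_ne le_sup_left fun e => hnZ (e ▸ Subgroup.mem_sup_right (Subgroup.mem_zpowers x)))
    have h2 : 2 * Nat.card F1 ≤ Nat.card F :=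
      two_mul_card_le (lt_of_le_of_ne le_sup_left fun e =>
        hψxF1 (e ▸ Subgroup.mem_sup_right (Subgroup.mem_zpowers (H.ψ x))))
    have hFeq : F = E := Subgroup.eq_of_le_of_card_ge hFE (by omega)
    have hy1 : Commute y x := Commute.self_pow y n
    have hy2 : Commute y (H.ψ x) := by
      rw [hxdef, map_pow]; exact (fpf_three_commute H.ψ H.psi_three H.fpf y).pow_right n
    have hle : F ≤ Subgroup.centralizer ({y} : Set T) := by
      refine sup_le (sup_le (fun z hz => ?_) (Subgroup.zpowers_le.2 ?_)) (Subgroup.zpowers_le.2 ?_)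
      · exact Subgroup.mem_centralizer_singleton_iff.2 (hZc z hz y).eq
      · exact Subgroup.mem_centralizer_singleton_iff.2 hy1.eq.symm
      · exact Subgroup.mem_centralizer_singleton_iff.2 hy2.eq.symm
    exact (Subgroup.mem_centralizer_singleton_iff.1 (hle (hFeq ▸ hx0E))).symm
  obtain ⟨n, hn⟩ := (H.pgroup.to_subgroup E).index (Z.subgroupOf E)
  change Z.relIndex E = 2 ^ n at hn
  rcases H.eq_V_or_roots hVZ (fun z hz => H.center_invariant hz) with e | hroot
  · have h64 := H.relIndex_lt_of_elementary E (hVZ.trans hZE) (fun y hy => e ▸ hy)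
    rw [← e] at h64
    have h16 : Z.relIndex E = 16 := by
      rw [hn] at h64 hdvd hne1 hnot4 ⊢
      have hn6 : n < 6 := (Nat.pow_lt_pow_iff_right (by norm_num : 1 < 2)).1 (by norm_num; exact h64)
      interval_cases n <;> (first | rfl | (exfalso; revert hdvd hne1 hnot4; norm_num))
    have hEtop : E = ⊤ := by
      rw [eq_top_iff]
      intro x _
      show x * x ∈ Z
      rw [Subgroup.mem_center_iff]
      intro g
      refine (commutatorElement_eq_one_iff_commute.1 ?_).eq.symm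
      rw [commutator_mul_left_of_central (H.class_two x g), ← H.mem_V, ← e]
      exact hcl x g
    refine ⟨?_, e⟩
    rw [← Subgroup.card_top (G := T), ← hEtop, ← Subgroup.card_mul_index (Z.subgroupOf E),
      Nat.card_congr (Subgroup.subgroupOfEquivOfLe hZE).toEquiv, e, H.card_V, ← e]
    change 4 * Z.relIndex E = 64
    omega
  · exfalso
    have h4 := H.relIndex_le_of_squares hZE hVZ (fun z hz x _ => hZc z hz x) (fun x hx => hx)
      (fun x _ y _ => hcl x y) hroot
    rw [hn] at h4 hdvd hne1 hnot4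
    have hn2 : n ≤ 2 := (Nat.pow_le_pow_iff_right (by norm_num : 1 < 2)).1 (by norm_num; exact h4)
    interval_cases n <;> (revert hdvd hne1 hnot4; norm_num)

theorem homocyclic (hab : ∀ a b : T, a * b = b * a) :
    ∃ n : ℕ, 1 ≤ n ∧ Nonempty (T ≃* Multiplicative (ZMod (2 ^ n) × ZMod (2 ^ n))) := by
  classical
  letI : CommGroup T := { ‹Group T› with mul_comm := hab }
  obtain ⟨x, hx⟩ := Finite.exists_max (fun x : T => orderOf x)
  obtain ⟨n, hn⟩ := IsPGroup.iff_orderOf.1 H.pgroup x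
  have hn1 : 1 ≤ n := by
    by_contra hc
    have := hx H.z
    rw [H.z_two, hn, show n = 0 by omega] at this
    norm_num at this
  have hexp : ∀ y : T, y ^ 2 ^ n = 1 := by
    intro y
    obtain ⟨k, hk⟩ := IsPGroup.iff_orderOf.1 H.pgroup y
    have hle := hx y
    rw [hn, hk] at hle
    rw [← orderOf_dvd_iff_pow_eq_one, hk]
    exact pow_dvd_pow 2 ((Nat.pow_le_pow_iff_right (by norm_num : 1 < 2)).1 hle)
  have hcard : ∀ k, Nat.card ((powMonoidHom (2 ^ k) : T →* T).ker) ≤ 4 ^ k := by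
    intro k
    induction k with
    | zero =>
      have : (powMonoidHom (2 ^ 0) : T →* T).ker = ⊥ := by ext; simp
      rw [this, Subgroup.card_bot, pow_zero]
    | succ k ih =>
      let g : (powMonoidHom (2 ^ (k + 1)) : T →* T).ker →* T :=
        (powMonoidHom 2).comp (Subgroup.subtype _)
      rw [← Subgroup.card_mul_index g.ker, Subgroup.index_ker, pow_succ' 4]
      refine Nat.mul_le_mul ?_ ((Subgroup.card_le_of_le ?_).trans ih)
      · rw [← H.card_V, ← Subgroup.card_map_of_injective (Subgroup.subtype_injective _)]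
        refine Subgroup.card_le_of_le ?_
        rintro _ ⟨w, hw, rfl⟩
        have := MonoidHom.mem_ker.1 hw
        show (w : T) * w = 1
        simpa [g, pow_two] using this
      · rintro _ ⟨w, rfl⟩
        rw [MonoidHom.mem_ker]
        show ((w : T) ^ 2) ^ 2 ^ k = 1
        rw [← pow_mul, ← pow_succ']
        exact MonoidHom.mem_ker.1 w.2
  have hT4 : Nat.card T ≤ 4 ^ n := by
    have h := hcard n
    have htop : (powMonoidHom (2 ^ n) : T →* T).ker = ⊤ := by
      ext y; simp [hexp y]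
    rwa [htop, Subgroup.card_top] at h
  set N : ℕ := 2 ^ n with hN
  haveI : NeZero N := ⟨by positivity⟩
  let fx : ZMod N →+ Additive T := ZMod.lift N ⟨zmultiplesHom (Additive T) (Additive.ofMul x), by
    rw [zmultiplesHom_apply, natCast_zsmul, ← ofMul_pow, hexp, ofMul_one]⟩
  let fy : ZMod N →+ Additive T := ZMod.lift N ⟨zmultiplesHom (Additive T) (Additive.ofMul (H.ψ x)), by
    rw [zmultiplesHom_apply, natCast_zsmul, ← ofMul_pow, hexp, ofMul_one]⟩
  let f : Multiplicative (ZMod N × ZMod N) →* T := (fx.coprod fy).toMultiplicativeLeft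
  have hf : ∀ i j : ℤ, f (Multiplicative.ofAdd ((i : ZMod N), (j : ZMod N))) = x ^ i * H.ψ x ^ j := by
    intro i j
    show Additive.toMul (fx (i : ZMod N) + fy (j : ZMod N)) = _
    simp [fx, fy]
  have hinj : Function.Injective f := by
    rw [injective_iff_map_eq_one]
    intro w hw
    obtain ⟨⟨i, j⟩, rfl⟩ := Multiplicative.ofAdd.surjective w
    obtain ⟨i, rfl⟩ := ZMod.intCast_surjective i
    obtain ⟨j, rfl⟩ := ZMod.intCast_surjective j
    rw [hf] at hw
    set u := x ^ (2 ^ (n - 1)) with hu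
    have hu1 : u ≠ 1 := fun e => by
      have h := orderOf_dvd_iff_pow_eq_one.2 e
      rw [hn] at h
      have := (Nat.pow_dvd_pow_iff_le_right (by norm_num : 1 < 2)).1 h
      omega
    have hinv : ∀ i : ℤ, x ^ i * x ^ i = 1 → x ^ i ≠ 1 → x ^ i = u := by
      intro i h1 h2
      rw [← zpow_add, ← orderOf_dvd_iff_zpow_eq_one, hn] at h1
      have e2 : ((2 ^ n : ℕ) : ℤ) = 2 * ((2 ^ (n - 1) : ℕ) : ℤ) := by
        rw [show n = n - 1 + 1 by omega]
        push_cast
        rw [pow_succ']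
      rw [e2, ← two_mul] at h1
      obtain ⟨m, hm⟩ := (mul_dvd_mul_iff_left (by norm_num : (2 : ℤ) ≠ 0)).1 h1
      rcases Int.even_or_odd m with ⟨l, hl⟩ | ⟨l, hl⟩
      · exfalso
        apply h2
        rw [← orderOf_dvd_iff_zpow_eq_one, hn, e2, hm, hl]
        exact ⟨l, by ring⟩
      · have hu2 : u ^ (2 * l) = 1 := by
          rw [zpow_mul, zpow_two, hu, ← pow_add, ← two_mul, ← pow_succ', Nat.sub_add_cancel hn1,
            ← hN, hexp, one_zpow]
        rw [hm, hl, zpow_mul, zpow_natCast, ← hu, zpow_add, hu2, one_mul, zpow_one]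
    have hmeet : ∀ (k : ℕ) (i j : ℤ), (x ^ i) ^ 2 ^ k = 1 → x ^ i = H.ψ x ^ j → x ^ i = 1 := by
      intro k
      induction k with
      | zero => intro i j h _; simpa using h
      | succ k ih =>
        intro i j h he
        by_contra hne
        by_cases h2 : x ^ i * x ^ i = 1
        · have hi := hinv i h2 hne
          have hj : x ^ j = u := by
            refine hinv j ?_ ?_
            · apply H.ψ.injective
              rw [map_mul, map_zpow, ← he, map_one]; exact h2
            · intro e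
              rw [← map_zpow, e, map_one] at he
              exact hne he
          rw [← map_zpow, hj, hi] at he
          exact hu1 (H.fpf u he.symm)
        · have := ih (i + i) (j + j) (by rw [zpow_add, ← pow_two, ← pow_mul, ← pow_succ']; exact h)
            (by rw [zpow_add, zpow_add, he])
          rw [zpow_add] at this
          exact h2 this
    have hxi : x ^ i = H.ψ x ^ (-j) := by rw [zpow_neg]; exact eq_inv_of_mul_eq_one_left hw
    have h1 : x ^ i = 1 := hmeet n i (-j) (hexp _) hxi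
    have h2 : H.ψ x ^ j = 1 := by rw [h1, one_mul] at hw; exact hw
    have h2' : x ^ j = 1 := H.ψ.injective (by rw [map_zpow, h2, map_one])
    rw [← orderOf_dvd_iff_zpow_eq_one, hn] at h1 h2'
    show Multiplicative.ofAdd _ = Multiplicative.ofAdd 0
    rw [(ZMod.intCast_zmod_eq_zero_iff_dvd i N).2 h1, (ZMod.intCast_zmod_eq_zero_iff_dvd j N).2 h2']
    rfl
  refine ⟨n, hn1, ⟨(MulEquiv.ofBijective f (hinj.bijective_of_nat_card_le ?_)).symm⟩⟩
  rw [Nat.card_congr (Multiplicative.toAdd), Nat.card_prod, Nat.card_zmod, hN, ← mul_pow]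
  exact hT4

/-- The same data for the square of the automorphism. -/
def sqData : HigData T where
  ψ := H.ψ * H.ψ
  z := H.z
  pgroup := H.pgroup
  order := ⟨1, MulEquiv.ext fun x => by
    rw [pow_one, pow_succ, pow_two]
    show H.ψ (H.ψ (H.ψ (H.ψ (H.ψ (H.ψ x))))) = x
    rw [H.psi_three, H.psi_three]⟩
  fpf := fun x hx => H.fpf x (by
    have h2 : H.ψ (H.ψ x) = x := hx
    have := H.psi_three x
    rwa [h2] at this)
  z_two := H.z_two
  central := H.central
  cover := fun s hs => by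
    rcases H.cover s hs with h | h | h | h
    · exact Or.inl h
    · exact Or.inr (Or.inl h)
    · refine Or.inr (Or.inr (Or.inr ?_))
      show s = H.ψ (H.ψ (H.ψ (H.ψ H.z)))
      rw [H.psi_three]; exact h
    · exact Or.inr (Or.inr (Or.inl h))

theorem comm_psi (hcard : Subgroup.center T = H.V) (a y : T) : ⁅a, H.ψ y⁆ = H.ψ (H.ψ ⁅a, y⁆) := by
  have hV : ∀ p q : T, ⁅p, q⁆ ∈ H.V := fun p q => by
    rw [← hcard, Subgroup.mem_center_iff]; exact fun g => (H.class_two p q g).eq.symm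
  have hinv : ∀ w ∈ H.V, w⁻¹ = w := fun w hw => inv_eq_of_mul_eq_one_right hw
  have hc : ∀ p, ⁅p, H.ψ p⁆ = 1 := fun p =>
    commutatorElement_eq_one_iff_commute.2 (fpf_three_commute H.ψ H.psi_three H.fpf p)
  have hmv : ∀ p q, ⁅p, H.ψ q⁆ = ⁅H.ψ p, q⁆ := fun p q => by
    have h := hc (p * q)
    rw [map_mul, commutator_mul_left_of_central (H.class_two q _),
      commutator_mul_right_of_central (H.class_two p _),
      commutator_mul_right_of_central (H.class_two q _), hc, hc, one_mul, mul_one] at h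
    rw [eq_inv_of_mul_eq_one_left h, commutatorElement_inv]
  have h3 : y * H.ψ y * H.ψ (H.ψ y) = 1 := fpf_three_norm H.ψ H.psi_three H.fpf y
  have h4 : ⁅a, H.ψ (H.ψ y)⁆ = H.ψ ⁅a, y⁆ := by rw [map_commutatorElement, hmv]
  have h5 : ⁅a, y⁆ * ⁅a, H.ψ y⁆ * H.ψ ⁅a, y⁆ = 1 := by
    rw [← h4, ← commutator_mul_right_of_central (H.class_two a _),
      ← commutator_mul_right_of_central (H.class_two a _), h3, commutatorElement_one_right]
  have h6 := fpf_three_norm H.ψ H.psi_three H.fpf ⁅a, y⁆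
  have hA := H.central _ (hV a (H.ψ y))
  have e1 : ⁅a, y⁆ * H.ψ ⁅a, y⁆ * ⁅a, H.ψ y⁆ = 1 := by
    rw [mul_assoc, ← (hA _).eq, ← mul_assoc]; exact h5
  exact mul_left_cancel (e1.trans h6.symm)

end HigData

/-- Generators and relations for the group of order 64. -/
structure HigGens (T : Type*) [Group T] where
  /-- first generator -/
  a : T
  /-- second generator -/
  a' : T
  /-- third generator -/
  b : T
  /-- fourth generator -/
  b' : T
  /-- first central involution -/
  u : T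
  /-- second central involution -/
  u' : T
  u_sq : u * u = 1
  u'_sq : u' * u' = 1
  u_central : ∀ g, Commute u g
  u'_central : ∀ g, Commute u' g
  a_sq : a * a = u
  a'_sq : a' * a' = u'
  b_sq : b * b = u
  b'_sq : b' * b' = u'
  a_a' : ⁅a', a⁆ = 1
  b_b' : ⁅b', b⁆ = 1
  b_a : ⁅b, a⁆ = u'
  b_a' : ⁅b, a'⁆ = u
  b'_a : ⁅b', a⁆ = u
  b'_a' : ⁅b', a'⁆ = u * u'
  card_eq : Nat.card T = 64
  gen : Subgroup.closure {a, a', b, b'} = ⊤

theorem HigGens.mulEquiv {T T' : Type*} [Group T] [Group T'] [Finite T] [Finite T']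
    (P : HigGens T) (Q : HigGens T') : Nonempty (T ≃* T') := by
  let p : T × T' := (P.u, Q.u)
  let p' : T × T' := (P.u', Q.u')
  let A : T × T' := (P.a, Q.a)
  let A' : T × T' := (P.a', Q.a')
  let B : T × T' := (P.b, Q.b)
  let B' : T × T' := (P.b', Q.b')
  let S0 : Subgroup (T × T') := ⊥ ⊔ Subgroup.zpowers p ⊔ Subgroup.zpowers p'
  let S1 := S0 ⊔ Subgroup.zpowers A
  let S2 := S1 ⊔ Subgroup.zpowers A'
  let S3 := S2 ⊔ Subgroup.zpowers B
  let S4 := S3 ⊔ Subgroup.zpowers B'
  have hpc : ∀ g : T × T', Commute p g := fun g => Prod.ext (P.u_central g.1).eq (Q.u_central g.2).eq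
  have hp'c : ∀ g : T × T', Commute p' g := fun g => Prod.ext (P.u'_central g.1).eq (Q.u'_central g.2).eq
  have hpS : p ∈ S0 := Subgroup.mem_sup_left (Subgroup.mem_sup_right (Subgroup.mem_zpowers p))
  have hp'S : p' ∈ S0 := Subgroup.mem_sup_right (Subgroup.mem_zpowers p')
  have hconj : ∀ (S : Subgroup (T × T')) (g h : T × T'), ⁅g, h⁆ ∈ S → h ∈ S → g * h * g⁻¹ ∈ S := by
    intro S g h hc hh
    have e : g * h * g⁻¹ = ⁅g, h⁆ * h := by simp only [commutatorElement_def]; group
    rw [e]; exact mul_mem hc hh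
  have hS0n : ∀ g : T × T', S0 ≤ S0.comap (MulAut.conj g).toMonoidHom := by
    intro g
    refine sup_le (sup_le bot_le (Subgroup.zpowers_le.2 ?_)) (Subgroup.zpowers_le.2 ?_)
    · show g * p * g⁻¹ ∈ S0
      rw [← (hpc g).eq, mul_inv_cancel_right]; exact hpS
    · show g * p' * g⁻¹ ∈ S0
      rw [← (hp'c g).eq, mul_inv_cancel_right]; exact hp'S
  have c0 : Nat.card S0 ≤ 4 := by
    have h1 := card_sup_zpowers_le (⊥ : Subgroup (T × T')) (g := p)
      (show p * p ∈ (⊥ : Subgroup _) from Subgroup.mem_bot.2 (Prod.ext P.u_sq Q.u_sq))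
      (fun h hh => by rw [Subgroup.mem_bot.1 hh]; simp)
    rw [Subgroup.card_bot] at h1
    have h2 := card_sup_zpowers_le (⊥ ⊔ Subgroup.zpowers p) (g := p')
      (show p' * p' ∈ _ from by
        rw [show p' * p' = 1 from Prod.ext P.u'_sq Q.u'_sq]; exact one_mem _)
      (fun h hh => by rw [(hp'c h).eq, mul_inv_cancel_right]; exact hh)
    exact h2.trans (by omega)
  have hA2 : A * A = p := Prod.ext P.a_sq Q.a_sq
  have hA'2 : A' * A' = p' := Prod.ext P.a'_sq Q.a'_sq
  have hB2 : B * B = p := Prod.ext P.b_sq Q.b_sq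
  have hB'2 : B' * B' = p' := Prod.ext P.b'_sq Q.b'_sq
  have hAA' : ⁅A', A⁆ ∈ S1 := by
    rw [show ⁅A', A⁆ = 1 from Prod.ext P.a_a' Q.a_a']; exact one_mem _
  have hBA : ⁅B, A⁆ ∈ S2 := by
    rw [show ⁅B, A⁆ = p' from Prod.ext P.b_a Q.b_a]; exact Subgroup.mem_sup_left (Subgroup.mem_sup_left hp'S)
  have hBA' : ⁅B, A'⁆ ∈ S2 := by
    rw [show ⁅B, A'⁆ = p from Prod.ext P.b_a' Q.b_a']; exact Subgroup.mem_sup_left (Subgroup.mem_sup_left hpS)
  have hB'B : ⁅B', B⁆ ∈ S3 := by
    rw [show ⁅B', B⁆ = 1 from Prod.ext P.b_b' Q.b_b']; exact one_mem _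
  have hB'A : ⁅B', A⁆ ∈ S3 := by
    rw [show ⁅B', A⁆ = p from Prod.ext P.b'_a Q.b'_a]
    exact Subgroup.mem_sup_left (Subgroup.mem_sup_left (Subgroup.mem_sup_left hpS))
  have hB'A' : ⁅B', A'⁆ ∈ S3 := by
    rw [show ⁅B', A'⁆ = p * p' from Prod.ext P.b'_a' Q.b'_a']
    exact Subgroup.mem_sup_left (Subgroup.mem_sup_left (Subgroup.mem_sup_left (mul_mem hpS hp'S)))
  have h01 : S0 ≤ S1 := le_sup_left
  have h12 : S1 ≤ S2 := le_sup_left
  have h23 : S2 ≤ S3 := le_sup_left
  have hAS : A ∈ S1 := Subgroup.mem_sup_right (Subgroup.mem_zpowers A)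
  have hA'S : A' ∈ S2 := Subgroup.mem_sup_right (Subgroup.mem_zpowers A')
  have hBS : B ∈ S3 := Subgroup.mem_sup_right (Subgroup.mem_zpowers B)
  have c1 : Nat.card S1 ≤ 8 := by
    refine (card_sup_zpowers_le S0 (hA2 ▸ hpS) fun h hh => hS0n A hh).trans ?_
    omega
  have n1 : S1 ≤ S1.comap (MulAut.conj A').toMonoidHom :=
    sup_le ((hS0n A').trans (Subgroup.comap_mono h01)) (Subgroup.zpowers_le.2 (hconj S1 A' A hAA' hAS))
  have c2 : Nat.card S2 ≤ 16 := by
    refine (card_sup_zpowers_le S1 (hA'2 ▸ h01 hp'S) fun h hh => n1 hh).trans ?_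
    omega
  have n2 : S2 ≤ S2.comap (MulAut.conj B).toMonoidHom :=
    sup_le (sup_le ((hS0n B).trans (Subgroup.comap_mono (h01.trans h12)))
      (Subgroup.zpowers_le.2 (hconj S2 B A hBA (h12 hAS))))
      (Subgroup.zpowers_le.2 (hconj S2 B A' hBA' hA'S))
  have c3 : Nat.card S3 ≤ 32 := by
    refine (card_sup_zpowers_le S2 (hB2 ▸ h12 (h01 hpS)) fun h hh => n2 hh).trans ?_
    omega
  have n3 : S3 ≤ S3.comap (MulAut.conj B').toMonoidHom :=
    sup_le (sup_le (sup_le ((hS0n B').trans (Subgroup.comap_mono (h01.trans (h12.trans h23))))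
      (Subgroup.zpowers_le.2 (hconj S3 B' A hB'A (h23 (h12 hAS)))))
      (Subgroup.zpowers_le.2 (hconj S3 B' A' hB'A' (h23 hA'S))))
      (Subgroup.zpowers_le.2 (hconj S3 B' B hB'B hBS))
  have c4 : Nat.card S4 ≤ 64 := by
    refine (card_sup_zpowers_le S3 (hB'2 ▸ h23 (h12 (h01 hp'S))) fun h hh => n3 hh).trans ?_
    omega
  let f : S4 →* T := (MonoidHom.fst T T').comp S4.subtype
  let f' : S4 →* T' := (MonoidHom.snd T T').comp S4.subtype
  have h34 : S3 ≤ S4 := le_sup_left
  have hmem : A ∈ S4 ∧ A' ∈ S4 ∧ B ∈ S4 ∧ B' ∈ S4 :=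
    ⟨h34 (h23 (h12 hAS)), h34 (h23 hA'S), h34 hBS, Subgroup.mem_sup_right (Subgroup.mem_zpowers B')⟩
  have hsurj : Function.Surjective f := by
    rw [← MonoidHom.range_eq_top, eq_top_iff, ← P.gen, Subgroup.closure_le]
    rintro t (rfl | rfl | rfl | rfl)
    exacts [⟨⟨A, hmem.1⟩, rfl⟩, ⟨⟨A', hmem.2.1⟩, rfl⟩, ⟨⟨B, hmem.2.2.1⟩, rfl⟩, ⟨⟨B', hmem.2.2.2⟩, rfl⟩]
  have hsurj' : Function.Surjective f' := by
    rw [← MonoidHom.range_eq_top, eq_top_iff, ← Q.gen, Subgroup.closure_le]
    rintro t (rfl | rfl | rfl | rfl)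
    exacts [⟨⟨A, hmem.1⟩, rfl⟩, ⟨⟨A', hmem.2.1⟩, rfl⟩, ⟨⟨B, hmem.2.2.1⟩, rfl⟩, ⟨⟨B', hmem.2.2.2⟩, rfl⟩]
  have hb : Function.Bijective f := hsurj.bijective_of_nat_card_le (by rw [P.card_eq]; exact c4)
  have hb' : Function.Bijective f' := hsurj'.bijective_of_nat_card_le (by rw [Q.card_eq]; exact c4)
  exact ⟨(MulEquiv.ofBijective f hb).symm.trans (MulEquiv.ofBijective f' hb')⟩

namespace HigData

variable [Finite T] (H : HigData T)
include H

theorem exists_gens (hna : ¬ IsMulCommutative T) : Nonempty (HigGens T) := by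
  obtain ⟨hcard, hc⟩ := H.card_eq_of_nonabelian hna
  have hV : ∀ x : T, x * x ∈ H.V := fun x => by
    rw [← hc, Subgroup.mem_center_iff]
    intro g
    refine (commutatorElement_eq_one_iff_commute.1 ?_).eq.symm
    rw [commutator_mul_left_of_central (H.class_two x g), ← H.mem_V, ← hc]
    exact Subgroup.mem_center_iff.2 fun g' => (H.class_two x g g').eq.symm
  have hcV : ∀ x y : T, ⁅x, y⁆ ∈ H.V := fun x y => by
    rw [← hc, Subgroup.mem_center_iff]; exact fun g => (H.class_two x y g).eq.symm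
  have hψV : ∀ x ∈ H.V, H.ψ x ∈ H.V := fun x hx => H.psi_sq hx
  obtain ⟨a, -, ha⟩ := exists_notMem_of_card_lt (H := H.V) (K := ⊤)
    (by rw [H.card_V, Subgroup.card_top, hcard]; norm_num)
  set a' := H.ψ a with ha'
  set u := a * a with hu
  have hu1 : u ≠ 1 := ha
  have hnorm : ∀ (S : Subgroup T), H.V ≤ S → ∀ g h, h ∈ S → g * h * g⁻¹ ∈ S := by
    intro S hS g h hh
    have e : g * h * g⁻¹ = ⁅g, h⁆ * h := by simp only [commutatorElement_def]; group
    rw [e]; exact mul_mem (hS (hcV g h)) hh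
  set F1 := H.V ⊔ Subgroup.zpowers a with hF1
  set F := F1 ⊔ Subgroup.zpowers a' with hF
  have hVF : H.V ≤ F := le_sup_left.trans le_sup_left
  haveI : F.Normal := ⟨fun h hh g => hnorm F hVF g h hh⟩
  have haF : a ∈ F := Subgroup.mem_sup_left (Subgroup.mem_sup_right (Subgroup.mem_zpowers a))
  have ha'F : a' ∈ F := Subgroup.mem_sup_right (Subgroup.mem_zpowers a')
  have hψa' : H.ψ a' ∈ F := by
    have h := fpf_three_norm H.ψ H.psi_three H.fpf a
    have e : H.ψ a' = (a * a')⁻¹ := eq_inv_of_mul_eq_one_right h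
    rw [e]; exact inv_mem (mul_mem haF ha'F)
  have hFψ : ∀ x ∈ F, H.ψ x ∈ F := by
    have : F ≤ F.comap H.ψ.toMonoidHom := sup_le (sup_le (fun x hx => hVF (hψV x hx))
      (Subgroup.zpowers_le.2 ha'F)) (Subgroup.zpowers_le.2 hψa')
    exact fun x hx => this hx
  have c1 : Nat.card F1 ≤ 8 := by
    refine (card_sup_zpowers_le H.V (hV a) (fun h hh => hnorm H.V le_rfl a h hh)).trans ?_
    rw [H.card_V]
  have c2 : Nat.card F ≤ 16 := by
    refine (card_sup_zpowers_le F1 (le_sup_left (a := H.V) (hV a'))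
      (fun h hh => hnorm F1 le_sup_left a' h hh)).trans ?_
    omega
  obtain ⟨b0, -, hb0⟩ := exists_notMem_of_card_lt (H := F) (K := ⊤)
    (by rw [Subgroup.card_top, hcard]; omega)
  have hout : ∀ x, x ∉ F → H.ψ x ∉ F := fun x hx h => hx (by
    have := hFψ _ (hFψ _ h)
    rwa [H.psi_three] at this)
  -- choose `b` with the same square as `a`
  have horb : ∀ s : T, s ∈ H.V → s ≠ 1 → s = u ∨ s = H.ψ u ∨ s = H.ψ (H.ψ u) := by
    intro s hs hs1
    rcases H.cover u (hV a) with e | e | e | e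
    · exact absurd e hu1
    all_goals
      rcases H.cover s hs with f | f | f | f
      · exact absurd f hs1
      all_goals
        rw [e, f]
        simp [H.psi_three_z]
  obtain ⟨b, hbF, hb2⟩ : ∃ b, b ∉ F ∧ b * b = u := by
    rcases horb _ (hV b0) (fun e => hb0 (hVF e)) with e | e | e
    · exact ⟨b0, hb0, e⟩
    · exact ⟨H.ψ (H.ψ b0), hout _ (hout _ hb0), by rw [← map_mul, ← map_mul, e, H.psi_three]⟩
    · exact ⟨H.ψ b0, hout _ hb0, by rw [← map_mul, e, H.psi_three]⟩
  set d := ⁅b, a⁆ with hd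
  have hsymm : ∀ p q : T, ⁅p, q⁆ = ⁅q, p⁆ := fun p q => by
    rw [← commutatorElement_inv q p]; exact inv_eq_of_mul_eq_one_right (hcV q p)
  have hsq : ∀ y, (a * y) * (a * y) = u * (y * y) * ⁅y, a⁆ := fun y => by
    rw [mul_sq_of_commute (H.class_two y a a) (H.class_two y a _)]
  have hnotV : ∀ y, y ∉ F → (a * y) * (a * y) ≠ 1 := fun y hy e => hy (by
    have := mul_mem (inv_mem haF) (hVF (show a * y ∈ H.V from e))
    rwa [inv_mul_cancel_left] at this)
  have hd1 : d ≠ 1 := fun e => hnotV b hbF (by rw [hsq, hb2, ← hd, e, mul_one, hu]; exact hV a)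
  have hdu : d ≠ u := by
    intro e
    refine hnotV _ (hout _ (hout _ hbF)) ?_
    rw [hsq, ← map_mul, ← map_mul, hb2, hsymm, H.comm_psi hc, H.comm_psi hc, hsymm a b, ← hd, e,
      H.psi_three]
    rw [mul_assoc, ((H.central _ (H.psi_sq (H.psi_sq (hV a)))) _).eq, ← mul_assoc]
    exact fpf_three_norm H.ψ H.psi_three H.fpf u
  -- normalise the automorphism
  obtain ⟨K, hKd, hKout⟩ : ∃ K : HigData T, d = K.ψ u ∧ ∀ F' : Subgroup T, (∀ x ∈ F', H.ψ x ∈ F') →
      ∀ x ∈ F', K.ψ x ∈ F' := by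
    rcases horb d (hcV b a) hd1 with e | e | e
    · exact absurd e hdu
    · exact ⟨H, e, fun F' h => h⟩
    · exact ⟨H.sqData, e, fun F' h x hx => h _ (h _ hx)⟩
  have hKc : Subgroup.center T = K.V := hc.trans (SetLike.ext fun x => Iff.rfl)
  have hKsymm : ∀ p q, ⁅p, K.ψ q⁆ = K.ψ (K.ψ ⁅p, q⁆) := K.comm_psi hKc
  have hprod : ∀ w ∈ H.V, w * K.ψ w = K.ψ (K.ψ w) := fun w hw => by
    have h := fpf_three_norm K.ψ K.psi_three K.fpf w
    rw [eq_inv_of_mul_eq_one_left h]
    exact inv_eq_of_mul_eq_one_right (K.psi_sq (K.psi_sq hw))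
  have hu'c : ∀ g, Commute (K.ψ u) g := H.central _ (K.psi_sq (hV a))
  have hba' : ⁅b, K.ψ a⁆ = u := by
    rw [hKsymm, ← hd, hKd, K.psi_three]
  have hb'a : ⁅K.ψ b, a⁆ = u := by
    rw [hsymm, hKsymm, hsymm a b, ← hd, hKd, K.psi_three]
  have hb'a' : ⁅K.ψ b, K.ψ a⁆ = u * K.ψ u := by
    rw [← map_commutatorElement, ← hd, hKd, hprod u (hV a)]
  set Fk := H.V ⊔ Subgroup.zpowers a ⊔ Subgroup.zpowers (K.ψ a) with hFk
  have hKaF : K.ψ a ∈ F := hKout F hFψ a haF
  have hFkF : Fk ≤ F := sup_le le_sup_left (Subgroup.zpowers_le.2 hKaF)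
  have hVk : H.V ≤ Fk := le_sup_left.trans le_sup_left
  set G1 := Fk ⊔ Subgroup.zpowers b with hG1
  set G2 := G1 ⊔ Subgroup.zpowers (K.ψ b) with hG2
  have k0 : 8 ≤ Nat.card F1 := by
    have := two_mul_card_le (T := T) (lt_of_le_of_ne (le_sup_left : H.V ≤ F1)
      fun e => ha (e ▸ Subgroup.mem_sup_right (Subgroup.mem_zpowers a)))
    rw [H.card_V] at this; exact this
  have hKa : K.ψ a ∉ F1 := by
    intro h
    rcases mem_sup_zpowers H.V (hV a) (fun g hg => hnorm H.V le_rfl a g hg) h with h' | h'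
    · refine ha ?_
      have := hKout H.V hψV _ (hKout H.V hψV _ h')
      rwa [K.psi_three] at this
    · haveI : H.V.Normal := ⟨fun h hh g => hnorm H.V le_rfl g h hh⟩
      exact ha (K.mem_of_inv_mul_mem (hKout H.V hψV) h')
  have k1 : 16 ≤ Nat.card Fk := by
    have : 2 * Nat.card F1 ≤ Nat.card Fk := two_mul_card_le (T := T) (lt_of_le_of_ne (le_sup_left : F1 ≤ Fk)
      fun e => hKa (e ▸ Subgroup.mem_sup_right (Subgroup.mem_zpowers (K.ψ a))))
    omega
  have k2 : 32 ≤ Nat.card G1 := by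
    have : 2 * Nat.card Fk ≤ Nat.card G1 := two_mul_card_le (T := T) (lt_of_le_of_ne (le_sup_left : Fk ≤ G1)
      fun e => hbF (hFkF (e ▸ Subgroup.mem_sup_right (Subgroup.mem_zpowers b))))
    omega
  have hFeq : Fk = F := Subgroup.eq_of_le_of_card_ge hFkF (by omega)
  have hKb : K.ψ b ∉ G1 := by
    intro h
    have hbb : b * b ∈ Fk := hVk (hV b)
    rcases mem_sup_zpowers Fk hbb (fun g hg => hnorm Fk hVk b g hg) h with h' | h'
    · refine hbF ?_
      have := hKout F hFψ _ (hKout F hFψ _ (hFkF h'))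
      rwa [K.psi_three] at this
    · exact hbF (K.mem_of_inv_mul_mem (hKout F hFψ) (hFkF h'))
  have k3 : 64 ≤ Nat.card G2 := by
    have : 2 * Nat.card G1 ≤ Nat.card G2 := two_mul_card_le (T := T) (lt_of_le_of_ne (le_sup_left : G1 ≤ G2)
      fun e => hKb (e ▸ Subgroup.mem_sup_right (Subgroup.mem_zpowers (K.ψ b))))
    omega
  have htop : G2 = ⊤ := Subgroup.eq_top_of_le_card _ (by omega)
  refine ⟨
    { a := a, a' := K.ψ a, b := b, b' := K.ψ b, u := u, u' := K.ψ u
      u_sq := hV a, u'_sq := K.psi_sq (hV a)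
      u_central := H.central _ (hV a), u'_central := hu'c
      a_sq := rfl, a'_sq := (map_mul _ _ _).symm, b_sq := hb2
      b'_sq := by rw [← map_mul, hb2]
      a_a' := commutatorElement_eq_one_iff_commute.2 (fpf_three_commute K.ψ K.psi_three K.fpf a).symm
      b_b' := commutatorElement_eq_one_iff_commute.2 (fpf_three_commute K.ψ K.psi_three K.fpf b).symm
      b_a := hKd, b_a' := hba', b'_a := hb'a, b'_a' := hb'a'
      card_eq := hcard, gen := ?_ }⟩
  set S := Subgroup.closure ({a, K.ψ a, b, K.ψ b} : Set T) with hS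
  have m1 : a ∈ S := Subgroup.subset_closure (by simp)
  have m2 : K.ψ a ∈ S := Subgroup.subset_closure (by simp)
  have m3 : b ∈ S := Subgroup.subset_closure (by simp)
  have m4 : K.ψ b ∈ S := Subgroup.subset_closure (by simp)
  have mu : u ∈ S := mul_mem m1 m1
  have mu' : K.ψ u ∈ S := by rw [hu, map_mul]; exact mul_mem m2 m2
  have hVS : H.V ≤ S := by
    intro s hs
    by_cases hs1 : s = 1
    · rw [hs1]; exact one_mem _
    have e2 : K.ψ (K.ψ u) ∈ S := by rw [← hprod u (hV a)]; exact mul_mem mu mu'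
    rcases H.cover s hs with e | e | e | e
    · exact absurd e hs1
    all_goals
      have hsK : s = u ∨ s = K.ψ u ∨ s = K.ψ (K.ψ u) := by
        rcases K.cover s hs with f | f | f | f
        · exact absurd f hs1
        all_goals
          rcases K.cover u (hV a) with g | g | g | g
          · exact absurd g hu1
          all_goals
            rw [f, g]
            simp [K.psi_three_z]
      rcases hsK with rfl | rfl | rfl
      exacts [mu, mu', e2]
  rw [eq_top_iff, ← htop]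
  exact sup_le (sup_le (sup_le (sup_le hVS (Subgroup.zpowers_le.2 m1))
    (Subgroup.zpowers_le.2 m2)) (Subgroup.zpowers_le.2 m3)) (Subgroup.zpowers_le.2 m4)

end HigData

end CfsgLib.Invol
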