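import Cfsg.Agent.Lib.Transfer.Extraspecial
import Cfsg.Agent.Lib.Invol.HigmanTwo

/-!
The five singular points of an extraspecial group of order 32 of minus type.
-/

set_option autoImplicit false
set_option linter.style.haveILetI false
set_option linter.unusedSectionVars false

namespace CfsgLib.Invol.EsMinus

open Subgroup
open scoped commutatorElement

variable {P : Type*} [Group P]

/-- four involutions with pairwise commutator `z` -/
def IsFrame (z : P) (g : Fin 4 → P) : Prop :=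
  (∀ i, g i * g i = 1) ∧ ∀ i j, i ≠ j → ⁅g i, g j⁆ = z

theorem setting [Finite P] (hex : Cfsg.IsExtraspecial 2 P) :
    ∃ z : P, z ≠ 1 ∧ z * z = 1 ∧ center P = zpowers z ∧ (∀ w ∈ center P, w = 1 ∨ w = z) ∧
      (∀ g, Commute z g) ∧ (∀ x y : P, ⁅x, y⁆ = 1 ∨ ⁅x, y⁆ = z) ∧ (∀ x : P, x * x = 1 ∨ x * x = z) := by
  haveI : Fact (Nat.Prime 2) := ⟨Nat.prime_two⟩
  obtain ⟨⟨z, hz⟩, hz1⟩ := exists_prime_orderOf_dvd_card' (G := center P) 2 (by rw [hex.2])
  rw [orderOf_mk] at hz1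
  have hz0 : z ≠ 1 := fun e => by rw [e, orderOf_one] at hz1; omega
  have hzz : z * z = 1 := by rw [← pow_two, ← hz1, pow_orderOf_eq_one]
  have hc := CfsgLib.Transfer.extraspecial_center_eq_zpowers hex hz hz0
  have hall : ∀ w ∈ center P, w = 1 ∨ w = z := by
    intro w hw
    rw [hc] at hw
    obtain ⟨i, rfl⟩ := hw
    rcases Int.even_or_odd' i with ⟨l, rfl | rfl⟩
    · exact Or.inl (by show z ^ (2 * l) = 1; rw [zpow_mul, zpow_two, hzz, one_zpow])
    · exact Or.inr (by show z ^ (2 * l + 1) = z; rw [zpow_add, zpow_mul, zpow_two, hzz, one_zpow, one_mul, zpow_one])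
  refine ⟨z, hz0, hzz, hc, hall, fun g => (mem_center_iff.1 hz g).symm,
    fun x y => hall _ (CfsgLib.Transfer.special_commutatorElement_mem_center hex.1 x y), fun x => hall _ ?_⟩
  rw [← hex.1.2.1, ← pow_two]
  exact CfsgLib.Transfer.pow_mem_frattini hex.1.1 x

variable {z : P}

section Frames
variable (hzc : ∀ g, Commute z g) (hzz : z * z = 1) (hz1 : z ≠ 1)
  (hcom : ∀ x y : P, ⁅x, y⁆ = 1 ∨ ⁅x, y⁆ = z)
include hzc hzz hz1 hcom

theorem comm_mul_left (x x' y : P) : ⁅x * x', y⁆ = ⁅x, y⁆ * ⁅x', y⁆ :=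
  CfsgLib.Invol.commutator_mul_left_of_central fun g => by
    rcases hcom x' y with e | e <;> rw [e]
    exacts [Commute.one_left g, hzc g]

theorem comm_mul_right (x y y' : P) : ⁅x, y * y'⁆ = ⁅x, y⁆ * ⁅x, y'⁆ :=
  CfsgLib.Invol.commutator_mul_right_of_central fun g => by
    rcases hcom x y' with e | e <;> rw [e]
    exacts [Commute.one_left g, hzc g]

theorem comm_symm (x y : P) : ⁅x, y⁆ = ⁅y, x⁆ := by
  rw [← commutatorElement_inv]
  rcases hcom y x with e | e <;> rw [e]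
  exacts [inv_one, inv_eq_of_mul_eq_one_right hzz]

theorem sq_mul (x y : P) : (x * y) * (x * y) = x * x * (y * y) * ⁅y, x⁆ := by
  have h : ∀ g, Commute ⁅y, x⁆ g := fun g => by
    rcases hcom y x with e | e <;> rw [e]
    exacts [Commute.one_left g, hzc g]
  exact CfsgLib.Invol.mul_sq_of_commute (h x) (h _)

theorem self_comm (x : P) : ⁅x, x⁆ = 1 := commutatorElement_eq_one_iff_mul_comm.2 rfl

theorem z_comm (x : P) : ⁅z, x⁆ = 1 := commutatorElement_eq_one_iff_commute.2 (hzc x)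

/-- the frame is independent modulo the centre -/
theorem frame_closure [Finite P] (h32 : Nat.card P = 32) {g : Fin 4 → P} (hg : IsFrame z g) :
    closure ({z, g 0, g 1, g 2, g 3} : Set P) = ⊤ := by
  obtain ⟨hi, hp⟩ := hg
  have hn : ∀ (S : Subgroup P), z ∈ S → ∀ a x, x ∈ S → a * x * a⁻¹ ∈ S := by
    intro S hzS a x hx
    have e : a * x * a⁻¹ = ⁅a, x⁆ * x := by rw [commutatorElement_def]; group
    rw [e]
    refine mul_mem ?_ hx
    rcases hcom a x with e' | e' <;> rw [e']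
    exacts [one_mem _, hzS]
  set S0 := zpowers z
  set S1 := S0 ⊔ zpowers (g 0)
  set S2 := S1 ⊔ zpowers (g 1)
  set S3 := S2 ⊔ zpowers (g 2)
  set S4 := S3 ⊔ zpowers (g 3)
  have z0 : z ∈ S0 := mem_zpowers z
  have z1 : z ∈ S1 := mem_sup_left z0
  have z2 : z ∈ S2 := mem_sup_left z1
  have hS0 : ∀ w ∈ S0, ∀ y : P, ⁅w, y⁆ = 1 := by
    rintro w ⟨i, rfl⟩ y
    exact commutatorElement_eq_one_iff_commute.2 ((hzc y).zpow_left i)
  have n1 : g 0 ∉ S0 := fun h => hz1 (by rw [← hp 0 1 (by decide), hS0 _ h])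
  have hS1 : ∀ w ∈ S1, ⁅w, g 0⁆ = 1 := by
    intro w hw
    rcases CfsgLib.Invol.mem_sup_zpowers S0 (by rw [hi 0]; exact one_mem _) (hn S0 z0 _) hw with h | h
    · exact hS0 _ h _
    · rw [show w = g 0 * ((g 0)⁻¹ * w) by group, comm_mul_left hzc hzz hz1 hcom, hS0 _ h, mul_one,
        self_comm hzc hzz hz1 hcom]
  have n2 : g 1 ∉ S1 := fun h => hz1 (by rw [← hp 1 0 (by decide), hS1 _ h])
  have n3 : g 2 ∉ S2 := by
    intro h
    rcases CfsgLib.Invol.mem_sup_zpowers S1 (by rw [hi 1]; exact one_mem _) (hn S1 z1 _) h with h' | h'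
    · exact hz1 (by rw [← hp 2 0 (by decide), hS1 _ h'])
    rcases CfsgLib.Invol.mem_sup_zpowers S0 (by rw [hi 0]; exact one_mem _) (hn S0 z0 _) h' with h'' | h''
    · have e : ⁅g 2, g 1⁆ = 1 := by
        rw [show g 2 = g 1 * ((g 1)⁻¹ * g 2) by group, comm_mul_left hzc hzz hz1 hcom, hS0 _ h'', mul_one,
          self_comm hzc hzz hz1 hcom]
      exact hz1 (by rw [← hp 2 1 (by decide), e])
    · set w := (g 0)⁻¹ * ((g 1)⁻¹ * g 2) with hw
      have e : g 2 = g 1 * g 0 * w := by rw [hw]; group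
      have hwc : ∀ y : P, ⁅w, y⁆ = 1 := hS0 _ h''
      have hw2 : w * w = 1 := by
        obtain ⟨i, hi'⟩ := h''
        simp only at hi'
        rw [← hi', ← (Commute.refl z).mul_zpow, hzz, one_zpow]
      have := hi 2
      rw [e, sq_mul hzc hzz hz1 hcom, sq_mul hzc hzz hz1 hcom, hi 1, hi 0, hw2, hwc, hp 0 1 (by decide),
        one_mul, one_mul, mul_one, mul_one] at this
      exact hz1 this
  have n4 : g 3 ∉ S3 := by
    intro h
    let T : Subgroup P :=
      { carrier := {x | ⁅x, g 0⁆ * ⁅x, g 1⁆ * ⁅x, g 2⁆ = 1}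
        one_mem' := by simp
        mul_mem' := fun {a b} ha hb => by
          show ⁅a * b, g 0⁆ * ⁅a * b, g 1⁆ * ⁅a * b, g 2⁆ = 1
          simp only [comm_mul_left hzc hzz hz1 hcom]
          have hc : ∀ u v y : P, Commute ⁅u, v⁆ y := fun u v y => by
            rcases hcom u v with e | e <;> rw [e]
            exacts [Commute.one_left y, hzc y]
          rw [(hc b (g 0) _).mul_mul_mul_comm, ((hc b (g 0) _).mul_left (hc b (g 1) _)).mul_mul_mul_comm,
            show ⁅a, g 0⁆ * ⁅a, g 1⁆ * ⁅a, g 2⁆ = 1 from ha,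
            show ⁅b, g 0⁆ * ⁅b, g 1⁆ * ⁅b, g 2⁆ = 1 from hb, one_mul]
        inv_mem' := fun {a} ha => by
          show ⁅a⁻¹, g 0⁆ * ⁅a⁻¹, g 1⁆ * ⁅a⁻¹, g 2⁆ = 1
          have h' : ∀ y, ⁅a⁻¹, y⁆ = ⁅a, y⁆ := fun y => by
            have e := comm_mul_left hzc hzz hz1 hcom a⁻¹ a y
            rw [inv_mul_cancel, commutatorElement_one_left] at e
            rw [eq_inv_of_mul_eq_one_left e.symm, commutatorElement_inv, comm_symm hzc hzz hz1 hcom]
          simp only [h']; exact ha }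
    have hT : S3 ≤ T := by
      refine sup_le (sup_le (sup_le (zpowers_le.2 ?_) (zpowers_le.2 ?_)) (zpowers_le.2 ?_)) (zpowers_le.2 ?_)
      · show ⁅z, g 0⁆ * ⁅z, g 1⁆ * ⁅z, g 2⁆ = 1
        simp [z_comm hzc hzz hz1 hcom]
      · show ⁅g 0, g 0⁆ * ⁅g 0, g 1⁆ * ⁅g 0, g 2⁆ = 1
        rw [self_comm hzc hzz hz1 hcom, hp 0 1 (by decide), hp 0 2 (by decide), one_mul, hzz]
      · show ⁅g 1, g 0⁆ * ⁅g 1, g 1⁆ * ⁅g 1, g 2⁆ = 1
        rw [self_comm hzc hzz hz1 hcom, hp 1 0 (by decide), hp 1 2 (by decide), mul_one, hzz]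
      · show ⁅g 2, g 0⁆ * ⁅g 2, g 1⁆ * ⁅g 2, g 2⁆ = 1
        rw [self_comm hzc hzz hz1 hcom, hp 2 1 (by decide), hp 2 0 (by decide), mul_one, hzz]
    have h' : ⁅g 3, g 0⁆ * ⁅g 3, g 1⁆ * ⁅g 3, g 2⁆ = 1 := hT h
    rw [hp 3 0 (by decide), hp 3 1 (by decide), hp 3 2 (by decide), hzz, one_mul] at h'
    exact hz1 h'
  have hz2 : orderOf z = 2 := orderOf_eq_prime (by rw [pow_two]; exact hzz) hz1
  have c0 : Nat.card S0 = 2 := by rw [Nat.card_zpowers, hz2]
  have step : ∀ (S : Subgroup P) (y : P), y ∉ S → 2 * Nat.card S ≤ Nat.card (S ⊔ zpowers y : Subgroup P) :=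
    fun S y hy => CfsgLib.Invol.two_mul_card_le (lt_of_le_of_ne le_sup_left
      fun e => hy (e ▸ mem_sup_right (mem_zpowers y)))
  have c1 : 4 ≤ Nat.card S1 := by have := step S0 _ n1; rw [c0] at this; exact this
  have c2 : 8 ≤ Nat.card S2 := le_trans (by omega) (step S1 _ n2)
  have c3 : 16 ≤ Nat.card S3 := le_trans (by omega) (step S2 _ n3)
  have c4 : 32 ≤ Nat.card S4 := le_trans (by omega) (step S3 _ n4)
  refine eq_top_iff.2 ((eq_top_of_le_card S4 (by omega)).ge.trans ?_)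
  refine sup_le (sup_le (sup_le (sup_le ?_ ?_) ?_) ?_) ?_ <;>
    exact zpowers_le.2 (Subgroup.subset_closure (by simp))

/-- two frames differ by an automorphism -/
theorem frame_aut [Finite P] (h32 : Nat.card P = 32) {f g : Fin 4 → P} (hf : IsFrame z f) (hg : IsFrame z g) :
    ∃ φ : MulAut P, φ z = z ∧ ∀ i, φ (f i) = g i := by
  let p : P × P := (z, z)
  let A : Fin 4 → P × P := fun i => (f i, g i)
  set S0 := zpowers p
  set S1 := S0 ⊔ zpowers (A 0)
  set S2 := S1 ⊔ zpowers (A 1)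
  set S3 := S2 ⊔ zpowers (A 2)
  set S4 := S3 ⊔ zpowers (A 3)
  have p0 : p ∈ S0 := mem_zpowers p
  have hA2 : ∀ i, A i * A i = 1 := fun i => Prod.ext (hf.1 i) (hg.1 i)
  have hAc : ∀ i j, i ≠ j → ⁅A i, A j⁆ = p := fun i j h => Prod.ext (hf.2 i j h) (hg.2 i j h)
  have hpc : ∀ w : P × P, Commute p w := fun w => Prod.ext (hzc w.1).eq (hzc w.2).eq
  have hn0 : ∀ w, S0 ≤ S0.comap (MulAut.conj w).toMonoidHom := fun w =>
    zpowers_le.2 (show w * p * w⁻¹ ∈ S0 by rw [← (hpc w).eq, mul_inv_cancel_right]; exact p0)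
  have hconj : ∀ (S : Subgroup (P × P)), p ∈ S → ∀ i j, i ≠ j → A j ∈ S → A i * A j * (A i)⁻¹ ∈ S := by
    intro S hpS i j hij hj
    have e : A i * A j * (A i)⁻¹ = ⁅A i, A j⁆ * A j := by rw [commutatorElement_def]; group
    rw [e, hAc i j hij]; exact mul_mem hpS hj
  have m1 : A 0 ∈ S1 := mem_sup_right (mem_zpowers _)
  have m2 : A 1 ∈ S2 := mem_sup_right (mem_zpowers _)
  have m3 : A 2 ∈ S3 := mem_sup_right (mem_zpowers _)
  have p1 : p ∈ S1 := mem_sup_left p0
  have p2 : p ∈ S2 := mem_sup_left p1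
  have p3 : p ∈ S3 := mem_sup_left p2
  have hp2 : orderOf p ≤ 2 := Nat.le_of_dvd two_pos (orderOf_dvd_of_pow_eq_one (by
    rw [pow_two]; exact Prod.ext hzz hzz))
  have c0 : Nat.card S0 ≤ 2 := by rw [Nat.card_zpowers]; exact hp2
  have c1 : Nat.card S1 ≤ 4 := by
    refine (CfsgLib.Invol.card_sup_zpowers_le S0 (by rw [hA2]; exact one_mem _) fun h hh => hn0 _ hh).trans ?_
    omega
  have n1 : S1 ≤ S1.comap (MulAut.conj (A 1)).toMonoidHom :=
    sup_le ((hn0 _).trans (comap_mono le_sup_left)) (zpowers_le.2 (hconj S1 p1 1 0 (by decide) m1))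
  have c2 : Nat.card S2 ≤ 8 := by
    refine (CfsgLib.Invol.card_sup_zpowers_le S1 (by rw [hA2]; exact one_mem _) fun h hh => n1 hh).trans ?_
    omega
  have n2 : S2 ≤ S2.comap (MulAut.conj (A 2)).toMonoidHom :=
    sup_le (sup_le ((hn0 _).trans (comap_mono (le_sup_left.trans le_sup_left)))
      (zpowers_le.2 (hconj S2 p2 2 0 (by decide) (mem_sup_left m1))))
      (zpowers_le.2 (hconj S2 p2 2 1 (by decide) m2))
  have c3 : Nat.card S3 ≤ 16 := by
    refine (CfsgLib.Invol.card_sup_zpowers_le S2 (by rw [hA2]; exact one_mem _) fun h hh => n2 hh).trans ?_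
    omega
  have n3 : S3 ≤ S3.comap (MulAut.conj (A 3)).toMonoidHom :=
    sup_le (sup_le (sup_le ((hn0 _).trans (comap_mono (le_sup_left.trans (le_sup_left.trans le_sup_left))))
      (zpowers_le.2 (hconj S3 p3 3 0 (by decide) (mem_sup_left (mem_sup_left m1)))))
      (zpowers_le.2 (hconj S3 p3 3 1 (by decide) (mem_sup_left m2))))
      (zpowers_le.2 (hconj S3 p3 3 2 (by decide) m3))
  have c4 : Nat.card S4 ≤ 32 := by
    refine (CfsgLib.Invol.card_sup_zpowers_le S3 (by rw [hA2]; exact one_mem _) fun h hh => n3 hh).trans ?_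
    omega
  have hmem : ∀ i, A i ∈ S4 := by
    intro i
    fin_cases i
    exacts [mem_sup_left (mem_sup_left (mem_sup_left m1)), mem_sup_left (mem_sup_left m2), mem_sup_left m3,
      mem_sup_right (mem_zpowers _)]
  let π₁ : S4 →* P := (MonoidHom.fst P P).comp S4.subtype
  let π₂ : S4 →* P := (MonoidHom.snd P P).comp S4.subtype
  have h1 : Function.Surjective π₁ := by
    rw [← MonoidHom.range_eq_top, eq_top_iff, ← frame_closure hzc hzz hz1 hcom h32 hf, closure_le]
    rintro t (rfl | rfl | rfl | rfl | rfl)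
    exacts [⟨⟨p, mem_sup_left p3⟩, rfl⟩, ⟨⟨A 0, hmem 0⟩, rfl⟩, ⟨⟨A 1, hmem 1⟩, rfl⟩, ⟨⟨A 2, hmem 2⟩, rfl⟩,
      ⟨⟨A 3, hmem 3⟩, rfl⟩]
  have h2 : Function.Surjective π₂ := by
    rw [← MonoidHom.range_eq_top, eq_top_iff, ← frame_closure hzc hzz hz1 hcom h32 hg, closure_le]
    rintro t (rfl | rfl | rfl | rfl | rfl)
    exacts [⟨⟨p, mem_sup_left p3⟩, rfl⟩, ⟨⟨A 0, hmem 0⟩, rfl⟩, ⟨⟨A 1, hmem 1⟩, rfl⟩, ⟨⟨A 2, hmem 2⟩, rfl⟩,
      ⟨⟨A 3, hmem 3⟩, rfl⟩]
  have b1 : Function.Bijective π₁ := h1.bijective_of_nat_card_le (by rw [h32]; exact c4)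
  have b2 : Function.Bijective π₂ := h2.bijective_of_nat_card_le (by rw [h32]; exact c4)
  refine ⟨(MulEquiv.ofBijective π₁ b1).symm.trans (MulEquiv.ofBijective π₂ b2), ?_, fun i => ?_⟩
  · show π₂ ((MulEquiv.ofBijective π₁ b1).symm z) = z
    rw [show (MulEquiv.ofBijective π₁ b1).symm z = ⟨p, mem_sup_left p3⟩ from
      (MulEquiv.symm_apply_eq _).2 rfl]
    rfl
  · show π₂ ((MulEquiv.ofBijective π₁ b1).symm (f i)) = g i
    rw [show (MulEquiv.ofBijective π₁ b1).symm (f i) = ⟨A i, hmem i⟩ from (MulEquiv.symm_apply_eq _).2 rfl]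
    rfl

/-- five singular points -/
theorem exists_five [Finite P] (h32 : Nat.card P = 32) (hsq : ∀ x : P, x * x = 1 ∨ x * x = z)
    (hE8 : ∀ A : Subgroup P, Cfsg.IsElementaryAbelian 2 A → Nat.card A ≤ 4)
    (hnc : ∀ x : P, x ≠ 1 → x ≠ z → ∃ y, ⁅x, y⁆ = z) :
    ∃ f : Fin 5 → P, (∀ i, f i * f i = 1) ∧ (∀ i j, i ≠ j → ⁅f i, f j⁆ = z) ∧
      ∀ x : P, x * x = 1 → x ≠ 1 → x ≠ z → ∃ i, x = f i ∨ x = f i * z := by
  classical
  have hz0 : z⁻¹ = z := inv_eq_of_mul_eq_one_right hzz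
  -- commuting involutions
  have hcomm : ∀ x y : P, x * x = 1 → y * y = 1 → x ≠ 1 → x ≠ z → y ≠ 1 → y ≠ z → ⁅x, y⁆ = 1 →
      y = x ∨ y = x * z := by
    intro x y hx hy hx1 hxz hy1 hyz hxy
    by_contra hcon
    push Not at hcon
    set W := closure ({z, x, y} : Set P)
    have hc : Commute x y := commutatorElement_eq_one_iff_commute.1 hxy
    have hWc : IsMulCommutative W := isMulCommutative_closure (by
      rintro p (rfl | rfl | rfl) q (rfl | rfl | rfl)
      exacts [rfl, (hzc _).eq, (hzc _).eq, (hzc _).eq.symm, rfl, hc.eq, (hzc _).eq.symm, hc.eq.symm, rfl])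
    have hW2 : ∀ w ∈ W, w ^ 2 = 1 := by
      intro w hw
      induction hw using Subgroup.closure_induction with
      | mem u hu => rcases hu with rfl | rfl | rfl <;> rw [pow_two] <;> assumption
      | one => exact one_pow 2
      | mul u v hu hv ihu ihv =>
        have huv : Commute u v := congrArg Subtype.val (hWc.is_comm.comm ⟨u, hu⟩ ⟨v, hv⟩)
        rw [huv.mul_pow, ihu, ihv, one_mul]
      | inv u _ ih => rw [inv_pow, ih, inv_one]
    have h4 := hE8 W ⟨hWc, hW2⟩
    have hxz1 : x * z ≠ 1 := fun e => hxz ((eq_inv_of_mul_eq_one_left e).trans hz0)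
    have h5 : ({1, z, x, x * z, y} : Finset P).card = 5 := by
      rw [Finset.card_insert_of_notMem, Finset.card_insert_of_notMem, Finset.card_insert_of_notMem,
        Finset.card_insert_of_notMem, Finset.card_singleton]
      · simp [hcon.2.symm]
      · simp [hcon.1.symm, hz1]
      · simp [hxz.symm, hyz.symm, hx1]
      · simp [hz1.symm, hx1.symm, hy1.symm, hxz1.symm]
    haveI := Fintype.ofFinite W
    have : ({1, z, x, x * z, y} : Finset P).card ≤ Nat.card W := by
      rw [Nat.card_eq_fintype_card, ← Finset.card_univ,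
        ← Finset.card_map (Function.Embedding.subtype (fun u => u ∈ W))]
      refine Finset.card_le_card fun u hu => ?_
      simp only [Finset.mem_map, Finset.mem_univ, true_and]
      refine ⟨⟨u, ?_⟩, rfl⟩
      simp only [Finset.mem_insert, Finset.mem_singleton] at hu
      rcases hu with rfl | rfl | rfl | rfl | rfl
      exacts [one_mem _, Subgroup.subset_closure (by simp), Subgroup.subset_closure (by simp),
        mul_mem (Subgroup.subset_closure (by simp)) (Subgroup.subset_closure (by simp)),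
        Subgroup.subset_closure (by simp)]
    omega
  haveI : Fact (Nat.Prime 2) := ⟨Nat.prime_two⟩
  -- a non-central involution
  obtain ⟨e0, he0, he01, he0z⟩ : ∃ x : P, x * x = 1 ∧ x ≠ 1 ∧ x ≠ z := by
    by_contra hno
    push Not at hno
    obtain ⟨x, -, hx⟩ := CfsgLib.Invol.exists_notMem_of_card_lt (H := zpowers z) (K := ⊤) (by
      rw [Nat.card_zpowers, orderOf_eq_prime (by rw [pow_two]; exact hzz) hz1, card_top, h32]; norm_num)
    have hx1 : x ≠ 1 := fun e => hx (e ▸ one_mem _)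
    have hxz : x ≠ z := fun e => hx (e ▸ mem_zpowers z)
    obtain ⟨y, hy⟩ := hnc x hx1 hxz
    have hne : ∀ w : P, w ∉ zpowers z → w * w = z := fun w hw => (hsq w).resolve_left fun e =>
      hw (hno w e (fun e' => hw (e' ▸ one_mem _)) ▸ mem_zpowers z)
    set S0 := zpowers z
    set S1 := S0 ⊔ zpowers x
    set S2 := S1 ⊔ zpowers y
    have hnrm : ∀ S : Subgroup P, z ∈ S → ∀ a w, w ∈ S → a * w * a⁻¹ ∈ S := by
      intro S hzS a w hw
      have e : a * w * a⁻¹ = ⁅a, w⁆ * w := by rw [commutatorElement_def]; group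
      rw [e]
      refine mul_mem ?_ hw
      rcases hcom a w with e' | e' <;> rw [e']
      exacts [one_mem _, hzS]
    have hsz : ∀ S : Subgroup P, z ∈ S → ∀ w : P, w * w ∈ S := fun S hzS w => by
      rcases hsq w with e | e <;> rw [e]
      exacts [one_mem _, hzS]
    have c0 : Nat.card S0 = 2 := by
      rw [Nat.card_zpowers, orderOf_eq_prime (by rw [pow_two]; exact hzz) hz1]
    have c1 := CfsgLib.Invol.card_sup_zpowers_le S0 (hsz _ (mem_zpowers z) x) (hnrm _ (mem_zpowers z) x)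
    have c2 := CfsgLib.Invol.card_sup_zpowers_le S1 (hsz _ (mem_sup_left (mem_zpowers z)) y)
      (hnrm _ (mem_sup_left (mem_zpowers z)) y)
    obtain ⟨w, -, hw⟩ := CfsgLib.Invol.exists_notMem_of_card_lt (H := S2) (K := ⊤) (by
      rw [card_top, h32]; change Nat.card (S1 ⊔ zpowers y : Subgroup P) < 32
      change Nat.card (S0 ⊔ zpowers x : Subgroup P) ≤ _ at c1
      change Nat.card (S1 ⊔ zpowers y : Subgroup P) ≤ 2 * Nat.card (S0 ⊔ zpowers x : Subgroup P) at c2
      omega)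
    -- a twist of `w` commutes with `x` and `y`
    obtain ⟨s, hs, hsx, hsy⟩ : ∃ s : P, s ∉ S2 ∧ ⁅s, x⁆ = 1 ∧ ⁅s, y⁆ = 1 := by
      have hxS : x ∈ S2 := mem_sup_left (mem_sup_right (mem_zpowers x))
      have hyS : y ∈ S2 := mem_sup_right (mem_zpowers y)
      have hout : ∀ t ∈ S2, w * t ∉ S2 := fun t ht h => hw (by
        have := mul_mem h (inv_mem ht); rwa [mul_inv_cancel_right] at this)
      rcases hcom w x with a | a <;> rcases hcom w y with b | b
      · exact ⟨w, hw, a, b⟩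
      · refine ⟨w * x, hout _ hxS, ?_, ?_⟩
        · rw [comm_mul_left hzc hzz hz1 hcom, a, self_comm hzc hzz hz1 hcom, mul_one]
        · rw [comm_mul_left hzc hzz hz1 hcom, b, hy, hzz]
      · refine ⟨w * y, hout _ hyS, ?_, ?_⟩
        · rw [comm_mul_left hzc hzz hz1 hcom, a, comm_symm hzc hzz hz1 hcom y x, hy, hzz]
        · rw [comm_mul_left hzc hzz hz1 hcom, b, self_comm hzc hzz hz1 hcom, mul_one]
      · refine ⟨w * (x * y), hout _ (mul_mem hxS hyS), ?_, ?_⟩
        · rw [comm_mul_left hzc hzz hz1 hcom, comm_mul_left hzc hzz hz1 hcom, a,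
            self_comm hzc hzz hz1 hcom, comm_symm hzc hzz hz1 hcom y x, hy, one_mul, hzz]
        · rw [comm_mul_left hzc hzz hz1 hcom, comm_mul_left hzc hzz hz1 hcom, b, hy,
            self_comm hzc hzz hz1 hcom, mul_one, hzz]
    have hzS2 : ∀ t ∈ zpowers z, t ∈ S2 := fun t ht => mem_sup_left (mem_sup_left ht)
    have hs0 : s ∉ zpowers z := fun h => hs (hzS2 _ h)
    have hxs : x * s ∉ zpowers z := fun h => hs (by
      have := mul_mem (inv_mem (mem_sup_left (mem_sup_right (mem_zpowers x)) : x ∈ S2)) (hzS2 _ h)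
      rwa [inv_mul_cancel_left] at this)
    have := hne _ hxs
    rw [sq_mul hzc hzz hz1 hcom, hne _ hx, hne _ hs0, hsx, mul_one, hzz] at this
    exact hz1 this.symm
  obtain ⟨y, hy⟩ := hnc e0 he01 he0z
  obtain ⟨e1, he1, he01c⟩ : ∃ t : P, t * t = 1 ∧ ⁅e0, t⁆ = z := by
    rcases hsq y with e | e
    · exact ⟨y, e, hy⟩
    · refine ⟨e0 * y, ?_, ?_⟩
      · rw [sq_mul hzc hzz hz1 hcom, he0, e, comm_symm hzc hzz hz1 hcom y, hy, one_mul, hzz]
      · rw [comm_mul_right hzc hzz hz1 hcom, self_comm hzc hzz hz1 hcom, hy, one_mul]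
  have he11 : e1 ≠ 1 := fun e => hz1 (by rw [← he01c, e, commutatorElement_one_right])
  have he1z : e1 ≠ z := fun e => hz1 (by rw [← he01c, e, comm_symm hzc hzz hz1 hcom, z_comm hzc hzz hz1 hcom])
  -- the common centraliser
  let C : Subgroup P := centralizer ({e0, e1} : Set P)
  have hCmem : ∀ {c : P}, c ∈ C ↔ ⁅c, e0⁆ = 1 ∧ ⁅c, e1⁆ = 1 := by
    intro c
    rw [mem_centralizer_iff]
    simp only [Set.mem_insert_iff, Set.mem_singleton_iff, forall_eq_or_imp, forall_eq,
      commutatorElement_eq_one_iff_mul_comm]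
    exact and_congr eq_comm eq_comm
  have hzC : z ∈ C := hCmem.2 ⟨z_comm hzc hzz hz1 hcom _, z_comm hzc hzz hz1 hcom _⟩
  have hCsq : ∀ c ∈ C, c ≠ 1 → c ≠ z → c * c = z := by
    intro c hc h1 h2
    refine (hsq c).resolve_left fun e => ?_
    rcases hcomm e0 c he0 e he01 he0z h1 h2 (by rw [comm_symm hzc hzz hz1 hcom]; exact (hCmem.1 hc).1) with h | h
    · exact hz1 (by rw [← he01c, ← h, (hCmem.1 hc).2])
    · refine hz1 ?_
      rw [← he01c, ← (hCmem.1 hc).2, h, comm_mul_left hzc hzz hz1 hcom, z_comm hzc hzz hz1 hcom, mul_one]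
  -- every element is in `⟨e0, e1⟩ C`
  have hsplit : ∀ w : P, ∃ a ∈ closure ({z, e0, e1} : Set P), a * w ∈ C := by
    intro w
    have me0 : e0 ∈ closure ({z, e0, e1} : Set P) := Subgroup.subset_closure (by simp)
    have me1 : e1 ∈ closure ({z, e0, e1} : Set P) := Subgroup.subset_closure (by simp)
    have h10 : ⁅e1, e0⁆ = z := by rw [comm_symm hzc hzz hz1 hcom]; exact he01c
    rcases hcom w e0 with a | a <;> rcases hcom w e1 with b | b
    · exact ⟨1, one_mem _, hCmem.2 (by rw [one_mul]; exact ⟨a, b⟩)⟩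
    · refine ⟨e0, me0, hCmem.2 ⟨?_, ?_⟩⟩ <;> rw [comm_mul_left hzc hzz hz1 hcom]
      · rw [self_comm hzc hzz hz1 hcom, a, one_mul]
      · rw [he01c, b, hzz]
    · refine ⟨e1, me1, hCmem.2 ⟨?_, ?_⟩⟩ <;> rw [comm_mul_left hzc hzz hz1 hcom]
      · rw [h10, a, hzz]
      · rw [self_comm hzc hzz hz1 hcom, b, one_mul]
    · refine ⟨e0 * e1, mul_mem me0 me1, hCmem.2 ⟨?_, ?_⟩⟩ <;>
        rw [comm_mul_left hzc hzz hz1 hcom, comm_mul_left hzc hzz hz1 hcom]
      · rw [self_comm hzc hzz hz1 hcom, h10, a, one_mul, hzz]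
      · rw [self_comm hzc hzz hz1 hcom, he01c, b, mul_one, hzz]
  have hnrm : ∀ S : Subgroup P, z ∈ S → ∀ a w, w ∈ S → a * w * a⁻¹ ∈ S := by
    intro S hzS a w hw
    have e : a * w * a⁻¹ = ⁅a, w⁆ * w := by rw [commutatorElement_def]; group
    rw [e]
    refine mul_mem ?_ hw
    rcases hcom a w with e' | e' <;> rw [e']
    exacts [one_mem _, hzS]
  obtain ⟨c, hc, hc1, hcz, d, hd, hd1, hdz, hcd⟩ : ∃ c ∈ C, c ≠ 1 ∧ c ≠ z ∧ ∃ d ∈ C, d ≠ 1 ∧ d ≠ z ∧ ⁅d, c⁆ = z := by
    -- `C` is larger than `⟨z⟩`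
    have hD : Nat.card (closure ({z, e0, e1} : Set P)) ≤ 8 := by
      have hle : closure ({z, e0, e1} : Set P) ≤ zpowers z ⊔ zpowers e0 ⊔ zpowers e1 := by
        rw [closure_le]
        rintro t (rfl | rfl | rfl)
        exacts [mem_sup_left (mem_sup_left (mem_zpowers _)), mem_sup_left (mem_sup_right (mem_zpowers _)),
          mem_sup_right (mem_zpowers _)]
      refine (card_le_of_le hle).trans ?_
      have c0 : Nat.card (zpowers z) = 2 := by
        rw [Nat.card_zpowers, orderOf_eq_prime (by rw [pow_two]; exact hzz) hz1]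
      have c1 := CfsgLib.Invol.card_sup_zpowers_le (zpowers z) (g := e0) (by rw [he0]; exact one_mem _)
        (hnrm _ (mem_zpowers z) e0)
      have c2 := CfsgLib.Invol.card_sup_zpowers_le (zpowers z ⊔ zpowers e0) (g := e1)
        (by rw [he1]; exact one_mem _) (hnrm _ (mem_sup_left (mem_zpowers z)) e1)
      omega
    obtain ⟨w, -, hw⟩ := CfsgLib.Invol.exists_notMem_of_card_lt (H := closure ({z, e0, e1} : Set P)) (K := ⊤)
      (by rw [card_top, h32]; omega)
    obtain ⟨a, ha, haw⟩ := hsplit w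
    have hnot : a * w ∉ closure ({z, e0, e1} : Set P) := fun h => hw (by
      have := mul_mem (inv_mem ha) h; rwa [inv_mul_cancel_left] at this)
    have hc1 : a * w ≠ 1 := fun e => hnot (e ▸ one_mem _)
    have hcz : a * w ≠ z := fun e => hnot (e ▸ Subgroup.subset_closure (by simp))
    obtain ⟨y', hy'⟩ := hnc _ hc1 hcz
    obtain ⟨a', ha', hay⟩ := hsplit y'
    have hca : ⁅a', a * w⁆ = 1 := by
      rw [comm_symm hzc hzz hz1 hcom]
      clear hay
      induction ha' using Subgroup.closure_induction with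
      | mem u hu =>
        rcases hu with rfl | rfl | rfl
        · rw [comm_symm hzc hzz hz1 hcom]; exact z_comm hzc hzz hz1 hcom _
        · exact (hCmem.1 haw).1
        · exact (hCmem.1 haw).2
      | one => exact commutatorElement_one_right _
      | mul u v _ _ ihu ihv => rw [comm_mul_right hzc hzz hz1 hcom, ihu, ihv, one_mul]
      | inv u _ ih =>
        have e := comm_mul_right hzc hzz hz1 hcom (a * w) u⁻¹ u
        rw [inv_mul_cancel, commutatorElement_one_right, ih, mul_one] at e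
        exact e.symm
    have hd : ⁅a' * y', a * w⁆ = z := by
      rw [comm_mul_left hzc hzz hz1 hcom, hca, one_mul, comm_symm hzc hzz hz1 hcom]; exact hy'
    refine ⟨a * w, haw, hc1, hcz, a' * y', hay, fun e => hz1 ?_, fun e => hz1 ?_, hd⟩
    · rw [← hd, e, commutatorElement_one_left]
    · rw [← hd, e, z_comm hzc hzz hz1 hcom]
  have hcd' : ⁅c, d⁆ = z := by rw [comm_symm hzc hzz hz1 hcom]; exact hcd
  have h10 : ⁅e1, e0⁆ = z := by rw [comm_symm hzc hzz hz1 hcom]; exact he01c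
  have hc0 := hCmem.1 hc
  have hd0 := hCmem.1 hd
  have q01 : e0 * e1 * (e0 * e1) = z := by rw [sq_mul hzc hzz hz1 hcom, he0, he1, h10, one_mul, one_mul]
  have hC12 : ∀ t ∈ C, ⁅t, e0 * e1⁆ = 1 := fun t ht => by
    rw [comm_mul_right hzc hzz hz1 hcom, (hCmem.1 ht).1, (hCmem.1 ht).2, one_mul]
  set e2 := e0 * e1 * c with he2
  set e3 := e0 * e1 * d with he3
  have s2 : e2 * e2 = 1 := by
    rw [he2, sq_mul hzc hzz hz1 hcom, q01, hCsq c hc hc1 hcz, hC12 c hc, mul_one, hzz]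
  have s3 : e3 * e3 = 1 := by
    rw [he3, sq_mul hzc hzz hz1 hcom, q01, hCsq d hd hd1 hdz, hC12 d hd, mul_one, hzz]
  have k20 : ⁅e2, e0⁆ = z := by
    rw [he2, comm_mul_left hzc hzz hz1 hcom, comm_mul_left hzc hzz hz1 hcom, self_comm hzc hzz hz1 hcom,
      h10, hc0.1, one_mul, mul_one]
  have k21 : ⁅e2, e1⁆ = z := by
    rw [he2, comm_mul_left hzc hzz hz1 hcom, comm_mul_left hzc hzz hz1 hcom, self_comm hzc hzz hz1 hcom,
      he01c, hc0.2, mul_one, mul_one]
  have k30 : ⁅e3, e0⁆ = z := by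
    rw [he3, comm_mul_left hzc hzz hz1 hcom, comm_mul_left hzc hzz hz1 hcom, self_comm hzc hzz hz1 hcom,
      h10, hd0.1, one_mul, mul_one]
  have k31 : ⁅e3, e1⁆ = z := by
    rw [he3, comm_mul_left hzc hzz hz1 hcom, comm_mul_left hzc hzz hz1 hcom, self_comm hzc hzz hz1 hcom,
      he01c, hd0.2, mul_one, mul_one]
  have k32 : ⁅e3, e2⁆ = z := by
    have a1 : ⁅e0 * e1, c⁆ = 1 := by rw [comm_symm hzc hzz hz1 hcom]; exact hC12 c hc
    rw [he2, he3, comm_mul_left hzc hzz hz1 hcom (e0 * e1) d,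
      comm_mul_right hzc hzz hz1 hcom (e0 * e1) (e0 * e1) c,
      comm_mul_right hzc hzz hz1 hcom d (e0 * e1) c, self_comm hzc hzz hz1 hcom, a1, hC12 d hd, hcd,
      one_mul, one_mul, one_mul]
  set g : Fin 4 → P := ![e0, e1, e2, e3] with hgdef
  have hg : IsFrame z g := by
    refine ⟨fun i => ?_, fun i j hij => ?_⟩
    · fin_cases i
      exacts [he0, he1, s2, s3]
    · have sy := fun x y => comm_symm hzc hzz hz1 hcom x y
      fin_cases i <;> fin_cases j <;>
        simp only [g] <;> first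
          | exact absurd rfl hij
          | exact he01c
          | exact h10
          | exact k20
          | exact k21
          | exact k30
          | exact k31
          | exact k32
          | exact (sy _ _).trans k20
          | exact (sy _ _).trans k21
          | exact (sy _ _).trans k30
          | exact (sy _ _).trans k31
          | exact (sy _ _).trans k32
  set f4 := g 0 * g 1 * g 2 * g 3 with hf4
  have k4 : ∀ i, ⁅f4, g i⁆ = z := by
    intro i
    rw [hf4, comm_mul_left hzc hzz hz1 hcom, comm_mul_left hzc hzz hz1 hcom, comm_mul_left hzc hzz hz1 hcom]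
    obtain ⟨-, hp⟩ := hg
    fin_cases i <;>
      simp only [self_comm hzc hzz hz1 hcom, hp _ _ (show (0 : Fin 4) ≠ 1 by decide),
        hp _ _ (show (0 : Fin 4) ≠ 2 by decide), hp _ _ (show (0 : Fin 4) ≠ 3 by decide),
        hp _ _ (show (1 : Fin 4) ≠ 0 by decide), hp _ _ (show (1 : Fin 4) ≠ 2 by decide),
        hp _ _ (show (1 : Fin 4) ≠ 3 by decide), hp _ _ (show (2 : Fin 4) ≠ 0 by decide),
        hp _ _ (show (2 : Fin 4) ≠ 1 by decide), hp _ _ (show (2 : Fin 4) ≠ 3 by decide),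
        hp _ _ (show (3 : Fin 4) ≠ 0 by decide), hp _ _ (show (3 : Fin 4) ≠ 1 by decide),
        hp _ _ (show (3 : Fin 4) ≠ 2 by decide), Fin.isValue, Fin.zero_eta, Fin.mk_one, one_mul, mul_one,
        hzz, Fin.reduceFinMk]
  have s4 : f4 * f4 = 1 := by
    obtain ⟨hi, hp⟩ := hg
    rw [hf4, sq_mul hzc hzz hz1 hcom, sq_mul hzc hzz hz1 hcom, sq_mul hzc hzz hz1 hcom, hi, hi, hi, hi,
      comm_mul_right hzc hzz hz1 hcom, comm_mul_right hzc hzz hz1 hcom, comm_mul_right hzc hzz hz1 hcom,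
      hp _ _ (show (1 : Fin 4) ≠ 0 by decide), hp _ _ (show (2 : Fin 4) ≠ 0 by decide),
      hp _ _ (show (2 : Fin 4) ≠ 1 by decide), hp _ _ (show (3 : Fin 4) ≠ 0 by decide),
      hp _ _ (show (3 : Fin 4) ≠ 1 by decide), hp _ _ (show (3 : Fin 4) ≠ 2 by decide)]
    simp [hzz]
  refine ⟨![g 0, g 1, g 2, g 3, f4], fun i => ?_, fun i j hij => ?_, fun x hx hx1 hxz => ?_⟩
  · fin_cases i
    exacts [hg.1 0, hg.1 1, hg.1 2, hg.1 3, s4]
  · have hp := hg.2
    fin_cases i <;> fin_cases j <;>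
      simp only [Fin.zero_eta, Fin.mk_one, Fin.reduceFinMk, Fin.isValue, Matrix.cons_val] <;> first
      | exact absurd rfl hij
      | exact hp _ _ (by decide)
      | exact k4 _
      | exact (comm_symm hzc hzz hz1 hcom _ _).trans (k4 _)
  · by_cases hx0 : ∃ i, ⁅x, g i⁆ = 1
    · obtain ⟨i, hi⟩ := hx0
      have hgi : g i ≠ 1 ∧ g i ≠ z := by
        obtain ⟨j, hj⟩ : ∃ j, j ≠ i := ⟨i + 1, by fin_cases i <;> decide⟩
        refine ⟨fun e => hz1 ?_, fun e => hz1 ?_⟩
        · rw [← hg.2 i j hj.symm, e, commutatorElement_one_left]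
        · rw [← hg.2 i j hj.symm, e, z_comm hzc hzz hz1 hcom]
      have := hcomm (g i) x (hg.1 i) hx hgi.1 hgi.2 hx1 hxz (by rw [comm_symm hzc hzz hz1 hcom]; exact hi)
      fin_cases i
      exacts [⟨0, this⟩, ⟨1, this⟩, ⟨2, this⟩, ⟨3, this⟩]
    · push Not at hx0
      refine ⟨4, ?_⟩
      show x = f4 ∨ x = f4 * z
      have h0 : ∀ i, ⁅x, g i⁆ = z := fun i => (hcom x (g i)).resolve_left (hx0 i)
      have hc' : ⁅f4, x⁆ = 1 := by
        rw [comm_symm hzc hzz hz1 hcom, hf4, comm_mul_right hzc hzz hz1 hcom, comm_mul_right hzc hzz hz1 hcom,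
          comm_mul_right hzc hzz hz1 hcom, h0, h0, h0, h0, hzz, one_mul, hzz]
      refine hcomm f4 x s4 hx (fun e => hz1 ?_) (fun e => hz1 ?_) hx1 hxz hc'
      · rw [← k4 0, e, commutatorElement_one_left]
      · rw [← k4 0, e, z_comm hzc hzz hz1 hcom]

end Frames

/-- The five singular points and the action of the automorphism group on them. -/
theorem exists_points {P : Type*} [Group P] [Finite P] (hex : Cfsg.IsExtraspecial 2 P) (h32 : Nat.card P = 32)
    (hminus : ∀ A : Subgroup P, Cfsg.IsElementaryAbelian 2 A → Nat.card ↥A ≤ 4) :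
    ∃ (z : P) (f : Fin 5 → P) (Act : MulAut P →* Equiv.Perm (Fin 5)),
      z ≠ 1 ∧ z * z = 1 ∧ (∀ g, Commute z g) ∧ (∀ w ∈ center P, w = 1 ∨ w = z) ∧
      (∀ x y : P, ⁅x, y⁆ = 1 ∨ ⁅x, y⁆ = z) ∧ (∀ φ : MulAut P, φ z = z) ∧
      (∀ i, f i * f i = 1) ∧ (∀ i j, i ≠ j → ⁅f i, f j⁆ = z) ∧
      (∀ x : P, x * x = 1 → x ≠ 1 → x ≠ z → ∃ i, x = f i ∨ x = f i * z) ∧
      (∀ φ i, φ (f i) = f (Act φ i) ∨ φ (f i) = f (Act φ i) * z) ∧
      (MulAut.conj : P →* MulAut P).range = Act.ker ∧ Function.Surjective Act ∧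
      Nat.card (MulAut P) = 1920 ∧ Nat.card (MulAut.conj : P →* MulAut P).range = 16 := by
  classical
  haveI : Fact (Nat.Prime 2) := ⟨Nat.prime_two⟩
  obtain ⟨z, hz1, hzz, hZ, hall, hzc, hcom, hsq⟩ := setting hex
  have hnc : ∀ x : P, x ≠ 1 → x ≠ z → ∃ y, ⁅x, y⁆ = z := by
    intro x h1 h2
    by_contra hno
    push Not at hno
    rcases hall x (mem_center_iff.2 fun g =>
      (commutatorElement_eq_one_iff_mul_comm.1 ((hcom x g).resolve_right (hno g))).symm) with e | e
    exacts [h1 e, h2 e]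
  obtain ⟨f, hf2, hfc, hfa⟩ := exists_five hzc hzz hz1 hcom h32 hsq hminus hnc
  have hz0 : z⁻¹ = z := inv_eq_of_mul_eq_one_right hzz
  have hzφ : ∀ φ : MulAut P, φ z = z := fun φ =>
    (hall (φ z) (mem_center_iff.2 fun g => by
      obtain ⟨g, rfl⟩ := φ.surjective g
      rw [← map_mul, ← map_mul, (hzc g).eq])).resolve_left
      fun e => hz1 (φ.injective (e.trans (map_one φ).symm))
  let b : Bool → P := fun s => if s then z else 1
  have hb : ∀ s g, Commute (b s) g := fun s g => by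
    cases s
    exacts [Commute.one_left g, hzc g]
  have hb2 : ∀ s, b s * b s = 1 := fun s => by
    cases s
    exacts [one_mul 1, hzz]
  have hfb : ∀ i s, f i * b s * (f i * b s) = 1 := fun i s => by
    rw [(hb s (f i)).mul_mul_mul_comm, hf2, hb2, one_mul]
  have hfbc : ∀ i j s t, i ≠ j → ⁅f i * b s, f j * b t⁆ = z := fun i j s t h => by
    rw [comm_mul_left hzc hzz hz1 hcom, comm_mul_right hzc hzz hz1 hcom, hfc i j h,
      show ⁅f i, b t⁆ = 1 from commutatorElement_eq_one_iff_commute.2 (hb t _).symm,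
      show ⁅b s, f j * b t⁆ = 1 from commutatorElement_eq_one_iff_commute.2 (hb s _), mul_one, mul_one]
  have hpt : ∀ x : P, x * x = 1 → (∃ y, ⁅x, y⁆ = z) → ∃ i s, x = f i * b s := by
    rintro x hx ⟨y, hy⟩
    obtain ⟨i, h | h⟩ := hfa x hx (fun e => hz1 (by rw [← hy, e, commutatorElement_one_left]))
      (fun e => hz1 (by rw [← hy, e, z_comm hzc hzz hz1 hcom]))
    exacts [⟨i, false, h.trans (mul_one _).symm⟩, ⟨i, true, h⟩]
  have huniq : ∀ i j s t, f i * b s = f j * b t → i = j ∧ s = t := by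
    intro i j s t h
    have hij : i = j := by
      by_contra hne
      have := hfbc i j s t hne
      rw [h, self_comm hzc hzz hz1 hcom] at this
      exact hz1 this.symm
    subst hij
    refine ⟨rfl, ?_⟩
    have h' := mul_left_cancel h
    cases s <;> cases t <;> simp only [b, if_true, Bool.false_eq_true, if_false] at h' ⊢ <;>
      first | rfl | exact absurd h' hz1 | exact absurd h'.symm hz1
  choose π δ hπ using fun (φ : MulAut P) (i : Fin 5) => hpt (φ (f i)) (by rw [← map_mul, hf2, map_one]) (by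
    obtain ⟨j, hj⟩ : ∃ j, i ≠ j := ⟨i + 1, by fin_cases i <;> decide⟩
    exact ⟨φ (f j), by rw [← map_commutatorElement, hfc i j hj, hzφ]⟩)
  have hπinj : ∀ φ, Function.Injective (π φ) := by
    intro φ i j h
    by_contra hne
    have := congrArg φ (hfc i j hne)
    rw [map_commutatorElement, hπ, hπ, hzφ, h, comm_mul_left hzc hzz hz1 hcom,
      comm_mul_right hzc hzz hz1 hcom, self_comm hzc hzz hz1 hcom,
      show ⁅f (π φ j), b (δ φ j)⁆ = 1 from commutatorElement_eq_one_iff_commute.2 (hb _ _).symm,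
      show ⁅b (δ φ i), f (π φ j) * b (δ φ j)⁆ = 1 from commutatorElement_eq_one_iff_commute.2 (hb _ _),
      one_mul, one_mul] at this
    exact hz1 this.symm
  have hπmul : ∀ φ ψ i, π (φ * ψ) i = π φ (π ψ i) := by
    intro φ ψ i
    have e : (φ * ψ) (f i) = φ (ψ (f i)) := rfl
    rw [hπ ψ i, map_mul, hπ φ, hπ (φ * ψ)] at e
    have hbb : ∃ t, b (δ φ (π ψ i)) * φ (b (δ ψ i)) = b t := by
      have e2 : φ (b (δ ψ i)) = b (δ ψ i) := by
        cases δ ψ i
        exacts [map_one φ, hzφ φ]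
      rw [e2]
      cases δ φ (π ψ i) <;> cases δ ψ i
      exacts [⟨false, one_mul 1⟩, ⟨true, one_mul z⟩, ⟨true, mul_one z⟩, ⟨false, hzz⟩]
    obtain ⟨t, ht⟩ := hbb
    rw [mul_assoc, ht] at e
    exact (huniq _ _ _ _ e).1
  -- the action on the five points
  let Act : MulAut P →* Equiv.Perm (Fin 5) := MonoidHom.mk'
    (fun φ => Equiv.ofBijective (π φ) (Finite.injective_iff_bijective.1 (hπinj φ)))
    fun φ ψ => Equiv.ext fun i => hπmul φ ψ i
  let c4 : Fin 4 ↪ Fin 5 := Fin.castSuccEmb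
  have hbase : IsFrame z fun i => f (c4 i) :=
    ⟨fun i => hf2 _, fun i j h => hfc _ _ fun e => h (c4.injective e)⟩
  let Ψ : MulAut P → (Fin 4 ↪ Fin 5) × (Fin 4 → Bool) := fun φ =>
    (⟨fun i => π φ (c4 i), (hπinj φ).comp c4.injective⟩, fun i => δ φ (c4 i))
  have hΨi : Function.Injective Ψ := by
    intro φ ψ h
    simp only [Ψ, Prod.mk.injEq] at h
    refine MulEquiv.toMonoidHom_injective (MonoidHom.eq_of_eqOn_dense (frame_closure hzc hzz hz1 hcom h32 hbase) ?_)
    have key : ∀ i, φ (f (c4 i)) = ψ (f (c4 i)) := fun i => by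
      rw [hπ, hπ, congrFun h.2 i]
      exact congrArg (fun k => f k * b (δ ψ (c4 i))) (DFunLike.congr_fun h.1 i)
    rintro x (rfl | rfl | rfl | rfl | rfl)
    exacts [(hzφ φ).trans (hzφ ψ).symm, key 0, key 1, key 2, key 3]
  have hΨs : ∀ (τ : Fin 4 ↪ Fin 5) (s : Fin 4 → Bool), ∃ φ : MulAut P, Ψ φ = (τ, s) := by
    intro τ s
    obtain ⟨φ, -, hφ⟩ := frame_aut hzc hzz hz1 hcom h32 hbase (g := fun i => f (τ i) * b (s i))
      ⟨fun i => hfb _ _, fun i j h => hfbc _ _ _ _ fun e => h (τ.injective e)⟩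
    refine ⟨φ, Prod.ext (DFunLike.ext _ _ fun i => ?_) (funext fun i => ?_)⟩
    · exact (huniq _ _ _ _ ((hπ φ (c4 i)).symm.trans (hφ i))).1
    · exact (huniq _ _ _ _ ((hπ φ (c4 i)).symm.trans (hφ i))).2
  have hAut : Nat.card (MulAut P) = 1920 := by
    rw [Nat.card_eq_of_bijective Ψ ⟨hΨi, fun x => hΨs x.1 x.2⟩, Nat.card_prod, Nat.card_eq_fintype_card,
      Nat.card_eq_fintype_card, Fintype.card_embedding_eq, Fintype.card_fun, Fintype.card_fin, Fintype.card_fin,
      Fintype.card_bool]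
    rfl
  have hInn : Nat.card (MulAut.conj : P →* MulAut P).range = 16 := by
    rw [← index_ker]
    have hk : (MulAut.conj : P →* MulAut P).ker = center P := by
      ext x
      rw [MonoidHom.mem_ker, mem_center_iff, MulEquiv.ext_iff]
      refine forall_congr' fun g => ?_
      rw [MulAut.conj_apply, MulAut.one_apply, mul_inv_eq_iff_eq_mul]
      exact eq_comm
    have := card_mul_index (MulAut.conj : P →* MulAut P).ker
    rw [h32, hk, hex.2] at this
    rw [hk]
    omega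
  have hsurj : Function.Surjective Act := by
    intro σ
    obtain ⟨φ, hφ⟩ := hΨs (c4.trans σ.toEmbedding) fun _ => false
    simp only [Ψ, Prod.mk.injEq] at hφ
    have h4 : ∀ i, π φ (c4 i) = σ (c4 i) := fun i => DFunLike.congr_fun hφ.1 i
    refine ⟨φ, Equiv.ext fun i => ?_⟩
    show π φ i = σ i
    by_cases hi : ∃ j, c4 j = i
    · obtain ⟨j, rfl⟩ := hi; exact h4 j
    · push Not at hi
      obtain ⟨k, hk⟩ := (Finite.injective_iff_bijective.1 (hπinj φ)).2 (σ i)
      by_cases hk' : ∃ j, c4 j = k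
      · obtain ⟨j, rfl⟩ := hk'
        rw [h4] at hk
        exact absurd (σ.injective hk) (hi j)
      · push Not at hk'
        have last : ∀ m : Fin 5, (∀ j, c4 j ≠ m) → m = 4 := by
          intro m hm
          fin_cases m
          exacts [absurd rfl (hm 0), absurd rfl (hm 1), absurd rfl (hm 2), absurd rfl (hm 3), rfl]
        rw [last i hi, ← last k hk', hk, last i hi, last k hk']
  have hle : (MulAut.conj : P →* MulAut P).range ≤ Act.ker := by
    rintro _ ⟨g, rfl⟩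
    rw [MonoidHom.mem_ker]
    refine Equiv.ext fun i => ?_
    show π (MulAut.conj g) i = i
    have e : MulAut.conj g (f i) = f i * ⁅g, f i⁆ := by
      rw [MulAut.conj_apply]
      rcases hcom g (f i) with h | h
      · rw [h, mul_one, commutatorElement_eq_one_iff_mul_comm.1 h, mul_inv_cancel_right]
      · rw [h, ← (hzc (f i)).eq, ← h, commutatorElement_def]; group
    rw [hπ] at e
    rcases hcom g (f i) with h | h <;> rw [h] at e
    · exact (huniq _ i _ false e).1
    · exact (huniq _ i _ true e).1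
  have hker : (MulAut.conj : P →* MulAut P).range = Act.ker := by
    refine eq_of_le_of_card_ge hle ?_
    have := card_mul_index Act.ker
    rw [index_ker, MonoidHom.range_eq_top.2 hsurj, card_top, hAut, Nat.card_perm, Nat.card_fin,
      show Nat.factorial 5 = 120 by decide] at this
    rw [hInn]; omega
  refine ⟨z, f, Act, hz1, hzz, hzc, hall, hcom, hzφ, hf2, hfc, hfa, fun φ i => ?_, hker, hsurj, hAut, hInn⟩
  show φ (f i) = f (π φ i) ∨ φ (f i) = f (π φ i) * z
  rw [hπ φ i]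
  cases δ φ i
  exacts [Or.inl (mul_one _), Or.inr rfl]

end CfsgLib.Invol.EsMinus
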