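import Cfsg.Agent.Lib.Suzuki.TIKernel.MaxSolvable
import Cfsg.Agent.Lib.OddLocal.CNMax
import Cfsg.Agent.S1473

/-!
In a non-abelian simple CN-group every involution centraliser is a 2-group.

A maximal nilpotent subgroup above a Sylow 2-subgroup is either that subgroup or a TI kernel of the
Zassenhaus action on the cosets of its normaliser, hence a 2-group again.
-/

set_option autoImplicit false
set_option linter.unusedSectionVars false
set_option linter.style.haveILetI false

universe u

namespace CfsgLib.Suzuki.TIKernel.Ctx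

open MulAction CfsgLib.Invol

variable {G : Type u} [Group G] [Finite G] {T : Sylow 2 G} {A : Subgroup G} (h : Ctx T A)
include h

/-- The kernel is a 2-group. -/
theorem isPGroup_two : IsPGroup 2 A := by
  classical
  haveI := Fintype.ofFinite G
  haveI := Fintype.ofFinite (G ⧸ NH T)
  obtain ⟨y, hy⟩ := h.exists_ne_pt
  have hZ := h.isZassenhaus
  have hE := h.twoStab_eq y
  have hodd : Odd (Nat.card (stabilizer G (pt T) ⊓ stabilizer G y : Subgroup G)) := by
    rw [hE]; exact h.odd_twoStab hy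
  rcases CfsgLib.Perm.FeitCoherent.feit_bound hZ hy.symm (Nat.card A) _
    h.card_points.symm rfl hodd A h.A_le_stab h.card_points
    (fun u hu hu1 c hc => h.fix_eq hu hu1 hc) with hb | ⟨hP, -, -⟩
  swap
  · exact hP
  have hAn : (A.subgroupOf (stabilizer G (pt T))).Normal := ⟨fun u hu g => by
    rw [Subgroup.mem_subgroupOf] at hu ⊢
    exact h.conj_mem g ((SetLike.ext_iff.1 h.stab_pt _).1 g.2) u hu⟩
  obtain ⟨-, p, f, hp, hexp, -⟩ := Cfsg.Agent.S0738.result hZ hy.symm
    (by have := h.card_points; omega) A h.A_le_stab hAn h.reg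
  obtain ⟨s, -, hs, -, hs2, -, -⟩ := h.many
  obtain rfl : p = 2 := by
    have := orderOf_dvd_of_pow_eq_one (hexp s (h.T_le hs))
    rw [hs2] at this
    exact ((Nat.prime_dvd_prime_iff_eq Nat.prime_two hp).1 this).symm
  exact fun u => ⟨1, Subtype.ext (by simpa using hexp u u.2)⟩

end CfsgLib.Suzuki.TIKernel.Ctx

namespace CfsgLib.Invol.CN

open Subgroup CfsgLib.Invol

variable {G : Type u} [Group G] [Finite G]

/-- In a nilpotent subgroup with a given Sylow 2-subgroup, a central element of the latter is central. -/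
theorem commute_of_nilpotent {K : Subgroup G} (hK : Group.IsNilpotent K) {P : Subgroup G}
    (hP : ∀ b ∈ K, (∃ k, b ^ 2 ^ k = 1) → b ∈ P) {z : G} (hzK : z ∈ K) (hz2 : orderOf z = 2)
    (hzP : ∀ b ∈ P, Commute b z) {a : G} (ha : a ∈ K) : Commute a z := by
  obtain ⟨u, v, huv, -, -, ⟨k, hk⟩, hvodd⟩ := CfsgLib.TICent.exists_parts (⟨a, ha⟩ : K)
  have e : a = (u : G) * v := congrArg Subtype.val huv
  rw [e]
  refine Commute.mul_left (hzP _ (hP _ u.2 ⟨k, by simpa using congrArg Subtype.val hk⟩)) ?_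
  refine (CfsgLib.OddLocal.commute_of_mem_nilpotent hK v.2 hzK ?_ : Commute (v : G) z)
  rw [Subgroup.orderOf_coe, hz2]
  exact Nat.coprime_two_right.2 hvodd

/-- An isolated involution forces solvability. -/
theorem isSolvable_of_isolated (hCN : Cfsg.IsCNGroup G) {z : G} (hz : Cfsg.IsIsolatedInvolution z) :
    Group.IsSolvable G := by
  set H := Cfsg.oddCore G
  have hHsol : Group.IsSolvable H := CfsgLib.FT.odd_order_solvable (odd_card_oddCore G)
  haveI : H.Normal := CfsgLib.Solvable.pPrimeCore_normal 2 G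
  have hcn := Cfsg.Agent.S1473.result hCN H hHsol
  have hz1 : (QuotientGroup.mk z : G ⧸ H) ≠ 1 := fun e => by
    have hd := Subgroup.orderOf_dvd_natCard H ((QuotientGroup.eq_one_iff z).1 e)
    rw [hz.1] at hd
    exact (Nat.not_even_iff_odd.2 (odd_card_oddCore G)) (even_iff_two_dvd.2 hd)
  have htop : Subgroup.centralizer ({(QuotientGroup.mk z : G ⧸ H)} : Set (G ⧸ H)) = ⊤ := by
    refine Subgroup.eq_top_iff' _ |>.2 fun q => ?_
    obtain ⟨g, rfl⟩ := QuotientGroup.mk_surjective q
    rw [Subgroup.mem_centralizer_singleton_iff, ← QuotientGroup.mk_mul, ← QuotientGroup.mk_mul,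
      eq_comm, QuotientGroup.eq_iff_div_mem]
    simpa [div_eq_mul_inv, mul_assoc] using zstar G hz g
  have hnil := hcn _ hz1
  rw [htop] at hnil
  have : Group.IsNilpotent (G ⧸ H) :=
    Group.nilpotent_of_mulEquiv (Subgroup.topEquiv (G := G ⧸ H))
  exact solvable_of_ker_le_range H.subtype (QuotientGroup.mk' H) (by
    rw [QuotientGroup.ker_mk', Subgroup.range_subtype])

/-- In a non-solvable CN-group involution centralisers are 2-groups. -/
theorem isCIT_of_not_isSolvable (hns : ¬ Group.IsSolvable G) (hCN : Cfsg.IsCNGroup G) :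
    ∀ t : G, orderOf t = 2 → IsPGroup 2 (centralizer ({t} : Set G)) := by
  intro t ht
  haveI : Fact (Nat.Prime 2) := ⟨Nat.prime_two⟩
  obtain ⟨T, hT⟩ := (IsPGroup.of_card (n := 1) (by rw [Nat.card_zpowers, ht, pow_one]) :
    IsPGroup 2 (zpowers t)).exists_le_sylow
  have htT : t ∈ (T : Subgroup G) := hT (mem_zpowers t)
  have hTnil : Group.IsNilpotent (T : Subgroup G) := T.isPGroup'.isNilpotent
  have h2T : 2 ∣ Nat.card (T : Subgroup G) :=
    (dvd_of_eq ht.symm).trans (Subgroup.orderOf_dvd_natCard _ htT)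
  obtain ⟨z, hzT, hz, hzc⟩ := CfsgLib.OddLocal.exists_central_of_dvd (p := 2) hTnil h2T
  have hz1 : z ≠ 1 := invol_ne_one hz
  have hzc' : ∀ u ∈ (T : Subgroup G), Commute u z := fun u hu =>
    show u * z = z * u from mem_centralizer_iff.1 hzc u hu
  obtain ⟨H, hTH, hH⟩ := CfsgLib.OddLocal.exists_maxNilpotent_ge hTnil
  have hH2 : ∀ b ∈ H, (∃ k, b ^ 2 ^ k = 1) → b ∈ (T : Subgroup G) := fun b hb hb2 =>
    CfsgLib.TICent.mem_T_of_two (CfsgLib.TICent.le_NH_of_nilpotent hTH hH.1 hb) hb2
  have hzH : ∀ a ∈ H, Commute a z := fun a ha =>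
    commute_of_nilpotent hH.1 hH2 (hTH hzT) hz hzc' ha
  by_cases hpp : IsPrimePow (Nat.card H)
  · -- `T` is the centraliser of `z`
    obtain ⟨q, n, hq, -, hqn⟩ := (isPrimePow_nat_iff _).1 hpp
    obtain rfl : q = 2 := by
      have h2 : 2 ∣ q ^ n := by
        rw [hqn]; exact (dvd_of_eq hz.symm).trans (Subgroup.orderOf_dvd_natCard _ (hTH hzT))
      exact ((Nat.prime_dvd_prime_iff_eq Nat.prime_two hq).1 (Nat.prime_two.dvd_of_dvd_pow h2)).symm
    have hHT : H = (T : Subgroup G) := le_antisymm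
      (fun b hb => hH2 b hb ⟨n, by
        have h := pow_card_eq_one' (x := (⟨b, hb⟩ : H))
        rw [← hqn] at h
        simpa using congrArg Subtype.val h⟩) hTH
    have hCz : centralizer ({z} : Set G) = (T : Subgroup G) := by
      rw [← hHT]
      exact hH.2 _ (hCN z hz1) fun b hb => mem_centralizer_singleton_iff.2 (hzH b hb)
    intro c
    obtain ⟨u, v, huv, -, -, ⟨k, hk⟩, hvodd⟩ := CfsgLib.TICent.exists_parts c
    have hv : Commute (v : G) z := CfsgLib.OddLocal.commute_of_mem_nilpotent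
      (hCN t (invol_ne_one ht)) v.2
      (mem_centralizer_singleton_iff.2 (hzc' t htT).symm.eq) (by
        rw [Subgroup.orderOf_coe, hz]; exact Nat.coprime_two_right.2 hvodd)
    have hv1 : v = 1 := by
      obtain ⟨j, hj⟩ := T.isPGroup' ⟨v, hCz.le (mem_centralizer_singleton_iff.2 hv.eq)⟩
      have hj' : v ^ 2 ^ j = 1 := Subtype.ext (by simpa using congrArg Subtype.val hj)
      exact orderOf_eq_one_iff.1 (Nat.eq_one_of_dvd_coprimes
        ((Nat.coprime_two_left.2 hvodd).pow_left j) (orderOf_dvd_of_pow_eq_one hj') dvd_rfl)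
    exact ⟨k, by rw [huv, hv1, mul_one, hk]⟩
  -- otherwise `H` is a TI kernel
  have hTI : ∀ g : G, H.map (MulAut.conj g).toMonoidHom ≠ H →
      H ⊓ H.map (MulAut.conj g).toMonoidHom = ⊥ := fun g hg => by
    by_contra hne
    exact hg (CfsgLib.OddLocal.maxNilpotent_eq_of_inf_ne_bot hCN hH
      (CfsgLib.OddLocal.isMaxNilpotent_map_conj hH g)
      (Subgroup.card_map_of_injective (MulAut.conj g).injective) hpp hne).symm
  have hmoc : ∀ a ∈ H, a ≠ 1 → ∀ b, Commute b a → b ∈ H := fun a ha ha1 b hb =>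
    CfsgLib.OddLocal.centralizer_le_of_TI hCN hH hTI ha ha1 (mem_centralizer_singleton_iff.2 hb.eq)
  have hconj : ∀ g, ∀ a ∈ H, a ≠ 1 → g * a * g⁻¹ ∈ H →
      H.map (MulAut.conj g).toMonoidHom = H := by
    intro g a ha ha1 hga
    by_contra hne
    refine conj_eq_one_iff.not.2 ha1 (mem_bot.1 (?_ : g * a * g⁻¹ ∈ (⊥ : Subgroup G)))
    rw [← hTI g hne]
    exact ⟨hga, a, ha, rfl⟩
  have hnorm : ∀ g, H.map (MulAut.conj g).toMonoidHom = H → g ∈ NH T := fun g hg =>
    mem_normalizer_fintype fun b hb => by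
      obtain ⟨k, hk⟩ := CfsgLib.TICent.exists_two_pow hb
      exact hH2 _ (hg.le ⟨b, hTH hb, rfl⟩) ⟨k, by rw [conj_pow, hk, mul_one, mul_inv_cancel]⟩
  have hmemT : ∀ i, orderOf i = 2 → i ∈ NH T → i ∈ (T : Subgroup G) := fun i hi hiH =>
    CfsgLib.TICent.mem_T_of_two hiH ⟨1, by rw [pow_one, pow_two, invol_mul_self hi]⟩
  have hse : Cfsg.IsStronglyEmbedded (NH T) := by
    refine ⟨fun e => ?_, even_iff_two_dvd.2 ((dvd_of_eq hz.symm).trans
      (Subgroup.orderOf_dvd_natCard (NH T) (le_normalizer hzT))), fun g hg => ?_⟩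
    · have hTn : (T : Subgroup G).Normal := normalizer_eq_top_iff.1 e
      refine hns ?_
      have : Group.IsSolvable (T : Subgroup G) := inferInstance
      have : Group.IsSolvable (G ⧸ (T : Subgroup G)) := CfsgLib.FT.odd_order_solvable (by
        rw [← Subgroup.index_eq_card]
        exact Nat.not_even_iff_odd.1 fun he => T.not_dvd_index (even_iff_two_dvd.1 he))
      exact solvable_of_ker_le_range (T : Subgroup G).subtype (QuotientGroup.mk' (T : Subgroup G)) (by
        rw [QuotientGroup.ker_mk', Subgroup.range_subtype])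
    · by_contra hodd
      rw [Nat.not_odd_iff_even] at hodd
      obtain ⟨i, ⟨hiH, k, hk, hki⟩, hi⟩ := exists_invol_mem hodd
      have hki' : g * k * g⁻¹ = i := hki
      have hk2 : orderOf k = 2 := by rw [← orderOf_conj_eq g k, hki', hi]
      exact hg (hnorm g (hconj g k (hTH (hmemT k hk2 hk)) (invol_ne_one hk2)
        (hki' ▸ hTH (hmemT i hi hiH))))
  have hmany : ∃ s ∈ (T : Subgroup G), orderOf s = 2 ∧ s ≠ z := by
    by_contra hcon
    push Not at hcon
    exact hns (isSolvable_of_isolated hCN (CfsgLib.Suzuki.TIKernel.isolated_of_unique T hzT hz hcon))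
  obtain ⟨s, hs, hs2, hsz⟩ := hmany
  have hctx : CfsgLib.Suzuki.TIKernel.Ctx T H :=
    { cop := fun {e a b} he hae hbe hab => CfsgLib.OddLocal.commute_of_mem_nilpotent
        (hCN e (invol_ne_one he)) (mem_centralizer_singleton_iff.2 hae.eq)
        (mem_centralizer_singleton_iff.2 hbe.eq) hab
      stronglyEmbedded := hse
      T_le := hTH
      A_le_NH := CfsgLib.TICent.le_NH_of_nilpotent hTH hH.1
      many := ⟨s, z, hs, hzT, hs2, hz, hsz⟩
      mem_T := hmemT
      central := fun i hi hi2 a ha => by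
        obtain ⟨g, rfl⟩ := isConj_iff.1 (se_isConj hse hz hi2)
        have hg := hconj g z (hTH hzT) hz1 (hTH hi)
        obtain ⟨b, hb, hba⟩ := hg.ge ha
        rw [← hba]
        exact (hzH b hb).map (MulAut.conj g).toMonoidHom
      conj_mem := fun d hd a ha => by
        refine (hconj d z (hTH hzT) hz1 (hTH ?_)).le ⟨a, ha, rfl⟩
        exact (mem_normalizer_iff.1 hd z).1 hzT
      mem_of_commute := hmoc
      mem_NH := fun g a ha ha1 hg => hnorm g (hconj g a ha ha1 hg) }
  exact hctx.isPGroup_two.to_le fun c hc =>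
    hmoc t (hTH htT) (invol_ne_one ht) c (mem_centralizer_singleton_iff.1 hc)

/-- In a non-abelian simple CN-group involution centralisers are 2-groups. -/
theorem isCIT [IsSimpleGroup G] (hna : ∃ a b : G, a * b ≠ b * a) (hCN : Cfsg.IsCNGroup G) :
    ∀ t : G, orderOf t = 2 → IsPGroup 2 (centralizer ({t} : Set G)) := by
  refine isCIT_of_not_isSolvable (fun hs => ?_) hCN
  obtain ⟨a, b, hab⟩ := hna
  exact hab (IsSimpleGroup.comm_iff_isSolvable.2 hs a b)

/-- A non-solvable CN-group has no non-trivial normal subgroup of odd order. -/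
theorem oddCore_eq_bot (hns : ¬ Group.IsSolvable G) (hCN : Cfsg.IsCNGroup G) :
    Cfsg.oddCore G = ⊥ := by
  haveI : Fact (Nat.Prime 2) := ⟨Nat.prime_two⟩
  by_contra hne
  haveI hOn : (Cfsg.oddCore G).Normal := CfsgLib.Solvable.pPrimeCore_normal 2 G
  have hOodd := odd_card_oddCore G
  haveI : Group.IsSolvable (Cfsg.oddCore G) := CfsgLib.FT.odd_order_solvable hOodd
  obtain ⟨N, hNn, hN1, hNO, hmin⟩ := CfsgLib.Solvable.exists_minimal_normal_le hOn hne
  haveI := hNn
  haveI : Group.IsSolvable N := Group.isSolvable_of_isSolvable_injective (inclusion_injective hNO)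
  have hNc := CfsgLib.Solvable.isMulCommutative_of_minimal_normal hN1 hmin
  have hNodd : Odd (Nat.card N) := hOodd.of_dvd_nat (card_dvd_of_le hNO)
  obtain ⟨⟨x, hx⟩, hx'⟩ := ne_bot_iff_exists_ne_one.1 hN1
  have hx1 : x ≠ 1 := fun e => hx' (Subtype.ext e)
  set C := centralizer (N : Set G) with hC
  have hCnil : Group.IsNilpotent C := CfsgLib.OddLocal.isNilpotent_of_le (hCN x hx1) fun c hc =>
    mem_centralizer_singleton_iff.2 (mem_centralizer_iff.1 hc x hx).symm
  have hNC : N ≤ C := fun a ha => mem_centralizer_iff.2 fun b hb =>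
    congrArg Subtype.val (hNc.is_comm.comm (⟨b, hb⟩ : N) ⟨a, ha⟩)
  haveI : C.Normal := normal_centralizer
  by_cases hev : Even (Nat.card C)
  · -- then `G` is an extension of a nilpotent group by a group of odd order
    obtain ⟨H, hCH, hH⟩ := CfsgLib.OddLocal.exists_maxNilpotent_ge hCnil
    have h2H : 2 ∣ Nat.card H := (even_iff_two_dvd.1 hev).trans (card_dvd_of_le hCH)
    have hpp : ¬ IsPrimePow (Nat.card H) := by
      intro hpp
      obtain ⟨q, n, hq, -, hqn⟩ := (isPrimePow_nat_iff _).1 hpp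
      have hNd : Nat.card N ∣ q ^ n := hqn ▸ card_dvd_of_le (hNC.trans hCH)
      obtain ⟨m, -, hm⟩ := (Nat.dvd_prime_pow hq).1 hNd
      have hq2 : q = 2 := ((Nat.prime_dvd_prime_iff_eq Nat.prime_two hq).1
        (Nat.prime_two.dvd_of_dvd_pow (hqn ▸ h2H))).symm
      rcases Nat.eq_zero_or_pos m with h0 | h0
      · exact hN1 (card_eq_one.1 (by rw [hm, h0, pow_zero]))
      · exact Nat.not_even_iff_odd.2 hNodd (by rw [hm, hq2, Nat.even_pow]; exact ⟨even_two, h0.ne'⟩)
    have hHn : H.Normal := by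
      refine normalizer_eq_top_iff.1 (eq_top_iff.2 fun g _ => mem_normalizer_iff_map_conj_eq.2 ?_)
      refine (CfsgLib.OddLocal.maxNilpotent_eq_of_inf_ne_bot hCN hH
        (CfsgLib.OddLocal.isMaxNilpotent_map_conj hH g)
        (card_map_of_injective (MulAut.conj g).injective) hpp ?_).symm
      refine ne_bot_of_le_ne_bot hN1 (le_inf (hNC.trans hCH) fun a ha => ⟨g⁻¹ * a * g, ?_, ?_⟩)
      · exact hNC.trans hCH (by simpa using hNn.conj_mem a ha g⁻¹)
      · simp [mul_assoc]
    refine hns ?_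
    haveI : Group.IsSolvable H := by
      have := hH.1
      infer_instance
    haveI : Group.IsSolvable (G ⧸ H) := CfsgLib.FT.odd_order_solvable (by
      rw [← index_eq_card]
      refine Nat.not_even_iff_odd.1 fun he => ?_
      exact Nat.prime_two.not_dvd_one ((CfsgLib.OddLocal.maxNilpotent_coprime_index hCN hH).gcd_eq_one ▸
        Nat.dvd_gcd h2H (even_iff_two_dvd.1 he)))
    exact solvable_of_ker_le_range H.subtype (QuotientGroup.mk' H) (by
      rw [QuotientGroup.ker_mk', range_subtype])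
  · rw [Nat.not_even_iff_odd] at hev
    have hCfree : ∀ e ∈ C, e * e = 1 → e = 1 := fun e he hee =>
      eq_one_of_sq_of_odd hee (hev.of_dvd_nat (Subgroup.orderOf_dvd_natCard C he))
    -- every involution inverts `N`
    have hinv : ∀ e : G, orderOf e = 2 → ∀ a ∈ N, e * a * e⁻¹ = a⁻¹ := by
      intro e he a ha
      have hfix : ∀ b ∈ N, Commute e b → b = 1 := by
        intro b hb heb
        by_contra hb1
        refine invol_ne_one he (hCfree e (mem_centralizer_iff.2 fun c hc => ?_) (invol_mul_self he))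
        refine (CfsgLib.OddLocal.commute_of_mem_nilpotent (hCN b hb1)
          (mem_centralizer_singleton_iff.2 heb.eq)
          (mem_centralizer_singleton_iff.2 (mem_centralizer_iff.1 (hNC hb) c hc)) ?_).symm
        rw [he]
        exact Nat.coprime_two_left.2 (hNodd.of_dvd_nat (Subgroup.orderOf_dvd_natCard N hc))
      have ha' : e * a * e⁻¹ ∈ N := hNn.conj_mem a ha e
      have hcomm : Commute a (e * a * e⁻¹) := mem_centralizer_iff.1 (hNC ha') a ha
      refine eq_inv_of_mul_eq_one_right (hfix _ (mul_mem ha ha') ?_)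
      refine mul_inv_eq_iff_eq_mul.1 ?_
      calc e * (a * (e * a * e⁻¹)) * e⁻¹ = e * a * e⁻¹ * ((e * e) * a * (e * e)⁻¹) := by group
        _ = a * (e * a * e⁻¹) := by rw [invol_mul_self he]; simpa using hcomm.eq.symm
    -- two commuting involutions are equal
    obtain ⟨z, hz⟩ := exists_prime_orderOf_dvd_card' (G := G) 2 (by
      by_contra h
      exact hns (CfsgLib.FT.odd_order_solvable (Nat.not_even_iff_odd.1
        fun he => h (even_iff_two_dvd.1 he))))
    refine hns (isSolvable_of_isolated hCN ⟨hz, fun g hg => ?_⟩)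
    set f := g * z * g⁻¹
    have hf : orderOf f = 2 := by rw [orderOf_conj_eq, hz]
    have hmem : f * z ∈ C := mem_centralizer_iff.2 fun a ha => by
      have h1 := hinv z hz a ha
      have h2 := hinv f hf a⁻¹ (inv_mem ha)
      rw [inv_inv] at h2
      exact (mul_inv_eq_iff_eq_mul.1 (by
        rw [show f * z * a * (f * z)⁻¹ = f * (z * a * z⁻¹) * f⁻¹ by group, h1, h2])).symm
    have h0 := hCfree _ hmem (by
      rw [show f * z * (f * z) = f * (z * f) * z by group, hg.eq,
        show f * (f * z) * z = (f * f) * (z * z) by group, invol_mul_self hf, invol_mul_self hz,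
        one_mul])
    exact (eq_inv_of_mul_eq_one_left h0).trans (invol_inv hz)

end CfsgLib.Invol.CN
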