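import Cfsg.Agent.Lib.Invol.CAInvol
import Cfsg.Agent.Lib.StructC.UniqueInvol

/-!
# Groups in which involutions have abelian centralisers

Basic facts: the centraliser `A` of the involutions of a Sylow 2-subgroup `T` which is neither
cyclic nor normal, the strongly embedded subgroup `N(T)`, and the subgroups `FixC` of elements
commuting with all involutions fixing a point.
-/

set_option autoImplicit false
set_option linter.unusedSectionVars false

namespace CfsgLib.Invol

variable {G : Type*} [Group G] [Finite G]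

/-- The standing hypothesis: involutions of `T` have the abelian centraliser `A`. -/
structure AIHyp (T : Sylow 2 G) (A : Subgroup G) : Prop where
  not_cyclic : ¬ IsCyclic (T : Subgroup G)
  not_normal : ¬ (T : Subgroup G).Normal
  T_le : (T : Subgroup G) ≤ A
  comm : ∀ a ∈ A, ∀ b ∈ A, Commute a b
  cent : ∀ t ∈ (T : Subgroup G), orderOf t = 2 → Subgroup.centralizer ({t} : Set G) = A

/-- Existence of `A`. -/
theorem exists_aiHyp
    (hA : ∀ t a b : G, orderOf t = 2 → Commute a t → Commute b t → Commute a b)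
    (T : Sylow 2 G) (hnc : ¬ IsCyclic (T : Subgroup G)) (hnn : ¬ (T : Subgroup G).Normal) :
    ∃ A : Subgroup G, AIHyp T A := by
  have : Fact (Nat.Prime 2) := ⟨Nat.prime_two⟩
  have : Nontrivial (T : Subgroup G) :=
    not_subsingleton_iff_nontrivial.1 fun hs => hnc inferInstance
  obtain ⟨k, hk⟩ := IsPGroup.iff_card.1
    (T.isPGroup'.to_subgroup (Subgroup.center (T : Subgroup G)))
  have hev : Even (Nat.card (Subgroup.center (T : Subgroup G))) := by
    rw [hk, Nat.even_pow]
    refine ⟨even_two, ?_⟩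
    rintro rfl
    have := Finite.one_lt_card_iff_nontrivial.2 (IsPGroup.center_nontrivial T.isPGroup')
    omega
  obtain ⟨z, hzc, hz⟩ := exists_invol_mem hev
  have hz2 : orderOf (z : G) = 2 := by rwa [Subgroup.orderOf_coe]
  have hTz : ∀ a ∈ (T : Subgroup G), Commute a (z : G) := fun a ha =>
    congrArg Subtype.val (Subgroup.mem_center_iff.1 hzc ⟨a, ha⟩)
  refine ⟨Subgroup.centralizer ({(z : G)} : Set G), ⟨hnc, hnn, fun a ha =>
    Subgroup.mem_centralizer_singleton_iff.2 (hTz a ha), fun a ha b hb =>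
    hA z a b hz2 (Subgroup.mem_centralizer_singleton_iff.1 ha)
      (Subgroup.mem_centralizer_singleton_iff.1 hb), fun t ht ht2 => ?_⟩⟩
  ext b
  rw [Subgroup.mem_centralizer_singleton_iff, Subgroup.mem_centralizer_singleton_iff]
  exact ⟨fun hb => hA t b z ht2 hb (hTz t ht).symm, fun hb => hA z b t hz2 hb (hTz t ht)⟩

/-- The elements commuting with all involutions fixing the point `r`. -/
def FixC (T : Sylow 2 G) (r : G ⧸ NH T) : Subgroup G :=
  Subgroup.centralizer {i : G | orderOf i = 2 ∧ i • r = r}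

/-- The elements commuting with all involutions. -/
def InvC (G : Type*) [Group G] : Subgroup G := Subgroup.centralizer {i : G | orderOf i = 2}

theorem mem_InvC {a : G} : a ∈ InvC G ↔ ∀ i : G, orderOf i = 2 → Commute a i := by
  rw [InvC, Subgroup.mem_centralizer_iff]
  exact ⟨fun h i hi => (h i hi).symm, fun h i hi => (h i hi).symm⟩

theorem normal_InvC : (InvC G).Normal := by
  refine ⟨fun a ha g => mem_InvC.2 fun i hi => ?_⟩
  have h1 := (mem_InvC.1 ha (g⁻¹ * i * g) (by rw [orderOf_conj_inv_eq, hi])).map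
    (MulAut.conj g).toMonoidHom
  simpa [mul_assoc] using h1

variable {T : Sylow 2 G} {A : Subgroup G}

theorem mem_FixC {r : G ⧸ NH T} {a : G} :
    a ∈ FixC T r ↔ ∀ i : G, orderOf i = 2 → i • r = r → Commute a i := by
  rw [FixC, Subgroup.mem_centralizer_iff]
  exact ⟨fun h i hi hr => (h i ⟨hi, hr⟩).symm, fun h i hi => (h i hi.1 hi.2).symm⟩

theorem FixC_smul {r : G ⧸ NH T} {a : G} (g : G) (h : a ∈ FixC T r) :
    g * a * g⁻¹ ∈ FixC T (g • r) := by
  refine mem_FixC.2 fun i hi hir => ?_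
  have hr : (g⁻¹ * i * g) • r = r := by rw [mul_smul, mul_smul, hir, inv_smul_smul]
  have h1 := (mem_FixC.1 h (g⁻¹ * i * g) (by rw [orderOf_conj_inv_eq, hi]) hr).map
    (MulAut.conj g).toMonoidHom
  simpa [mul_assoc] using h1

theorem InvC_le_FixC (r : G ⧸ NH T) : InvC G ≤ FixC T r :=
  fun a ha => mem_FixC.2 fun i hi _ => mem_InvC.1 ha i hi

namespace AIHyp

variable (h : AIHyp T A)
include h

theorem exists_invol : ∃ t ∈ (T : Subgroup G), orderOf t = 2 := by
  obtain ⟨k, hk⟩ := IsPGroup.iff_card.1 T.isPGroup'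
  refine exists_invol_mem ?_
  rw [hk, Nat.even_pow]
  refine ⟨even_two, ?_⟩
  rintro rfl
  have : Subsingleton (T : Subgroup G) := (Nat.card_eq_one_iff_unique.1 (by simpa using hk)).1
  exact h.not_cyclic inferInstance

theorem mem_of_commute {t b : G} (ht : t ∈ (T : Subgroup G)) (ht2 : orderOf t = 2)
    (hb : Commute b t) : b ∈ A := by
  rw [← h.cent t ht ht2]
  exact Subgroup.mem_centralizer_singleton_iff.2 hb

theorem mem_T_of_two {a : G} (ha : a ∈ A) {n : ℕ} (h2 : a ^ 2 ^ n = 1) : a ∈ (T : Subgroup G) := by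
  have hp : IsPGroup 2 (Subgroup.zpowers a) := by
    obtain ⟨m, -, hm⟩ := (Nat.dvd_prime_pow Nat.prime_two).1 (orderOf_dvd_of_pow_eq_one h2)
    exact IsPGroup.of_card (n := m) (by rw [Nat.card_zpowers, hm])
  have hle : Subgroup.zpowers a ≤ NH T := by
    rw [Subgroup.zpowers_le]
    refine Subgroup.mem_normalizer_fintype fun b hb => ?_
    rw [(h.comm a ha b (h.T_le hb)).eq, mul_inv_cancel_right]
    exact hb
  have hsup := T.isPGroup'.to_sup_of_normal_left' hp hle
  have := T.is_maximal' hsup le_sup_left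
  rw [← this]
  exact Subgroup.mem_sup_right (Subgroup.mem_zpowers a)

theorem invol_mem_T {i : G} (hi : orderOf i = 2) (hiA : i ∈ A) : i ∈ (T : Subgroup G) :=
  h.mem_T_of_two hiA (n := 1) (by rw [pow_one, ← hi]; exact pow_orderOf_eq_one i)

theorem mem_normalizer_A {g t : G} (ht : t ∈ (T : Subgroup G)) (ht2 : orderOf t = 2)
    (hg : g * t * g⁻¹ ∈ A) : g ∈ Subgroup.normalizer (A : Set G) := by
  have h2 : orderOf (g * t * g⁻¹) = 2 := (orderOf_conj_eq g t).trans ht2
  refine Subgroup.mem_normalizer_fintype fun b hb => ?_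
  refine h.mem_of_commute (h.invol_mem_T h2 hg) h2 ?_
  have := (h.comm b hb t (h.T_le ht)).map (MulAut.conj g).toMonoidHom
  simpa using this

theorem normalizer_A : Subgroup.normalizer (A : Set G) = NH T := by
  ext g
  constructor
  · intro hg
    refine Subgroup.mem_normalizer_fintype fun b hb => ?_
    obtain ⟨n, hn⟩ := T.isPGroup' ⟨b, hb⟩
    refine h.mem_T_of_two ((Subgroup.mem_normalizer_iff.1 hg b).1 (h.T_le hb)) (n := n) ?_
    rw [conj_pow, show b ^ 2 ^ n = 1 from congrArg Subtype.val hn, mul_one, mul_inv_cancel]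
  · intro hg
    obtain ⟨t, ht, ht2⟩ := h.exists_invol
    exact h.mem_normalizer_A ht ht2 (h.T_le ((Subgroup.mem_normalizer_iff.1 hg t).1 ht))

theorem A_le_NH : A ≤ NH T := h.normalizer_A ▸ Subgroup.le_normalizer

theorem conj_mem {d a : G} (hd : d ∈ NH T) (ha : a ∈ A) : d * a * d⁻¹ ∈ A := by
  rw [← h.normalizer_A] at hd
  exact (Subgroup.mem_normalizer_iff.1 hd a).1 ha

theorem invol_mem_A {i : G} (hi : orderOf i = 2) (hiH : i ∈ NH T) : i ∈ A :=
  h.T_le (CAHyp.mem_T_of_sq hiH (invol_mul_self hi))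

theorem stronglyEmbedded : Cfsg.IsStronglyEmbedded (NH T) := by
  obtain ⟨t, ht, ht2⟩ := h.exists_invol
  refine ⟨fun e => h.not_normal (Subgroup.normalizer_eq_top_iff.1 e),
    even_card_of_invol_mem ht2 (Subgroup.le_normalizer ht), ?_⟩
  intro g hg
  by_contra hodd
  rw [Nat.not_odd_iff_even] at hodd
  obtain ⟨i, ⟨hiH, k, hk, hki⟩, hi⟩ := exists_invol_mem hodd
  have hki' : g * k * g⁻¹ = i := hki
  have hk2 : orderOf k = 2 := by rw [← orderOf_conj_eq g k, hki', hi]
  refine hg (h.normalizer_A ▸ h.mem_normalizer_A (h.invol_mem_T hk2 (h.invol_mem_A hk2 hk)) hk2 ?_)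
  rw [hki']
  exact h.invol_mem_A hi hiH

theorem exists_ne_pt : ∃ y : G ⧸ NH T, y ≠ pt T := by
  obtain ⟨g, -, hg⟩ := SetLike.exists_of_lt h.stronglyEmbedded.1.lt_top
  exact ⟨g, fun e => hg (smul_pt_iff.1 ((smul_pt g).trans e))⟩

theorem FixC_pt : FixC T (pt T) = A := by
  ext a
  rw [mem_FixC]
  constructor
  · intro ha
    obtain ⟨t, ht, ht2⟩ := h.exists_invol
    exact h.mem_of_commute ht ht2 (ha t ht2 (smul_pt_iff.2 (Subgroup.le_normalizer ht)))
  · intro ha i hi hir
    exact h.comm a ha i (h.invol_mem_A hi (smul_pt_iff.1 hir))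

theorem mem_FixC_of_commute {r : G ⧸ NH T} {i a : G} (hi : orderOf i = 2) (hir : i • r = r)
    (ha : Commute a i) : a ∈ FixC T r := by
  obtain ⟨g, rfl⟩ := QuotientGroup.mk_surjective r
  have hi2 : orderOf (g⁻¹ * i * g) = 2 := by rw [orderOf_conj_inv_eq, hi]
  have hiT := h.invol_mem_T hi2 (h.invol_mem_A hi2 ((fix_coset_iff _ _).1 hir))
  have hm : g⁻¹ * a * g ∈ FixC T (pt T) := by
    rw [h.FixC_pt]
    refine h.mem_of_commute hiT hi2 ?_
    have := ha.map (MulAut.conj g⁻¹).toMonoidHom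
    simpa using this
  have := FixC_smul g hm
  rw [smul_pt] at this
  simpa [mul_assoc] using this

theorem fix_of_mem_FixC {r : G ⧸ NH T} {a : G} (ha : a ∈ FixC T r) : a • r = r := by
  obtain ⟨g, rfl⟩ := QuotientGroup.mk_surjective r
  have hm := FixC_smul g⁻¹ ha
  rw [← smul_pt (T := T) g, inv_smul_smul, h.FixC_pt, inv_inv] at hm
  exact (fix_coset_iff _ _).2 (h.A_le_NH hm)

theorem FixC_comm {r : G ⧸ NH T} {a b : G} (ha : a ∈ FixC T r) (hb : b ∈ FixC T r) :
    Commute a b := by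
  obtain ⟨g, rfl⟩ := QuotientGroup.mk_surjective r
  have ha' := FixC_smul g⁻¹ ha
  have hb' := FixC_smul g⁻¹ hb
  rw [← smul_pt (T := T) g, inv_smul_smul, h.FixC_pt] at ha' hb'
  have e := (h.comm _ ha' _ hb').map (MulAut.conj g).toMonoidHom
  simpa [mul_assoc] using e

/-- Involutions fixing the same point commute. -/
theorem invol_commute {i j : G} (hi : orderOf i = 2) (hj : orderOf j = 2) {r : G ⧸ NH T}
    (hir : i • r = r) (hjr : j • r = r) : Commute i j :=
  mem_FixC.1 (h.mem_FixC_of_commute hi hir (Commute.refl i)) j hj hjr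

theorem odd_twoStab {y : G ⧸ NH T} (hy : y ≠ pt T) : Odd (Nat.card (twoStab T y)) := by
  obtain ⟨g, rfl⟩ := QuotientGroup.mk_surjective y
  have hg : g ∉ NH T := fun hg => hy (by rw [← smul_pt, smul_pt_iff.2 hg])
  have e : twoStab T (g : G ⧸ NH T) = NH T ⊓ (NH T).map (MulAut.conj g).toMonoidHom := by
    ext d; rw [mem_twoStab, mem_inter_conj_iff]
  rw [e]
  exact h.stronglyEmbedded.2.2 g hg

theorem odd_orderOf {y : G ⧸ NH T} (hy : y ≠ pt T) {d : G} (hd : d ∈ twoStab T y) :
    Odd (orderOf d) :=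
  Odd.of_dvd_nat (h.odd_twoStab hy) (Subgroup.orderOf_dvd_natCard _ hd)

theorem InvC_le_A : InvC G ≤ A := h.FixC_pt ▸ InvC_le_FixC _

theorem fix_of_InvC {a : G} (ha : a ∈ InvC G) (r : G ⧸ NH T) : a • r = r :=
  h.fix_of_mem_FixC (InvC_le_FixC r ha)

theorem odd_orderOf_InvC {a : G} (ha : a ∈ InvC G) : Odd (orderOf a) := by
  obtain ⟨y, hy⟩ := h.exists_ne_pt
  exact h.odd_orderOf hy (mem_twoStab.2 ⟨h.fix_of_InvC ha _, h.fix_of_InvC ha _⟩)

theorem exists_two_invol : ∃ s ∈ (T : Subgroup G), ∃ t ∈ (T : Subgroup G),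
    orderOf s = 2 ∧ orderOf t = 2 ∧ s ≠ t := by
  by_contra! hone
  refine h.not_cyclic ?_
  have : Fact (Nat.Prime 2) := ⟨Nat.prime_two⟩
  have hu : ∀ a b : (T : Subgroup G), orderOf a = 2 → orderOf b = 2 → Commute a b →
      b ∈ Subgroup.zpowers a := by
    intro a b ha hb _
    have e : b = a := Subtype.ext (hone b.1 b.2 a.1 a.2 (by rwa [Subgroup.orderOf_coe])
      (by rwa [Subgroup.orderOf_coe]))
    rw [e]
    exact Subgroup.mem_zpowers a
  have hcy : IsCyclic (⊤ : Subgroup (T : Subgroup G)) :=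
    CfsgLib.StructC.isCyclic_of_comm_of_unique T.isPGroup' hu ⊤
      ⟨⟨fun a b => Subtype.ext (Subtype.ext (h.comm _ (h.T_le a.1.2) _ (h.T_le b.1.2)).eq)⟩⟩
  exact isCyclic_of_surjective Subgroup.topEquiv.toMonoidHom Subgroup.topEquiv.surjective

end AIHyp

end CfsgLib.Invol
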