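import Cfsg.Agent.Lib.Invol.AICore
import Cfsg.Agent.Lib.Perm.ZassenhausAbelian

/-!
# Free case: Zassenhaus groups from abelian involution centralisers

If moreover no non-trivial element of `A` fixes a second point, the action on the cosets of
`N_G(T)` is a Zassenhaus action with abelian kernel `A`, so `A` is elementary abelian.
-/

set_option autoImplicit false
set_option linter.unusedSectionVars false

namespace CfsgLib.Invol

variable {G : Type*} [Group G] [Finite G] {T : Sylow 2 G} {A : Subgroup G}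

/-- Abelian involution centralisers, and `A` is semiregular away from its point. -/
structure AIFree (T : Sylow 2 G) (A : Subgroup G) : Prop where
  toAI : AIHyp T A
  free : ∀ {y : G ⧸ NH T}, y ≠ pt T → ∀ {a : G}, a ∈ A → a • y = y → a = 1

namespace AIFree

variable (h : AIFree T A)
include h

theorem T_le : (T : Subgroup G) ≤ A := h.toAI.T_le

theorem comm {a b : G} (ha : a ∈ A) (hb : b ∈ A) : Commute a b := h.toAI.comm a ha b hb

theorem A_le_NH : A ≤ NH T := h.toAI.A_le_NH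

theorem conj_mem {d a : G} (hd : d ∈ NH T) (ha : a ∈ A) : d * a * d⁻¹ ∈ A := h.toAI.conj_mem hd ha

theorem invol_mem_A {i : G} (hi : orderOf i = 2) (hiH : i ∈ NH T) : i ∈ A :=
  h.toAI.invol_mem_A hi hiH

theorem stronglyEmbedded : Cfsg.IsStronglyEmbedded (NH T) := h.toAI.stronglyEmbedded

theorem odd_twoStab {y : G ⧸ NH T} (hy : y ≠ pt T) : Odd (Nat.card (twoStab T y)) :=
  h.toAI.odd_twoStab hy

theorem odd_orderOf {y : G ⧸ NH T} (hy : y ≠ pt T) {d : G} (hd : d ∈ twoStab T y) :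
    Odd (orderOf d) := h.toAI.odd_orderOf hy hd

theorem exists_ne_pt : ∃ y : G ⧸ NH T, y ≠ pt T := h.toAI.exists_ne_pt

theorem invol_commute {i j : G} (hi : orderOf i = 2) (hj : orderOf j = 2) {r : G ⧸ NH T}
    (hir : i • r = r) (hjr : j • r = r) : Commute i j := h.toAI.invol_commute hi hj hir hjr

theorem mem_of_commute {s b : G} (hs : s ∈ A) (hs2 : orderOf s = 2) (hb : Commute b s) : b ∈ A :=
  h.toAI.mem_of_commute (h.toAI.invol_mem_T hs2 hs) hs2 hb

theorem A_inj {a b : G} (ha : a ∈ A) (hb : b ∈ A) {y : G ⧸ NH T}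
    (hy : y ≠ pt T) (hab : a • y = b • y) : a = b := by
  refine (inv_mul_eq_one.1 (h.free hy (mul_mem (inv_mem hb) ha) ?_)).symm
  rw [mul_smul, hab, inv_smul_smul]

theorem semireg {y : G ⧸ NH T} (hy : y ≠ pt T) {d s : G} (hd : d ∈ twoStab T y)
    (hs : s ∈ A) (hs2 : orderOf s = 2) (hc : Commute d s) : d = 1 :=
  h.free hy (h.mem_of_commute hs hs2 hc) (mem_twoStab.1 hd).2

theorem eq_one_of_commute_invol {y : G ⧸ NH T} (hy : y ≠ pt T) {i d : G} (hi : orderOf i = 2)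
    (hd : d ∈ twoStab T y) (hc : Commute i d) : d = 1 := by
  obtain ⟨hdx, hdy⟩ := mem_twoStab.1 hd
  obtain ⟨q, hq, -⟩ := se_existsUnique_fix h.stronglyEmbedded hi
  obtain ⟨z, hzd, hzq⟩ : ∃ z, d • z = z ∧ z ≠ q := by
    by_cases e : pt T = q
    · exact ⟨y, hdy, fun e' => hy (e'.trans e.symm)⟩
    · exact ⟨pt T, hdx, e⟩
  have hF := h.toAI.mem_FixC_of_commute hi hq hc.symm
  obtain ⟨g, rfl⟩ := QuotientGroup.mk_surjective q
  have h1 := FixC_smul g⁻¹ hF
  rw [← smul_pt (T := T) g, inv_smul_smul, h.toAI.FixC_pt] at h1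
  have := h.free (y := g⁻¹ • z) (fun e => hzq (by rw [← smul_pt g, ← e, smul_inv_smul])) h1
    (by rw [mul_smul, mul_smul, inv_inv, smul_inv_smul, hzd])
  calc d = g * (g⁻¹ * d * g) * g⁻¹ := by group
    _ = 1 := by
      rw [inv_inv] at this
      rw [this, mul_one, mul_inv_cancel]

theorem z_invol : ∃ s ∈ A, orderOf s = 2 := by
  obtain ⟨s, hsH, hs⟩ := se_exists_invol h.stronglyEmbedded
  exact ⟨s, h.invol_mem_A hs hsH, hs⟩

theorem orbit_A {y : G ⧸ NH T} (hy : y ≠ pt T) {g : G} (hg : g ∈ NH T) :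
    ∃ a ∈ A, g • y = a • y := by
  obtain ⟨s, hs, hs2⟩ := h.z_invol
  have hs1 := invol_ne_one hs2
  obtain ⟨d, h1, h2, hdt⟩ := se_stab_transitive h.stronglyEmbedded hy.symm hs2
    ((orderOf_conj_eq g s).trans hs2) (smul_pt_iff.2 (h.A_le_NH hs))
    (smul_pt_iff.2 (h.A_le_NH (h.conj_mem hg hs)))
  have hdH : d ∈ NH T := smul_pt_iff.1 h1
  have ha : d⁻¹ * g ∈ A := by
    refine h.mem_of_commute hs hs2 ?_
    show d⁻¹ * g * s = s * (d⁻¹ * g)
    calc d⁻¹ * g * s = d⁻¹ * (g * s * g⁻¹) * g := by group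
      _ = d⁻¹ * (d * s * d⁻¹) * g := by rw [hdt]
      _ = s * (d⁻¹ * g) := by group
  refine ⟨d * (d⁻¹ * g) * d⁻¹, h.conj_mem hdH ha, ?_⟩
  have hy' : d⁻¹ • y = y := inv_smul_eq_iff.2 h2.symm
  rw [mul_smul, hy', mul_inv_cancel_left]

theorem card_twoStab {y : G ⧸ NH T} (hy : y ≠ pt T) :
    Nat.card (twoStab T y) = Nat.card {t : G // orderOf t = 2 ∧ t ∈ NH T} := by
  classical
  obtain ⟨s, hs, hs2⟩ := h.z_invol
  let f : twoStab T y → {t : G // orderOf t = 2 ∧ t ∈ NH T} := fun d =>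
    ⟨d.1 * s * d.1⁻¹, (orderOf_conj_eq d.1 s).trans hs2, h.A_le_NH (h.conj_mem d.2.1 hs)⟩
  have hf : Function.Bijective f := by
    constructor
    · intro d d' e
      have e' : d.1 * s * d.1⁻¹ = d'.1 * s * d'.1⁻¹ := congrArg Subtype.val e
      have := h.semireg hy (mul_mem (inv_mem d'.2) d.2) hs hs2 (by
        show d'.1⁻¹ * d.1 * s = s * (d'.1⁻¹ * d.1)
        calc d'.1⁻¹ * d.1 * s = d'.1⁻¹ * (d.1 * s * d.1⁻¹) * d.1 := by group
          _ = d'.1⁻¹ * (d'.1 * s * d'.1⁻¹) * d.1 := by rw [e']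
          _ = _ := by group)
      exact Subtype.ext (inv_mul_eq_one.1 this).symm
    · rintro ⟨t, ht, htH⟩
      obtain ⟨d, h1, h2, hdt⟩ := se_stab_transitive h.stronglyEmbedded hy.symm hs2 ht
        (smul_pt_iff.2 (h.A_le_NH hs)) (smul_pt_iff.2 htH)
      exact ⟨⟨d, mem_twoStab.2 ⟨h1, h2⟩⟩, Subtype.ext hdt⟩
  exact Nat.card_congr (Equiv.ofBijective f hf)

theorem invert_pt {y : G ⧸ NH T} (hy : y ≠ pt T) {w d : G} (hw : orderOf w = 2)
    (hwy : w • pt T = y) (hd : d ∈ twoStab T y) : w * d * w⁻¹ = d⁻¹ := by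
  classical
  let f : {i : G // orderOf i = 2 ∧ i • pt T = y} → twoStab T y := fun i =>
    ⟨i.1 * w, mem_twoStab.2 ⟨by rw [mul_smul, hwy, invol_smul_swap i.2.1 i.2.2],
      by rw [mul_smul, invol_smul_swap hw hwy, i.2.2]⟩⟩
  have hinj : Function.Injective f := fun i j e =>
    Subtype.ext (mul_right_cancel (congrArg Subtype.val e))
  have hbij : Function.Bijective f := hinj.bijective_of_nat_card_le (by
    rw [se_card_swap h.stronglyEmbedded hy.symm, h.card_twoStab hy])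
  obtain ⟨⟨i, hi, hiy⟩, hid⟩ := hbij.2 ⟨d, hd⟩
  rw [show d = i * w from (congrArg Subtype.val hid).symm, mul_inv_rev, invol_inv hi, invol_inv hw,
    mul_assoc, mul_assoc, invol_mul_self hw, mul_one]

theorem invert {x y : G ⧸ NH T} (hxy : x ≠ y) {w d : G} (hw : orderOf w = 2) (hwy : w • x = y)
    (hdx : d • x = x) (hdy : d • y = y) : w * d * w⁻¹ = d⁻¹ := by
  obtain ⟨g, rfl⟩ := QuotientGroup.mk_surjective x
  have hg : g⁻¹ • (g : G ⧸ NH T) = pt T := by rw [← smul_pt, inv_smul_smul]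
  have e := h.invert_pt (y := g⁻¹ • y) (w := g⁻¹ * w * g) (d := g⁻¹ * d * g)
    (fun e => hxy (by rw [← smul_pt, ← e, smul_inv_smul]))
    (by rw [orderOf_conj_inv_eq, hw]) (by rw [mul_smul, mul_smul, smul_pt, hwy])
    (mem_twoStab.2 ⟨by rw [mul_smul, mul_smul, smul_pt, hdx, hg],
      by rw [mul_smul, mul_smul, smul_inv_smul, hdy]⟩)
  calc w * d * w⁻¹ = g * (g⁻¹ * w * g * (g⁻¹ * d * g) * (g⁻¹ * w * g)⁻¹) * g⁻¹ := by group
    _ = g * (g⁻¹ * d * g)⁻¹ * g⁻¹ := by rw [e]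
    _ = d⁻¹ := by group

/-- A non-trivial element of a two-point stabiliser fixes exactly these two points. -/
theorem fix_two {y p : G ⧸ NH T} (hy : y ≠ pt T) {d : G} (hd : d ∈ twoStab T y) (hd1 : d ≠ 1)
    (hp : d • p = p) : p = pt T ∨ p = y := by
  classical
  by_contra hne
  push Not at hne
  obtain ⟨hp1, hpy⟩ := hne
  obtain ⟨hdx, hdy⟩ := mem_twoStab.1 hd
  set C := Subgroup.centralizer ({d} : Set G)
  have hstep : ∀ a b r : G ⧸ NH T, a ≠ r → r ≠ b → d • a = a → d • b = b → d • r = r →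
      ∃ c ∈ C, c • a = b := by
    intro a b r har hrb ha hb hr
    obtain ⟨w1, hw1, hw1a⟩ := se_swap_exists h.stronglyEmbedded har
    obtain ⟨w2, hw2, hw2a⟩ := se_swap_exists h.stronglyEmbedded hrb
    refine ⟨w2 * w1, ?_, by rw [mul_smul, hw1a, hw2a]⟩
    rw [Subgroup.mem_centralizer_singleton_iff]
    have e1 := h.invert har hw1 hw1a ha hr
    have e2 := h.invert hrb hw2 hw2a hr hb
    calc w2 * w1 * d = w2 * (w1 * d * w1⁻¹) * w1 := by group
      _ = (w2 * d * w2⁻¹)⁻¹ * (w2 * w1) := by rw [e1]; group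
      _ = d * (w2 * w1) := by rw [e2, inv_inv]
  have hfix : ∀ q, d • q = q → q ∈ MulAction.orbit C (pt T) := by
    intro q hq
    by_cases hq1 : q = pt T
    · rw [hq1]; exact MulAction.mem_orbit_self _
    obtain ⟨r, hr, hr1, hrq⟩ : ∃ r, d • r = r ∧ pt T ≠ r ∧ r ≠ q := by
      by_cases hqy : q = y
      · exact ⟨p, hp, hp1.symm, hqy ▸ hpy⟩
      · exact ⟨y, hdy, hy.symm, Ne.symm hqy⟩
    obtain ⟨c, hc, hcq⟩ := hstep _ q r hr1 hrq hdx hq hr
    exact ⟨⟨c, hc⟩, hcq⟩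
  have horb : ∀ q, q ∈ MulAction.orbit C (pt T) ↔ d • q = q := by
    refine fun q => ⟨?_, hfix q⟩
    rintro ⟨⟨c, hc⟩, rfl⟩
    show d • c • pt T = c • pt T
    rw [← mul_smul, ← Subgroup.mem_centralizer_singleton_iff.1 hc, mul_smul, hdx]
  have hCodd : Odd (Nat.card C) := Nat.not_even_iff_odd.1 fun hev => by
    obtain ⟨i, hiC, hi⟩ := exists_invol_mem hev
    exact hd1 (h.eq_one_of_commute_invol hy hi hd (Subgroup.mem_centralizer_singleton_iff.1 hiC))
  have := Fintype.ofFinite (G ⧸ NH T)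
  have hodd : Odd (Nat.card (MulAction.orbit C (pt T))) := by
    refine Odd.of_dvd_nat hCodd ?_
    rw [Nat.card_coe_set_eq, ← MulAction.index_stabilizer]
    exact Subgroup.index_dvd_card _
  obtain ⟨w, hw, hwy⟩ := se_swap_exists h.stronglyEmbedded hy.symm
  have hwd : w * d * w⁻¹ = d⁻¹ := h.invert_pt hy hw hwy hd
  have e : d * w = w * d⁻¹ := by
    calc d * w = (w * d * w⁻¹)⁻¹ * w := by rw [hwd, inv_inv]
      _ = w * d⁻¹ := by group
  have hmap : ∀ q : G ⧸ NH T, d • q = q → d • w • q = w • q := by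
    intro q hq
    rw [← mul_smul, e, mul_smul, inv_smul_eq_iff.2 hq.symm]
  let σ : Equiv.Perm {q : G ⧸ NH T // d • q = q} :=
    ⟨fun q => ⟨w • q.1, hmap _ q.2⟩, fun q => ⟨w • q.1, hmap _ q.2⟩,
      fun q => Subtype.ext (show w • w • q.1 = q.1 by rw [← mul_smul, invol_mul_self hw, one_smul]),
      fun q => Subtype.ext (show w • w • q.1 = q.1 by rw [← mul_smul, invol_mul_self hw, one_smul])⟩
  have : Fact (Nat.Prime 2) := ⟨Nat.prime_two⟩
  obtain ⟨⟨r, hr⟩, hrfix⟩ := Equiv.Perm.exists_fixed_point_of_prime (p := 2) (n := 1) (σ := σ)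
    (by
      rw [← Nat.card_eq_fintype_card, ← Nat.card_congr (Equiv.subtypeEquivRight horb)]
      exact fun h2 => Nat.not_even_iff_odd.2 hodd (even_iff_two_dvd.2 h2))
    (by
      ext q
      simp [σ, pow_two, ← mul_smul, invol_mul_self hw])
  have hwr : w • r = r := congrArg Subtype.val hrfix
  -- `w` and its conjugate by `d` both fix `r`, so commute
  have hj : orderOf (d * w * d⁻¹) = 2 := (orderOf_conj_eq d w).trans hw
  have hjr : (d * w * d⁻¹) • r = r := by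
    rw [mul_smul, mul_smul, inv_smul_eq_iff.2 hr.symm, hwr, hr]
  have hcm := (h.invol_commute hw hj hwr hjr).eq
  have e2 : d * w * d⁻¹ = w * (d * d)⁻¹ := by rw [e]; group
  rw [e2] at hcm
  have h3 : w * (w * (d * d)⁻¹) = (w * w) * (d * d)⁻¹ := (mul_assoc _ _ _).symm
  have h4 : w * (d * d)⁻¹ * w = (w * w) * (d * d) := by
    have e5 : (d * d)⁻¹ * w = w * (d * d) := by
      calc (d * d)⁻¹ * w = w * ((w⁻¹ * d * w)⁻¹ * (w⁻¹ * d * w)⁻¹) := by group
        _ = w * (d * d) := by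
          rw [show w⁻¹ * d * w = d⁻¹ by rw [mul_assoc, e, inv_mul_cancel_left], inv_inv]
    rw [mul_assoc, e5, ← mul_assoc]
  rw [h3, h4] at hcm
  have e3 : d * d * (d * d) = 1 := by
    have := mul_left_cancel hcm
    calc d * d * (d * d) = d * d * (d * d)⁻¹ := by rw [this]
      _ = 1 := mul_inv_cancel _
  have h1 : d * d = 1 := by
    refine eq_one_of_sq_of_odd e3 (Odd.of_dvd_nat (h.odd_orderOf hy hd) ?_)
    rw [← pow_two]
    exact orderOf_pow_dvd 2
  exact hd1 (eq_one_of_sq_of_odd h1 (h.odd_orderOf hy hd))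

theorem exists_twoStab_ne_one {y : G ⧸ NH T} (hy : y ≠ pt T) : ∃ d ∈ twoStab T y, d ≠ 1 := by
  by_contra hc
  push Not at hc
  have e : twoStab T y = ⊥ := (Subgroup.eq_bot_iff_forall _).2 hc
  have h1 := h.card_twoStab hy
  rw [e, Subgroup.card_bot] at h1
  obtain ⟨s, hs, t, ht, hs2, ht2, hst⟩ := h.toAI.exists_two_invol
  exact hst (congrArg Subtype.val ((Nat.card_eq_one_iff_unique.1 h1.symm).1.elim
    (⟨s, hs2, Subgroup.le_normalizer hs⟩ : {t : G // orderOf t = 2 ∧ t ∈ NH T})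
    ⟨t, ht2, Subgroup.le_normalizer ht⟩))

theorem three_fix_pt {y p : G ⧸ NH T} (hy : y ≠ pt T) (hp : p ≠ pt T) (hpy : p ≠ y) {g : G}
    (h1 : g • pt T = pt T) (h2 : g • y = y) (h3 : g • p = p) : g = 1 := by
  by_contra hg
  exact (h.fix_two hy (mem_twoStab.2 ⟨h1, h2⟩) hg h3).elim hp hpy

theorem three_fix {g : G} {x y z : G ⧸ NH T} (hxy : x ≠ y) (hxz : x ≠ z) (hyz : y ≠ z)
    (h1 : g • x = x) (h2 : g • y = y) (h3 : g • z = z) : g = 1 := by
  obtain ⟨k, rfl⟩ := QuotientGroup.mk_surjective x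
  have e := h.three_fix_pt (g := k⁻¹ * g * k) (y := k⁻¹ • y) (p := k⁻¹ • z)
    (fun e => hxy (by rw [← smul_pt, ← e, smul_inv_smul]))
    (fun e => hxz (by rw [← smul_pt, ← e, smul_inv_smul]))
    (fun e => hyz (MulAction.injective k⁻¹ e).symm)
    (by rw [mul_smul, mul_smul, smul_pt, h1, ← smul_pt, inv_smul_smul])
    (by rw [mul_smul, mul_smul, smul_inv_smul, h2])
    (by rw [mul_smul, mul_smul, smul_inv_smul, h3])
  calc g = k * (k⁻¹ * g * k) * k⁻¹ := by group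
    _ = 1 := by rw [e]; group

theorem A_transitive {y p : G ⧸ NH T} (hy : y ≠ pt T) (hp : p ≠ pt T) :
    ∃ a ∈ A, a • p = y := by
  obtain ⟨d, hd, hd1⟩ := h.exists_twoStab_ne_one hy
  obtain ⟨a, ha, hap⟩ := h.orbit_A hp (g := d) hd.1
  let f : ↥A → ↥A := fun c =>
    ⟨c.1⁻¹ * (d * c.1 * d⁻¹), mul_mem (inv_mem c.2) (h.conj_mem hd.1 c.2)⟩
  have hinj : Function.Injective f := by
    intro c c' e
    have e' : c.1⁻¹ * (d * c.1 * d⁻¹) = c'.1⁻¹ * (d * c'.1 * d⁻¹) := congrArg Subtype.val e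
    by_contra hne
    have hce : c.1 * c'.1⁻¹ = d * c.1 * d⁻¹ * (d * c'.1 * d⁻¹)⁻¹ := by
      calc c.1 * c'.1⁻¹ = c.1 * (c'.1⁻¹ * (d * c'.1 * d⁻¹)) * (d * c'.1 * d⁻¹)⁻¹ := by group
        _ = _ := by rw [← e']; group
    have hdc : d * (c.1 * c'.1⁻¹) = c.1 * c'.1⁻¹ * d := by
      calc d * (c.1 * c'.1⁻¹) = d * c.1 * d⁻¹ * (d * c'.1 * d⁻¹)⁻¹ * d := by group
        _ = _ := by rw [← hce]
    have hdy : d • (c.1 * c'.1⁻¹) • y = (c.1 * c'.1⁻¹) • y := by
      rw [← mul_smul, hdc, mul_smul, (mem_twoStab.1 hd).2]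
    have hm : c.1 * c'.1⁻¹ ∈ A := mul_mem c.2 (inv_mem c'.2)
    rcases h.fix_two hy hd hd1 hdy with e1 | e1
    · refine hy ?_
      rw [eq_inv_smul_iff.2 e1, smul_pt_iff]
      exact inv_mem (h.A_le_NH hm)
    · exact hne (Subtype.ext (mul_inv_eq_one.1 (h.free hy hm e1)))
  obtain ⟨c, hc⟩ := (Finite.injective_iff_surjective.1 hinj) ⟨a⁻¹, inv_mem ha⟩
  have hc' : c.1⁻¹ * (d * c.1 * d⁻¹) = a⁻¹ := congrArg Subtype.val hc
  have hfix : d • c.1 • p = c.1 • p := by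
    calc d • c.1 • p = (d * c.1 * d⁻¹) • d • p := by simp [← mul_smul]
      _ = (c.1 * (c.1⁻¹ * (d * c.1 * d⁻¹))) • a • p := by rw [hap, mul_inv_cancel_left]
      _ = _ := by rw [hc', mul_smul, inv_smul_smul]
  refine ⟨c.1, c.2, (h.fix_two hy hd hd1 hfix).resolve_left fun e => hp ?_⟩
  rw [eq_inv_smul_iff.2 e, smul_pt_iff]
  exact inv_mem (h.A_le_NH c.2)

theorem two_trans : MulAction.IsMultiplyPretransitive G (G ⧸ NH T) 2 := by
  have key : ∀ x y : G ⧸ NH T, x ≠ y → ∀ q, q ≠ pt T → ∃ g : G, g • x = pt T ∧ g • y = q := by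
    intro x y hxy q hq
    obtain ⟨k, rfl⟩ := QuotientGroup.mk_surjective x
    have hk : k⁻¹ • (k : G ⧸ NH T) = pt T := by rw [← smul_pt, inv_smul_smul]
    have h2 : k⁻¹ • y ≠ pt T := fun e => hxy (by rw [← smul_pt, ← e, smul_inv_smul])
    obtain ⟨a, ha, hax⟩ := h.A_transitive hq h2
    exact ⟨a * k⁻¹, by rw [mul_smul, hk, smul_pt_iff.2 (h.A_le_NH ha)], by rw [mul_smul, hax]⟩
  obtain ⟨q, hq⟩ := h.exists_ne_pt
  rw [MulAction.is_two_pretransitive_iff]
  intro a b c d hab hcd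
  obtain ⟨g, g1, g2⟩ := key a b hab q hq
  obtain ⟨k, k1, k2⟩ := key c d hcd q hq
  exact ⟨k⁻¹ * g, by rw [mul_smul, g1, ← k1, inv_smul_smul],
    by rw [mul_smul, g2, ← k2, inv_smul_smul]⟩

theorem isZassenhaus : Cfsg.IsZassenhausGroup G (G ⧸ NH T) := by
  obtain ⟨y, hy⟩ := h.exists_ne_pt
  obtain ⟨d, hd, hd1⟩ := h.exists_twoStab_ne_one hy
  obtain ⟨e1, e2⟩ := mem_twoStab.1 hd
  have hf : FaithfulSMul G (G ⧸ NH T) := by
    refine ⟨fun {g k} hgk => ?_⟩
    obtain ⟨z, hz, hz2⟩ := h.z_invol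
    have hfix : ∀ q : G ⧸ NH T, (k⁻¹ * g) • q = q := fun q => by
      rw [mul_smul, hgk, inv_smul_smul]
    obtain ⟨r, hr1, hr2⟩ : ∃ r : G ⧸ NH T, r ≠ pt T ∧ r ≠ y := by
      refine ⟨z • y, fun e => hy ?_, fun e => invol_ne_one hz2 ?_⟩
      · rw [eq_inv_smul_iff.2 e, smul_pt_iff]; exact inv_mem (h.A_le_NH hz)
      · exact h.A_inj hz (one_mem _) hy (by rw [one_smul, e])
    exact (inv_mul_eq_one.1 (h.three_fix_pt hy hr1 hr2 (hfix _) (hfix _) (hfix _))).symm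
  refine ⟨hf, h.two_trans, fun g a b c hab hbc hac => h.three_fix hab hac hbc,
    ⟨d, hd1, pt T, y, hy.symm, e1, e2⟩, fun N hN htr => ?_⟩
  -- a regular normal subgroup would be inverted by three commuting involutions
  by_contra! hreg
  obtain ⟨x, hxy⟩ := htr.exists_smul_eq (pt T) y
  have hx : (x : G) ∈ N := x.2
  have hN1 : ∀ u ∈ N, u • pt T = pt T → u = 1 := fun u hu hu' =>
    congrArg Subtype.val ((Subgroup.eq_bot_iff_forall _).1 (hreg (pt T)) ⟨u, hu⟩ hu')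
  have hfree : ∀ s ∈ A, orderOf s = 2 → ∀ u ∈ N, Commute u s → u = 1 := fun s hs hs2 u hu hc =>
    hN1 u hu (smul_pt_iff.2 (h.A_le_NH (h.mem_of_commute hs hs2 hc)))
  have hinv : ∀ s ∈ A, orderOf s = 2 → ∀ u ∈ N, s * u * s⁻¹ = u⁻¹ := by
    intro s hs hs2 u hu
    let f : N → N := fun v => ⟨(v : G)⁻¹ * (s * v * s⁻¹), mul_mem (inv_mem v.2)
      (hN.conj_mem v v.2 s)⟩
    have hinj : Function.Injective f := by
      intro v v' e
      have e' : (v : G)⁻¹ * (s * v * s⁻¹) = (v' : G)⁻¹ * (s * v' * s⁻¹) := congrArg Subtype.val e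
      refine Subtype.ext (mul_inv_eq_one.1 (hfree s hs hs2 ((v : G) * (v' : G)⁻¹)
        (mul_mem v.2 (inv_mem v'.2)) ?_))
      have e2 : s * ((v : G) * (v' : G)⁻¹) * s⁻¹ = (v : G) * (v' : G)⁻¹ := by
        calc s * ((v : G) * (v' : G)⁻¹) * s⁻¹
            = v * ((v : G)⁻¹ * (s * v * s⁻¹)) * ((v' : G)⁻¹ * (s * v' * s⁻¹))⁻¹ * (v' : G)⁻¹ := by
              group
          _ = _ := by rw [e']; group
      exact (mul_inv_eq_iff_eq_mul.1 e2).symm
    obtain ⟨v, hv⟩ := (Finite.injective_iff_surjective.1 hinj) ⟨u, hu⟩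
    have hv' : (v : G)⁻¹ * (s * v * s⁻¹) = u := congrArg Subtype.val hv
    rw [← hv', invol_inv hs2]
    calc s * ((v : G)⁻¹ * (s * v * s)) * s = s * (v : G)⁻¹ * s * v * (s * s) := by group
      _ = s * (v : G)⁻¹ * s * v := by rw [invol_mul_self hs2, mul_one]
      _ = _ := by rw [mul_inv_rev, mul_inv_rev, mul_inv_rev, inv_inv, invol_inv hs2]; group
  obtain ⟨s, hs, t, ht, hs2, ht2, hst⟩ := h.toAI.exists_two_invol
  have hst2 : orderOf (s * t) = 2 := by
    refine invol_of_mul_self ?_ fun e => hst ?_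
    · have hc := (h.comm (h.T_le hs) (h.T_le ht)).eq
      calc s * t * (s * t) = s * t * (t * s) := by rw [← hc]
        _ = s * (t * t) * s := by group
        _ = 1 := by rw [invol_mul_self ht2, mul_one, invol_mul_self hs2]
    · rw [← invol_inv hs2]; exact inv_eq_of_mul_eq_one_right e
  have hcx : Commute (x : G) (s * t) := by
    refine (mul_inv_eq_iff_eq_mul.1 (?_ : s * t * x * (s * t)⁻¹ = (x : G))).symm
    calc s * t * x * (s * t)⁻¹ = s * (t * x * t⁻¹) * s⁻¹ := by group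
      _ = (s * x * s⁻¹)⁻¹ := by rw [hinv t (h.T_le ht) ht2 x hx]; group
      _ = x := by rw [hinv s (h.T_le hs) hs2 x hx, inv_inv]
  have hx1 := hfree _ (mul_mem (h.T_le hs) (h.T_le ht)) hst2 x hx hcx
  refine hy (hxy.symm.trans ?_)
  show (x : G) • pt T = pt T
  rw [hx1, one_smul]

theorem elementary {a : G} (ha : a ∈ A) : a ^ 2 = 1 := by
  classical
  have := Fintype.ofFinite (G ⧸ NH T)
  obtain ⟨y, hy⟩ := h.exists_ne_pt
  have hst : MulAction.stabilizer G (pt T) ⊓ MulAction.stabilizer G y = twoStab T y := by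
    ext d
    rw [Subgroup.mem_inf, MulAction.mem_stabilizer_iff, MulAction.mem_stabilizer_iff, mem_twoStab]
  have hb := (CfsgLib.Perm.abelian_kernel_bound_aux (Nat.card G) rfl h.isZassenhaus (pt T) y A
    hy.symm (fun x hx => smul_pt_iff.2 (h.A_le_NH hx))
    (fun g hg x hx => h.conj_mem (smul_pt_iff.1 hg) hx) (fun x hx z hz => (h.comm hx hz).eq)
    (fun u v hu hv => by
      obtain ⟨c, hc, hcu⟩ := h.A_transitive hv hu
      exact ⟨⟨c, hc⟩, hcu, fun c' hc' => Subtype.ext (h.A_inj c'.2 hc hu (hc'.trans hcu.symm))⟩)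
    (by rw [hst]; exact h.odd_twoStab hy)).2
  rw [hst, h.card_twoStab hy] at hb
  let Om : Subgroup G :=
    { carrier := {x | x ∈ A ∧ x ^ 2 = 1}
      one_mem' := ⟨one_mem A, one_pow 2⟩
      mul_mem' := fun {x z} hx hz => ⟨mul_mem hx.1 hz.1, by
        rw [(h.comm hx.1 hz.1).mul_pow, hx.2, hz.2, one_mul]⟩
      inv_mem' := fun {x} hx => ⟨inv_mem hx.1, by rw [inv_pow, hx.2, inv_one]⟩ }
  have hle : Om ≤ A := fun x hx => hx.1
  have hcard : Nat.card Om = Nat.card {t : G // orderOf t = 2 ∧ t ∈ NH T} + 1 := by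
    have := Fintype.ofFinite Om
    let e : {t : G // orderOf t = 2 ∧ t ∈ NH T} ≃ {x : Om // x ≠ 1} :=
      { toFun := fun t => ⟨⟨t.1, h.invol_mem_A t.2.1 t.2.2, by
            rw [pow_two]; exact invol_mul_self t.2.1⟩,
          fun e => invol_ne_one t.2.1 (congrArg Subtype.val e)⟩
        invFun := fun x => ⟨x.1.1, invol_of_mul_self (by rw [← pow_two]; exact x.1.2.2)
          (fun e => x.2 (Subtype.ext e)), h.A_le_NH x.1.2.1⟩
        left_inv := fun _ => rfl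
        right_inv := fun _ => rfl }
    rw [Nat.card_congr e, Nat.card_eq_fintype_card (α := {x : Om // x ≠ 1}),
      Fintype.card_subtype_compl, Fintype.card_subtype_eq, Nat.card_eq_fintype_card]
    exact (Nat.sub_add_cancel Fintype.card_pos).symm
  obtain ⟨c, hc⟩ := Subgroup.card_dvd_of_le hle
  have hc1 : c = 1 := by
    have h0 : 0 < Nat.card A := Nat.card_pos
    rcases Nat.lt_or_ge c 2 with h2 | h2
    · interval_cases c
      · omega
      · rfl
    · have := Nat.mul_le_mul_left (Nat.card Om) h2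
      omega
  have heq : Om = A := Subgroup.eq_of_le_of_card_ge hle (by rw [hc, hc1, mul_one])
  rw [← heq] at ha
  exact ha.2

theorem caHyp : CAHyp T := by
  refine ⟨h.toAI.not_cyclic, h.toAI.not_normal, fun t ht => ?_⟩
  have : Fact (Nat.Prime 2) := ⟨Nat.prime_two⟩
  obtain ⟨g, hg'⟩ := exists_conj_mem_sylow T
    (IsPGroup.of_card (n := 1) (by rw [Nat.card_zpowers, ht, pow_one]) :
      IsPGroup 2 (Subgroup.zpowers t))
  have hg : g * t * g⁻¹ ∈ (T : Subgroup G) := hg' t (Subgroup.mem_zpowers t)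
  have ht2 : orderOf (g * t * g⁻¹) = 2 := (orderOf_conj_eq g t).trans ht
  have hm : ∀ c ∈ Subgroup.centralizer ({t} : Set G), g * c * g⁻¹ ∈ A := fun c hc =>
    h.mem_of_commute (h.T_le hg) ht2 (by
      have := (Commute.map (show Commute c t from Subgroup.mem_centralizer_singleton_iff.1 hc)
        (MulAut.conj g).toMonoidHom)
      simpa using this)
  refine ⟨⟨⟨fun a b => Subtype.ext ?_⟩⟩, fun c hc => ?_⟩
  · have := (h.comm (hm _ a.2) (hm _ b.2)).map (MulAut.conj g⁻¹).toMonoidHom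
    simpa [mul_assoc] using this.eq
  · have e := h.elementary (hm c hc)
    rw [conj_pow] at e
    exact conj_eq_one_iff.1 e

end AIFree

end CfsgLib.Invol
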