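import Cfsg.Agent.Lib.Invol.AICore

/-!
# Involution centralisers at two points meet in the centraliser of all involutions

The proof is by induction: the hypothesis `SubHyp` is the main theorem for proper subgroups.
-/

set_option autoImplicit false
set_option linter.unusedSectionVars false
set_option linter.style.haveILetI false

namespace CfsgLib.Invol

open scoped Pointwise

variable {G : Type*} [Group G] [Finite G]

/-- The conclusion of the theorem for proper subgroups. -/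
def SubHyp (T : Sylow 2 G) (A : Subgroup G) : Prop :=
  ∀ M : Subgroup G, M ≠ ⊤ → (T : Subgroup G) ≤ M → ¬ M ≤ NH T →
    (∀ b ∈ A, b ∈ M → Odd (orderOf b) → ∀ m ∈ M, Commute b m) ∧
      ∀ g ∈ M, ∀ g' ∈ M, g ∉ NH T → g' ∉ NH T → ∃ t ∈ (T : Subgroup G), ∃ n ∈ NH T, g' = t * g * n

variable {T : Sylow 2 G} {A : Subgroup G}

namespace AIHyp

variable (h : AIHyp T A)
include h

theorem T_inj {a b : G} (ha : a ∈ (T : Subgroup G)) (hb : b ∈ (T : Subgroup G)) {y : G ⧸ NH T}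
    (hy : y ≠ pt T) (hab : a • y = b • y) : a = b := by
  have hm : b⁻¹ * a ∈ twoStab T y := mem_twoStab.2
    ⟨smul_pt_iff.2 (Subgroup.le_normalizer (mul_mem (inv_mem hb) ha)),
      by rw [mul_smul, hab, inv_smul_smul]⟩
  obtain ⟨n, hn⟩ := T.isPGroup' ⟨_, mul_mem (inv_mem hb) ha⟩
  have h2 : (b⁻¹ * a) ^ 2 ^ n = 1 := congrArg Subtype.val hn
  obtain ⟨m, -, hm2⟩ := (Nat.dvd_prime_pow Nat.prime_two).1 (orderOf_dvd_of_pow_eq_one h2)
  have hodd := h.odd_orderOf hy hm
  rw [hm2] at hodd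
  have hm0 : m = 0 := by
    by_contra hne
    exact Nat.not_even_iff_odd.2 hodd ((Nat.even_pow.2 ⟨even_two, hne⟩))
  rw [hm0, pow_zero, orderOf_eq_one_iff, inv_mul_eq_one] at hm2
  exact hm2.symm

/-- The Bender argument: no proper overgroup of `N(T)` other than `N(T)` exists, given that `T`
is transitive on the points moved by it. -/
theorem false_of_overgroup {M : Subgroup G} (hM : M ≠ ⊤) (hle : NH T ≤ M)
    {g₁ : G} (hg₁ : g₁ ∈ M) (hg₁' : g₁ ∉ NH T)
    (htr : ∀ g ∈ M, ∀ g' ∈ M, g ∉ NH T → g' ∉ NH T →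
      ∃ t ∈ (T : Subgroup G), ∃ n ∈ NH T, g' = t * g * n) : False := by
  classical
  have hse : Cfsg.IsStronglyEmbedded M := by
    obtain ⟨t, ht, ht2⟩ := h.exists_invol
    refine ⟨hM, even_card_of_invol_mem ht2 (hle (Subgroup.le_normalizer ht)), fun g hg => ?_⟩
    by_contra hodd
    rw [Nat.not_odd_iff_even] at hodd
    obtain ⟨i, ⟨hiM, k, hk, hki⟩, hi⟩ := exists_invol_mem hodd
    have hki' : g * k * g⁻¹ = i := hki
    have hk2 : orderOf k = 2 := by rw [← orderOf_conj_eq g k, hki', hi]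
    have : Fact (Nat.Prime 2) := ⟨Nat.prime_two⟩
    let TM : Sylow 2 M := T.subtype ((Subgroup.le_normalizer).trans hle)
    have hconj : ∀ j ∈ M, orderOf j = 2 → ∃ m ∈ M, m * j * m⁻¹ ∈ (T : Subgroup G) := by
      intro j hj hj2
      obtain ⟨m, hm⟩ := exists_conj_mem_sylow TM (H := Subgroup.zpowers (⟨j, hj⟩ : M))
        (IsPGroup.of_card (n := 1) (by rw [Nat.card_zpowers, Subgroup.orderOf_mk, hj2, pow_one]))
      exact ⟨m, m.2, hm _ (Subgroup.mem_zpowers _)⟩
    obtain ⟨m, hm, hmi⟩ := hconj i hiM hi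
    obtain ⟨m', hm', hmk⟩ := hconj k hk hk2
    have hgi : (m * g * m'⁻¹) * (m' * k * m'⁻¹) * (m * g * m'⁻¹)⁻¹ ∈ A := by
      have e : (m * g * m'⁻¹) * (m' * k * m'⁻¹) * (m * g * m'⁻¹)⁻¹ = m * i * m⁻¹ := by
        rw [← hki']; group
      rw [e]; exact h.T_le hmi
    have hN := h.normalizer_A ▸ h.mem_normalizer_A hmk ((orderOf_conj_eq m' k).trans hk2) hgi
    apply hg
    have e : g = m⁻¹ * (m * g * m'⁻¹) * m' := by group
    rw [e]
    exact mul_mem (mul_mem (inv_mem hm) (hle hN)) hm'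
  obtain ⟨g, -, hg⟩ := SetLike.exists_of_lt hM.lt_top
  have hg' : (g : G ⧸ M) ≠ ((1 : G) : G ⧸ M) := fun e => hg (by
    have := QuotientGroup.eq.1 e
    simpa using this)
  set E := M ⊓ M.map (MulAut.conj g).toMonoidHom with hEdef
  have hEodd : Odd (Nat.card E) := hse.2.2 g hg
  have hEM : E ≤ M := inf_le_left
  -- `E` is transitive on the involutions of `M`
  have hEtr : ∀ s t : G, orderOf s = 2 → orderOf t = 2 → s ∈ M → t ∈ M →
      ∃ d ∈ E, d * s * d⁻¹ = t := by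
    intro s t hs ht hsM htM
    have hfix : ∀ u ∈ M, u • ((1 : G) : G ⧸ M) = ((1 : G) : G ⧸ M) := fun u hu =>
      (fix_coset_iff _ _).2 (by simpa using hu)
    obtain ⟨d, hd1, hd2, hd3⟩ := se_stab_transitive hse hg'.symm hs ht (hfix s hsM) (hfix t htM)
    exact ⟨d, mem_inter_conj_iff.2 ⟨hd1, hd2⟩, hd3⟩
  obtain ⟨s, hsT, t₂, ht₂T, hs2, ht₂, hst⟩ := h.exists_two_invol
  have hTM : ∀ {u : G}, u ∈ (T : Subgroup G) → u ∈ M := fun hu => hle (Subgroup.le_normalizer hu)
  have hEpt : ∀ m ∈ M, ∃ d ∈ E, d • pt T = m • pt T := by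
    intro m hm
    obtain ⟨d, hd, hdm⟩ := hEtr s (m * s * m⁻¹) hs2 ((orderOf_conj_eq m s).trans hs2) (hTM hsT)
      (mul_mem (mul_mem hm (hTM hsT)) (inv_mem hm))
    refine ⟨d, hd, se_fix_eq h.stronglyEmbedded ((orderOf_conj_eq d s).trans hs2) (x := d • pt T)
      ?_ ?_⟩
    · rw [mul_smul, mul_smul, inv_smul_smul, smul_pt_iff.2 (Subgroup.le_normalizer hsT)]
    · rw [hdm, mul_smul, mul_smul, inv_smul_smul, smul_pt_iff.2 (Subgroup.le_normalizer hsT)]
  -- the stabiliser of the base point in `E` has a fixed point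
  set E₀ := E ⊓ NH T with hE₀
  have hE₀fix : ∀ e ∈ E₀, e • pt T = pt T := fun e he => smul_pt_iff.2 he.2
  obtain ⟨y', hy'⟩ : ∃ y' : G ⧸ NH T, y' = g₁ • pt T := ⟨_, rfl⟩
  have hy'ne : y' ≠ pt T := fun e => hg₁' (smul_pt_iff.1 (hy'.symm.trans e))
  have hphi : ∀ e : E₀, ∃ u : (T : Subgroup G), (e : G) • y' = (u : G) • y' := by
    intro e
    obtain ⟨u, hu, n, hn, hun⟩ := htr g₁ hg₁ ((e : G) * g₁) (mul_mem (hEM e.2.1) hg₁) hg₁'
      (fun hc => hg₁' (by
        have := (NH T).mul_mem ((NH T).inv_mem e.2.2) hc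
        simpa using this))
    exact ⟨⟨u, hu⟩, by rw [hy', ← mul_smul, hun, mul_smul, mul_smul, smul_pt_iff.2 hn]⟩
  choose φ hφ using hphi
  have hTcomm : ∀ a b : (T : Subgroup G), a * b = b * a := fun a b =>
    Subtype.ext (h.comm _ (h.T_le a.2) _ (h.T_le b.2)).eq
  letI : CommGroup (T : Subgroup G) :=
    { (inferInstance : Group (T : Subgroup G)) with mul_comm := hTcomm }
  have := Fintype.ofFinite E₀
  have hconjT : ∀ {e u : G}, e ∈ E₀ → u ∈ (T : Subgroup G) → e * u * e⁻¹ ∈ (T : Subgroup G) :=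
    fun he hu => CAHyp.conj_mem he.2 hu
  let cj : E₀ → ((T : Subgroup G) →* (T : Subgroup G)) := fun e =>
    MonoidHom.mk' (fun u => ⟨(e : G) * u * (e : G)⁻¹, hconjT e.2 u.2⟩) fun a b =>
      Subtype.ext (by simp only [Subgroup.coe_mul]; group)
  have hcoc : ∀ e f : E₀, φ (e * f) = cj e (φ f) * φ e := by
    intro e f
    refine Subtype.ext (h.T_inj (φ (e * f)).2 (cj e (φ f) * φ e).2 hy'ne ?_)
    show ((φ (e * f) : (T : Subgroup G)) : G) • y' = ((e : G) * φ f * (e : G)⁻¹ * φ e) • y'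
    rw [← hφ]
    calc ((e : G) * f) • y' = (e : G) • ((φ f : (T : Subgroup G)) : G) • y' := by
          rw [mul_smul, hφ]
      _ = ((e : G) * φ f * (e : G)⁻¹) • (e : G) • y' := by
          rw [← mul_smul, ← mul_smul, inv_mul_cancel_right]
      _ = _ := by rw [hφ e, ← mul_smul]
  have hcop : (Nat.card (T : Subgroup G)).Coprime (Nat.card E₀) := by
    obtain ⟨k, hk⟩ := IsPGroup.iff_card.1 T.isPGroup'
    rw [hk]
    exact (Nat.coprime_two_left.2 (Odd.of_dvd_nat hEodd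
      (Subgroup.card_dvd_of_le inf_le_left))).pow_left k
  obtain ⟨c, hc⟩ : ∃ c : (T : Subgroup G), ∀ e : E₀, cj e c * φ e = c := by
    obtain ⟨c, hc⟩ : ∃ c : (T : Subgroup G), c ^ Nat.card E₀ = ∏ f : E₀, φ f := by
      obtain ⟨c, hc⟩ := (powCoprime hcop).surjective (∏ f : E₀, φ f)
      exact ⟨c, hc⟩
    refine ⟨c, fun e => (powCoprime hcop).injective ?_⟩
    change (cj e c * φ e) ^ Nat.card E₀ = c ^ Nat.card E₀
    rw [mul_pow, ← map_pow, hc, map_prod, Nat.card_eq_fintype_card, ← Finset.card_univ,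
      ← Finset.prod_const, ← Finset.prod_mul_distrib]
    exact (Finset.prod_congr rfl fun f _ => (hcoc e f).symm).trans
      (Equiv.prod_comp (Equiv.mulLeft e) φ)
  obtain ⟨δ, hδ⟩ : ∃ δ : G ⧸ NH T, δ = (c : G) • y' := ⟨_, rfl⟩
  have hδne : δ ≠ pt T := fun e => hy'ne (by
    rw [eq_inv_smul_iff.2 (hδ.symm.trans e), smul_pt_iff]
    exact inv_mem (Subgroup.le_normalizer c.2))
  have hδfix : ∀ e ∈ E₀, e • δ = δ := by
    intro e he
    rw [hδ]
    calc e • (c : G) • y' = (e * (c : G) * e⁻¹) • e • y' := by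
          rw [← mul_smul, ← mul_smul, inv_mul_cancel_right]
      _ = (c : G) • y' := by
          rw [hφ ⟨e, he⟩, ← mul_smul]
          exact congrArg (fun u : (T : Subgroup G) => (u : G) • y') (hc ⟨e, he⟩)
  have hδM : ∀ {u : G}, u ∈ (T : Subgroup G) → ∃ m ∈ M, u • δ = m • pt T := fun {u} hu =>
    ⟨u * ((c : G) * g₁), mul_mem (hTM hu) (mul_mem (hTM c.2) hg₁), by
      rw [hδ, hy', mul_smul, mul_smul]⟩
  -- the only points of the orbit fixed by `E₀` are the base point and `δ`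
  have honly : ∀ m ∈ M, (∀ e ∈ E₀, e • m • pt T = m • pt T) →
      m • pt T = pt T ∨ m • pt T = δ := by
    intro m hm hfix
    by_cases hmH : m ∈ NH T
    · exact Or.inl (smul_pt_iff.2 hmH)
    right
    obtain ⟨u, hu, n, hn, hun⟩ := htr ((c : G) * g₁) (mul_mem (hTM c.2) hg₁) m hm
      (fun hc' => hg₁' (by
        have := (NH T).mul_mem ((NH T).inv_mem (Subgroup.le_normalizer c.2 : (c : G) ∈ NH T)) hc'
        simpa using this)) hmH
    have hmδ : m • pt T = u • δ := by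
      rw [hδ, hy', hun, mul_smul, mul_smul, smul_pt_iff.2 hn, mul_smul]
    by_contra hne
    have hu1 : u ≠ 1 := fun e => hne (by rw [hmδ, e, one_smul])
    have hfixu : ∀ e ∈ E₀, Commute e u := by
      intro e he
      have h1 : (e * u * e⁻¹) • δ = u • δ := by
        have h2 := hfix e he
        rw [hmδ] at h2
        rw [mul_smul, mul_smul, inv_smul_eq_iff.2 (hδfix e he).symm, h2]
      exact mul_inv_eq_iff_eq_mul.1 (h.T_inj (hconjT he hu) hu hδne h1)
    -- an involution power of `u` is fixed by `E₀`, which is transitive on involutions of `T`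
    obtain ⟨i, hiT, hi2, hicomm⟩ : ∃ i ∈ (T : Subgroup G), orderOf i = 2 ∧
        ∀ e ∈ E₀, Commute e i := by
      obtain ⟨k, hk⟩ := T.isPGroup' ⟨u, hu⟩
      have hk' : u ^ 2 ^ k = 1 := congrArg Subtype.val hk
      obtain ⟨m2, -, hm2⟩ := (Nat.dvd_prime_pow Nat.prime_two).1 (orderOf_dvd_of_pow_eq_one hk')
      have hm0 : m2 ≠ 0 := fun e => hu1 (orderOf_eq_one_iff.1 (by rw [hm2, e, pow_zero]))
      obtain ⟨j, rfl⟩ : ∃ j, m2 = j + 1 := ⟨m2 - 1, by omega⟩
      refine ⟨u ^ 2 ^ j, pow_mem hu _, ?_, fun e he => (hfixu e he).pow_right _⟩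
      rw [orderOf_pow' u (by positivity), hm2, pow_succ,
        Nat.gcd_eq_right (Dvd.intro 2 rfl), Nat.mul_div_cancel_left _ (by positivity)]
    have hall : ∀ t ∈ (T : Subgroup G), orderOf t = 2 → t = i := by
      intro t ht ht2
      obtain ⟨d, hd, hdt⟩ := hEtr i t hi2 ht2 (hTM hiT) (hTM ht)
      have hd0 : d ∈ E₀ := by
        refine ⟨hd, smul_pt_iff.1 (se_fix_eq h.stronglyEmbedded ht2 (x := d • pt T) ?_ ?_)⟩
        · rw [← hdt, mul_smul, mul_smul, inv_smul_smul,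
            smul_pt_iff.2 (Subgroup.le_normalizer hiT)]
        · exact smul_pt_iff.2 (Subgroup.le_normalizer ht)
      rw [(hicomm d hd0).eq, mul_inv_cancel_right] at hdt
      exact hdt.symm
    exact hst ((hall s hsT hs2).trans (hall t₂ ht₂T ht₂).symm)
  -- an element of `E` moving the base point to `δ` interchanges the two points
  obtain ⟨m₀, hm₀, hm₀δ⟩ := hδM (one_mem (T : Subgroup G))
  rw [one_smul] at hm₀δ
  obtain ⟨e₀, he₀, he₀δ⟩ := hEpt m₀ hm₀
  rw [← hm₀δ] at he₀δ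
  have hnorm : ∀ f ∈ E₀, e₀ * f * e₀⁻¹ ∈ E₀ := by
    intro f hf
    have hle' : E₀ ≤ E ⊓ MulAction.stabilizer G δ := fun x hx =>
      ⟨hx.1, MulAction.mem_stabilizer_iff.2 (hδfix x hx)⟩
    have heq : E₀ = E ⊓ MulAction.stabilizer G δ := by
      refine Subgroup.eq_of_le_of_card_ge hle' ?_
      let f : ↥(E ⊓ MulAction.stabilizer G δ) → E₀ := fun x =>
        ⟨e₀⁻¹ * (x : G) * e₀, E.mul_mem (E.mul_mem (E.inv_mem he₀) x.2.1) he₀, smul_pt_iff.1 (by
          rw [mul_smul, mul_smul, he₀δ, MulAction.mem_stabilizer_iff.1 x.2.2, inv_smul_eq_iff,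
            he₀δ])⟩
      exact Nat.card_le_card_of_injective f fun a b hab => Subtype.ext
        (mul_left_cancel (mul_right_cancel (congrArg Subtype.val hab)))
    rw [heq]
    refine ⟨E.mul_mem (E.mul_mem he₀ hf.1) (E.inv_mem he₀), MulAction.mem_stabilizer_iff.2 ?_⟩
    rw [mul_smul, mul_smul, inv_smul_eq_iff.2 he₀δ.symm, hE₀fix f hf, he₀δ]
  obtain ⟨m₁, hm₁, hm₁e⟩ : ∃ m ∈ M, m • pt T = e₀ • δ :=
    ⟨e₀ * m₀, mul_mem (hEM he₀) hm₀, by rw [mul_smul, ← hm₀δ]⟩
  have hswap : e₀ • δ = pt T := by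
    rcases honly m₁ hm₁ (fun e he => by
      rw [hm₁e]
      obtain ⟨f, hf, hef⟩ : ∃ f ∈ E₀, e * e₀ = e₀ * f := by
        refine ⟨e₀⁻¹ * e * e₀, ?_, by group⟩
        have hn : e₀ ∈ Subgroup.normalizer (E₀ : Set G) := Subgroup.mem_normalizer_fintype hnorm
        exact (Subgroup.mem_normalizer_iff''.1 hn e).1 he
      rw [← mul_smul, hef, mul_smul, hδfix f hf]) with e | e
    · exact hm₁e.symm.trans e
    · refine absurd (MulAction.injective e₀ ((hm₁e.symm.trans e).trans he₀δ.symm)) hδne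
  have hsq : (e₀ * e₀) • pt T = pt T := by rw [mul_smul, he₀δ, hswap]
  obtain ⟨k, hk⟩ : Odd (orderOf e₀) := Odd.of_dvd_nat hEodd (Subgroup.orderOf_dvd_natCard _ he₀)
  have hfix : ∀ n : ℕ, ((e₀ * e₀) ^ n) • pt T = pt T := by
    intro n
    induction n with
    | zero => rw [pow_zero, one_smul]
    | succ n ih => rw [pow_succ, mul_smul, hsq, ih]
  have e : e₀ = (e₀ * e₀) ^ (k + 1) := by
    rw [← pow_two, ← pow_mul, show 2 * (k + 1) = orderOf e₀ + 1 by omega, pow_succ,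
      pow_orderOf_eq_one, one_mul]
  refine hδne ?_
  rw [← he₀δ, e, hfix]

/-- Elements fixed at two points by commutation commute with all involutions. -/
theorem inter_pt (hsub : SubHyp T A) {y : G ⧸ NH T} (hy : y ≠ pt T) {a : G} (haA : a ∈ A)
    (hay : a ∈ FixC T y) : a ∈ InvC G := by
  by_contra haN
  obtain ⟨g, rfl⟩ := QuotientGroup.mk_surjective y
  have hgH : g ∉ NH T := fun e => hy (by rw [← smul_pt, smul_pt_iff.2 e])
  obtain ⟨s, hsT, hs2⟩ := h.exists_invol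
  set j := g * s * g⁻¹ with hjdef
  have hj2 : orderOf j = 2 := (orderOf_conj_eq g s).trans hs2
  have hjfix : j • (g : G ⧸ NH T) = g := by
    rw [fix_coset_iff]
    simp [hjdef, mul_assoc, Subgroup.le_normalizer hsT]
  have hjH : j ∉ NH T := fun e => hy
    (se_fix_eq h.stronglyEmbedded hj2 hjfix (smul_pt_iff.2 e))
  have hodd : ∀ b ∈ A, b ∈ FixC T (g : G ⧸ NH T) → Odd (orderOf b) := fun b hb hb' =>
    h.odd_orderOf hy (mem_twoStab.2 ⟨smul_pt_iff.2 (h.A_le_NH hb), h.fix_of_mem_FixC hb'⟩)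
  have hoda := hodd a haA hay
  -- the odd part of `A` is centralised by the centraliser of `a`
  set L := Subgroup.centralizer ({a} : Set G) with hL
  have hAL : A ≤ L := fun b hb => Subgroup.mem_centralizer_singleton_iff.2 (h.comm b hb a haA)
  have hjL : j ∈ L := Subgroup.mem_centralizer_singleton_iff.2
    (mem_FixC.1 hay j hj2 hjfix).symm
  have hLtop : L ≠ ⊤ := fun e => haN (mem_InvC.2 fun i _ =>
    (Subgroup.mem_centralizer_singleton_iff.1 (e ▸ Subgroup.mem_top i : i ∈ L)).symm)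
  obtain ⟨hB, -⟩ := hsub L hLtop (h.T_le.trans hAL) (fun hle => hjH (hle hjL))
  let B : Subgroup G :=
    { carrier := {b | b ∈ A ∧ Odd (orderOf b)}
      one_mem' := ⟨one_mem A, by simp⟩
      mul_mem' := fun {b c} hb hc => ⟨mul_mem hb.1 hc.1,
        Odd.of_dvd_nat (hb.2.mul hc.2) (h.comm b hb.1 c hc.1).orderOf_mul_dvd_mul_orderOf⟩
      inv_mem' := fun {b} hb => ⟨inv_mem hb.1, by rw [orderOf_inv]; exact hb.2⟩ }
  set M := Subgroup.normalizer (B : Set G)
  have hHM : NH T ≤ M := fun n hn => Subgroup.mem_normalizer_fintype fun b hb =>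
    ⟨h.conj_mem hn hb.1, by rw [orderOf_conj_eq]; exact hb.2⟩
  have hjM : j ∈ M := Subgroup.mem_normalizer_fintype fun b hb => by
    have hc : Commute b j := hB b hb.1 (hAL hb.1) hb.2 j hjL
    rw [← hc.eq, mul_inv_cancel_right]
    exact hb
  have hMtop : M ≠ ⊤ := by
    intro e
    refine haN (mem_InvC.2 fun i hi => ?_)
    have : Fact (Nat.Prime 2) := ⟨Nat.prime_two⟩
    obtain ⟨x, hx⟩ := exists_conj_mem_sylow T
      (IsPGroup.of_card (n := 1) (by rw [Nat.card_zpowers, hi, pow_one]) :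
        IsPGroup 2 (Subgroup.zpowers i))
    have hxi := hx i (Subgroup.mem_zpowers i)
    have hxa : x * a * x⁻¹ ∈ B :=
      (Subgroup.mem_normalizer_iff.1 (e ▸ Subgroup.mem_top x : x ∈ M) a).1 ⟨haA, hoda⟩
    have := ((h.comm _ hxa.1 _ (h.T_le hxi))).map (MulAut.conj x⁻¹).toMonoidHom
    simpa [mul_assoc] using this
  exact h.false_of_overgroup hMtop hHM hjM hjH
    (hsub M hMtop (Subgroup.le_normalizer.trans hHM) (fun hle => hjH (hle hjM))).2

theorem inter (hsub : SubHyp T A) {r r' : G ⧸ NH T} (hne : r ≠ r') {a : G} (ha : a ∈ FixC T r)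
    (ha' : a ∈ FixC T r') : a ∈ InvC G := by
  obtain ⟨g, rfl⟩ := QuotientGroup.mk_surjective r
  have h1 := FixC_smul g⁻¹ ha
  have h2 := FixC_smul g⁻¹ ha'
  rw [← smul_pt (T := T) g, inv_smul_smul, h.FixC_pt] at h1
  have := h.inter_pt hsub (fun e => hne (by rw [← smul_pt, ← e, smul_inv_smul])) h1 h2
  have h3 := normal_InvC.conj_mem _ this g
  simpa [mul_assoc] using h3

/-- An element of `A` fixing a second point commutes with all involutions. -/
theorem fix_pt (hsub : SubHyp T A) {y : G ⧸ NH T} (hy : y ≠ pt T) {a : G} (haA : a ∈ A)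
    (hay : a • y = y) : a ∈ InvC G := by
  by_contra haN
  obtain ⟨w, hw, hwy⟩ := se_swap_exists h.stronglyEmbedded hy.symm
  have hwinv := invol_inv hw
  have hwy' : w • y = pt T := invol_smul_swap hw hwy
  have haP : a • pt T = pt T := smul_pt_iff.2 (h.A_le_NH haA)
  set b := w * a * w⁻¹ with hb
  have hbF : b ∈ FixC T y := by
    have := FixC_smul w (h.FixC_pt.symm ▸ haA : a ∈ FixC T (pt T))
    rwa [hwy] at this
  have hbP : b • pt T = pt T := by rw [hb, hwinv, mul_smul, mul_smul, hwy, hay, hwy']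
  have hby : b • y = y := h.fix_of_mem_FixC hbF
  have hwb : w * b * w⁻¹ = a := by
    rw [hb, hwinv, ← mul_assoc, ← mul_assoc, invol_mul_self hw, one_mul, mul_assoc,
      invol_mul_self hw, mul_one]
  have hcA : a * b * a⁻¹ * b⁻¹ ∈ A := by
    have e : a * b * a⁻¹ * b⁻¹ = a * (b * a⁻¹ * b⁻¹) := by group
    rw [e]
    exact mul_mem haA (h.conj_mem (smul_pt_iff.1 hbP) (inv_mem haA))
  have hcy : a * b * a⁻¹ * b⁻¹ ∈ FixC T y := by
    refine mul_mem ?_ (inv_mem hbF)
    have := FixC_smul a hbF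
    rwa [hay] at this
  have hcN := h.inter_pt hsub hy hcA hcy
  have hab : Commute a b := by
    have hcw : Commute (a * b * a⁻¹ * b⁻¹) w := mem_InvC.1 hcN w hw
    have e1 : w * (a * b * a⁻¹ * b⁻¹) * w⁻¹ = a * b * a⁻¹ * b⁻¹ := by
      rw [← hcw.eq, mul_inv_cancel_right]
    have e2 : w * (a * b * a⁻¹ * b⁻¹) * w⁻¹ = (a * b * a⁻¹ * b⁻¹)⁻¹ := by
      calc w * (a * b * a⁻¹ * b⁻¹) * w⁻¹
          = (w * a * w⁻¹) * (w * b * w⁻¹) * (w * a * w⁻¹)⁻¹ * (w * b * w⁻¹)⁻¹ := by group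
        _ = b * a * b⁻¹ * a⁻¹ := by rw [hwb, ← hb]
        _ = _ := by group
    have h1 : a * b * a⁻¹ * b⁻¹ = 1 := eq_one_of_sq_of_odd (by
      nth_rewrite 1 [e1.symm.trans e2]
      exact inv_mul_cancel _) (h.odd_orderOf_InvC hcN)
    show a * b = b * a
    calc a * b = (a * b * a⁻¹ * b⁻¹) * (b * a) := by group
      _ = b * a := by rw [h1, one_mul]
  have hodd : Odd (orderOf (a * b⁻¹)) := h.odd_orderOf hy (mem_twoStab.2
    ⟨by rw [mul_smul, inv_smul_eq_iff.2 hbP.symm, haP],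
      by rw [mul_smul, inv_smul_eq_iff.2 hby.symm, hay]⟩)
  have hne : a ≠ b := fun e => haN (h.inter_pt hsub hy haA (e ▸ hbF))
  have hcinv : w * (a * b⁻¹) * w⁻¹ = (a * b⁻¹)⁻¹ := by
    calc w * (a * b⁻¹) * w⁻¹ = (w * a * w⁻¹) * (w * b * w⁻¹)⁻¹ := by group
      _ = b * a⁻¹ := by rw [hwb, ← hb]
      _ = _ := by group
  have hi2 : orderOf (a * b⁻¹ * w) = 2 := by
    refine invol_of_mul_self ?_ fun e => ?_
    · calc a * b⁻¹ * w * (a * b⁻¹ * w) = (a * b⁻¹) * (w * (a * b⁻¹) * w⁻¹) * (w * w) := by group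
        _ = 1 := by rw [hcinv, invol_mul_self hw, mul_one, mul_inv_cancel]
    · have hwH : w ∉ NH T := fun hwH => hy (hwy.symm.trans (smul_pt_iff.2 hwH))
      refine hwH (smul_pt_iff.1 ?_)
      rw [eq_inv_of_mul_eq_one_right e, inv_smul_eq_iff, mul_smul, inv_smul_eq_iff.2 hbP.symm, haP]
  obtain ⟨r, hr, -⟩ := se_existsUnique_fix h.stronglyEmbedded hw
  obtain ⟨r', hr', -⟩ := se_existsUnique_fix h.stronglyEmbedded hi2
  have hfw : Commute (a * b) w := by
    have e : w * (a * b) * w⁻¹ = a * b := by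
      calc w * (a * b) * w⁻¹ = (w * a * w⁻¹) * (w * b * w⁻¹) := by group
        _ = a * b := by rw [hwb, ← hb, hab.eq]
    exact (mul_inv_eq_iff_eq_mul.1 e).symm
  have hfi : Commute (a * b) (a * b⁻¹ * w) := by
    refine Commute.mul_right ?_ hfw
    exact ((Commute.refl a).mul_left hab.symm).mul_right
      ((hab.mul_left (Commute.refl b)).inv_right)
  by_cases hrr : r = r'
  · have hcomm := (h.invol_commute hw hi2 hr (hrr ▸ hr')).eq
    refine hne (mul_inv_eq_one.1 (eq_one_of_sq_of_odd ?_ hodd))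
    have e : w * (a * b⁻¹ * w) = (a * b⁻¹)⁻¹ * (w * w) := by
      rw [← hcinv]; group
    rw [e, mul_assoc (a * b⁻¹)] at hcomm
    have h3 := mul_right_cancel hcomm
    nth_rewrite 1 [← h3]
    exact inv_mul_cancel _
  · have hf := h.inter hsub hrr (h.mem_FixC_of_commute hw hr hfw)
      (h.mem_FixC_of_commute hi2 hr' hfi)
    have hbA : b ∈ A := by
      rw [show b = a⁻¹ * (a * b) by group]
      exact mul_mem (inv_mem haA) (h.InvC_le_A hf)
    have hbN := h.inter_pt hsub hy hbA hbF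
    rw [← hwb] at haN
    exact haN ((normal_InvC (G := G)).conj_mem b hbN w)

/-- An element fixing two points and commuting with an involution commutes with all involutions. -/
theorem commute_invol_fix (hsub : SubHyp T A) {r p : G ⧸ NH T} (hrp : r ≠ p) {i d : G}
    (hi : orderOf i = 2) (hdr : d • r = r) (hdp : d • p = p) (hc : Commute d i) :
    d ∈ InvC G := by
  obtain ⟨q, hq, -⟩ := se_existsUnique_fix h.stronglyEmbedded hi
  obtain ⟨z, hzd, hzq⟩ : ∃ z, d • z = z ∧ z ≠ q := by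
    by_cases e : r = q
    · exact ⟨p, hdp, fun e' => hrp (e.trans e'.symm)⟩
    · exact ⟨r, hdr, e⟩
  have hF := h.mem_FixC_of_commute hi hq hc
  obtain ⟨g, rfl⟩ := QuotientGroup.mk_surjective q
  have h1 := FixC_smul g⁻¹ hF
  rw [← smul_pt (T := T) g, inv_smul_smul, h.FixC_pt] at h1
  have := h.fix_pt hsub (y := g⁻¹ • z) (fun e => hzq (by rw [← smul_pt g, ← e, smul_inv_smul])) h1
    (by rw [mul_smul, mul_smul, inv_inv, smul_inv_smul, hzd])
  have h3 := normal_InvC.conj_mem _ this g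
  simpa [mul_assoc] using h3

end AIHyp

end CfsgLib.Invol
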