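import Cfsg.Agent.Lib.Invol.AIInter
import Cfsg.Agent.Lib.Invol.AIFree
import Cfsg.Agent.Lib.ClassK.SmallSimple

/-!
# Groups with abelian involution centralisers: the quotient by `InvC`

By induction on the order: `G / InvC G` is PSL2 in characteristic two and `InvC G` is central.
-/

set_option autoImplicit false
set_option linter.unusedSectionVars false

namespace CfsgLib.Invol

universe u

namespace AIHyp

variable {G : Type u} [Group G] [Finite G] {T : Sylow 2 G} {A : Subgroup G}
variable (h : AIHyp T A)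
include h

/-- A 2-element commuting with all involutions is trivial. -/
theorem eq_one_of_two {t : G} (htT : t ∈ (T : Subgroup G)) (htN : t ∈ InvC G) : t = 1 := by
  obtain ⟨n, hn⟩ := T.isPGroup' ⟨t, htT⟩
  have h2 : t ^ 2 ^ n = 1 := congrArg Subtype.val hn
  obtain ⟨m, -, hm⟩ := (Nat.dvd_prime_pow Nat.prime_two).1 (orderOf_dvd_of_pow_eq_one h2)
  have hodd := h.odd_orderOf_InvC htN
  rw [hm] at hodd
  have hm0 : m = 0 := by
    by_contra hne
    exact Nat.not_even_iff_odd.2 hodd (Nat.even_pow.2 ⟨even_two, hne⟩)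
  rw [hm0, pow_zero] at hm
  exact orderOf_eq_one_iff.1 hm

/-- Elements of the Sylow 2-subgroup congruent modulo `InvC`. -/
theorem mem_T_of_congr {a t : G} (ht : t ∈ (T : Subgroup G)) {n : ℕ} (ha : a ^ 2 ^ n = 1)
    (hat : t⁻¹ * a ∈ InvC G) : a = t := by
  have haA : a ∈ A := by
    rw [show a = t * (t⁻¹ * a) by group]
    exact mul_mem (h.T_le ht) (h.InvC_le_A hat)
  exact (inv_mul_eq_one.1 (h.eq_one_of_two (mul_mem (inv_mem ht) (h.mem_T_of_two haA ha)) hat)).symm

/-- The main theorem, given it for proper subgroups. -/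
theorem exists_quot (hsub : SubHyp T A) :
    (∃ (F : Type) (_ : Field F) (_ : Fintype F), 4 ≤ Fintype.card F ∧ ringChar F = 2 ∧
      ∃ π : G →* Matrix.ProjectiveSpecialLinearGroup (Fin 2) F,
        Function.Surjective π ∧ π.ker = InvC G) ∧
      (∀ b ∈ A, Odd (orderOf b) → ∀ m : G, Commute b m) ∧
      ∀ g g' : G, g ∉ NH T → g' ∉ NH T → ∃ t ∈ (T : Subgroup G), ∃ n ∈ NH T, g' = t * g * n := by
  classical
  have hN : (InvC G).Normal := normal_InvC
  have : Fact (Nat.Prime 2) := ⟨Nat.prime_two⟩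
  let q := QuotientGroup.mk' (InvC G)
  have hq : Function.Surjective q := QuotientGroup.mk'_surjective _
  have hqe : ∀ {a b : G}, q a = q b ↔ a⁻¹ * b ∈ InvC G := fun {a b} => QuotientGroup.eq
  let T' : Sylow 2 (G ⧸ InvC G) := T.mapSurjective hq
  have hT' : ∀ x, x ∈ (T' : Subgroup (G ⧸ InvC G)) ↔ ∃ t ∈ (T : Subgroup G), q t = x :=
    fun x => Subgroup.mem_map
  have hinj : ∀ {s t : G}, s ∈ (T : Subgroup G) → t ∈ (T : Subgroup G) → q s = q t → s = t :=
    fun hs ht e => inv_mul_eq_one.1 (h.eq_one_of_two (mul_mem (inv_mem hs) ht) (hqe.1 e))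
  have hinv : ∀ {s : G}, s ∈ (T : Subgroup G) → orderOf (q s) = 2 → orderOf s = 2 := by
    intro s hs h2
    have e : s * s = 1 := hinj (mul_mem hs hs) (one_mem _) (by
      rw [map_mul, map_one, invol_mul_self h2])
    refine invol_of_mul_self e fun e1 => ?_
    rw [e1, map_one, orderOf_one] at h2
    norm_num at h2
  have hNH : ∀ g : G, q g ∈ NH T' ↔ g ∈ NH T := by
    intro g
    constructor
    · intro hg
      refine Subgroup.mem_normalizer_fintype fun s hs => ?_
      obtain ⟨u, hu, hue⟩ := (hT' _).1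
        ((Subgroup.mem_normalizer_iff.1 hg (q s)).1 ((hT' _).2 ⟨s, hs, rfl⟩))
      obtain ⟨n, hn⟩ := T.isPGroup' ⟨s, hs⟩
      have h2 : (g * s * g⁻¹) ^ 2 ^ n = 1 := by
        rw [conj_pow, show s ^ 2 ^ n = 1 from congrArg Subtype.val hn, mul_one, mul_inv_cancel]
      have hm : u⁻¹ * (g * s * g⁻¹) ∈ InvC G :=
        hqe.1 (hue.trans (by simp only [map_mul, map_inv]))
      rw [h.mem_T_of_congr hu h2 hm]
      exact hu
    · intro hg
      refine Subgroup.mem_normalizer_fintype fun x hx => ?_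
      obtain ⟨s, hs, rfl⟩ := (hT' x).1 hx
      exact (hT' _).2 ⟨g * s * g⁻¹, CAHyp.conj_mem hg hs, by simp only [map_mul, map_inv]⟩
  let A' := A.map q
  have hA' : ∀ {g : G}, q g ∈ A' ↔ g ∈ A := by
    intro g
    refine ⟨fun hg => ?_, fun hg => Subgroup.mem_map_of_mem q hg⟩
    obtain ⟨a, ha, e⟩ := Subgroup.mem_map.1 hg
    rw [show g = a * (a⁻¹ * g) by group]
    exact mul_mem ha (h.InvC_le_A (hqe.1 e))
  have h' : AIHyp T' A' := by
    refine ⟨fun hc => h.not_cyclic ?_, fun hn => h.not_normal ?_, ?_, ?_, ?_⟩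
    · let f : (T : Subgroup G) →* (T' : Subgroup (G ⧸ InvC G)) :=
        (q.comp (T : Subgroup G).subtype).codRestrict _ fun s => (hT' _).2 ⟨s, s.2, rfl⟩
      exact isCyclic_of_injective f fun a b e =>
        Subtype.ext (hinj a.2 b.2 (congrArg Subtype.val e))
    · rw [← Subgroup.normalizer_eq_top_iff, eq_top_iff]
      intro g _
      refine (hNH g).1 ?_
      show q g ∈ Subgroup.normalizer _
      rw [Subgroup.normalizer_eq_top_iff.2 hn]
      exact Subgroup.mem_top _
    · intro x hx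
      obtain ⟨s, hs, rfl⟩ := (hT' x).1 hx
      exact hA'.2 (h.T_le hs)
    · rintro _ ⟨a, ha, rfl⟩ _ ⟨b, hb, rfl⟩
      exact (h.comm a ha b hb).map q
    · intro x hx hx2
      obtain ⟨t, ht, rfl⟩ := (hT' x).1 hx
      have ht2 := hinv ht hx2
      ext y
      obtain ⟨g, rfl⟩ := hq y
      rw [Subgroup.mem_centralizer_singleton_iff, hA']
      constructor
      · intro e
        have hm : t⁻¹ * (g * t * g⁻¹) ∈ InvC G :=
          hqe.1 (by simp only [map_mul, map_inv]; rw [e, mul_inv_cancel_right])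
        refine h.mem_of_commute ht ht2 (mul_inv_eq_iff_eq_mul.1 (h.mem_T_of_congr ht (n := 1) ?_ hm))
        rw [pow_one, ← (orderOf_conj_eq g t).trans ht2]
        exact pow_orderOf_eq_one _
      · intro hg
        exact ((h.comm g hg t (h.T_le ht)).map q).eq
  have hfree : AIFree T' A' := by
    refine ⟨h', fun {y} hy {a} ha hay => ?_⟩
    obtain ⟨x, rfl⟩ := QuotientGroup.mk_surjective y
    obtain ⟨g, rfl⟩ := hq x
    obtain ⟨b, hb, rfl⟩ := Subgroup.mem_map.1 ha
    have hm := (fix_coset_iff _ _).1 hay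
    rw [← map_inv, ← map_mul, ← map_mul, hNH] at hm
    have hg : g ∉ NH T := fun e => hy ((smul_pt _).symm.trans (smul_pt_iff.2 ((hNH g).2 e)))
    have := h.fix_pt hsub (y := (g : G ⧸ NH T))
      (fun e => hg (smul_pt_iff.1 ((smul_pt g).trans e))) hb ((fix_coset_iff _ _).2 hm)
    exact (QuotientGroup.eq_one_iff b).2 this
  obtain ⟨F, hF, hFF, hcard, ⟨e⟩⟩ := hfree.caHyp.exists_psl
  have h4 : 4 ≤ Fintype.card F := hcard ▸ hfree.caHyp.four_le_card
  have h2F : ringChar F = 2 := FiniteField.even_card_iff_char_two.2 (by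
    obtain ⟨f, hf⟩ := IsPGroup.iff_card.1 T'.isPGroup'
    rw [hcard, hf]
    rcases f with - | f
    · rw [hcard, hf] at h4; norm_num at h4
    · rw [pow_succ, Nat.mul_mod_left])
  have hπker : (e.toMonoidHom.comp q).ker = InvC G := by
    ext g
    rw [MonoidHom.mem_ker, MonoidHom.comp_apply, MulEquiv.coe_toMonoidHom, EmbeddingLike.map_eq_one_iff]
    exact QuotientGroup.eq_one_iff g
  have hsq : ∀ a ∈ A, a * a ∈ InvC G := fun a ha => (QuotientGroup.eq_one_iff (a * a)).1 (by
    have := hfree.elementary (hA'.2 ha)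
    rwa [pow_two, ← map_mul] at this)
  -- `InvC G` is central
  have hcen : ∀ z ∈ InvC G, ∀ m : G, Commute z m := by
    intro z hz m
    let C := Subgroup.centralizer (InvC G : Set G)
    have hCn : C.Normal := inferInstance
    obtain ⟨t, ht, ht2⟩ := h.exists_invol
    have htC : t ∈ C := Subgroup.mem_centralizer_iff.2 fun w hw => (mem_InvC.1 hw t ht2).eq
    have := CfsgLib.ClassK.isSimpleGroup_psl_two (F := F) h4
    rcases (hCn.map (e.toMonoidHom.comp q) (e.surjective.comp hq)).eq_bot_or_eq_top with hb | htop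
    · exfalso
      have h1 : t ∈ InvC G := hπker ▸ MonoidHom.mem_ker.2
        (Subgroup.mem_bot.1 (hb ▸ Subgroup.mem_map_of_mem _ htC))
      exact invol_ne_one ht2 (h.eq_one_of_two ht h1)
    · obtain ⟨c, hc, hce⟩ := Subgroup.mem_map.1
        (htop ▸ Subgroup.mem_top ((e.toMonoidHom.comp q) m) :
          (e.toMonoidHom.comp q) m ∈ C.map (e.toMonoidHom.comp q))
      have hcm : c⁻¹ * m ∈ InvC G := by
        rw [← hπker, MonoidHom.mem_ker, map_mul, map_inv, hce, inv_mul_cancel]
      rw [show m = c * (c⁻¹ * m) by group]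
      exact (show Commute z c from (Subgroup.mem_centralizer_iff.1 hc z hz)).mul_right
        (h.comm z (h.InvC_le_A hz) _ (h.InvC_le_A hcm))
  refine ⟨⟨F, hF, hFF, h4, h2F, e.toMonoidHom.comp q, e.surjective.comp hq, hπker⟩, ?_, ?_⟩
  · intro b hb hodd
    refine hcen b ?_
    obtain ⟨k, hk⟩ := hodd
    have e2 : b = (b * b) ^ (k + 1) := by
      rw [← pow_two, ← pow_mul, show 2 * (k + 1) = orderOf b + 1 by omega, pow_succ,
        pow_orderOf_eq_one, one_mul]
    rw [e2]
    exact pow_mem (hsq b hb) _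
  · intro g g' hg hg'
    have hne : ∀ {x : G}, x ∉ NH T → (q x : (G ⧸ InvC G) ⧸ NH T') ≠ pt T' := fun {x} hx e =>
      hx ((hNH x).1 (smul_pt_iff.1 ((smul_pt (q x)).trans e)))
    obtain ⟨a, ha, hae⟩ := hfree.A_transitive (hne hg') (hne hg)
    obtain ⟨b, hb, rfl⟩ := Subgroup.mem_map.1 ha
    rw [MulAction.Quotient.smul_coe, smul_eq_mul, QuotientGroup.eq] at hae
    obtain ⟨t, ht, hte⟩ : ∃ t ∈ (T : Subgroup G), q t = q b := by
      by_cases h1 : q b = 1
      · exact ⟨1, one_mem _, by rw [h1, map_one]⟩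
      · refine (hT' _).1 (h'.invol_mem_T (invol_of_mul_self ?_ h1) ha)
        rw [← map_mul]
        exact (QuotientGroup.eq_one_iff (b * b)).2 (hsq b hb)
    refine ⟨t, ht, (t * g)⁻¹ * g', (hNH _).1 ?_, by group⟩
    rw [← hte, ← map_mul, ← map_inv, ← map_mul] at hae
    exact hae

end AIHyp

/-- The induction. -/
theorem ai_subHyp : ∀ (n : ℕ) {G : Type u} [Group G] [Finite G], Nat.card G ≤ n →
    ∀ (T : Sylow 2 G) (A : Subgroup G), AIHyp T A → SubHyp T A := by
  intro n
  induction n with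
  | zero =>
    intro G _ _ hn
    exact absurd hn (Nat.not_le.2 Nat.card_pos)
  | succ n ih =>
    intro G _ _ hn T A h M hM hTM hMle
    have hlt : Nat.card M ≤ n := by
      have := Subgroup.index_mul_card M
      have hne : M.index ≠ 1 := fun e => hM (Subgroup.index_eq_one.1 e)
      have h0 : M.index ≠ 0 := Subgroup.FiniteIndex.index_ne_zero
      have : 2 * Nat.card M ≤ M.index * Nat.card M := Nat.mul_le_mul_right _ (by omega)
      have : 0 < Nat.card M := Nat.card_pos
      omega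
    let TM : Sylow 2 M := T.subtype hTM
    have hTM' : ∀ x : M, x ∈ (TM : Subgroup M) ↔ (x : G) ∈ (T : Subgroup G) := fun x => Iff.rfl
    have hNH : ∀ x : M, x ∈ NH TM ↔ (x : G) ∈ NH T := by
      intro x
      constructor
      · intro hx
        refine Subgroup.mem_normalizer_fintype fun s hs => ?_
        exact (Subgroup.mem_normalizer_iff.1 hx ⟨s, hTM hs⟩).1 hs
      · intro hx
        refine Subgroup.mem_normalizer_fintype fun s hs => ?_
        exact (hTM' _).2 (CAHyp.conj_mem hx hs)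
    have h' : AIHyp TM (A.subgroupOf M) := by
      refine ⟨fun hc => h.not_cyclic ?_, fun hn => hMle ?_, fun x hx => h.T_le hx,
        fun a ha b hb => Subtype.ext (h.comm _ ha _ hb).eq, fun t ht ht2 => ?_⟩
      · have : IsCyclic ((T : Subgroup G).subgroupOf M) := hc
        exact isCyclic_of_surjective (Subgroup.subgroupOfEquivOfLe hTM).toMonoidHom
          (Subgroup.subgroupOfEquivOfLe hTM).surjective
      · intro x hx
        refine (hNH ⟨x, hx⟩).1 ?_
        show _ ∈ Subgroup.normalizer _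
        rw [Subgroup.normalizer_eq_top_iff.2 hn]
        exact Subgroup.mem_top _
      · ext x
        rw [Subgroup.mem_centralizer_singleton_iff, Subgroup.mem_subgroupOf,
          ← h.cent t ht (by rwa [Subgroup.orderOf_coe]), Subgroup.mem_centralizer_singleton_iff]
        exact ⟨fun e => congrArg Subtype.val e, fun e => Subtype.ext e⟩
    obtain ⟨-, h1, h2⟩ := h'.exists_quot (ih hlt TM _ h')
    refine ⟨fun b hb hbM hodd m hm => ?_, fun g hg g' hg' hgn hgn' => ?_⟩
    · exact congrArg Subtype.val (h1 ⟨b, hbM⟩ hb (by rwa [Subgroup.orderOf_mk]) ⟨m, hm⟩).eq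
    · obtain ⟨t, ht, k, hk, e⟩ := h2 ⟨g, hg⟩ ⟨g', hg'⟩ (fun e => hgn ((hNH _).1 e))
        (fun e => hgn' ((hNH _).1 e))
      exact ⟨t, ht, k, (hNH k).1 hk, congrArg Subtype.val e⟩

/-- A group with abelian involution centralisers modulo its centre. -/
theorem AIHyp.exists_psl {G : Type u} [Group G] [Finite G] {T : Sylow 2 G} {A : Subgroup G}
    (h : AIHyp T A) :
    ∃ (F : Type) (_ : Field F) (_ : Fintype F), 4 ≤ Fintype.card F ∧ ringChar F = 2 ∧
      ∃ π : G →* Matrix.ProjectiveSpecialLinearGroup (Fin 2) F,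
        Function.Surjective π ∧ π.ker = InvC G ∧ InvC G ≤ Subgroup.center G := by
  obtain ⟨⟨F, hF, hFF, h4, h2, π, hπ, hker⟩, hc, -⟩ :=
    h.exists_quot (ai_subHyp (Nat.card G) le_rfl T A h)
  exact ⟨F, hF, hFF, h4, h2, π, hπ, hker, fun z hz => Subgroup.mem_center_iff.2 fun m =>
    (hc z (h.InvC_le_A hz) (h.odd_orderOf_InvC hz) m).eq.symm⟩

end CfsgLib.Invol
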