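import Cfsg.Agent.Lib.Fusion.GroupFusion
import Cfsg.Agent.Lib.Fusion.Alperin
import Cfsg.Agent.Lib.Invol.BrauerSuzuki
import Mathlib

/-!
# Automorphisms fixing a Sylow 2-subgroup pointwise

If `O(G) = 1`, the automorphisms of `G` fixing a Sylow 2-subgroup pointwise have a commutator
subgroup of odd order, hence abelian Sylow 2-subgroups and a normal 2-complement (Glauberman).
-/

set_option autoImplicit false

universe u

namespace CfsgLib.Invol.AutFixSylow

open Subgroup Cfsg Cfsg.FusionSystem CfsgLib.Fusion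
open scoped commutatorElement

section Control

variable {G : Type u} [Group G] [Finite G] (S : Sylow 2 G) (C : Subgroup (MulAut G))
  (hC : ∀ φ ∈ C, ∀ s ∈ (S : Subgroup G), φ s = s)

/-- Elements fixed by an automorphism. -/
def fixedBy (t : MulAut G) : Subgroup G := MonoidHom.eqLocus t.toMonoidHom (MonoidHom.id G)

omit [Finite G] in
theorem mem_fixedBy {t : MulAut G} {g : G} : g ∈ fixedBy t ↔ t g = g := Iff.rfl

include hC in
/-- On the normalizer of a centric subgroup an element of the commutator of `C` differs from the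
identity by elements of odd order. -/
theorem odd_delta {R : Subgroup G} (hR : (groupFusionSystem (S : Subgroup G)).IsCentric R)
    {g : G} (hg : g ∈ Subgroup.normalizer (R : Set G)) {t : C} (ht : t ∈ commutator C) :
    g⁻¹ * (t : MulAut G) g ∈ centralizer (R : Set G) ∧
      Odd (orderOf (g⁻¹ * (t : MulAut G) g)) := by
  classical
  haveI : Fact (Nat.Prime 2) := ⟨Nat.prime_two⟩
  set K := centralizer (R : Set G)
  have hRS : R ≤ (S : Subgroup G) := hR.1
  have hA : centralizerIn (S : Subgroup G) R ≤ R := hR.2 R (isConj_refl hRS)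
  obtain ⟨W, hW⟩ := (group_fullyCentralized_iff (S := S) hRS).1
    (centric_fullyCentralized hR)
  have hAK : ∀ x : K, (x : G) ∈ centralizerIn (S : Subgroup G) R → x ∈ center K := fun x hx =>
    mem_center_iff.2 fun y => Subtype.ext (y.2 _ (hA hx)).symm
  have hWZ : (W : Subgroup K) ≤ center K := fun x hx => hAK x (by
    rw [hW] at hx; exact hx)
  have hmodd : Odd (center K).index := by
    rw [Nat.odd_iff, ← Nat.two_dvd_ne_zero]
    intro h
    exact W.not_dvd_index (h.trans (index_dvd_of_le hWZ))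
  obtain ⟨a, M, hM, hcard⟩ := Nat.exists_eq_pow_mul_and_not_dvd
    (Nat.card_pos (α := K)).ne' 2 (by norm_num)
  let π : K →* center K := MonoidHom.mk' (fun x => MonoidHom.transferCenterPow K x ^ M) fun x y => by
    rw [map_mul]
    exact (show Commute (MonoidHom.transferCenterPow K x) (MonoidHom.transferCenterPow K y) from
      Subtype.ext (mem_center_iff.1 (MonoidHom.transferCenterPow K y).2 _)).mul_pow M
  have hπ : ∀ x : K, ((π x : K) : G) = (x : G) ^ ((center K).index * M) := fun x => by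
    simp [π, pow_mul]
  have hπA : ∀ x : K, ((π x : K) : G) ∈ (S : Subgroup G) := by
    intro x
    have h2 : IsPGroup 2 (zpowers (π x : K)) := by
      rintro ⟨y, hy⟩
      obtain ⟨j, rfl⟩ := mem_zpowers_iff.1 hy
      refine ⟨a, Subtype.ext ?_⟩
      show ((π x : K) ^ j) ^ 2 ^ a = 1
      rw [← zpow_natCast, ← zpow_mul, mul_comm, zpow_mul, zpow_natCast]
      have h1 : (π x : K) ^ 2 ^ a = 1 := by
        apply Subtype.ext
        rw [Subgroup.coe_pow, hπ, ← pow_mul, mul_assoc, mul_comm M, ← hcard, mul_comm, pow_mul]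
        rw [show (x : G) ^ Nat.card K = 1 from congrArg Subtype.val (pow_card_eq_one' (x := x)), one_pow]
        rfl
      rw [h1, one_zpow]
    obtain ⟨W', hW'⟩ := h2.exists_le_sylow
    obtain ⟨k, hk⟩ := MulAction.exists_smul_eq K W' W
    have hmem : k * (π x : K) * k⁻¹ ∈ (W : Subgroup K) := by
      rw [← hk, Sylow.coe_subgroup_smul, Subgroup.mem_pointwise_smul_iff_inv_smul_mem,
        MulAut.smul_def, MulAut.conj_inv_apply]
      have : k⁻¹ * (k * (π x : K) * k⁻¹) * k = (π x : K) := by group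
      rw [this]
      exact hW' (mem_zpowers _)
    rw [mem_center_iff.1 (π x).2 k, mul_inv_cancel_right, hW] at hmem
    exact hmem.1
  have hδK : ∀ b : C, g⁻¹ * (b : MulAut G) g ∈ K := by
    intro b r hr
    have h1 : g * r * g⁻¹ ∈ R := (hg r).1 hr
    have h2 : (b : MulAut G) g * r * ((b : MulAut G) g)⁻¹ = g * r * g⁻¹ := by
      conv_rhs => rw [← hC b b.2 _ (hRS h1)]
      rw [map_mul, map_mul, map_inv, hC b b.2 _ (hRS hr)]
    calc r * (g⁻¹ * (b : MulAut G) g) = g⁻¹ * (g * r * g⁻¹) * (b : MulAut G) g := by group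
      _ = g⁻¹ * (b : MulAut G) g * r := by rw [← h2]; group
  have hfix : ∀ (b : C) (k : G), k ∈ K → (b : MulAut G) k ∈ K := by
    intro b k hk r hr
    conv_lhs => rw [← hC b b.2 r (hRS hr)]
    conv_rhs => rw [← hC b b.2 r (hRS hr)]
    rw [← map_mul, ← map_mul, hk r hr]
  let Ψ : C →* center K :=
    { toFun := fun b => π ⟨_, hδK b⟩
      map_one' := by
        rw [show (⟨_, hδK 1⟩ : K) = 1 from Subtype.ext (by simp), map_one]
      map_mul' := fun b c => by
        have e : (⟨_, hδK (b * c)⟩ : K) = ⟨_, hδK b⟩ * ⟨_, hfix b _ (hδK c)⟩ := Subtype.ext (by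
          simp [mul_assoc])
        rw [e, map_mul]
        congr 1
        refine Subtype.ext (Subtype.ext ?_)
        rw [hπ, ← map_pow]
        have h2 := hπ ⟨_, hδK c⟩
        rw [← h2, hC b b.2 _ (hπA _)] }
  have hker : commutator C ≤ Ψ.ker := by
    rw [commutator_eq_closure, closure_le]
    rintro _ ⟨b, c, rfl⟩
    rw [SetLike.mem_coe, MonoidHom.mem_ker, map_commutatorElement]
    exact commutatorElement_eq_one_iff_mul_comm.2
      (Subtype.ext (mem_center_iff.1 (Ψ c).2 (Ψ b : K)))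
  refine ⟨hδK t, ?_⟩
  have h1 : (g⁻¹ * (t : MulAut G) g) ^ ((center K).index * M) = 1 := by
    rw [← hπ ⟨_, hδK t⟩]
    exact congrArg (fun z : center K => ((z : K) : G)) (hker ht)
  refine Odd.of_dvd_nat ?_ (orderOf_dvd_of_pow_eq_one h1)
  exact hmodd.mul (Nat.odd_iff.2 (Nat.two_dvd_ne_zero.1 hM))

include hC in
/-- An involution of the commutator of `C`: its fixed points control the fusion in `S`. -/
theorem control {t : C} (ht : t ∈ commutator C) (ht2 : t * t = 1) {P : Subgroup G}
    (hP : P ≤ (S : Subgroup G)) {g : G} (hg : ∀ x ∈ P, g * x * g⁻¹ ∈ (S : Subgroup G)) :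
    ∃ c : G, (t : MulAut G) c = c ∧ ∀ x ∈ P, c * x * c⁻¹ = g * x * g⁻¹ := by
  haveI : Fact (Nat.Prime 2) := ⟨Nat.prime_two⟩
  set F := groupFusionSystem (S : Subgroup G)
  have hSH : (S : Subgroup G) ≤ fixedBy (t : MulAut G) := fun x hx => hC t t.2 x hx
  let E := fusionSystemOfSubgroup (fixedBy (t : MulAut G)) (S : Subgroup G) hSH
  have hle : F ≤ E := by
    refine alperin S.isPGroup' (group_isSaturated (S := S)) fun R hR α hα => ?_
    have hcen : F.IsCentric R := by
      rcases hR with rfl | hR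
      · refine ⟨le_rfl, fun Q hQ => ?_⟩
        rw [eq_of_le_of_card_le (isConj_le_right hQ) (isConj_card hQ).ge]
        exact inf_le_left
      · exact hR.1
    rw [group_autGroup_eq (S := S) hcen.1, mem_autInducedBy_iff] at hα
    obtain ⟨x, -, hx⟩ := hα
    have hxN : x ∈ Subgroup.normalizer (R : Set G) := mem_normalizer_of_aut hx
    obtain ⟨hK, hodd⟩ := odd_delta S C hC hcen hxN ht
    set d := x⁻¹ * (t : MulAut G) x with hd
    obtain ⟨n, hn⟩ := hodd
    have htt : ∀ y, (t : MulAut G) ((t : MulAut G) y) = y := fun y => by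
      rw [← MulAut.mul_apply, ← Subgroup.coe_mul, ht2]; rfl
    have htd : (t : MulAut G) d = d⁻¹ := by
      rw [hd, map_mul, map_inv, htt]; group
    have hfix : (t : MulAut G) (x * d ^ (n + 1)) = x * d ^ (n + 1) := by
      rw [map_mul, map_pow, htd, show (t : MulAut G) x = x * d by rw [hd, mul_inv_cancel_left]]
      have h3 : d ^ (n + 1) * d ^ n = 1 := by
        rw [← pow_add, show n + 1 + n = 2 * n + 1 by omega, ← hn, pow_orderOf_eq_one]
      rw [inv_pow, eq_inv_of_mul_eq_one_left h3, inv_inv, mul_assoc, ← pow_succ',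
        eq_inv_of_mul_eq_one_left h3]
    rw [autGroup_mem_iff hcen.1]
    refine ⟨hcen.1, fun y => hcen.1 (α y).2, x * d ^ (n + 1), hfix, fun y => ?_⟩
    show ((α y : R) : G) = _
    have hc : Commute (y : G) (d ^ (n + 1)) := (show Commute (y : G) d from hK y y.2).pow_right _
    rw [hx, mul_inv_rev, mul_assoc x (d ^ (n + 1)), ← hc.eq]
    group
  have hmem : conjHom P g ∈ F.Hom P := ⟨hP, fun y => hg y y.2, g, fun y => rfl⟩
  obtain ⟨-, -, c, hc, hcx⟩ := hle P hmem
  exact ⟨c, hc, fun x hx => (hcx ⟨x, hx⟩).symm⟩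

include hC in
/-- No involution lies in the commutator subgroup of `C`. -/
theorem no_involution (hO : ∀ N : Subgroup G, N.Normal → Odd (Nat.card N) → N = ⊥) {t : C}
    (ht : t ∈ commutator C) (ht2 : t * t = 1) : t = 1 := by
  haveI : Fact (Nat.Prime 2) := ⟨Nat.prime_two⟩
  by_contra ht1
  have hS : ∀ x ∈ (S : Subgroup G), (t : MulAut G) x = x := fun x hx => hC t t.2 x hx
  have hctl := fun {P : Subgroup G} hP {g : G} hg => control S C hC ht ht2 (P := P) hP (g := g) hg
  have htt : ∀ y, (t : MulAut G) ((t : MulAut G) y) = y := fun y => by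
    rw [← MulAut.mul_apply, ← Subgroup.coe_mul, ht2]; rfl
  -- a Sylow 2-subgroup of the fixed points
  have toS : ∀ Q : Subgroup G, IsPGroup 2 Q → (∀ x ∈ Q, (t : MulAut G) x = x) →
      ∃ c : G, (t : MulAut G) c = c ∧ ∀ x ∈ Q, c * x * c⁻¹ ∈ (S : Subgroup G) := by
    intro Q hQ hQt
    let H := fixedBy (t : MulAut G)
    let S' : Sylow 2 H := S.subtype (show (S : Subgroup G) ≤ H from hS)
    have hQH : Q ≤ H := hQt
    obtain ⟨W, hW⟩ := (hQ.of_equiv (subgroupOfEquivOfLe hQH).symm).exists_le_sylow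
    obtain ⟨c, hc⟩ := MulAction.exists_smul_eq H W S'
    refine ⟨c, c.2, fun x hx => ?_⟩
    have h1 : c * (⟨x, hQH hx⟩ : H) * c⁻¹ ∈ (S' : Subgroup H) := by
      rw [← hc, Sylow.coe_subgroup_smul, Subgroup.mem_pointwise_smul_iff_inv_smul_mem,
        MulAut.smul_def, MulAut.conj_inv_apply]
      have : c⁻¹ * (c * (⟨x, hQH hx⟩ : H) * c⁻¹) * c = ⟨x, hQH hx⟩ := by group
      rw [this]
      exact hW hx
    exact h1
  -- the key claim
  have key : ∀ g s : G, (t : MulAut G) g = g * s → (t : MulAut G) s = s → s * s = 1 → s = 1 := by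
    intro g₀ s₀ hg₀ hts₀ hs₀
    by_contra hs₀1
    have hQ0 : IsPGroup 2 (zpowers s₀) := by
      rintro ⟨y, hy⟩
      obtain ⟨j, rfl⟩ := mem_zpowers_iff.1 hy
      refine ⟨1, Subtype.ext ?_⟩
      show (s₀ ^ j) ^ 2 ^ 1 = 1
      rw [pow_one, pow_two, ← zpow_add, ← two_mul, zpow_mul, zpow_two, hs₀, one_zpow]
    obtain ⟨c₀, hc₀, hc₀S⟩ := toS _ hQ0 fun x hx => by
      obtain ⟨j, rfl⟩ := mem_zpowers_iff.1 hx
      rw [map_zpow, hts₀]
    -- make `s` fully centralised
    set s₁ := c₀ * s₀ * c₀⁻¹ with hs₁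
    have hs₁S : s₁ ∈ (S : Subgroup G) := hc₀S _ (mem_zpowers _)
    let K₁ := centralizer ({s₁} : Set G)
    obtain ⟨W⟩ : Nonempty (Sylow 2 K₁) := inferInstance
    have hs₁K : s₁ ∈ K₁ := mem_centralizer_singleton_iff.2 rfl
    have hs₁W : (⟨s₁, hs₁K⟩ : K₁) ∈ (W : Subgroup K₁) := by
      have hz : (⟨s₁, hs₁K⟩ : K₁) ∈ center K₁ := mem_center_iff.2 fun y =>
        Subtype.ext (mem_centralizer_singleton_iff.1 y.2)
      obtain ⟨W', hW'⟩ := (show IsPGroup 2 (zpowers (⟨s₁, hs₁K⟩ : K₁)) from fun ⟨y, hy⟩ => by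
        obtain ⟨j, rfl⟩ := mem_zpowers_iff.1 hy
        refine ⟨1, Subtype.ext (Subtype.ext ?_)⟩
        show (s₁ ^ j) ^ 2 ^ 1 = 1
        have h11 : s₁ * s₁ = 1 := by rw [hs₁, show c₀ * s₀ * c₀⁻¹ * (c₀ * s₀ * c₀⁻¹) = c₀ * (s₀ * s₀) * c₀⁻¹ by group, hs₀]; group
        rw [pow_one, pow_two, ← zpow_add, ← two_mul, zpow_mul, zpow_two, h11, one_zpow]).exists_le_sylow
      obtain ⟨k, hk⟩ := MulAction.exists_smul_eq K₁ W' W
      rw [← hk, Sylow.coe_subgroup_smul, Subgroup.mem_pointwise_smul_iff_inv_smul_mem,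
        MulAut.smul_def, MulAut.conj_inv_apply, mem_center_iff.1 hz k⁻¹, inv_mul_cancel_right]
      exact hW' (mem_zpowers _)
    obtain ⟨W₀, hW₀⟩ := (W.2.map K₁.subtype).exists_le_sylow
    obtain ⟨d, hd⟩ := MulAction.exists_smul_eq G W₀ S
    have hdW : ∀ x : K₁, x ∈ (W : Subgroup K₁) → d * (x : G) * d⁻¹ ∈ (S : Subgroup G) := by
      intro x hx
      rw [← hd, Sylow.coe_subgroup_smul, Subgroup.mem_pointwise_smul_iff_inv_smul_mem,
        MulAut.smul_def, MulAut.conj_inv_apply]
      have : d⁻¹ * (d * (x : G) * d⁻¹) * d = (x : G) := by group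
      rw [this]
      exact hW₀ ⟨x, hx, rfl⟩
    set s := d * s₁ * d⁻¹ with hs
    have hsS : s ∈ (S : Subgroup G) := hdW _ hs₁W
    obtain ⟨c₁, hc₁, hc₁x⟩ := hctl (P := zpowers s₁) (zpowers_le.2 hs₁S) (g := d) fun x hx => by
      obtain ⟨j, rfl⟩ := mem_zpowers_iff.1 hx
      rw [← conj_zpow]
      exact zpow_mem hsS j
    set g := c₁ * c₀ * g₀ * c₀⁻¹ * c₁⁻¹ with hg_def
    have hts : (t : MulAut G) s = s := hS s hsS
    have hg : (t : MulAut G) g = g * s := by
      rw [hs, ← hc₁x _ (mem_zpowers _), hs₁, hg_def]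
      simp only [map_mul, map_inv, hc₀, hc₁, hg₀]
      group
    have hss : s * s = 1 := by
      rw [hs, hs₁, show d * (c₀ * s₀ * c₀⁻¹) * d⁻¹ * (d * (c₀ * s₀ * c₀⁻¹) * d⁻¹) =
        d * (c₀ * (s₀ * s₀) * c₀⁻¹) * d⁻¹ by group, hs₀]
      group
    have hs1 : s ≠ 1 := fun h => hs₀1 (conj_eq_one_iff.1 (conj_eq_one_iff.1 (h : d * s₁ * d⁻¹ = 1)))
    -- `P = C_S(s)` is a Sylow subgroup of the centralizer of `s`
    let K := centralizer ({s} : Set G)
    let P : Subgroup G := (S : Subgroup G) ⊓ K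
    have hPcard : ∀ Q : Subgroup G, IsPGroup 2 Q → Q ≤ K → P ≤ Q → Q = P := by
      intro Q hQ hQK hPQ
      refine (eq_of_le_of_card_ge hPQ ?_).symm
      let e : K →* G := (MulAut.conj d⁻¹).toMonoidHom.comp K.subtype
      have he : ∀ x : K, e x ∈ K₁ := by
        intro x
        rw [mem_centralizer_singleton_iff]
        show d⁻¹ * (x : G) * d⁻¹⁻¹ * s₁ = s₁ * (d⁻¹ * (x : G) * d⁻¹⁻¹)
        have hx : (x : G) * s = s * x := mem_centralizer_singleton_iff.1 x.2
        rw [hs] at hx
        calc d⁻¹ * (x : G) * d⁻¹⁻¹ * s₁ = d⁻¹ * ((x : G) * (d * s₁ * d⁻¹)) * d := by group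
          _ = _ := by rw [hx]; group
      let e₁ : K →* K₁ := e.codRestrict K₁ he
      have he₁ : Function.Injective e₁ := fun x y h => Subtype.ext
        ((MulAut.conj d⁻¹).injective (congrArg Subtype.val h :))
      obtain ⟨W', hW'⟩ := ((hQ.of_equiv (subgroupOfEquivOfLe hQK).symm).map e₁).exists_le_sylow
      have h1 : Nat.card Q ≤ Nat.card (W : Subgroup K₁) := by
        rw [← Nat.card_congr (subgroupOfEquivOfLe hQK).toEquiv, ← card_map_of_injective (K := Q.subgroupOf K) he₁,
          W.card_eq_multiplicity, ← W'.card_eq_multiplicity]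
        exact Nat.le_of_dvd Nat.card_pos (card_dvd_of_le hW')
      refine h1.trans (Nat.card_le_card_of_injective
        (fun x : (W : Subgroup K₁) => (⟨d * ((x : K₁) : G) * d⁻¹, hdW _ x.2, by
          show d * ((x : K₁) : G) * d⁻¹ ∈ centralizer ({s} : Set G)
          rw [mem_centralizer_singleton_iff, hs]
          have := mem_centralizer_singleton_iff.1 (x : K₁).2
          calc d * ((x : K₁) : G) * d⁻¹ * (d * s₁ * d⁻¹) = d * (((x : K₁) : G) * s₁) * d⁻¹ := by group
            _ = _ := by rw [this]; group⟩ : P)) fun x y h => Subtype.ext (Subtype.ext ?_))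
      exact mul_left_cancel (mul_right_cancel (congrArg Subtype.val h :))
    have hsP : s ∈ P := ⟨hsS, mem_centralizer_singleton_iff.2 rfl⟩
    obtain ⟨h, hh, hhS⟩ := toS (P.map (MulAut.conj g).toMonoidHom)
      ((S.2.to_le inf_le_left).map _) (by
        rintro _ ⟨x, hx, rfl⟩
        show (t : MulAut G) (g * x * g⁻¹) = g * x * g⁻¹
        rw [map_mul, map_mul, map_inv, hg, hS x hx.1]
        have hc : s * x = x * s := (mem_centralizer_singleton_iff.1 hx.2).symm
        rw [mul_assoc g s x, hc]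
        group)
    obtain ⟨c, hc, hcx⟩ := hctl (P := P) inf_le_left (g := h * g) fun x hx => by
      have := hhS _ ⟨x, hx, rfl⟩
      simpa [mul_assoc] using this
    set k := c⁻¹ * (h * g) with hk_def
    have htk : (t : MulAut G) k = k * s := by
      rw [hk_def, map_mul, map_mul, map_inv, hc, hh, hg]; group
    have hkP : ∀ x ∈ P, Commute k x := by
      intro x hx
      show k * x = x * k
      calc k * x = c⁻¹ * ((h * g) * x * (h * g)⁻¹) * (h * g) := by rw [hk_def]; group
        _ = c⁻¹ * (c * x * c⁻¹) * (h * g) := by rw [hcx x hx]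
        _ = x * k := by rw [hk_def]; group
    obtain ⟨a, M, hM, hord⟩ := Nat.exists_eq_pow_mul_and_not_dvd (orderOf_pos k).ne' 2 (by norm_num)
    set k₂ := k ^ M with hk₂
    have hk₂P : ∀ x ∈ P, Commute k₂ x := fun x hx => (hkP x hx).pow_left M
    have hk₂Q : k₂ ∈ P := by
      let Q := P ⊔ zpowers k₂
      have hQK : Q ≤ K := sup_le inf_le_right
        (zpowers_le.2 (mem_centralizer_singleton_iff.2 (hk₂P s hsP).eq))
      have hZp : IsPGroup 2 (zpowers k₂) := by
        rintro ⟨y, hy⟩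
        obtain ⟨j, rfl⟩ := mem_zpowers_iff.1 hy
        refine ⟨a, Subtype.ext ?_⟩
        show (k₂ ^ j) ^ 2 ^ a = 1
        rw [← zpow_natCast, ← zpow_mul, mul_comm, zpow_mul, zpow_natCast, hk₂, ← pow_mul, mul_comm M,
          ← hord, pow_orderOf_eq_one, one_zpow]
      have hQp : IsPGroup 2 Q := (S.2.to_le inf_le_left).to_sup_of_normal_right' hZp (by
        intro x hx
        rw [Subgroup.mem_normalizer_iff]
        intro y
        have hcy : ∀ y ∈ zpowers k₂, x * y * x⁻¹ = y := by
          intro y hy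
          obtain ⟨j, rfl⟩ := mem_zpowers_iff.1 hy
          rw [← ((hk₂P x hx).zpow_left j).eq, mul_inv_cancel_right]
        refine ⟨fun hy => by rw [hcy y hy]; exact hy, fun hy => ?_⟩
        have h5 := hcy _ hy
        rw [show x * y * x⁻¹ = x * y * x⁻¹ from rfl] at hy
        have h6 : x * y * x⁻¹ = y := mul_left_cancel (mul_right_cancel h5)
        rwa [h6] at hy)
      have := hPcard Q hQp hQK le_sup_left
      rw [← this]
      exact mem_sup_right (mem_zpowers _)
    have h7 : s ^ M = 1 := by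
      have h8 : (t : MulAut G) k₂ = k₂ * s ^ M := by
        rw [hk₂, map_pow, htk, (hkP s hsP).mul_pow]
      rw [hS k₂ hk₂Q.1] at h8
      exact mul_eq_left.1 h8.symm
    obtain ⟨q, hq⟩ := Nat.odd_iff.2 (Nat.two_dvd_ne_zero.1 hM)
    rw [hq, pow_succ, pow_mul, pow_two, hss, one_pow, one_mul] at h7
    exact hs1 h7
  -- the semidirect product
  let φ : zpowers (t : MulAut G) →* MulAut G := (zpowers (t : MulAut G)).subtype
  let X := G ⋊[φ] zpowers (t : MulAut G)
  haveI : Finite X := Finite.of_equiv _ SemidirectProduct.equivProd.symm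
  let τ : X := SemidirectProduct.inr ⟨(t : MulAut G), mem_zpowers _⟩
  have htne : (t : MulAut G) ≠ 1 := fun h => ht1 (Subtype.ext h)
  have hτ2 : orderOf τ = 2 := by
    refine orderOf_eq_prime ?_ fun h => htne ?_
    · rw [← map_pow, pow_two]
      exact (congrArg _ (Subtype.ext (congrArg Subtype.val ht2 :) :
        (⟨(t : MulAut G), mem_zpowers _⟩ : zpowers (t : MulAut G)) * ⟨_, mem_zpowers _⟩ = 1)).trans (map_one _)
    · exact congrArg (fun z : X => (z.right : MulAut G)) h
  have hτcomm : ∀ g : G, τ * SemidirectProduct.inl g * τ⁻¹ =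
      SemidirectProduct.inl ((t : MulAut G) g) := fun g => by
    rw [← map_inv]
    exact (SemidirectProduct.inl_aut (φ := φ) ⟨(t : MulAut G), mem_zpowers _⟩ g).symm
  have hiso : IsIsolatedInvolution τ := by
    refine ⟨hτ2, fun x hcomm => ?_⟩
    obtain ⟨g, r⟩ := x
    have hx : (⟨g, r⟩ : X) = SemidirectProduct.inl g * SemidirectProduct.inr r :=
      (SemidirectProduct.inl_left_mul_inr_right (⟨g, r⟩ : X)).symm
    have hrt : SemidirectProduct.inr r * τ * (SemidirectProduct.inr r)⁻¹ = τ := by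
      rw [← map_inv, ← map_mul, ← map_mul]
      congr 1
      obtain ⟨j, hj⟩ := mem_zpowers_iff.1 r.2
      apply Subtype.ext
      show (r : MulAut G) * t * (r : MulAut G)⁻¹ = t
      rw [← hj, (Commute.zpow_self (t : MulAut G) j).eq, mul_inv_cancel_right]
    have hconj : (⟨g, r⟩ : X) * τ * (⟨g, r⟩ : X)⁻¹ =
        SemidirectProduct.inl (g * ((t : MulAut G) g)⁻¹) * τ := by
      rw [hx, show SemidirectProduct.inl g * SemidirectProduct.inr r * τ *
        (SemidirectProduct.inl g * SemidirectProduct.inr r)⁻¹ = SemidirectProduct.inl g *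
        (SemidirectProduct.inr r * τ * (SemidirectProduct.inr r)⁻¹) * (SemidirectProduct.inl g : X)⁻¹ by group,
        hrt, map_mul, map_inv, ← hτcomm, mul_inv_rev, mul_inv_rev, inv_inv]
      simp [mul_assoc]
    set y := g * ((t : MulAut G) g)⁻¹ with hy
    rw [hconj] at hcomm ⊢
    have hty : (t : MulAut G) y = y := by
      have h1 : τ * SemidirectProduct.inl y * τ⁻¹ = SemidirectProduct.inl y := by
        calc τ * SemidirectProduct.inl y * τ⁻¹
            = (τ * (SemidirectProduct.inl y * τ)) * τ⁻¹ * τ⁻¹ := by rw [← mul_assoc τ, mul_inv_cancel_right]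
          _ = (SemidirectProduct.inl y * τ * τ) * τ⁻¹ * τ⁻¹ := by rw [hcomm.eq]
          _ = _ := by rw [mul_inv_cancel_right, mul_inv_cancel_right]
      rw [hτcomm] at h1
      exact SemidirectProduct.inl_injective h1
    have hy2 : y * y = 1 := by
      have h2 : (t : MulAut G) y = y⁻¹ := by rw [hy, map_mul, map_inv, htt]; group
      rw [hty] at h2
      conv_lhs => arg 1; rw [h2]
      exact inv_mul_cancel y
    have hy1 : y = 1 := key g⁻¹ y (by rw [hy, map_inv]; group) hty hy2
    rw [hy1, map_one, one_mul]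
  have hz := fun g : G => CfsgLib.Invol.zstar X hiso (SemidirectProduct.inl g)
  have hN : ((oddCore X).comap SemidirectProduct.inl) = ⊥ := by
    refine hO _ inferInstance ?_
    refine Odd.of_dvd_nat (CfsgLib.Invol.odd_card_oddCore X) ?_
    exact Subgroup.card_comap_dvd_of_injective _ _ SemidirectProduct.inl_injective
  refine htne (MulEquiv.ext fun g => ?_)
  have h1 : (t : MulAut G) g * g⁻¹ ∈ (oddCore X).comap SemidirectProduct.inl := by
    rw [mem_comap, map_mul, map_inv, ← hτcomm]
    exact hz g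
  rw [hN, mem_bot, mul_inv_eq_one] at h1
  exact h1

include hC in
/-- The commutator subgroup of `C` has odd order. -/
theorem odd_commutator (hO : ∀ N : Subgroup G, N.Normal → Odd (Nat.card N) → N = ⊥) :
    Odd (Nat.card (commutator C)) := by
  by_contra h
  obtain ⟨t, ht⟩ := exists_prime_orderOf_dvd_card' 2
    (even_iff_two_dvd.1 (Nat.not_odd_iff_even.1 h))
  have h2 : (t : C) * t = 1 := by
    have := pow_orderOf_eq_one t
    rw [ht, pow_two] at this
    exact congrArg Subtype.val this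
  have h1 : t = 1 := Subtype.ext (no_involution S C hC hO t.2 h2)
  rw [h1, orderOf_one] at ht
  omega

include hC in
/-- Abelian Sylow 2-subgroups with a normal complement of odd order. -/
theorem structure_C (hO : ∀ N : Subgroup G, N.Normal → Odd (Nat.card N) → N = ⊥) (T : Sylow 2 C) :
    (∀ a b : T, a * b = b * a) ∧ ∃ N : Subgroup C, N.Normal ∧ Odd (Nat.card N) ∧
      Subgroup.IsComplement' N (T : Subgroup C) ∧ commutator C ≤ N := by
  haveI : Fact (Nat.Prime 2) := ⟨Nat.prime_two⟩
  classical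
  have hodd := odd_commutator S C hC hO
  have htriv : ∀ x : C, x ∈ commutator C → (∃ k : ℕ, x ^ 2 ^ k = 1) → x = 1 := by
    rintro x hx ⟨k, hk⟩
    rw [← orderOf_eq_one_iff]
    exact Nat.eq_one_of_dvd_coprimes ((Nat.coprime_two_left.2 hodd).pow_left k)
      (orderOf_dvd_of_pow_eq_one hk)
      (by rw [← Subgroup.orderOf_mk x hx]; exact orderOf_dvd_natCard _)
  refine ⟨fun a b => Subtype.ext ?_, ?_⟩
  · have hmem : ⁅(a : C), (b : C)⁆ ∈ commutator C := by
      rw [_root_.commutator_def]; exact commutator_mem_commutator (mem_top _) (mem_top _)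
    obtain ⟨k, hk⟩ := T.2 ⁅a, b⁆
    have h1 := htriv _ hmem ⟨k, by
      have := congrArg Subtype.val hk
      rw [Subgroup.coe_pow] at this
      simpa [commutatorElement_def] using this⟩
    exact commutatorElement_eq_one_iff_mul_comm.1 h1
  obtain ⟨a, M, hM, hcard⟩ := Nat.exists_eq_pow_mul_and_not_dvd
    (Nat.card_pos (α := C)).ne' 2 (by norm_num)
  let π : C →* Abelianization C := (powMonoidHom M).comp Abelianization.of
  have hker : commutator C ≤ π.ker := by
    intro x hx
    rw [MonoidHom.mem_ker, MonoidHom.comp_apply, show Abelianization.of x = 1 by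
      rw [← MonoidHom.mem_ker, Abelianization.ker_of]; exact hx, map_one]
  have hNodd : Odd (Nat.card π.ker) := by
    by_contra h
    obtain ⟨x, hx⟩ := exists_prime_orderOf_dvd_card' 2
      (even_iff_two_dvd.1 (Nat.not_odd_iff_even.1 h))
    have hx2 : (x : C) ^ 2 = 1 := by
      rw [← hx]
      exact congrArg Subtype.val (pow_orderOf_eq_one x)
    obtain ⟨q, hq⟩ := Nat.odd_iff.2 (Nat.two_dvd_ne_zero.1 hM)
    have h1 : Abelianization.of (x : C) = 1 := by
      have h2 : Abelianization.of (x : C) ^ M = 1 := MonoidHom.mem_ker.1 x.2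
      rwa [hq, pow_succ, pow_mul, ← map_pow, hx2, map_one, one_pow, one_mul] at h2
    have h3 : (x : C) = 1 := htriv _ (by rw [← Abelianization.ker_of]; exact h1) ⟨1, by rwa [pow_one]⟩
    rw [show x = 1 from Subtype.ext h3, orderOf_one] at hx
    omega
  have hidx : ∃ k, π.ker.index = 2 ^ k := by
    have h2g : IsPGroup 2 π.range := by
      rintro ⟨_, y, rfl⟩
      refine ⟨a, Subtype.ext ?_⟩
      rw [Subgroup.coe_pow, OneMemClass.coe_one]
      show ((Abelianization.of y) ^ M) ^ 2 ^ a = 1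
      rw [← pow_mul, mul_comm M, ← hcard, ← map_pow, pow_card_eq_one', map_one]
    obtain ⟨k, hk⟩ := IsPGroup.iff_card.1 h2g
    exact ⟨k, by rw [index_ker, hk]⟩
  obtain ⟨k, hk⟩ := hidx
  refine ⟨π.ker, inferInstance, hNodd, isComplement'_of_coprime ?_ ?_, hker⟩
  · rw [T.card_eq_multiplicity, ← card_mul_index π.ker, hk]
    congr 2
    rw [Nat.factorization_mul Nat.card_pos.ne' (pow_ne_zero _ two_ne_zero), Finsupp.add_apply,
      Nat.factorization_eq_zero_of_not_dvd (fun h => Nat.not_even_iff_odd.2 hNodd (even_iff_two_dvd.2 h)),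
      Nat.Prime.factorization_pow Nat.prime_two, Finsupp.single_eq_same, zero_add]
  · rw [T.card_eq_multiplicity]
    exact (Nat.coprime_two_right.2 hNodd).pow_right _

include hC in
theorem isSolvable_C (hO : ∀ N : Subgroup G, N.Normal → Odd (Nat.card N) → N = ⊥)
    (hFT : ∀ (H : Type u) [Group H] [Finite H], Odd (Nat.card H) → Group.IsSolvable H) :
    Group.IsSolvable C := by
  haveI : Group.IsSolvable (commutator C) := hFT _ (odd_commutator S C hC hO)
  exact Group.isSolvable_of_ker_le_range (commutator C).subtype (Abelianization.of (G := C))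
    (by rw [Abelianization.ker_of, Subgroup.range_subtype])

end Control

end CfsgLib.Invol.AutFixSylow
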