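import Mathlib

/-!
# Groups whose automorphism group has a normal Sylow `p`-subgroup
-/

set_option autoImplicit false

namespace CfsgLib.Invol

open Subgroup

variable {G : Type*} [Group G] [Finite G] {p : ℕ} [hp : Fact p.Prime]

/-- The `p`-elements of `Aut G` lie in a normal `p`-subgroup. -/
def PTrivialAut (p : ℕ) (G : Type*) [Group G] : Prop :=
  ∃ N : Subgroup (MulAut G), N.Normal ∧ IsPGroup p N ∧ ∀ α : MulAut G, (∃ k : ℕ, α ^ p ^ k = 1) → α ∈ N

omit [Finite G] hp in
theorem pow_apply_mul {β : MulAut G} {x z : G} (hx : β x = x * z) (hz : β z = z) (n : ℕ) :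
    (β ^ n) x = x * z ^ n := by
  induction n with
  | zero => simp
  | succ n ih => rw [pow_succ', MulAut.mul_apply, ih, map_mul, map_pow, hx, hz, mul_assoc, ← pow_succ']

/-- An invariant series with steps of order `p`. -/
theorem pTrivialAut_of_series (hG : IsPGroup p G) (n : ℕ) (C : ℕ → Subgroup G) (h0 : C 0 = ⊥)
    (hn : C n = ⊤) (hmono : ∀ i < n, C i ≤ C (i + 1))
    (hchar : ∀ i ≤ n, ∀ α : MulAut G, ∀ x ∈ C i, α x ∈ C i)
    (hnormal : ∀ i < n, ∀ x ∈ C (i + 1), ∀ y ∈ C i, x * y * x⁻¹ ∈ C i)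
    (hstep : ∀ i < n, Nat.card (C (i + 1)) = Nat.card (C i) * p) : PTrivialAut p G := by
  let N : Subgroup (MulAut G) :=
    { carrier := {α | ∀ i < n, ∀ x ∈ C (i + 1), x⁻¹ * α x ∈ C i}
      one_mem' := fun i _ x _ => by simp
      mul_mem' := fun {α β} hα hβ i hi x hx => by
        have h1 := mul_mem (hβ i hi x hx) (hα i hi (β x) (hchar (i + 1) hi β x hx))
        simpa [MulAut.mul_apply, mul_assoc] using h1
      inv_mem' := fun {α} hα i hi x hx => by
        have h1 := inv_mem (hα i hi (α⁻¹ x) (hchar (i + 1) hi α⁻¹ x hx))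
        rw [MulAut.apply_inv_self] at h1
        simpa using h1 }
  obtain ⟨e, he⟩ := IsPGroup.iff_card.1 hG
  refine ⟨N, ⟨fun β hβ γ i hi x hx => ?_⟩, fun γ => ?_, fun α hα i hi x hx => ?_⟩
  · have h0' : γ⁻¹ x ∈ C (i + 1) := hchar (i + 1) hi γ⁻¹ x hx
    have h1 := hchar i (by omega) γ _ (hβ i hi _ h0')
    rw [map_mul, map_inv, MulAut.apply_inv_self] at h1
    exact h1
  · obtain ⟨γ, hγ⟩ := γ
    have key : ∀ i ≤ n, ∃ m, ∀ x ∈ C i, (γ ^ p ^ m) x = x := by
      intro i hi
      induction i with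
      | zero => exact ⟨0, fun x hx => by rw [h0, mem_bot] at hx; rw [hx, map_one]⟩
      | succ i ih =>
        obtain ⟨m, hm⟩ := ih (by omega)
        refine ⟨m + e, fun x hx => ?_⟩
        have hz : x⁻¹ * (γ ^ p ^ m) x ∈ C i := (N.pow_mem hγ (p ^ m)) i (by omega) x hx
        have h1 := pow_apply_mul (β := γ ^ p ^ m) (x := x) (mul_inv_cancel_left x _).symm
          (hm _ hz) (p ^ e)
        rw [← he, pow_card_eq_one', mul_one, he] at h1
        rw [pow_add, pow_mul]
        exact h1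
    obtain ⟨m, hm⟩ := key n le_rfl
    exact ⟨m, Subtype.ext (MulEquiv.ext fun x => hm x (hn ▸ mem_top x))⟩
  · obtain ⟨j, hj⟩ := hα
    have hle := hmono i hi
    by_cases hxi : x ∈ C i
    · exact mul_mem (inv_mem hxi) (hchar i (by omega) α x hxi)
    have hrel : ((C i).subgroupOf (C (i + 1))).index = p := by
      have h2 := relIndex_mul_relIndex ⊥ (C i) (C (i + 1)) bot_le hle
      rw [relIndex_bot_left, relIndex_bot_left, hstep i hi] at h2
      exact Nat.eq_of_mul_eq_mul_left Nat.card_pos h2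
    haveI : ((C i).subgroupOf (C (i + 1))).Normal :=
      ⟨fun y hy g => mem_subgroupOf.2 (by simpa using hnormal i hi g g.2 y (mem_subgroupOf.1 hy))⟩
    let π := QuotientGroup.mk' ((C i).subgroupOf (C (i + 1)))
    have hπ : ∀ a b : C (i + 1), π a = π b ↔ (a : G)⁻¹ * b ∈ C i := fun a b =>
      (QuotientGroup.eq (s := (C i).subgroupOf (C (i + 1))) (a := a) (b := b)).trans mem_subgroupOf
    let ax : C (i + 1) := ⟨α x, hchar (i + 1) hi α x hx⟩
    let x0 : C (i + 1) := ⟨x, hx⟩
    have hne : π x0 ≠ 1 := fun h => hxi (by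
      have h1 := (hπ 1 x0).1 (by rw [map_one, h])
      simpa [x0] using h1)
    have hgen := zpowers_eq_top_of_prime_card (p := p) (G := C (i + 1) ⧸ (C i).subgroupOf (C (i + 1)))
      hrel hne
    obtain ⟨k, hk0⟩ := (isOfFinOrder_of_finite (π x0)).mem_powers_iff_mem_zpowers.2
      (hgen.ge (mem_top (π ax)))
    change π x0 ^ k = π ax at hk0
    -- the iterates
    have hiter : ∀ m, π (x0 ^ k ^ m) =
        π (⟨(α ^ m) x, hchar (i + 1) hi (α ^ m) x hx⟩ : C (i + 1)) := by
      intro m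
      induction m with
      | zero => exact (hπ _ _).2 (by simp [x0])
      | succ m ih =>
        have h1 := hchar i (by omega) α _ ((hπ _ _).1 ih)
        simp only [SubgroupClass.coe_pow] at h1
        rw [map_mul, map_inv, map_pow, ← MulAut.mul_apply, ← pow_succ'] at h1
        have h3 : π (ax ^ k ^ m) = π (⟨(α ^ (m + 1)) x, hchar (i + 1) hi (α ^ (m + 1)) x hx⟩ : C (i + 1)) :=
          (hπ _ _).2 (by simpa [ax, x0] using h1)
        rw [map_pow, ← hk0, ← pow_mul, ← map_pow, ← pow_succ'] at h3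
        exact h3
    have h1 : π x0 ^ k ^ p ^ j = π x0 := by
      rw [← map_pow, hiter]
      exact congrArg π (Subtype.ext (show (α ^ p ^ j) x = x by rw [hj, MulAut.one_apply]))
    have hord : orderOf (π x0) = p := by
      rw [← Nat.card_zpowers, hgen, card_top]; exact hrel
    have h2 : (k : ZMod p) = 1 := by
      have h3 : π x0 ^ k ^ p ^ j = π x0 ^ 1 := by rw [h1, pow_one]
      rw [pow_eq_pow_iff_modEq, hord] at h3
      have h4 := (ZMod.natCast_eq_natCast_iff _ _ _).2 h3
      rw [Nat.cast_pow, Nat.cast_one, ZMod.pow_card_pow] at h4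
      exact h4
    have h3 : π x0 ^ k = π x0 ^ 1 := by
      rw [pow_eq_pow_iff_modEq, hord]
      exact (ZMod.natCast_eq_natCast_iff _ _ _).1 (by rw [h2, Nat.cast_one])
    rw [pow_one, hk0] at h3
    exact (hπ x0 ax).1 h3.symm

/-- The subgroup of solutions of `x ^ n = 1` in a commutative group. -/
def powKer (hab : ∀ a b : G, a * b = b * a) (n : ℕ) : Subgroup G where
  carrier := {x | x ^ n = 1}
  one_mem' := one_pow n
  mul_mem' {a b} (ha : a ^ n = 1) (hb : b ^ n = 1) := show (a * b) ^ n = 1 by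
    rw [(show Commute a b from hab a b).mul_pow, ha, hb, one_mul]
  inv_mem' {a} (ha : a ^ n = 1) := show a⁻¹ ^ n = 1 by rw [inv_pow, ha, inv_one]

omit [Finite G] hp in
theorem mem_powKer {hab : ∀ a b : G, a * b = b * a} {n : ℕ} {x : G} :
    x ∈ powKer hab n ↔ x ^ n = 1 := Iff.rfl

/-- An automorphism of an abelian `p`-group fixing the elements of order `p` has `p`-power order. -/
theorem pow_eq_one_of_fix_omega (hG : IsPGroup p G) (hab : ∀ a b : G, a * b = b * a) {β : MulAut G}
    (h : ∀ x : G, x ^ p = 1 → β x = x) : ∃ k, β ^ p ^ k = 1 := by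
  obtain ⟨e, he⟩ := IsPGroup.iff_card.1 hG
  have key : ∀ i, ∀ x : G, x ^ p ^ (i + 1) = 1 → (β ^ p ^ i) x = x := by
    intro i
    induction i with
    | zero => intro x hx; simpa using h x (by simpa using hx)
    | succ i ih =>
      intro x hx
      set γ := β ^ p ^ i
      have hxp : (x ^ p) ^ p ^ (i + 1) = 1 := by rw [← pow_mul, ← pow_succ']; exact hx
      set z := x⁻¹ * γ x with hz
      have hz1 : z ^ p = 1 := by
        rw [hz, (show Commute x⁻¹ (γ x) from hab _ _).mul_pow, ← map_pow, ih _ hxp, inv_pow,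
          inv_mul_cancel]
      have hfz : γ z = z := ih z (by rw [pow_succ', pow_mul, hz1, one_pow])
      have h1 := pow_apply_mul (β := γ) (x := x) (mul_inv_cancel_left x _).symm hfz p
      rw [show z ^ p = 1 from hz1, mul_one] at h1
      rw [pow_succ, pow_mul]
      exact h1
  refine ⟨e, MulEquiv.ext fun x => key e x ?_⟩
  have h1 : x ^ p ^ e = 1 := by rw [← he]; exact pow_card_eq_one'
  rw [pow_succ, pow_mul, h1, one_pow]

/-- An abelian `p`-group with the elements of order `p` carrying an invariant flag. -/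
theorem pTrivialAut_of_omega_flag (hG : IsPGroup p G) (hab : ∀ a b : G, a * b = b * a) (L : Subgroup G)
    (hL : ∀ α : MulAut G, ∀ x ∈ L, α x ∈ L) (hLo : L ≤ powKer hab p) (hLc : Nat.card L ≤ p)
    (hΩc : Nat.card (powKer hab p) ≤ p * Nat.card L) : PTrivialAut p G := by
  obtain ⟨e, he⟩ := IsPGroup.iff_card.1 hG
  have hLΩ : ∀ x ∈ L, x ^ p = 1 := fun x hx => hLo hx
  let N : Subgroup (MulAut G) :=
    { carrier := {α | (∀ x ∈ L, α x = x) ∧ ∀ x : G, x ^ p = 1 → x⁻¹ * α x ∈ L}
      one_mem' := ⟨fun x _ => rfl, fun x _ => by simp⟩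
      mul_mem' := fun {α β} hα hβ => ⟨fun x hx => by rw [MulAut.mul_apply, hβ.1 x hx, hα.1 x hx],
        fun x hx => by
          have h1 := mul_mem (hβ.2 x hx) (hα.2 (β x) (by rw [← map_pow, hx, map_one]))
          simpa [MulAut.mul_apply, mul_assoc] using h1⟩
      inv_mem' := fun {α} hα => ⟨fun x hx => by
          conv_lhs => rw [← hα.1 x hx]
          exact MulAut.inv_apply_self _ _ _,
        fun x hx => by
          have h1 := inv_mem (hα.2 (α⁻¹ x) (by rw [← map_pow, hx, map_one]))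
          rw [MulAut.apply_inv_self] at h1
          simpa using h1⟩ }
  refine ⟨N, ⟨fun β hβ γ => ⟨fun x hx => ?_, fun x hx => ?_⟩⟩, fun γ => ?_, fun α hα => ?_⟩
  · rw [MulAut.mul_apply, MulAut.mul_apply, hβ.1 _ (hL _ x hx), MulAut.apply_inv_self]
  · have h1 := hL γ _ (hβ.2 (γ⁻¹ x) (by rw [← map_pow, hx, map_one]))
    rw [map_mul, map_inv, MulAut.apply_inv_self] at h1
    exact h1
  · obtain ⟨γ, hγ⟩ := γ
    obtain ⟨k, hk⟩ := pow_eq_one_of_fix_omega (β := γ ^ p) hG hab fun x hx => by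
      have hz := hγ.2 x hx
      rw [pow_apply_mul (mul_inv_cancel_left x _).symm (hγ.1 _ hz) p, hLΩ _ hz, mul_one]
    exact ⟨k + 1, Subtype.ext (by rw [pow_succ', SubmonoidClass.coe_pow, pow_mul]; exact hk)⟩
  · obtain ⟨j, hj⟩ := hα
    -- `L` is fixed
    have hfixL : ∀ x ∈ L, α x = x := by
      intro x hx
      by_cases hx1 : x = 1
      · rw [hx1, map_one]
      have hxo : orderOf x = p := orderOf_eq_prime (hLΩ x hx) hx1
      have hgen : zpowers x = L := eq_of_le_of_card_ge (zpowers_le.2 hx)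
        (by rw [Nat.card_zpowers, hxo]; exact hLc)
      obtain ⟨k, hk⟩ := (isOfFinOrder_of_finite x).mem_powers_iff_mem_zpowers.2
        (hgen.ge (hL α x hx))
      change x ^ k = α x at hk
      have hit : ∀ m, (α ^ m) x = x ^ k ^ m := by
        intro m
        induction m with
        | zero => simp
        | succ m ih => rw [pow_succ', MulAut.mul_apply, ih, map_pow, ← hk, ← pow_mul, ← pow_succ']
      have h1 : x ^ k ^ p ^ j = x ^ 1 := by rw [← hit, hj, pow_one, MulAut.one_apply]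
      rw [pow_eq_pow_iff_modEq, hxo] at h1
      have h4 := (ZMod.natCast_eq_natCast_iff _ _ _).2 h1
      rw [Nat.cast_pow, Nat.cast_one, ZMod.pow_card_pow] at h4
      rw [← hk]
      have h5 : x ^ k = x ^ 1 := by
        rw [pow_eq_pow_iff_modEq, hxo]
        exact (ZMod.natCast_eq_natCast_iff _ _ _).1 (by rw [h4, Nat.cast_one])
      rw [h5, pow_one]
    refine ⟨hfixL, fun x hx => ?_⟩
    by_cases hxL : x ∈ L
    · exact mul_mem (inv_mem hxL) (hL α x hxL)
    haveI : L.Normal := ⟨fun y hy g => by rwa [hab g y, mul_inv_cancel_right]⟩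
    let π := QuotientGroup.mk' L
    have hne : π x ≠ 1 := fun h => hxL ((QuotientGroup.eq_one_iff x).1 h)
    have hox : orderOf (π x) = p := orderOf_eq_prime (by rw [← map_pow, hx, map_one]) hne
    have hgen : L ⊔ zpowers x = powKer hab p := by
      refine eq_of_le_of_card_ge (sup_le hLo (zpowers_le.2 hx)) (hΩc.trans ?_)
      have h2 : L.relIndex (L ⊔ zpowers x) = p := by
        rw [show L.relIndex (L ⊔ zpowers x) = (π.ker).relIndex (L ⊔ zpowers x) by
            rw [QuotientGroup.ker_mk'],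
          relIndex_ker, Subgroup.map_sup, QuotientGroup.map_mk'_self, bot_sup_eq, MonoidHom.map_zpowers,
          Nat.card_zpowers, hox]
      have h3 := relIndex_mul_relIndex ⊥ L (L ⊔ zpowers x) bot_le le_sup_left
      rw [relIndex_bot_left, relIndex_bot_left, h2] at h3
      rw [← h3, mul_comm]
    have hαx : α x ∈ L ⊔ zpowers x := hgen.ge (show (α x) ^ p = 1 by rw [← map_pow, hx, map_one])
    obtain ⟨l, hl, _, ⟨k, rfl⟩, hk⟩ := mem_sup_of_normal_left.1 hαx
    change l * x ^ k = α x at hk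
    have hπk : π (α x) = π x ^ k := by
      rw [← hk, map_mul, map_zpow, show π l = 1 from (QuotientGroup.eq_one_iff l).2 hl, one_mul]
    have hit : ∀ m : ℕ, π ((α ^ m) x) = π x ^ (k ^ m : ℤ) := by
      intro m
      induction m with
      | zero => simp
      | succ m ih =>
        have hmemL : x ^ (-(k ^ m : ℤ)) * (α ^ m) x ∈ L := (QuotientGroup.eq_one_iff _).1
          (show π (x ^ (-(k ^ m : ℤ)) * (α ^ m) x) = 1 by
            rw [map_mul, map_zpow, ih, zpow_neg, inv_mul_cancel])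
        have h1 := (QuotientGroup.eq_one_iff _).2 (hL α _ hmemL)
        rw [show ((α (x ^ (-(k ^ m : ℤ)) * (α ^ m) x) : G) : G ⧸ L) =
          π (α (x ^ (-(k ^ m : ℤ)) * (α ^ m) x)) from rfl, map_mul, map_mul, map_zpow, map_zpow, hπk,
          zpow_neg, inv_mul_eq_one, ← MulAut.mul_apply, ← pow_succ', ← zpow_mul, ← pow_succ'] at h1
        exact h1.symm
    have h1 : π x ^ (k ^ p ^ j : ℤ) = π x ^ (1 : ℤ) := by
      rw [← hit, hj, MulAut.one_apply, zpow_one]
    rw [zpow_eq_zpow_iff_modEq, hox] at h1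
    have h4 := (ZMod.intCast_eq_intCast_iff _ _ _).2 h1
    rw [Int.cast_pow, Int.cast_one, ZMod.pow_card_pow] at h4
    refine (QuotientGroup.eq_one_iff _).1 ?_
    show π (x⁻¹ * α x) = 1
    have h5 : π x ^ k = π x ^ (1 : ℤ) := by
      rw [zpow_eq_zpow_iff_modEq, hox]
      exact (ZMod.intCast_eq_intCast_iff _ _ _).1 (by rw [h4, Int.cast_one])
    rw [map_mul, map_inv, hπk, h5, zpow_one, inv_mul_cancel]

end CfsgLib.Invol
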