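import Mathlib

/-!
A group with squares and commutators in a central subgroup of order two, a large centre and no
large subgroup avoiding that subgroup cannot exist.
-/

set_option autoImplicit false
set_option linter.style.haveILetI false

namespace CfsgLib.AvoidCentral

open scoped commutatorElement

variable {X : Type*} [Group X]

/-- The subgroup `U ∪ U x⁻¹` for an element `x` normalizing `U` with square in `U`. -/
def adj (U : Subgroup X) (x : X) (hsq : x * x ∈ U) (hn : ∀ u ∈ U, x * u * x⁻¹ ∈ U) : Subgroup X where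
  carrier := {y | y ∈ U ∨ y * x ∈ U}
  one_mem' := Or.inl U.one_mem
  mul_mem' := by
    have hn' : ∀ u ∈ U, x⁻¹ * u * x ∈ U := fun u hu => by
      have := U.mul_mem (U.mul_mem (U.inv_mem hsq) (hn u hu)) hsq
      simpa [mul_assoc] using this
    rintro a b (ha | ha) (hb | hb)
    · exact Or.inl (U.mul_mem ha hb)
    · exact Or.inr (by rw [mul_assoc]; exact U.mul_mem ha hb)
    · refine Or.inr ?_
      have := U.mul_mem ha (hn' b hb)
      simpa [mul_assoc] using this
    · refine Or.inl ?_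
      have := U.mul_mem (U.mul_mem ha (hn' _ hb)) (U.inv_mem hsq)
      simpa [mul_assoc] using this
  inv_mem' := by
    rintro a (ha | ha)
    · exact Or.inl (U.inv_mem ha)
    · refine Or.inr ?_
      have := hn _ (U.inv_mem ha)
      rw [mul_inv_rev, mul_inv_cancel_left] at this
      have h2 := U.mul_mem this hsq
      simpa [mul_assoc] using h2

theorem mem_adj {U : Subgroup X} {x y : X} {hsq : x * x ∈ U} {hn : ∀ u ∈ U, x * u * x⁻¹ ∈ U} :
    y ∈ adj U x hsq hn ↔ y ∈ U ∨ y * x ∈ U := Iff.rfl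

theorem le_adj (U : Subgroup X) (x : X) (hsq : x * x ∈ U) (hn : ∀ u ∈ U, x * u * x⁻¹ ∈ U) :
    U ≤ adj U x hsq hn := fun _ h => Or.inl h

theorem self_mem_adj (U : Subgroup X) (x : X) (hsq : x * x ∈ U) (hn : ∀ u ∈ U, x * u * x⁻¹ ∈ U) :
    x ∈ adj U x hsq hn := Or.inr hsq

theorem card_adj_le [Finite X] (U : Subgroup X) (x : X) (hsq : x * x ∈ U)
    (hn : ∀ u ∈ U, x * u * x⁻¹ ∈ U) : Nat.card ↥(adj U x hsq hn) ≤ Nat.card ↥U * 2 := by
  classical
  have h : Function.Injective (fun y : ↥(adj U x hsq hn) =>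
      if h : (y : X) ∈ U then ((⟨y, h⟩ : ↥U), true) else ((⟨(y : X) * x, y.2.resolve_left h⟩ : ↥U), false)) := by
    intro a b hab
    by_cases ha : (a : X) ∈ U <;> by_cases hb : (b : X) ∈ U
    · simp only [ha, hb, dif_pos, Prod.mk.injEq, and_true] at hab
      exact Subtype.ext (congrArg (fun u : ↥U => (u : X)) hab)
    · simp only [ha, hb, dif_pos, dif_neg, not_false_iff, Prod.mk.injEq] at hab
      exact absurd hab.2 (by decide)
    · simp only [ha, hb, dif_pos, dif_neg, not_false_iff, Prod.mk.injEq] at hab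
      exact absurd hab.2 (by decide)
    · simp only [ha, hb, dif_neg, not_false_iff, Prod.mk.injEq, and_true] at hab
      exact Subtype.ext (mul_right_cancel (congrArg (fun u : ↥U => (u : X)) hab))
  refine (Nat.card_le_card_of_injective _ h).trans ?_
  rw [Nat.card_prod]
  simp

theorem conj_mem_of_comm {U : Subgroup X} (x : X) (h : ∀ u ∈ U, ⁅x, u⁆ ∈ U) :
    ∀ u ∈ U, x * u * x⁻¹ ∈ U := fun u hu => by
  have := U.mul_mem (h u hu) hu
  simpa [commutatorElement_def, mul_assoc] using this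

theorem card_le_centralizer [Finite X] (z : X) (hz2 : z * z = 1) (hzc : ∀ x : X, x * z = z * x)
    (hcomm : ∀ x y : X, ⁅x, y⁆ = 1 ∨ ⁅x, y⁆ = z) (U₀ : Subgroup X)
    (hc : ∀ u ∈ U₀, ∀ x : X, x * u = u * x) (U : Subgroup X) (hU : U₀ ≤ U)
    (hel : ∀ u ∈ U, u * u = 1) :
    Nat.card X * Nat.card ↥U₀ ≤ Nat.card ↥(Subgroup.centralizer (U : Set X)) * Nat.card ↥U := by
  induction hn : Nat.card ↥U using Nat.strong_induction_on generalizing U with
  | _ n ih =>
    by_cases he : U = U₀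
    · subst he
      have : Subgroup.centralizer (U : Set X) = ⊤ := eq_top_iff.2 fun x _ =>
        Subgroup.mem_centralizer_iff.2 fun u hu => (hc u hu x).symm
      rw [this, Subgroup.card_top, hn]
    · obtain ⟨M, ⟨hM0, hMU⟩, hmax⟩ := Set.Finite.exists_maximalFor id
        {M : Subgroup X | U₀ ≤ M ∧ M < U} (Set.toFinite _) ⟨U₀, le_rfl, lt_of_le_of_ne hU (Ne.symm he)⟩
      obtain ⟨x, hxU, hxM⟩ := SetLike.exists_of_lt hMU
      have hinv : ∀ u ∈ U, u⁻¹ = u := fun u hu => inv_eq_of_mul_eq_one_right (hel u hu)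
      have hcU : ∀ u ∈ U, ∀ v ∈ U, u * v = v * u := fun u hu v hv => by
        rw [← hinv _ (U.mul_mem hu hv), mul_inv_rev, hinv u hu, hinv v hv]
      have hconj : ∀ u ∈ M, x * u * x⁻¹ ∈ M := fun u hu => by
        rw [hcU x hxU u (hMU.le hu), mul_inv_cancel_right]
        exact hu
      have hsq : x * x ∈ M := by rw [hel x hxU]; exact M.one_mem
      have hle : adj M x hsq hconj ≤ U := by
        rintro y (hy | hy)
        · exact hMU.le hy
        · simpa [mul_assoc] using U.mul_mem (hMU.le hy) (U.inv_mem hxU)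
      have hUeq : adj M x hsq hconj = U := by
        by_contra hne
        exact hxM (hmax ⟨hM0.trans (le_adj _ _ _ _), lt_of_le_of_ne hle hne⟩ (le_adj _ _ _ _)
          (self_mem_adj _ _ _ _))
      have hlt : Nat.card ↥M < n := by
        rw [← hn]
        exact Set.ncard_lt_ncard (SetLike.coe_ssubset_coe.2 hMU) (Set.toFinite _)
      have h2 : 2 * Nat.card ↥M ≤ n := by
        obtain ⟨k, hk⟩ := Subgroup.card_dvd_of_le hMU.le
        rw [hn] at hk
        rw [hk] at hlt ⊢
        have : 2 ≤ k := by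
          by_contra hh
          interval_cases k <;> simp at hlt
        nlinarith
      have hIH := ih _ hlt M hM0 (fun u hu => hel u (hMU.le hu)) rfl
      have hcz : ∀ a b : X, ⁅a * b, x⁆ = ⁅a, x⁆ * ⁅b, x⁆ := fun a b => by
        have hb : a * ⁅b, x⁆ * a⁻¹ = ⁅b, x⁆ := by
          rcases hcomm b x with h | h <;> rw [h]
          · simp
          · rw [hzc a, mul_inv_cancel_right]
        have hab : ⁅b, x⁆ * ⁅a, x⁆ = ⁅a, x⁆ * ⁅b, x⁆ := by
          rcases hcomm b x with h | h <;> rw [h]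
          · simp
          · exact (hzc _).symm
        rw [← hab, ← hb]
        simp only [commutatorElement_def]
        group
      let f : ↥(Subgroup.centralizer (M : Set X)) →* ↥(Subgroup.zpowers z) :=
        MonoidHom.mk' (fun a => ⟨⁅(a : X), x⁆, by
          rcases hcomm (a : X) x with h | h <;> rw [h]
          · exact one_mem _
          · exact Subgroup.mem_zpowers z⟩) fun a b => Subtype.ext (hcz a b)
      have hker : Nat.card ↥f.ker ≤ Nat.card ↥(Subgroup.centralizer (U : Set X)) := by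
        refine Nat.card_le_card_of_injective (fun a => ⟨((a : ↥(Subgroup.centralizer (M : Set X))) : X), ?_⟩)
          fun a b h => Subtype.ext (Subtype.ext (congrArg (Subtype.val) h :))
        have ha : ⁅((a : ↥(Subgroup.centralizer (M : Set X))) : X), x⁆ = 1 :=
          congrArg Subtype.val (MonoidHom.mem_ker.1 a.2)
        refine Subgroup.mem_centralizer_iff.2 fun u hu => ?_
        have hxa := (commutatorElement_eq_one_iff_mul_comm.1 ha).symm
        rw [SetLike.mem_coe, ← hUeq, mem_adj] at hu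
        have haM := Subgroup.mem_centralizer_iff.1 (a : ↥(Subgroup.centralizer (M : Set X))).2
        rcases hu with hu | hu
        · exact haM u hu
        · rw [show u = u * x * x⁻¹ by group]
          exact Commute.mul_left (haM _ hu) (Commute.inv_left hxa)
      have hC : Nat.card ↥(Subgroup.centralizer (M : Set X)) ≤ Nat.card ↥(Subgroup.centralizer (U : Set X)) * 2 := by
        rw [← f.ker.card_mul_index, Subgroup.index_ker]
        refine Nat.mul_le_mul hker ((Subgroup.card_le_card_group _).trans ?_)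
        rw [Nat.card_zpowers]
        exact orderOf_le_of_pow_eq_one (by norm_num) (by rw [sq, hz2])
      calc Nat.card X * Nat.card ↥U₀ ≤ _ := hIH
        _ ≤ Nat.card ↥(Subgroup.centralizer (U : Set X)) * 2 * Nat.card ↥M := Nat.mul_le_mul_right _ hC
        _ ≤ Nat.card ↥(Subgroup.centralizer (U : Set X)) * n := by
          rw [mul_assoc]; exact Nat.mul_le_mul_left _ h2

theorem exists_avoiding [Finite X] (z : X) (hz : z ≠ 1) (hz2 : z * z = 1)
    (hzc : ∀ x : X, x * z = z * x) (hsq : ∀ x : X, x * x = 1 ∨ x * x = z)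
    (hcomm : ∀ x y : X, ⁅x, y⁆ = 1 ∨ ⁅x, y⁆ = z) (C : Subgroup X) (hzC : z ∈ C)
    (hC : ∀ c ∈ C, ∀ x : X, x * c = c * x) (hCcard : 2 ^ 5 ≤ Nat.card ↥C)
    (hX : 2 ^ 9 ≤ Nat.card X) :
    ∃ U : Subgroup X, z ∉ U ∧ 2 ^ 5 ≤ Nat.card ↥U := by
  have hzinv : z⁻¹ = z := inv_eq_of_mul_eq_one_right hz2
  have hzconj : ∀ (x : X) (U : Subgroup X), z ∈ U → ∀ u ∈ U, x * u * x⁻¹ ∈ U := fun x U hzU =>
    conj_mem_of_comm x fun u _ => by
      rcases hcomm x u with h | h <;> rw [h]
      exacts [one_mem _, hzU]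
  have hzn : ∀ (U : Subgroup X), ∀ u ∈ U, z * u * z⁻¹ ∈ U := fun U u hu => by
    rwa [← hzc u, mul_inv_cancel_right]
  have hz2U : ∀ U : Subgroup X, z * z ∈ U := fun U => by rw [hz2]; exact U.one_mem
  -- part inside the central subgroup
  obtain ⟨U₀, ⟨hU₀C, hzU₀⟩, hmax₀⟩ := Set.Finite.exists_maximalFor id
    {U : Subgroup X | U ≤ C ∧ z ∉ U} (Set.toFinite _) ⟨⊥, bot_le, fun h => hz (Subgroup.mem_bot.1 h)⟩
  let K₀ := adj U₀ z (hz2U _) (hzn _)
  have hzK₀ : z ∈ K₀ := self_mem_adj _ _ _ _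
  have hK₀ : ∀ x ∈ C, x * x = 1 → x ∈ K₀ := fun x hx hx2 => by
    have hn : ∀ u ∈ U₀, x * u * x⁻¹ ∈ U₀ := fun u hu => by
      rwa [hC u (hU₀C hu) x, mul_inv_cancel_right]
    have hs : x * x ∈ U₀ := by rw [hx2]; exact U₀.one_mem
    by_cases hzA : z ∈ adj U₀ x hs hn
    · rcases hzA with h | h
      · exact absurd h hzU₀
      · refine mem_adj.2 (Or.inr ?_)
        rwa [hC x hx z] at h
    · refine le_adj _ _ _ _ (hmax₀ ⟨?_, hzA⟩ (le_adj _ _ _ _) (self_mem_adj _ _ _ _))
      rintro y (hy | hy)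
      · exact hU₀C hy
      · simpa [mul_assoc] using C.mul_mem (hU₀C hy) (C.inv_mem hx)
  have hU₀card : 2 ^ 3 ≤ Nat.card ↥U₀ := by
    by_cases hall : C ≤ K₀
    · have := (Subgroup.card_le_of_le hall).trans (card_adj_le _ _ _ _)
      omega
    · obtain ⟨a, haC, haK⟩ := SetLike.not_le_iff_exists.1 hall
      have ha2 : a * a = z := (hsq a).resolve_left fun h => haK (hK₀ a haC h)
      have hsa : a * a ∈ K₀ := ha2 ▸ hzK₀
      have hle : C ≤ adj K₀ a hsa (hzconj a _ hzK₀) := fun b hb => by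
        by_cases hbK : b ∈ K₀
        · exact Or.inl hbK
        · refine Or.inr (hK₀ _ (C.mul_mem hb haC) ?_)
          have hb2 : b * b = z := (hsq b).resolve_left fun h => hbK (hK₀ b hb h)
          have hab : a * b = b * a := hC b hb a
          calc b * a * (b * a) = b * (a * b) * a := by group
            _ = (b * b) * (a * a) := by rw [hab]; group
            _ = 1 := by rw [hb2, ha2, hz2]
      have h1 := (Subgroup.card_le_of_le hle).trans (card_adj_le _ _ _ _)
      have h2 := card_adj_le U₀ z (hz2U _) (hzn _)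
      change Nat.card ↥C ≤ Nat.card ↥K₀ * 2 at h1
      change Nat.card ↥K₀ ≤ Nat.card ↥U₀ * 2 at h2
      omega
  -- a maximal elementary subgroup above it
  obtain ⟨U, ⟨hU₀U, hzU⟩, hmax⟩ := Set.Finite.exists_maximalFor id
    {U : Subgroup X | U₀ ≤ U ∧ z ∉ U} (Set.toFinite _) ⟨U₀, le_rfl, hzU₀⟩
  refine ⟨U, hzU, ?_⟩
  have hel : ∀ u ∈ U, u * u = 1 := fun u hu =>
    (hsq u).resolve_right fun h => hzU (h ▸ U.mul_mem hu hu)
  have hcnt := card_le_centralizer z hz2 hzc hcomm U₀ (fun u hu x => hC u (hU₀C hu) x) U hU₀U hel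
  let K := adj U z (hz2U _) (hzn _)
  have hzK : z ∈ K := self_mem_adj _ _ _ _
  set N := Subgroup.centralizer (U : Set X)
  have hsqN : ∀ x ∈ N, x ∉ K → x * x = z := fun x hx hxK => (hsq x).resolve_left fun h2 => by
    have hn : ∀ u ∈ U, x * u * x⁻¹ ∈ U := fun u hu => by
      rwa [← Subgroup.mem_centralizer_iff.1 hx u hu, mul_inv_cancel_right]
    have hs : x * x ∈ U := by rw [h2]; exact U.one_mem
    by_cases hzA : z ∈ adj U x hs hn
    · rcases hzA with h | h
      · exact hzU h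
      · exact hxK (mem_adj.2 (Or.inr (by rwa [hzc x])))
    · exact hxK (le_adj _ _ _ _ (hmax ⟨hU₀U.trans (le_adj _ _ _ _), hzA⟩ (le_adj _ _ _ _)
        (self_mem_adj _ _ _ _)))
  have hN : Nat.card ↥N ≤ Nat.card ↥K * 4 := by
    by_cases hall : N ≤ K
    · exact (Subgroup.card_le_of_le hall).trans (Nat.le_mul_of_pos_right _ (by norm_num))
    obtain ⟨a, haN, haK⟩ := SetLike.not_le_iff_exists.1 hall
    let K₂ := adj K a (hsqN a haN haK ▸ hzK) (hzconj a _ hzK)
    have hK₂ : Nat.card ↥K₂ ≤ Nat.card ↥K * 2 := card_adj_le _ _ _ _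
    by_cases hall₂ : N ≤ K₂
    · exact ((Subgroup.card_le_of_le hall₂).trans hK₂).trans (Nat.mul_le_mul_left _ (by norm_num))
    obtain ⟨b, hbN, hbK₂⟩ := SetLike.not_le_iff_exists.1 hall₂
    have hzK₂ : z ∈ K₂ := le_adj _ _ _ _ hzK
    have hbK : b ∉ K := fun h => hbK₂ (le_adj _ _ _ _ h)
    let K₃ := adj K₂ b (hsqN b hbN hbK ▸ hzK₂) (hzconj b _ hzK₂)
    have hK₃ : Nat.card ↥K₃ ≤ Nat.card ↥K₂ * 2 := card_adj_le _ _ _ _
    suffices hle : N ≤ K₃ by
      have := Subgroup.card_le_of_le hle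
      omega
    intro c hcN
    by_contra hcK₃
    have haK₂ : a ∈ K₂ := self_mem_adj _ _ _ _
    have key : ∀ y ∈ N, y ∉ K → a * y ∉ K → ⁅a⁻¹, y⁆ = z := fun y hy hyK hayK => by
      have h1 := hsqN _ (N.mul_mem haN hy) hayK
      have h2 : a * y * (a * y) = a * a * ⁅a⁻¹, y⁆ * (y * y) := by
        simp only [commutatorElement_def]; group
      rw [h2, hsqN a haN haK, hsqN y hy hyK] at h1
      rcases hcomm a⁻¹ y with h | h
      · rw [h, mul_one, hz2] at h1
        exact absurd h1.symm hz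
      · exact h
    have hcK₂ : c ∉ K₂ := fun h => hcK₃ (le_adj _ _ _ _ h)
    have hmem : ∀ y ∈ K₂, y ∈ K₃ := fun y hy => le_adj _ _ _ _ hy
    have hbK₃ : b ∈ K₃ := self_mem_adj _ _ _ _
    have hb' : a * b ∉ K := fun h => hbK₂ (by
      simpa using K₂.mul_mem (K₂.inv_mem haK₂) (le_adj _ _ _ _ h))
    have hc' : a * c ∉ K := fun h => hcK₂ (by
      simpa using K₂.mul_mem (K₂.inv_mem haK₂) (le_adj _ _ _ _ h))
    have hbc : b * c ∉ K := fun h => hcK₃ (by
      simpa using K₃.mul_mem (K₃.inv_mem hbK₃) (hmem _ (le_adj _ _ _ _ h)))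
    have habc : a * (b * c) ∉ K := fun h => hcK₃ (by
      simpa using K₃.mul_mem (K₃.inv_mem (K₃.mul_mem (hmem _ haK₂) hbK₃)) (hmem _ (le_adj _ _ _ _ h)))
    have e1 := key b hbN hbK hb'
    have e2 := key c hcN (fun h => hcK₂ (le_adj _ _ _ _ h)) hc'
    have e3 := key (b * c) (N.mul_mem hbN hcN) hbc habc
    have e4 : ⁅a⁻¹, b * c⁆ = ⁅a⁻¹, b⁆ * (b * ⁅a⁻¹, c⁆ * b⁻¹) := by
      simp only [commutatorElement_def]; group
    rw [e3, e1, e2, hzc b, mul_inv_cancel_right, hz2] at e4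
    exact hz e4
  have hK : Nat.card ↥K ≤ Nat.card ↥U * 2 := card_adj_le _ _ _ _
  by_contra hlt
  have h1 : Nat.card ↥U ≤ 31 := by omega
  have hdvd : ∃ k, Nat.card ↥U = 2 ^ k := by
    have hp : IsPGroup 2 ↥U := fun u => ⟨1, Subtype.ext (by simp [sq, hel u u.2])⟩
    exact hp.exists_card_eq
  obtain ⟨k, hk⟩ := hdvd
  have hk4 : k ≤ 4 := by
    by_contra hh
    have : 2 ^ 5 ≤ 2 ^ k := Nat.pow_le_pow_right (by norm_num) (by omega)
    omega
  have h2 : Nat.card ↥U ≤ 16 := hk ▸ (Nat.pow_le_pow_right (by norm_num) hk4)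
  have h3 : Nat.card ↥N * Nat.card ↥U ≤ 16 * 2 * 4 * 16 := Nat.mul_le_mul (by omega) h2
  have h4 : 2 ^ 9 * 2 ^ 3 ≤ Nat.card X * Nat.card ↥U₀ := Nat.mul_le_mul hX hU₀card
  norm_num at h4
  omega

end CfsgLib.AvoidCentral
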