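import Mathlib

/-!
Coprime fixed-point counting: averages, hyperplane generation, and the bound for groups of exponent `p`
with cyclic centre acting on an abelian group with the centre fixed-point-free.
-/

set_option autoImplicit false
set_option linter.style.haveILetI false

open Subgroup
open scoped commutatorElement

namespace CfsgLib.Invol

variable {H V : Type*} [Group H] [AddCommGroup V] (ρ : H →* AddMonoid.End V)

theorem act_comp (a b : H) (v : V) : ρ (a * b) v = ρ a (ρ b v) := by rw [map_mul]; rfl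

theorem act_one (v : V) : ρ 1 v = v := by rw [map_one]; rfl

theorem act_inv_self (a : H) (v : V) : ρ a⁻¹ (ρ a v) = v := by
  rw [← act_comp, inv_mul_cancel, act_one]

theorem act_self_inv (a : H) (v : V) : ρ a (ρ a⁻¹ v) = v := by
  rw [← act_comp, mul_inv_cancel, act_one]

theorem act_injective (a : H) : Function.Injective (ρ a) := fun v w h => by
  rw [← act_inv_self ρ a v, h, act_inv_self]

/-- The fixed points of a subgroup. -/
def fixPts (K : Subgroup H) : AddSubgroup V where
  carrier := {v | ∀ k ∈ K, ρ k v = v}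
  zero_mem' := fun k _ => map_zero _
  add_mem' := fun {v w} hv hw k hk => by rw [map_add, hv k hk, hw k hk]
  neg_mem' := fun {v} hv k hk => by rw [map_neg, hv k hk]

theorem mem_fixPts {K : Subgroup H} {v : V} : v ∈ fixPts ρ K ↔ ∀ k ∈ K, ρ k v = v := Iff.rfl

theorem fixPts_anti {K L : Subgroup H} (h : K ≤ L) : fixPts ρ L ≤ fixPts ρ K :=
  fun _ hv k hk => hv k (h hk)

theorem mem_fixPts_zpowers {g : H} {v : V} (h : ρ g v = v) : v ∈ fixPts ρ (zpowers g) := by
  intro k hk
  obtain ⟨j, rfl⟩ := mem_zpowers_iff.1 hk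
  induction j using Int.induction_on with
  | zero => rw [zpow_zero, act_one]
  | succ j ih => rw [zpow_add_one, act_comp, h, ih (zpow_mem (mem_zpowers g) _)]
  | pred j ih =>
    rw [zpow_sub_one, act_comp, show ρ g⁻¹ v = v by
      conv_lhs => rw [← h]
      exact act_inv_self ρ g v, ih (zpow_mem (mem_zpowers g) _)]

theorem act_pow_of_fixed {g : H} {v : V} (h : ρ g v = v) (j : ℕ) : ρ (g ^ j) v = v :=
  mem_fixPts_zpowers ρ h _ (pow_mem (mem_zpowers g) j)

/-- The stabiliser of a vector. -/
def fixSub (u : V) : Subgroup H where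
  carrier := {g | ρ g u = u}
  one_mem' := act_one ρ u
  mul_mem' := fun {a b} (ha : ρ a u = u) (hb : ρ b u = u) => by
    show ρ (a * b) u = u
    rw [act_comp, hb, ha]
  inv_mem' := fun {a} (ha : ρ a u = u) => by
    show ρ a⁻¹ u = u
    conv_lhs => rw [← ha]
    exact act_inv_self ρ a u

theorem eq_zero_of_nsmul [Finite V] {n : ℕ} (hn : n.Coprime (Nat.card V)) {v : V} (h : n • v = 0) :
    v = 0 :=
  AddMonoid.addOrderOf_eq_one_iff.1 (Nat.eq_one_of_dvd_coprimes hn
    (addOrderOf_dvd_of_nsmul_eq_zero h) (addOrderOf_dvd_natCard v))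

theorem mem_of_nsmul_mem [Finite V] {n : ℕ} (hn : n.Coprime (Nat.card V)) {S : AddSubgroup V}
    {v : V} (h : n • v ∈ S) : v ∈ S := by
  haveI : S.Normal := inferInstance
  rw [← QuotientAddGroup.eq_zero_iff] at h ⊢
  refine eq_zero_of_nsmul (hn.coprime_dvd_right S.card_quotient_dvd_card) ?_
  rw [← h]
  rfl

variable {p : ℕ} [Fact p.Prime]

/-- The sum over the powers of `h`. -/
noncomputable def av (h : H) (v : V) : V := ∑ i : ZMod p, ρ (h ^ i.val) v

theorem pow_val_add {h : H} (hh : h ^ p = 1) (i j : ZMod p) :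
    h ^ (i + j).val = h ^ i.val * h ^ j.val := by
  rw [← pow_add, ZMod.val_add, ← pow_eq_pow_mod _ hh]

theorem pow_val_mul {h : H} (hh : h ^ p = 1) (i j : ZMod p) :
    h ^ (i * j).val = (h ^ i.val) ^ j.val := by
  rw [← pow_mul, ZMod.val_mul, ← pow_eq_pow_mod _ hh]

theorem act_av {h : H} (hh : h ^ p = 1) (v : V) : ρ h (av (p := p) ρ h v) = av (p := p) ρ h v := by
  unfold av
  rw [map_sum]
  refine Fintype.sum_equiv (Equiv.addLeft (1 : ZMod p)) _ _ fun i => ?_
  rw [Equiv.coe_addLeft, pow_val_add hh, ZMod.val_one, pow_one, act_comp]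

theorem act_av_of_commute {h k : H} (hc : k * h = h * k) (v : V) :
    ρ k (av (p := p) ρ h v) = av (p := p) ρ h (ρ k v) := by
  unfold av
  rw [map_sum]
  refine Finset.sum_congr rfl fun i _ => ?_
  rw [← act_comp, ← act_comp, (Commute.pow_right hc _).eq]

theorem av_eq_zero {z : H} (hz : z ^ p = 1) (hfpf : ∀ v, ρ z v = v → v = 0) (v : V) :
    av (p := p) ρ z v = 0 := hfpf _ (act_av ρ hz v)

theorem av_pow {h : H} (hh : h ^ p = 1) {c : ZMod p} (hc : c ≠ 0) (v : V) :
    av (p := p) ρ (h ^ c.val) v = av (p := p) ρ h v := by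
  unfold av
  refine Fintype.sum_equiv (Equiv.mulLeft₀ c hc) _ _ fun i => ?_
  rw [show Equiv.mulLeft₀ c hc i = c * i from rfl, pow_val_mul hh]

variable [Finite V] [Finite H]

/-- The fixed points of the maximal subgroups of an elementary abelian group generate. -/
theorem mem_of_hyperplanes (hco : p.Coprime (Nat.card V)) (E : Subgroup H) [Finite E]
    (hE : ∀ a ∈ E, ∀ b ∈ E, a * b = b * a) (hexp : ∀ a ∈ E, a ^ p = 1)
    (S : AddSubgroup V)
    (hS : ∀ K : Subgroup H, K ≤ E → Nat.card E ≤ p * Nat.card K → fixPts ρ K ≤ S) (v : V) :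
    v ∈ S := by
  suffices key : ∀ n, ∀ K : Subgroup H, K ≤ E → Nat.card E - Nat.card K ≤ n → fixPts ρ K ≤ S from
    key (Nat.card E) ⊥ bot_le (Nat.sub_le _ _) (fun k hk => by rw [mem_bot.1 hk, act_one])
  intro n
  induction n with
  | zero =>
    intro K hK hn
    refine hS K hK ?_
    have h1 : Nat.card K ≤ p * Nat.card K := Nat.le_mul_of_pos_left _ (Fact.out : p.Prime).pos
    omega
  | succ n ih =>
    intro K hK hn w hw
    by_cases hbig : Nat.card E ≤ p * Nat.card K
    · exact hS K hK hbig hw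
    have step : ∀ h ∈ E, h ∉ K → ∀ u ∈ fixPts ρ K, ρ h u = u → u ∈ S := by
      intro h hh hhK u hu hfix
      refine ih (K ⊔ zpowers h) (sup_le hK (zpowers_le.2 hh)) ?_ ?_
      · have hlt : K < K ⊔ zpowers h := lt_of_le_of_ne le_sup_left fun e =>
          hhK (e ▸ mem_sup_right (mem_zpowers h))
        haveI : Finite (K ⊔ zpowers h : Subgroup H) :=
          Finite.of_injective _ (Subgroup.inclusion_injective (sup_le hK (zpowers_le.2 hh)))
        have := Set.ncard_lt_ncard (SetLike.coe_ssubset_coe.2 hlt) (Set.toFinite _)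
        rw [← Nat.card_coe_set_eq, ← Nat.card_coe_set_eq] at this
        simp only [SetLike.coe_sort_coe] at this
        omega
      · intro k hk
        have hle : K ⊔ zpowers h ≤ fixSub ρ u :=
          sup_le (fun g hg => hu g hg) (zpowers_le.2 hfix)
        exact hle hk
    obtain ⟨x, hx, hxK⟩ : ∃ x ∈ E, x ∉ K := by
      by_contra hno
      push Not at hno
      have h1 := Subgroup.card_le_of_le (show E ≤ K from hno) 
      have h2 : Nat.card K ≤ p * Nat.card K := Nat.le_mul_of_pos_left _ (Fact.out : p.Prime).pos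
      omega
    obtain ⟨y, hy, hyK⟩ : ∃ y ∈ E, ∀ j : ℕ, ∀ k ∈ K, y ≠ x ^ j * k := by
      by_contra hno
      push Not at hno
      apply hbig
      have hsurj : Function.Surjective (fun q : ZMod p × K =>
          (⟨x ^ q.1.val * q.2, mul_mem (pow_mem hx _) (hK q.2.2)⟩ : E)) := by
        rintro ⟨y, hy⟩
        obtain ⟨j, k, hk, e⟩ := hno y hy
        refine ⟨((j : ZMod p), ⟨k, hk⟩), Subtype.ext ?_⟩
        show x ^ (j : ZMod p).val * k = y
        rw [e, ZMod.val_natCast, ← pow_eq_pow_mod _ (hexp x hx)]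
      haveI : Finite K := Finite.of_injective _ (Subgroup.inclusion_injective hK)
      have := Nat.card_le_card_of_surjective _ hsurj
      rwa [Nat.card_prod, Nat.card_zmod] at this
    have hyK1 : y ∉ K := fun h => hyK 0 y h (by simp)
    have hline : ∀ i : ZMod p, x * y ^ i.val ∉ K := by
      intro i h
      rcases eq_or_ne i 0 with rfl | hi
      · exact hxK (by simpa using h)
      · refine hyK ((i⁻¹).val * (p - 1)) ((x * y ^ i.val) ^ (i⁻¹).val) (pow_mem h _) ?_
        have hxy : Commute x (y ^ i.val) := Commute.pow_right (hE x hx y hy) _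
        rw [hxy.mul_pow, ← pow_val_mul (hexp y hy), mul_inv_cancel₀ hi, ZMod.val_one, pow_one,
          ← mul_assoc, ← pow_add]
        have hd : (i⁻¹).val * (p - 1) + (i⁻¹).val = (i⁻¹).val * p := by
          have := (Fact.out : p.Prime).one_le
          rw [← Nat.mul_succ, Nat.succ_eq_add_one, Nat.sub_add_cancel this]
        rw [hd, mul_comm, pow_mul, hexp x hx, one_pow, one_mul]
    have havK : ∀ h ∈ E, av (p := p) ρ h w ∈ fixPts ρ K := fun h hh k hk => by
      rw [act_av_of_commute ρ (hE k (hK hk) h hh), hw k hk]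
    have hsum : (∑ i : ZMod p, av (p := p) ρ (x * y ^ i.val) w) =
        p • w + ∑ j ∈ (Finset.univ.erase (0 : ZMod p)), ρ (x ^ j.val) (av (p := p) ρ y w) := by
      unfold av
      rw [Finset.sum_comm, ← Finset.add_sum_erase _ _ (Finset.mem_univ (0 : ZMod p))]
      congr 1
      · simp only [ZMod.val_zero, pow_zero, act_one, Finset.sum_const, Finset.card_univ, ZMod.card]
      · refine Finset.sum_congr rfl fun j hj => ?_
        rw [map_sum]
        refine Fintype.sum_equiv (Equiv.mulRight₀ j (Finset.mem_erase.1 hj).1) _ _ fun i => ?_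
        rw [show Equiv.mulRight₀ j (Finset.mem_erase.1 hj).1 i = i * j from rfl, ← act_comp, (Commute.pow_right (hE x hx y hy) _).mul_pow,
          pow_val_mul (hexp y hy)]
    have hmem : p • w ∈ S := by
      rw [eq_sub_of_add_eq hsum.symm]
      refine sub_mem (sum_mem fun i _ => ?_) (sum_mem fun j _ => ?_)
      · exact step _ (mul_mem hx (pow_mem hy _)) (hline i) _ (havK _ (mul_mem hx (pow_mem hy _)))
          (act_av ρ (hexp _ (mul_mem hx (pow_mem hy _))) w)
      · refine step y hy hyK1 _ (fun k hk => ?_) ?_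
        · rw [← act_comp, (hE k (hK hk) _ (pow_mem hx j.val)), act_comp, havK y hy k hk]
        · rw [← act_comp, (hE y hy _ (pow_mem hx j.val)), act_comp, act_av ρ (hexp y hy) w]
    exact mem_of_nsmul_mem hco hmem

/-- If `⁅x, b⁆` is a fixed-point-free central element, the fixed points of `b` have order at most
`|V| ^ (1/p)`. -/
theorem card_fixPts_pow_le (hco : p.Coprime (Nat.card V)) {x b z : H} (hb : b ^ p = 1)
    (hz : z ^ p = 1) (hzb : z * b = b * z) (hxz : x * z = z * x)
    (hfpf : ∀ v, ρ z v = v → v = 0) (hxb : x * b * x⁻¹ = b * z) :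
    Nat.card (fixPts ρ (zpowers b)) ^ p ≤ Nat.card V := by
  set W := fixPts ρ (zpowers b)
  -- `b` acts on the `i`-th translate as the scalar `z ^ (-i)`
  have hconj : ∀ i : ℕ, x ^ i * b = b * z ^ i * x ^ i := by
    intro i
    induction i with
    | zero => simp
    | succ i ih =>
      have h1 : x * b = b * z * x := by rw [← hxb]; group
      calc x ^ (i + 1) * b = x * (x ^ i * b) := by rw [pow_succ', mul_assoc]
        _ = (x * b) * (z ^ i * x ^ i) := by rw [ih]; group
        _ = b * z * (x * z ^ i) * x ^ i := by rw [h1]; group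
        _ = b * z * (z ^ i * x) * x ^ i := by rw [(Commute.pow_right hxz i).eq]
        _ = b * z ^ (i + 1) * x ^ (i + 1) := by rw [pow_succ' z, pow_succ' x]; group
  have hb' : ∀ i : ℕ, ∀ w ∈ W, ρ b (ρ (z ^ i) (ρ (x ^ i) w)) = ρ (x ^ i) w := by
    intro i w hw
    rw [← act_comp, ← act_comp, ← hconj, act_comp, hw b (mem_zpowers b)]
  let f : (ZMod p → W) → V := fun w => ∑ i, ρ (x ^ i.val) (w i : V)
  have hf : Function.Injective f := by
    have hlin : ∀ u : ZMod p → W, (∑ i, ρ (x ^ i.val) (u i : V)) = 0 → ∀ k, u k = 0 := by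
      intro u hu k
      -- separate with the characters
      have h1 : ∀ j : ℕ, ∑ i : ZMod p, ρ ((z⁻¹) ^ (i.val * j)) (ρ (x ^ i.val) (u i : V)) = 0 := by
        intro j
        induction j with
        | zero => simpa [act_one] using hu
        | succ j ih =>
          have := congrArg (ρ b) ih
          rw [map_zero, map_sum] at this
          rw [← this]
          refine Finset.sum_congr rfl fun i _ => ?_
          have hzinv : Commute b ((z⁻¹) ^ (i.val * j)) :=
            ((Commute.inv_left hzb).pow_left _).symm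
          have e1 : ρ b (ρ (x ^ i.val) (u i : V)) = ρ ((z⁻¹) ^ i.val) (ρ (x ^ i.val) (u i : V)) := by
            apply act_injective ρ (z ^ i.val)
            rw [← act_comp, (Commute.pow_left hzb _).eq, act_comp, hb' _ _ (u i).2, inv_pow, act_self_inv]
          rw [← act_comp ρ b, hzinv.eq, act_comp, e1, ← act_comp ρ ((z⁻¹) ^ (i.val * j)), ← pow_add,
            Nat.mul_succ]
      have h2 : ∑ j : ZMod p, ρ (z ^ (k.val * j.val))
          (∑ i : ZMod p, ρ ((z⁻¹) ^ (i.val * j.val)) (ρ (x ^ i.val) (u i : V))) = 0 :=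
        Finset.sum_eq_zero fun j _ => by rw [h1 j.val, map_zero]
      simp only [map_sum] at h2
      rw [Finset.sum_comm, Finset.sum_eq_single k] at h2
      · have h3 : ∀ j : ZMod p, ρ (z ^ (k.val * j.val)) (ρ ((z⁻¹) ^ (k.val * j.val))
            (ρ (x ^ k.val) (u k : V))) = ρ (x ^ k.val) (u k : V) := fun j => by
          rw [inv_pow, act_self_inv]
        rw [Finset.sum_congr rfl fun j _ => h3 j, Finset.sum_const, Finset.card_univ, ZMod.card] at h2
        have h4 := eq_zero_of_nsmul hco h2
        exact Subtype.ext (act_injective ρ _ (h4.trans (map_zero _).symm))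
      · intro i _ hik
        have hne : k - i ≠ 0 := sub_ne_zero.2 (Ne.symm hik)
        have e : ∀ j : ZMod p, z ^ (k.val * j.val) * (z⁻¹) ^ (i.val * j.val) = z ^ ((k - i) * j).val := by
          intro j
          rw [inv_pow, mul_inv_eq_iff_eq_mul, pow_mul, pow_mul, ← pow_val_mul hz, ← pow_val_mul hz,
            ← pow_val_add hz]
          congr 2
          ring
        simp only [← act_comp ρ (z ^ (k.val * _)), e, pow_val_mul hz]
        have := av_pow ρ hz hne (ρ (x ^ i.val) (u i : V))
        rw [av_eq_zero ρ hz hfpf] at this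
        exact this
      · intro h; exact absurd (Finset.mem_univ k) h
    intro u u' h
    funext k
    have := hlin (fun i => u i - u' i) (by
      simp only [AddSubgroupClass.coe_sub, map_sub, Finset.sum_sub_distrib]
      exact sub_eq_zero.2 h) k
    exact sub_eq_zero.1 this
  have := Nat.card_le_card_of_injective f hf
  rwa [Nat.card_fun, Nat.card_zmod] at this

/-- A group of exponent `p` with centre `⟨z⟩`, commutators in the centre and `z` fixed-point-free. -/
theorem exists_bound (hco : p.Coprime (Nat.card V)) [Nontrivial V] {z : H} (hz : z ^ p = 1)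
    (hz1 : z ≠ 1) (hfpf : ∀ v, ρ z v = v → v = 0) :
    ∀ (m : ℕ) (E : Subgroup H) (W : AddSubgroup V), Finite E → Nat.card E ≤ m → z ∈ E → W ≠ ⊥ →
      (∀ e ∈ E, ∀ w ∈ W, ρ e w ∈ W) → (∀ e ∈ E, e ^ p = 1) → (∀ a ∈ E, ∀ b ∈ E, ⁅a, b⁆ ∈ zpowers z) →
      (∀ e ∈ E, z * e = e * z) → (∀ e ∈ E, (∀ b ∈ E, e * b = b * e) → e ∈ zpowers z) →
      (∀ e ∈ E, (∀ w ∈ W, ρ e w = w) → e = 1) →
      ∃ n : ℕ, Nat.card E = p ^ (2 * n + 1) ∧ (p + 1) ^ (p ^ n) ≤ Nat.card W := by
  have hpp : p.Prime := Fact.out
  have hzo : orderOf z = p := orderOf_eq_prime hz hz1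
  intro m
  induction m with
  | zero =>
    intro E W hfin hm
    exact absurd hm (by have := Nat.card_pos (α := E); omega)
  | succ m ih =>
  intro E W hfin hm hzE hW hinv hexp hcomm hzc hcent hfaith
  by_cases hE : E ≤ zpowers z
  · -- `E = ⟨z⟩`
    refine ⟨0, ?_, ?_⟩
    · rw [le_antisymm hE (zpowers_le.2 hzE), Nat.card_zpowers, hzo]; simp
    · rw [pow_zero, pow_one]
      -- `p + 1 ≤ |W|`
      obtain ⟨w0, hw0, hw00⟩ := (AddSubgroup.bot_or_exists_ne_zero W).resolve_left hW
      let g : Option (ZMod p) → W := fun o => o.elim 0 fun i => ⟨ρ (z ^ i.val) w0, hinv _ (pow_mem hzE _) _ hw0⟩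
      have hg : Function.Injective g := by
        intro a b hab
        rcases a with _ | i <;> rcases b with _ | j
        · rfl
        · exact absurd (congrArg Subtype.val hab).symm fun h => hw00 (act_injective ρ _ (h.trans (map_zero _).symm))
        · exact absurd (congrArg Subtype.val hab) fun h => hw00 (act_injective ρ _ (h.trans (map_zero _).symm))
        · congr 1
          by_contra hij
          have h : ρ (z ^ i.val) w0 = ρ (z ^ j.val) w0 := congrArg Subtype.val hab
          have h1 : ρ (z ^ (i - j).val) w0 = w0 := by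
            apply act_injective ρ (z ^ j.val)
            rw [← act_comp, ← pow_val_add hz, add_sub_cancel, h]
          have h2 := act_pow_of_fixed ρ h1 ((i - j)⁻¹).val
          rw [← pow_val_mul hz, mul_inv_cancel₀ (sub_ne_zero.2 hij), ZMod.val_one, pow_one] at h2
          exact hw00 (hfpf _ h2)
      have := Nat.card_le_card_of_injective g hg
      rwa [Finite.card_option, Nat.card_zmod] at this
  obtain ⟨b0, hb0E, hb0⟩ := SetLike.not_le_iff_exists.1 hE
  -- some element outside the centre has a nonzero fixed point in `W`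
  obtain ⟨b, hbE, hbz, hbW⟩ : ∃ b ∈ E, b ∉ zpowers z ∧ fixPts ρ (zpowers b) ⊓ W ≠ ⊥ := by
    by_contra hno
    push Not at hno
    obtain ⟨w0, hw0, hw00⟩ := (AddSubgroup.bot_or_exists_ne_zero W).resolve_left hW
    set F : Subgroup H := zpowers b0 ⊔ zpowers z with hF
    have hFE : F ≤ E := sup_le (zpowers_le.2 hb0E) (zpowers_le.2 hzE)
    haveI : Finite F := Finite.of_injective _ (Subgroup.inclusion_injective hFE)
    have hFc : ∀ a ∈ F, ∀ c ∈ F, a * c = c * a := by
      intro a ha c hc
      have hb0z : zpowers b0 ≤ centralizer (F : Set H) := by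
        rw [zpowers_le, mem_centralizer_iff]
        intro d hd
        have hle : F ≤ centralizer ({b0} : Set H) := sup_le
          (zpowers_le.2 (mem_centralizer_singleton_iff.2 rfl))
          (zpowers_le.2 (mem_centralizer_singleton_iff.2 (hzc b0 hb0E)))
        exact mem_centralizer_singleton_iff.1 (hle hd)
      have hzz : zpowers z ≤ centralizer (F : Set H) := by
        rw [zpowers_le, mem_centralizer_iff]
        exact fun d hd => (hzc d (hFE hd)).symm
      exact (mem_centralizer_iff.1 ((sup_le hb0z hzz : F ≤ centralizer (F : Set H)) hc) a ha)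
    -- restrict the action to `W`
    let ρW : F →* AddMonoid.End W :=
      { toFun := fun e => AddMonoidHom.mk' (fun w => ⟨ρ e w, hinv _ (hFE e.2) _ w.2⟩)
          (fun a c => Subtype.ext (map_add _ _ _))
        map_one' := AddMonoidHom.ext fun w => Subtype.ext (act_one ρ w)
        map_mul' := fun a c => AddMonoidHom.ext fun w => Subtype.ext (act_comp ρ a c w) }
    have hbot : (⟨w0, hw0⟩ : W) ∈ (⊥ : AddSubgroup W) := by
      refine mem_of_hyperplanes ρW (hco.coprime_dvd_right W.card_addSubgroup_dvd_card) (⊤ : Subgroup F)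
        (fun a _ c _ => Subtype.ext (hFc _ a.2 _ c.2))
        (fun a _ => Subtype.ext (hexp _ (hFE a.2))) ⊥ (fun K _ hK => ?_) _
      intro w hw
      rw [AddSubgroup.mem_bot]
      by_contra hw'
      rw [Subgroup.card_top] at hK
      have hK1 : K ≠ ⊥ := by
        rintro rfl
        rw [Subgroup.card_bot, mul_one] at hK
        have h1 : zpowers z = F := by
          refine Subgroup.eq_of_le_of_card_ge le_sup_right ?_
          rwa [Nat.card_zpowers, hzo]
        exact hb0 (h1 ▸ mem_sup_left (mem_zpowers b0))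
      obtain ⟨k, hk, hk1⟩ := (Subgroup.bot_or_exists_ne_one K).resolve_left hK1
      have hkw : ρ (k : H) (w : V) = w := congrArg Subtype.val (hw k hk)
      by_cases hkz : (k : H) ∈ zpowers z
      · classical
        obtain ⟨j, hj⟩ := Finset.mem_image.1 ((mem_zpowers_iff_mem_range_orderOf (x := z)).1 hkz)
        rw [Finset.mem_range, hzo] at hj
        have hj0 : (j : ZMod p) ≠ 0 := by
          intro h0
          rw [ZMod.natCast_eq_zero_iff] at h0
          have := Nat.eq_zero_of_dvd_of_lt h0 hj.1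
          exact hk1 (Subtype.ext (by rw [← hj.2, this, pow_zero]; rfl))
        have h2 := act_pow_of_fixed ρ hkw ((j : ZMod p)⁻¹).val
        rw [← hj.2] at h2
        have hjv : (j : ZMod p).val = j := ZMod.val_natCast_of_lt hj.1
        rw [show z ^ j = z ^ (j : ZMod p).val by rw [hjv], ← pow_val_mul hz, mul_inv_cancel₀ hj0,
          ZMod.val_one, pow_one] at h2
        exact hw' (Subtype.ext (hfpf _ h2))
      · have hm : (w : V) ∈ fixPts ρ (zpowers (k : H)) ⊓ W := ⟨mem_fixPts_zpowers ρ hkw, w.2⟩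
        rw [hno _ (hFE k.2) hkz, AddSubgroup.mem_bot] at hm
        exact hw' (Subtype.ext hm)
    rw [AddSubgroup.mem_bot] at hbot
    exact hw00 (congrArg Subtype.val hbot)
  obtain ⟨x, hxE, hxb⟩ : ∃ x ∈ E, x * b * x⁻¹ = b * z := by
    obtain ⟨y, hyE, hy⟩ : ∃ y ∈ E, ⁅y, b⁆ ≠ 1 := by
      by_contra h
      push Not at h
      exact hbz (hcent b hbE fun y hy => ((commutatorElement_eq_one_iff_mul_comm.1 (h y hy))).symm)
    obtain ⟨j, hj⟩ := mem_zpowers_iff.1 (hcomm y hyE b hbE)
    have hjp : ¬ (p : ℤ) ∣ j := by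
      intro h
      apply hy
      rw [← hj, ← orderOf_dvd_iff_zpow_eq_one, hzo]
      exact h
    have hj0 : (j : ZMod p) ≠ 0 := fun h => hjp ((ZMod.intCast_zmod_eq_zero_iff_dvd j p).1 h)
    set i := ((j : ZMod p)⁻¹).val
    have hy1 : y * b * y⁻¹ = b * z ^ j := by
      rw [((show Commute z b from hzc b hbE).zpow_left j).symm.eq, hj, commutatorElement_def]; group
    have hconj : ∀ i : ℕ, y ^ i * b * (y ^ i)⁻¹ = b * z ^ (j * i) := by
      intro i
      induction i with
      | zero => simp
      | succ i ih =>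
        have e : y ^ (i + 1) * b * (y ^ (i + 1))⁻¹ = y * (y ^ i * b * (y ^ i)⁻¹) * y⁻¹ := by
          rw [pow_succ' y]; group
        rw [e, ih, show y * (b * z ^ (j * i)) * y⁻¹ = (y * b * y⁻¹) * (y * z ^ (j * i) * y⁻¹) by group,
          hy1, ((show Commute z y from hzc y hyE).zpow_left _).symm.eq, mul_inv_cancel_right,
          mul_assoc, ← zpow_add]
        push_cast
        ring_nf
    refine ⟨y ^ i, pow_mem hyE _, ?_⟩
    rw [hconj]
    congr 1
    nth_rewrite 2 [← zpow_one z]
    refine zpow_eq_zpow_iff_modEq.2 ?_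
    rw [hzo, ← ZMod.intCast_eq_intCast_iff]
    push_cast
    rw [ZMod.natCast_zmod_val, mul_inv_cancel₀ hj0]
  set W1 := fixPts ρ (zpowers b) ⊓ W with hW1
  -- the image of the centralizer of `b`
  set C : Subgroup H := E ⊓ centralizer ({b} : Set H) with hC
  have hbC : b ∈ C := ⟨hbE, mem_centralizer_singleton_iff.2 rfl⟩
  have hzC : z ∈ C := ⟨hzE, mem_centralizer_singleton_iff.2 (hzc b hbE)⟩
  have hCW : ∀ e ∈ C, ∀ w ∈ W1, ρ e w ∈ W1 := by
    rintro e ⟨heE, heb⟩ w ⟨hw, hwW⟩
    refine ⟨mem_fixPts_zpowers ρ ?_, hinv e heE w hwW⟩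
    rw [← act_comp, ← mem_centralizer_singleton_iff.1 heb, act_comp, hw b (mem_zpowers b)]
  -- a complement of `b` in `C` containing `z`
  have hpow_z : ∀ i : ℕ, z ^ i * b = b * z ^ i := fun i => (Commute.pow_left (hzc b hbE) i).eq
  have hdec : ∀ e ∈ E, ∃ i : ℕ, ∃ c ∈ C, e = x ^ i * c := by
    intro e he
    obtain ⟨j, hj⟩ := mem_zpowers_iff.1 (hcomm e he b hbE)
    set i := ((j : ZMod p)).val
    refine ⟨i, (x ^ i)⁻¹ * e, (⟨mul_mem (inv_mem (pow_mem hxE i)) he, ?_⟩ : _ ∈ E ∧ _ ∈ centralizer ({b} : Set H)), by rw [mul_inv_cancel_left]⟩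
    have hz1 : z ^ i = z ^ j := by
      rw [← zpow_natCast]
      refine zpow_eq_zpow_iff_modEq.2 ?_
      rw [hzo, ← ZMod.intCast_eq_intCast_iff, Int.cast_natCast, ZMod.natCast_zmod_val]
    have he1 : e * b * e⁻¹ = b * z ^ i := by
      rw [hz1, ((show Commute z b from hzc b hbE).zpow_left j).symm.eq, hj, commutatorElement_def]
      group
    have hx1 : x ^ i * b * (x ^ i)⁻¹ = b * z ^ i := by
      clear_value i
      clear he1 hz1
      induction i with
      | zero => simp
      | succ i ih =>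
        have e : x ^ (i + 1) * b * (x ^ (i + 1))⁻¹ = x * (x ^ i * b * (x ^ i)⁻¹) * x⁻¹ := by
          rw [pow_succ' x]; group
        rw [e, ih, show x * (b * z ^ i) * x⁻¹ = (x * b * x⁻¹) * (x * z ^ i * x⁻¹) by group,
          hxb, ((show Commute z x from hzc x hxE).pow_left _).symm.eq, mul_inv_cancel_right,
          mul_assoc, ← pow_succ']
    rw [mem_centralizer_singleton_iff]
    have h2 := he1.trans hx1.symm
    calc (x ^ i)⁻¹ * e * b = (x ^ i)⁻¹ * (e * b * e⁻¹) * e := by group
      _ = (x ^ i)⁻¹ * (x ^ i * b * (x ^ i)⁻¹) * e := by rw [h2]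
      _ = b * ((x ^ i)⁻¹ * e) := by group
  -- the quotient group `C / K` with `K` the kernel on `W1`
  let CC : Subgroup C := ⊤
  haveI : Finite C := Finite.of_injective _ (Subgroup.inclusion_injective (inf_le_left : C ≤ E))
  let ρC : C →* AddMonoid.End W1 :=
    { toFun := fun e => AddMonoidHom.mk' (fun w => ⟨ρ (e : H) w, hCW _ e.2 _ w.2⟩)
        (fun a c => Subtype.ext (map_add _ _ _))
      map_one' := AddMonoidHom.ext fun w => Subtype.ext (act_one ρ w)
      map_mul' := fun a c => AddMonoidHom.ext fun w => Subtype.ext (act_comp ρ a c w) }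
  have hρC : ∀ (e : C) (w : W1), (ρC e w : V) = ρ (e : H) w := fun _ _ => rfl
  -- kernel of the action on `W1`
  have hK : ∀ e ∈ C, (∀ w ∈ W1, ρ e w = w) → ∀ c ∈ C, e * c = c * e := by
    intro e he hfix c hc
    obtain ⟨j, hj⟩ := mem_zpowers_iff.1 (hcomm e he.1 c hc.1)
    by_contra hne
    have hjp : (j : ZMod p) ≠ 0 := by
      intro h
      apply hne
      rw [← commutatorElement_eq_one_iff_mul_comm, ← hj, ← orderOf_dvd_iff_zpow_eq_one, hzo]
      exact (ZMod.intCast_zmod_eq_zero_iff_dvd j p).1 h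
    obtain ⟨w, hw, hw0⟩ := (AddSubgroup.bot_or_exists_ne_zero W1).resolve_left hbW
    have hfix1 : ρ ⁅e, c⁆ w = w := by
      have h1 := hCW c⁻¹ (inv_mem hc) w hw
      have h2 : ρ e⁻¹ (ρ c⁻¹ w) = ρ c⁻¹ w := by
        conv_lhs => rw [← hfix _ h1]
        exact act_inv_self ρ e _
      rw [commutatorElement_def, act_comp, act_comp, act_comp, h2, act_self_inv, hfix w hw]
    rw [← hj, show z ^ j = z ^ ((j : ZMod p).val) by
      rw [← zpow_natCast]
      refine zpow_eq_zpow_iff_modEq.2 ?_
      rw [hzo, ← ZMod.intCast_eq_intCast_iff, Int.cast_natCast, ZMod.natCast_zmod_val]] at hfix1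
    have h2 := act_pow_of_fixed ρ hfix1 ((j : ZMod p)⁻¹).val
    rw [← pow_val_mul hz, mul_inv_cancel₀ hjp, ZMod.val_one, pow_one] at h2
    exact hw0 (hfpf _ h2)
  have hCcent : ∀ e ∈ C, (∀ c ∈ C, e * c = c * e) → ∃ i : ℕ, e * (b ^ i)⁻¹ ∈ zpowers z := by
    intro e he hcc
    obtain ⟨j, hj⟩ := mem_zpowers_iff.1 (hcomm x hxE e he.1)
    set i := ((j : ZMod p)).val
    refine ⟨i, hcent _ (mul_mem he.1 (inv_mem (pow_mem hbE _))) fun y hy => ?_⟩
    obtain ⟨k, c, hc, rfl⟩ := hdec y hy
    have hc1 : Commute (e * (b ^ i)⁻¹) c :=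
      (show Commute e c from hcc c hc).mul_left
        ((Commute.pow_left (mem_centralizer_singleton_iff.1 hc.2).symm i).inv_left)
    have hz1 : z ^ i = z ^ j := by
      rw [← zpow_natCast]
      refine zpow_eq_zpow_iff_modEq.2 ?_
      rw [hzo, ← ZMod.intCast_eq_intCast_iff, Int.cast_natCast, ZMod.natCast_zmod_val]
    have he1 : x * e * x⁻¹ = e * z ^ i := by
      rw [hz1, ((show Commute z e from hzc e he.1).zpow_left j).symm.eq, hj, commutatorElement_def]
      group
    have hb1 : x * b ^ i * x⁻¹ = b ^ i * z ^ i := by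
      rw [← conj_pow, hxb, (show Commute b z from (hzc b hbE).symm).mul_pow]
    have hcx : x * (e * (b ^ i)⁻¹) * x⁻¹ = e * (b ^ i)⁻¹ := by
      calc x * (e * (b ^ i)⁻¹) * x⁻¹ = (x * e * x⁻¹) * (x * b ^ i * x⁻¹)⁻¹ := by group
        _ = e * (b ^ i)⁻¹ := by rw [he1, hb1]; group
    exact ((Commute.pow_right (mul_inv_eq_iff_eq_mul.1 hcx).symm k).mul_right hc1).eq
  -- recursion in the image
  have hkerb : ρC.ker = (zpowers b).subgroupOf C := by
    ext e
    rw [MonoidHom.mem_ker, mem_subgroupOf]
    constructor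
    · intro h
      have hfix : ∀ w ∈ W1, ρ (e : H) w = w := fun w hw => by
        rw [← hρC e ⟨w, hw⟩, h]; rfl
      obtain ⟨i, hi⟩ := hCcent e e.2 (hK e e.2 hfix)
      obtain ⟨k, hk⟩ := mem_zpowers_iff.1 hi
      have hei : (e : H) * (b ^ i)⁻¹ = 1 := by
        rw [← hk, ← orderOf_dvd_iff_zpow_eq_one, hzo]
        by_contra hkp
        obtain ⟨w, hw, hw0⟩ := (AddSubgroup.bot_or_exists_ne_zero W1).resolve_left hbW
        have h1 : ρ (z ^ k) w = w := by
          have h3 : ρ ((b ^ i)⁻¹) w = w := hw.1 _ (inv_mem (pow_mem (mem_zpowers b) i))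
          rw [hk, act_comp, h3, hfix w hw]
        rw [show z ^ k = z ^ ((k : ZMod p).val) by
          rw [← zpow_natCast]
          refine zpow_eq_zpow_iff_modEq.2 ?_
          rw [hzo, ← ZMod.intCast_eq_intCast_iff, Int.cast_natCast, ZMod.natCast_zmod_val]] at h1
        have h2 := act_pow_of_fixed ρ h1 ((k : ZMod p)⁻¹).val
        rw [← pow_val_mul hz, mul_inv_cancel₀ (fun h => hkp ((ZMod.intCast_zmod_eq_zero_iff_dvd k p).1 h)),
          ZMod.val_one, pow_one] at h2
        exact hw0 (hfpf _ h2)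
      rw [mul_inv_eq_one.1 hei]
      exact pow_mem (mem_zpowers b) i
    · intro h
      exact AddMonoidHom.ext fun w => Subtype.ext (w.2.1 _ h)
  -- a subgroup of `C` mapping isomorphically onto the image
  obtain ⟨E', hE'C, hE'b, hE'z, hE'sup⟩ : ∃ E' : Subgroup H, E' ≤ C ∧ b ∉ E' ∧ z ∈ E' ∧
      ∀ c ∈ C, ∃ i : ℕ, c * b ^ i ∈ E' := by
    obtain ⟨E', hE'⟩ := Set.Finite.exists_maximal (s := {E' : Subgroup H | E' ≤ C ∧ b ∉ E' ∧ z ∈ E'})
      (Set.Finite.subset (Set.finite_range fun K : Subgroup C => K.map C.subtype)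
        (fun K hK => ⟨K.subgroupOf C, by simp only [subgroupOf_map_subtype]; exact inf_eq_left.2 hK.1⟩))
      ⟨zpowers z, zpowers_le.2 hzC, hbz, mem_zpowers z⟩
    obtain ⟨h1, h2, h3⟩ := hE'.prop
    refine ⟨E', h1, h2, h3, fun c hc => ?_⟩
    by_cases hcE : c ∈ E'
    · exact ⟨0, by simpa using hcE⟩
    by_contra hno
    push Not at hno
    have hEn : zpowers c ≤ normalizer (E' : Set H) := by
      rw [zpowers_le]
      rw [mem_normalizer_iff]
      intro e
      have hmem : ∀ d ∈ C, ∀ e ∈ E', d * e * d⁻¹ ∈ E' := fun d hd e he => by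
        have : ⁅d, e⁆ ∈ E' := zpowers_le.2 h3 (hcomm d hd.1 e (h1 he).1)
        have := mul_mem this he
        rwa [commutatorElement_def, inv_mul_cancel_right] at this
      refine ⟨hmem c hc e, fun he => ?_⟩
      have := hmem c⁻¹ (inv_mem hc) _ he
      simpa [mul_assoc] using this
    refine hcE (hE'.le_of_ge (y := E' ⊔ zpowers c) ⟨sup_le h1 (zpowers_le.2 hc), ?_, mem_sup_left h3⟩
      le_sup_left (mem_sup_right (mem_zpowers c)))
    intro hb'
    obtain ⟨a, ha, d, hd, e⟩ : ∃ a ∈ E', ∃ d ∈ zpowers c, a * d = b := by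
      rw [← SetLike.mem_coe, coe_mul_of_right_le_normalizer_left E' (zpowers c) hEn] at hb'
      exact hb'
    obtain ⟨j, rfl⟩ := mem_zpowers_iff.1 hd
    have hjp : (j : ZMod p) ≠ 0 := by
      intro h
      apply h2
      rw [← e, orderOf_dvd_iff_zpow_eq_one.1 ((Int.natCast_dvd_natCast.2
        (orderOf_dvd_of_pow_eq_one (hexp c hc.1))).trans ((ZMod.intCast_zmod_eq_zero_iff_dvd j p).1 h)),
        mul_one]
      exact ha
    set t := ((j : ZMod p)⁻¹).val
    refine hno (p * t - t) ?_
    have hcb : Commute c b := mem_centralizer_singleton_iff.1 hc.2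
    have hcz : (c ^ j) ^ t = c := by
      rw [← zpow_natCast (c ^ j), ← zpow_mul]
      nth_rewrite 2 [← zpow_one c]
      refine zpow_eq_zpow_iff_modEq.2 ?_
      rw [orderOf_eq_prime (hexp c hc.1) (fun h => hcE (h ▸ one_mem _)),
        ← ZMod.intCast_eq_intCast_iff]
      push_cast
      rw [ZMod.natCast_zmod_val, mul_inv_cancel₀ hjp]
    have hbt : b ^ (p * t - t) = (b ^ t)⁻¹ := by
      rw [eq_inv_iff_mul_eq_one, ← pow_add, Nat.sub_add_cancel (Nat.le_mul_of_pos_left _ hpp.pos),
        pow_mul, hexp b hbE, one_pow]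
    rw [hbt]
    have hcj : c ^ j = a⁻¹ * b := by rw [← e, inv_mul_cancel_left]
    have hab : Commute a⁻¹ b := (Commute.inv_left (mem_centralizer_singleton_iff.1 (h1 ha).2))
    have : c = (a⁻¹) ^ t * b ^ t := by rw [← hab.mul_pow, ← hcj, hcz]
    rw [this, mul_inv_cancel_right]
    exact pow_mem (inv_mem ha) t
  haveI : Finite E' := Finite.of_injective _ (Subgroup.inclusion_injective (hE'C.trans inf_le_left))
  have hE'lt : Nat.card E' < Nat.card E := by
    have hlt : E' < E := lt_of_le_of_ne (hE'C.trans inf_le_left) fun h => hE'b (h ▸ hbE)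
    have := Set.ncard_lt_ncard (SetLike.coe_ssubset_coe.2 hlt) (Set.toFinite _)
    rw [← Nat.card_coe_set_eq, ← Nat.card_coe_set_eq] at this
    simpa using this
  obtain ⟨n, hn, hbound⟩ := ih E' W1 inferInstance (by omega) hE'z hbW (fun e he => hCW e (hE'C he))
    (fun e he => hexp e (hE'C he).1) (fun a ha c hc => hcomm a (hE'C ha).1 c (hE'C hc).1)
    (fun e he => hzc e (hE'C he).1)
    (fun e he hcc => by
      obtain ⟨i, hi⟩ := hCcent e (hE'C he) fun c hc => by
        obtain ⟨k, hk⟩ := hE'sup c hc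
        have h1 : Commute e (c * b ^ k) := hcc _ hk
        have h2 : Commute e ((b ^ k)⁻¹) :=
          ((Commute.pow_right (mem_centralizer_singleton_iff.1 (hE'C he).2) k)).inv_right
        have h3 := h1.mul_right h2
        rwa [mul_inv_cancel_right] at h3
      have hbi : b ^ i ∈ E' := by
        have h1 := mul_mem (inv_mem (zpowers_le.2 hE'z hi)) he
        simpa [mul_assoc] using h1
      have : b ^ i = 1 := by
        by_contra hne
        apply hE'b
        have h1 : orderOf b = p := orderOf_eq_prime (hexp b hbE) fun h => hne (by rw [h, one_pow])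
        have hco' : (orderOf b).Coprime i := by
          rw [h1, hpp.coprime_iff_not_dvd, ← h1, orderOf_dvd_iff_pow_eq_one]
          exact hne
        obtain ⟨t, ht⟩ := exists_pow_eq_self_of_coprime hco'.symm
        exact ht ▸ pow_mem hbi t
      rwa [this, inv_one, mul_one] at hi)
    (fun e he hfix => by
      have h1 : (⟨e, hE'C he⟩ : C) ∈ ρC.ker :=
        AddMonoidHom.ext fun w => Subtype.ext (hfix w w.2)
      rw [hkerb, mem_subgroupOf] at h1
      by_contra hne
      classical
      obtain ⟨i, hi⟩ := Finset.mem_image.1 ((mem_zpowers_iff_mem_range_orderOf (x := b)).1 h1)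
      have ho : orderOf b = p := orderOf_eq_prime (hexp b hbE) fun h => hbz (h ▸ one_mem _)
      rw [Finset.mem_range, ho] at hi
      have hi0 : i ≠ 0 := by rintro rfl; exact hne (by simpa using hi.2.symm)
      obtain ⟨t, ht⟩ := exists_pow_eq_self_of_coprime (n := i) (x := b) (by
        rw [ho]; exact ((hpp.coprime_iff_not_dvd.2 fun h => hi0 (Nat.eq_zero_of_dvd_of_lt h hi.1)).symm))
      apply hE'b
      rw [← ht, hi.2]
      exact pow_mem he t)
  refine ⟨n + 1, ?_, ?_⟩
  · -- `|E| = p² |E'|`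
    let f : ZMod p × ZMod p × E' → E := fun q => ⟨x ^ q.1.val * b ^ q.2.1.val * q.2.2,
      mul_mem (mul_mem (pow_mem hxE _) (pow_mem hbE _)) (hE'C q.2.2.2).1⟩
    have hf : Function.Bijective f := by
      constructor
      · rintro ⟨i, k, c⟩ ⟨i', k', c'⟩ h
        have h0 : x ^ i.val * b ^ k.val * c = x ^ i'.val * b ^ k'.val * c' := congrArg Subtype.val h
        have hii : i = i' := by
          by_contra hne
          have h1 : x ^ (i - i').val ∈ C := by
            have e1 : x ^ i.val = x ^ i'.val * x ^ (i - i').val := by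
              rw [← pow_val_add (hexp x hxE), add_sub_cancel]
            have e2 : x ^ (i - i').val = b ^ k'.val * c' * (b ^ k.val * c)⁻¹ := by
              rw [e1, mul_assoc, mul_assoc, mul_assoc, mul_right_inj, ← mul_assoc] at h0
              rw [← h0]; group
            rw [e2]
            exact mul_mem (mul_mem (pow_mem hbC _) (hE'C c'.2))
              (inv_mem (mul_mem (pow_mem hbC _) (hE'C c.2)))
          have h2 := pow_mem h1 ((i - i')⁻¹).val
          rw [← pow_val_mul (hexp x hxE), mul_inv_cancel₀ (sub_ne_zero.2 hne), ZMod.val_one, pow_one] at h2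
          have h3 := mem_centralizer_singleton_iff.1 h2.2
          rw [h3, mul_inv_cancel_right] at hxb
          exact hz1 (mul_left_cancel (hxb.symm.trans (mul_one b).symm))
        subst hii
        rw [mul_assoc, mul_assoc, mul_right_inj] at h0
        have hkk : k = k' := by
          by_contra hne
          have h1 : b ^ (k - k').val ∈ E' := by
            have e1 : b ^ k.val = b ^ k'.val * b ^ (k - k').val := by
              rw [← pow_val_add (hexp b hbE), add_sub_cancel]
            rw [e1, mul_assoc, mul_right_inj] at h0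
            have := mul_mem c'.2 (inv_mem c.2)
            rwa [← h0, mul_inv_cancel_right] at this
          have h2 := pow_mem h1 ((k - k')⁻¹).val
          rw [← pow_val_mul (hexp b hbE), mul_inv_cancel₀ (sub_ne_zero.2 hne), ZMod.val_one, pow_one] at h2
          exact hE'b h2
        subst hkk
        rw [mul_right_inj] at h0
        rw [Subtype.ext h0]
      · rintro ⟨e, he⟩
        obtain ⟨i, c, hc, rfl⟩ := hdec e he
        obtain ⟨k, hk⟩ := hE'sup c hc
        refine ⟨((i : ZMod p), -(k : ZMod p), ⟨c * b ^ k, hk⟩), Subtype.ext ?_⟩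
        show x ^ (i : ZMod p).val * b ^ (-(k : ZMod p)).val * (c * b ^ k) = x ^ i * c
        have e1 : x ^ (i : ZMod p).val = x ^ i := by
          rw [ZMod.val_natCast, ← pow_eq_pow_mod _ (hexp x hxE)]
        have e2 : b ^ k = b ^ (k : ZMod p).val := by
          rw [ZMod.val_natCast, ← pow_eq_pow_mod _ (hexp b hbE)]
        rw [e1, mul_assoc, (Commute.pow_right (show Commute c b from mem_centralizer_singleton_iff.1 hc.2) k).eq,
          ← mul_assoc (b ^ _), e2, ← pow_val_add (hexp b hbE), neg_add_cancel, ZMod.val_zero, pow_zero,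
          one_mul]
    have := Nat.card_eq_of_bijective f hf
    rw [Nat.card_prod, Nat.card_prod, Nat.card_zmod, hn] at this
    rw [← this]; ring
  · -- `|W1| ^ p ≤ |W|`
    let ρW : E →* AddMonoid.End W :=
      { toFun := fun e => AddMonoidHom.mk' (fun w => ⟨ρ e w, hinv _ e.2 _ w.2⟩)
          (fun a c => Subtype.ext (map_add _ _ _))
        map_one' := AddMonoidHom.ext fun w => Subtype.ext (act_one ρ w)
        map_mul' := fun a c => AddMonoidHom.ext fun w => Subtype.ext (act_comp ρ a c w) }
    have h1 := card_fixPts_pow_le (p := p) ρW (hco.coprime_dvd_right W.card_addSubgroup_dvd_card)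
      (x := ⟨x, hxE⟩) (b := ⟨b, hbE⟩) (z := ⟨z, hzE⟩)
      (Subtype.ext (hexp b hbE)) (Subtype.ext hz) (Subtype.ext (hzc b hbE))
      (Subtype.ext (hzc x hxE).symm) (fun w hw => Subtype.ext (hfpf _ (congrArg Subtype.val hw)))
      (Subtype.ext hxb)
    have h2 : Nat.card (fixPts ρW (zpowers (⟨b, hbE⟩ : E))) = Nat.card W1 :=
      Nat.card_congr
        { toFun := fun w => ⟨(w.1 : V), mem_fixPts_zpowers ρ (congrArg Subtype.val (w.2 _ (mem_zpowers _))), w.1.2⟩
          invFun := fun w => ⟨⟨w.1, w.2.2⟩, mem_fixPts_zpowers ρW (Subtype.ext (w.2.1 b (mem_zpowers b)))⟩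
          left_inv := fun w => rfl
          right_inv := fun w => rfl }
    rw [h2] at h1
    calc (p + 1) ^ (p ^ (n + 1)) = ((p + 1) ^ (p ^ n)) ^ p := by rw [← pow_mul, pow_succ]
      _ ≤ Nat.card W1 ^ p := Nat.pow_le_pow_left hbound p
      _ ≤ Nat.card W := h1

end CfsgLib.Invol
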