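import Cfsg.Agent.Lib.Invol.RegularSubset
import Cfsg.Agent.Lib.Invol.FixedCount
import Cfsg.Agent.Lib.Transfer.UniqueOrderP
import Cfsg.Agent.Lib.Solvable.PCore
import Cfsg.Agent.Lib.Solvable.Nilpotent
import Cfsg.Agent.Lib.Invol.CyclicSylow

/-!
Odd `p`: an element of a normal `p`-subgroup acting nontrivially on a coprime abelian group has a
vector fixed by none of its conjugates.
-/

set_option autoImplicit false
set_option linter.style.haveILetI false

open Subgroup
open scoped commutatorElement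

universe u v

namespace CfsgLib.Invol

section Blocks

variable {H : Type u} {V : Type v} [Group H] [Finite H] [AddCommGroup V] [Finite V]

/-- A smaller case of the avoidance statement. -/
def AvoidBelow (p : ℕ) (H : Type u) [Group H] (V : Type v) [AddCommGroup V] : Prop :=
  ∀ (H' : Type u) [Group H'] [Finite H'] (V' : Type v) [AddCommGroup V'] [Finite V'],
    Nat.card V' < Nat.card V → ∀ (ρ' : H' →* AddMonoid.End V') (P : Subgroup H'), P.Normal →
      IsPGroup p P → p.Coprime (Nat.card V') → ∀ a ∈ P, ρ' a ≠ 1 →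
        ∃ v : V', ∀ g : H', ρ' (g * a * g⁻¹) v ≠ v

variable (ρ : H →* AddMonoid.End V) {p : ℕ} [Fact p.Prime]

theorem avoid_of_blocks (hp : p ≠ 2) (IH : AvoidBelow p H V) (hco : p.Coprime (Nat.card V))
    (P : Subgroup H) (hPn : P.Normal) (hP : IsPGroup p P) {a : H} (haP : a ∈ P) (ha : ρ a ≠ 1)
    {ι : Type*} [Finite ι] (D : ι → AddSubgroup V) (σ : H →* Equiv.Perm ι)
    (hσ : ∀ h i, ∀ v ∈ D i, ρ h v ∈ D (σ h i)) (hne : ∀ i, D i ≠ ⊥) (hlt : ∀ i, D i ≠ ⊤)
    (hgen : ⨆ i, D i = ⊤)
    (hind : ∀ [Fintype ι] (f : ι → V), (∀ i, f i ∈ D i) → ∑ i, f i = 0 → ∀ i, f i = 0) :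
    ∃ v : V, ∀ g : H, ρ (g * a * g⁻¹) v ≠ v := by
  classical
  letI := Fintype.ofFinite ι
  haveI := hPn
  choose w hwD hw0 using fun i => (AddSubgroup.bot_or_exists_ne_zero (D i)).resolve_left (hne i)
  -- equality of sums gives equality of components
  have huniq : ∀ f f' : ι → V, (∀ i, f i ∈ D i) → (∀ i, f' i ∈ D i) → ∑ i, f i = ∑ i, f' i →
      ∀ i, f i = f' i := fun f f' hf hf' h i =>
    sub_eq_zero.1 (hind (fun i => f i - f' i) (fun i => sub_mem (hf i) (hf' i))
      (by rw [Finset.sum_sub_distrib, h, sub_self]) i)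
  -- image of a sum of components
  have himg : ∀ (h : H) (f : ι → V), ρ h (∑ i, f i) = ∑ i, ρ h (f ((σ h).symm i)) := by
    intro h f
    rw [map_sum]
    exact Fintype.sum_equiv (σ h) _ _ fun i => by rw [Equiv.symm_apply_apply]
  have himgD : ∀ (h : H) (f : ι → V), (∀ i, f i ∈ D i) → ∀ i, ρ h (f ((σ h).symm i)) ∈ D i := by
    intro h f hf i
    have := hσ h _ _ (hf ((σ h).symm i))
    rwa [Equiv.apply_symm_apply] at this
  by_cases hmove : σ a = 1
  swap
  · -- `a` moves a block
    obtain ⟨S, hS⟩ := exists_regular_subset hp hP (σ.comp P.subtype)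
    set f : ι → V := fun i => if i ∈ S then w i else 0 with hf
    have hfD : ∀ i, f i ∈ D i := fun i => by
      simp only [hf]; split_ifs
      exacts [hwD i, zero_mem _]
    refine ⟨∑ i, f i, fun g hfix => hmove ?_⟩
    set b : P := ⟨g * a * g⁻¹, hPn.conj_mem a haP g⟩
    have hfix' : ρ (b : H) (∑ i, f i) = ∑ i, f i := hfix
    rw [himg] at hfix'
    have heq := huniq _ _ (himgD _ f hfD) hfD hfix'
    have hb : σ (g * a * g⁻¹) = 1 := hS b fun i => by
      have h1 := heq (σ (b : H) i)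
      rw [Equiv.symm_apply_apply] at h1
      simp only [hf] at h1
      show i ∈ S ↔ σ (b : H) i ∈ S
      constructor
      · intro hi
        by_contra hni
        rw [if_pos hi, if_neg hni] at h1
        exact hw0 i (act_injective ρ _ (h1.trans (map_zero _).symm))
      · intro hi
        by_contra hni
        rw [if_neg hni, if_pos hi, map_zero] at h1
        exact hw0 _ h1.symm
    rw [map_mul, map_mul, map_inv] at hb
    rw [mul_inv_eq_one, mul_eq_left] at hb
    exact hb
  -- `a` fixes every block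
  obtain ⟨j, hj⟩ : ∃ j, ∃ v ∈ D j, ρ a v ≠ v := by
    by_contra h
    push Not at h
    apply ha
    refine AddMonoidHom.ext fun v => ?_
    have hle : (⨆ i, D i) ≤ fixPts ρ (zpowers a) :=
      iSup_le fun i v hv => mem_fixPts_zpowers ρ (h i v hv)
    exact hle (hgen ▸ AddSubgroup.mem_top v) a (mem_zpowers a)
  let Hj : Subgroup H := (MulAction.stabilizer (Equiv.Perm ι) j).comap σ
  have hHj : ∀ h : Hj, ∀ v ∈ D j, ρ (h : H) v ∈ D j := fun h v hv => by
    have e : σ (h : H) j = j := h.2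
    exact e ▸ hσ _ j v hv
  let ρj : Hj →* AddMonoid.End (D j) :=
    { toFun := fun h => AddMonoidHom.mk' (fun v => ⟨ρ (h : H) v, hHj h v v.2⟩)
        (fun x y => Subtype.ext (map_add _ _ _))
      map_one' := AddMonoidHom.ext fun v => Subtype.ext (act_one ρ v)
      map_mul' := fun x y => AddMonoidHom.ext fun v => Subtype.ext (act_comp ρ x y v) }
  have hKj : P ⊓ σ.ker ≤ Hj := fun h hh => by
    show σ h j = j
    rw [MonoidHom.mem_ker.1 hh.2]
    rfl
  have hlt' : Nat.card (D j) < Nat.card V := by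
    refine lt_of_le_of_ne (AddSubgroup.card_le_card_addGroup _) fun h => hlt j ?_
    exact AddSubgroup.eq_top_of_card_eq _ h
  obtain ⟨v1, hv1⟩ := IH Hj (D j) hlt' ρj ((P ⊓ σ.ker).subgroupOf Hj) inferInstance
    ((hP.to_le inf_le_left).of_equiv (Subgroup.subgroupOfEquivOfLe hKj).symm)
    (hco.coprime_dvd_right (AddSubgroup.card_addSubgroup_dvd_card _))
    ⟨a, hKj ⟨haP, MonoidHom.mem_ker.2 hmove⟩⟩ ⟨haP, MonoidHom.mem_ker.2 hmove⟩ (fun h => by
      obtain ⟨v, hv, hne'⟩ := hj
      exact hne' (congrArg Subtype.val (DFunLike.congr_fun h (⟨v, hv⟩ : D j))))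
  let f : ι → V := fun i => if hi : ∃ g : H, σ g j = i then ρ hi.choose (v1 : V) else 0
  have hfD : ∀ i, f i ∈ D i := by
    intro i
    simp only [f]
    split_ifs with hi
    · have := hσ hi.choose j _ v1.2
      rwa [hi.choose_spec] at this
    · exact zero_mem _
  refine ⟨∑ i, f i, fun g hfix => ?_⟩
  set b := g * a * g⁻¹ with hb
  have hσb : σ b = 1 := by rw [hb, map_mul, map_mul, map_inv, hmove, mul_one, mul_inv_cancel]
  rw [himg] at hfix
  have h1 := huniq _ _ (himgD b f hfD) hfD hfix (σ g j)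
  have hi : ∃ g' : H, σ g' j = σ g j := ⟨g, rfl⟩
  have hfi : f (σ g j) = ρ hi.choose (v1 : V) := by simp only [f]; rw [dif_pos hi]
  rw [hσb, show (1 : Equiv.Perm ι).symm (σ g j) = σ g j from rfl, hfi] at h1
  set gi := hi.choose with hgi
  have hmem : gi⁻¹ * g ∈ Hj := by
    show σ (gi⁻¹ * g) j = j
    rw [map_mul, map_inv, Equiv.Perm.mul_apply, Equiv.Perm.inv_def, ← hi.choose_spec, ← hgi]
    exact (σ gi).symm_apply_apply j
  refine hv1 ⟨_, hmem⟩ (Subtype.ext ?_)
  show ρ ((gi⁻¹ * g) * a * (gi⁻¹ * g)⁻¹) (v1 : V) = v1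
  apply act_injective ρ gi
  rw [← act_comp, show gi * ((gi⁻¹ * g) * a * (gi⁻¹ * g)⁻¹) = b * gi by rw [hb]; group, act_comp]
  exact h1

/-- A normal noncyclic elementary abelian subgroup gives blocks. -/
theorem avoid_of_elementary (hp : p ≠ 2) (IH : AvoidBelow p H V) (hco : p.Coprime (Nat.card V))
    (hinj : Function.Injective ρ)
    (hirr : ∀ W : AddSubgroup V, (∀ h, ∀ v ∈ W, ρ h v ∈ W) → W = ⊥ ∨ W = ⊤)
    (P : Subgroup H) (hPn : P.Normal) (hP : IsPGroup p P) {a : H} (haP : a ∈ P) (ha : a ≠ 1)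
    (E : Subgroup H) (hEn : E.Normal) (hEP : E ≤ P) (hE : ∀ x ∈ E, ∀ y ∈ E, x * y = y * x)
    (hexp : ∀ x ∈ E, x ^ p = 1) (hbig : p < Nat.card E) :
    ∃ v : V, ∀ g : H, ρ (g * a * g⁻¹) v ≠ v := by
  classical
  have hpp : p.Prime := Fact.out
  have hmove : ∀ {K : Subgroup H} (h : H) {v : V}, v ∈ fixPts ρ K →
      ρ h v ∈ fixPts ρ (K.map (MulAut.conj h).toMonoidHom) := by
    intro K h v hv k hk
    obtain ⟨k', hk', rfl⟩ := hk
    rw [MulEquiv.coe_toMonoidHom, MulAut.conj_apply, ← act_comp,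
      show h * k' * h⁻¹ * h = h * k' by group, act_comp, hv k' hk']
  have hEmap : ∀ h : H, E.map (MulAut.conj h).toMonoidHom = E := fun h => by haveI := hEn; exact Subgroup.Normal.map_conj_eq E h
  have hFE : fixPts ρ E = ⊥ := by
    rcases hirr (fixPts ρ E) (fun h v hv => hEmap h ▸ hmove h hv) with h | h
    · exact h
    · exfalso
      have : E = ⊥ := by
        rw [Subgroup.eq_bot_iff_forall]
        intro e he
        apply hinj
        rw [map_one]
        exact AddMonoidHom.ext fun v => (h.symm ▸ AddSubgroup.mem_top v : v ∈ fixPts ρ E) e he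
      rw [this, Subgroup.card_bot] at hbig
      exact absurd hbig (by have := hpp.two_le; omega)
  let ι := {K : Subgroup H // K ≤ E ∧ Nat.card K * p = Nat.card E ∧ fixPts ρ K ≠ ⊥}
  have hστ : ∀ (h : H) (K : ι), K.1.map (MulAut.conj h).toMonoidHom ≤ E ∧
      Nat.card (K.1.map (MulAut.conj h).toMonoidHom) * p = Nat.card E ∧
      fixPts ρ (K.1.map (MulAut.conj h).toMonoidHom) ≠ ⊥ := by
    intro h K
    refine ⟨?_, ?_, ?_⟩
    · have := Subgroup.map_mono (f := (MulAut.conj h).toMonoidHom) K.2.1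
      rwa [hEmap] at this
    · rw [Subgroup.card_map_of_injective (f := (MulAut.conj h).toMonoidHom) (MulAut.conj h).injective]
      exact K.2.2.1
    · obtain ⟨v, hv, hv0⟩ := (AddSubgroup.bot_or_exists_ne_zero _).resolve_left K.2.2.2
      intro hbot
      have := hmove h hv
      rw [hbot, AddSubgroup.mem_bot] at this
      exact hv0 (act_injective ρ h (this.trans (map_zero _).symm))
  let act : H → ι → ι := fun h K => ⟨_, hστ h K⟩
  have hact1 : ∀ K, act 1 K = K := fun K => Subtype.ext (by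
    show K.1.map (MulAut.conj (1 : H)).toMonoidHom = K.1
    rw [map_one]; exact Subgroup.map_id _)
  have hactm : ∀ g h K, act (g * h) K = act g (act h K) := fun g h K => Subtype.ext (by
    show K.1.map (MulAut.conj (g * h)).toMonoidHom =
      (K.1.map (MulAut.conj h).toMonoidHom).map (MulAut.conj g).toMonoidHom
    rw [Subgroup.map_map, map_mul]; rfl)
  let σ : H →* Equiv.Perm ι :=
    { toFun := fun h => ⟨act h, act h⁻¹, fun K => by rw [← hactm, inv_mul_cancel, hact1],
        fun K => by rw [← hactm, mul_inv_cancel, hact1]⟩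
      map_one' := Equiv.ext hact1
      map_mul' := fun g h => Equiv.ext (hactm g h) }
  haveI : Finite ι := Subtype.finite
  refine avoid_of_blocks ρ hp IH hco P hPn hP haP (fun h => ha (hinj (h.trans (map_one ρ).symm)))
    (fun K : ι => fixPts ρ K.1) σ (fun h K v hv => hmove h hv) (fun K => K.2.2.2) ?_ ?_ ?_
  · intro K htop
    have hK1 : K.1 ≠ ⊥ := fun h => by
      have := K.2.2.1
      rw [h, Subgroup.card_bot, one_mul] at this
      omega
    obtain ⟨k, hk, hk1⟩ := (Subgroup.bot_or_exists_ne_one K.1).resolve_left hK1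
    apply hk1
    apply hinj
    rw [map_one]
    exact AddMonoidHom.ext fun v => (htop.symm ▸ AddSubgroup.mem_top v : v ∈ fixPts ρ K.1) k hk
  · rw [eq_top_iff]
    intro v _
    refine mem_of_hyperplanes ρ hco E hE hexp _ (fun K hK hKc => ?_) v
    by_cases hbot : fixPts ρ K = ⊥
    · rw [hbot]; exact bot_le
    have hcard : Nat.card K * p = Nat.card E := by
      obtain ⟨m, hm⟩ := IsPGroup.iff_card.1 (hP.to_le hEP)
      obtain ⟨k, hk⟩ := IsPGroup.iff_card.1 (hP.to_le (hK.trans hEP))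
      rw [hm, hk, ← pow_succ'] at hKc
      have hmk : m ≤ k + 1 := (Nat.pow_le_pow_iff_right hpp.one_lt).1 hKc
      have hkm : k ≤ m := by
        have := Nat.le_of_dvd Nat.card_pos (Subgroup.card_dvd_of_le hK)
        rw [hm, hk] at this
        exact (Nat.pow_le_pow_iff_right hpp.one_lt).1 this
      rcases (show m = k ∨ m = k + 1 by omega) with h | h
      · exfalso
        have : K = E := Subgroup.eq_of_le_of_card_ge hK (by rw [hm, hk, h])
        exact hbot (this ▸ hFE)
      · rw [hm, hk, h, pow_succ]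
    exact le_iSup (fun K : ι => fixPts ρ K.1) ⟨K, hK, hcard, hbot⟩
  · intro _ f hf hsum K
    haveI := Fintype.ofFinite K.1
    let π : V → V := fun v => ∑ k : K.1, ρ (k : H) v
    have hπ : ∀ v ∈ fixPts ρ K.1, π v = Nat.card K.1 • v := by
      intro v hv
      simp only [π]
      rw [Finset.sum_congr rfl (fun (k : K.1) _ => hv (k : H) k.2), Finset.sum_const, Finset.card_univ,
        ← Nat.card_eq_fintype_card (α := K.1)]
    have hπ0 : ∀ K' : ι, K' ≠ K → ∀ v ∈ fixPts ρ K'.1, π v = 0 := by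
      intro K' hne v hv
      have hmem : π v ∈ fixPts ρ E := by
        have h1 : K.1 ≤ fixSub ρ (π v) := fun k hk => by
          show ρ k (π v) = π v
          simp only [π, map_sum]
          exact Fintype.sum_equiv (Equiv.mulLeft ⟨k, hk⟩) _ _ fun x => by
            rw [← act_comp]; rfl
        have h2 : K'.1 ≤ fixSub ρ (π v) := fun k hk => by
          show ρ k (π v) = π v
          simp only [π, map_sum]
          refine Finset.sum_congr rfl fun x _ => ?_
          rw [← act_comp, hE k (K'.2.1 hk) _ (K.2.1 x.2), act_comp, hv k hk]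
        have hsup : K.1 ⊔ K'.1 = E := by
          have hlt : K.1 < K.1 ⊔ K'.1 := lt_of_le_of_ne le_sup_left fun e => hne (Subtype.ext
            (Subgroup.eq_of_le_of_card_ge (e ▸ le_sup_right) (le_of_eq (Nat.eq_of_mul_eq_mul_right
              hpp.pos (K.2.2.1.trans K'.2.2.1.symm)))))
          refine Subgroup.eq_of_le_of_card_ge (sup_le K.2.1 K'.2.1) ?_
          have h3 := Subgroup.card_dvd_of_le hlt.le
          have h4 : Nat.card K.1 < Nat.card (K.1 ⊔ K'.1 : Subgroup H) := by
            have := Set.ncard_lt_ncard (SetLike.coe_ssubset_coe.2 hlt) (Set.toFinite _)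
            rw [← Nat.card_coe_set_eq, ← Nat.card_coe_set_eq] at this
            simpa using this
          obtain ⟨m, hm⟩ := IsPGroup.iff_card.1 (hP.to_le ((sup_le K.2.1 K'.2.1).trans hEP))
          obtain ⟨k, hk⟩ := IsPGroup.iff_card.1 (hP.to_le (K.2.1.trans hEP))
          refine le_of_eq_of_le K.2.2.1.symm ?_
          rw [hm, hk, ← pow_succ]
          rw [hm, hk] at h4
          exact Nat.pow_le_pow_right hpp.pos ((Nat.pow_lt_pow_iff_right hpp.one_lt).1 h4)
        exact fun k hk => (hsup ▸ sup_le h1 h2 : E ≤ fixSub ρ (π v)) hk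
      rwa [hFE, AddSubgroup.mem_bot] at hmem
    have hadd : π (∑ K', f K') = ∑ K', π (f K') := by
      simp only [π, map_sum]
      exact Finset.sum_comm
    rw [hsum, Finset.sum_eq_single K (fun K' _ hne => hπ0 K' hne _ (hf K'))
      (fun h => absurd (Finset.mem_univ K) h), hπ _ (hf K),
      show π 0 = 0 by simp [π]] at hadd
    obtain ⟨k, hk⟩ := IsPGroup.iff_card.1 (hP.to_le (K.2.1.trans hEP))
    exact eq_zero_of_nsmul (by rw [hk]; exact hco.pow_left k) hadd.symm

theorem pow_mul_comm_central {G : Type*} [Group G] {x y c : G} (hc : y * x = x * y * c)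
    (hcx : c * x = x * c) (hcy : c * y = y * c) (n : ℕ) :
    (x * y) ^ n = x ^ n * y ^ n * c ^ (n.choose 2) := by
  have hyn : ∀ n : ℕ, y ^ n * x = x * y ^ n * c ^ n := by
    intro n
    induction n with
    | zero => simp
    | succ n ih =>
      calc y ^ (n + 1) * x = y ^ n * (y * x) := by rw [pow_succ, mul_assoc]
        _ = (y ^ n * x) * y * c := by rw [hc]; group
        _ = x * y ^ n * (c ^ n * y) * c := by rw [ih]; group
        _ = x * y ^ n * (y * c ^ n) * c := by rw [((show Commute c y from hcy).pow_left n).eq]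
        _ = x * y ^ (n + 1) * c ^ (n + 1) := by rw [pow_succ y, pow_succ c]; group
  induction n with
  | zero => simp
  | succ n ih =>
    have hC : Commute (c ^ n.choose 2) (x * y) :=
      ((show Commute c x from hcx).mul_right hcy).pow_left _
    calc (x * y) ^ (n + 1) = (x * y) ^ n * (x * y) := pow_succ _ _
      _ = x ^ n * y ^ n * ((c ^ n.choose 2) * (x * y)) := by rw [ih]; group
      _ = x ^ n * (y ^ n * x) * y * c ^ n.choose 2 := by rw [hC.eq]; group
      _ = x ^ n * x * y ^ n * (c ^ n * y) * c ^ n.choose 2 := by rw [hyn]; group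
      _ = x ^ n * x * y ^ n * (y * c ^ n) * c ^ n.choose 2 := by
        rw [((show Commute c y from hcy).pow_left n).eq]
      _ = x ^ (n + 1) * y ^ (n + 1) * c ^ ((n + 1).choose 2) := by
        rw [pow_succ x, pow_succ y, Nat.choose_succ_succ', Nat.choose_one_right, pow_add]; group

theorem pow_le_mul_pow {p n : ℕ} (hp : 3 ≤ p) (hn : n ≠ 0) :
    p ^ (2 * n + 1) ≤ (p - 1) * ((p + 1) ^ p ^ (n - 1)) ^ (p - 1) := by
  have h1 : p ^ (2 * n + 1) ≤ (p - 1) * ((p + 1) ^ 2) ^ n := by
    obtain ⟨m, rfl⟩ := Nat.exists_eq_succ_of_ne_zero hn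
    have hbase : p ^ 3 ≤ (p - 1) * (p + 1) ^ 2 := by
      obtain ⟨q, rfl⟩ : ∃ q, p = q + 1 := ⟨p - 1, by omega⟩
      rw [Nat.add_sub_cancel]
      nlinarith
    calc p ^ (2 * (m + 1) + 1) = p ^ 3 * (p ^ 2) ^ m := by rw [← pow_mul, ← pow_add]; ring_nf
      _ ≤ (p - 1) * (p + 1) ^ 2 * ((p + 1) ^ 2) ^ m :=
        Nat.mul_le_mul hbase (Nat.pow_le_pow_left (Nat.pow_le_pow_left (by omega) 2) m)
      _ = (p - 1) * ((p + 1) ^ 2) ^ (m + 1) := by rw [pow_succ ((p + 1) ^ 2) m]; ring
  refine h1.trans (Nat.mul_le_mul_left _ ?_)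
  rw [← pow_mul, ← pow_mul]
  refine Nat.pow_le_pow_right (by omega) ?_
  have h2 : n ≤ p ^ (n - 1) := by
    have := Nat.lt_pow_self (n := n - 1) (show 1 < p by omega)
    omega
  calc 2 * n ≤ (p - 1) * p ^ (n - 1) := Nat.mul_le_mul (by omega) h2
    _ = p ^ (n - 1) * (p - 1) := mul_comm _ _

/-- Every element of order `p` lies in the extraspecial subgroup. -/
theorem avoid_of_cyclic_abelian (hp : p ≠ 2) (hco : p.Coprime (Nat.card V))
    (hinj : Function.Injective ρ)
    (hirr : ∀ W : AddSubgroup V, (∀ h, ∀ v ∈ W, ρ h v ∈ W) → W = ⊥ ∨ W = ⊤) [Nontrivial V]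
    (P : Subgroup H) (hPn : P.Normal) (hP : IsPGroup p P) {a : H} (haP : a ∈ P) (ha : a ≠ 1)
    (hap : a ^ p = 1)
    (hnc : ∀ A : Subgroup H, A.Normal → A ≤ P → (∀ x ∈ A, ∀ y ∈ A, x * y = y * x) →
      (∀ x ∈ A, x ^ p = 1) → Nat.card A ≤ p) :
    ∃ v : V, ∀ g : H, ρ (g * a * g⁻¹) v ≠ v := by
  classical
  haveI := hPn
  have hpp : p.Prime := Fact.out
  haveI : Nontrivial P := ⟨⟨⟨a, haP⟩, 1, fun h => ha (congrArg Subtype.val h)⟩⟩
  -- the central subgroup of order `p`
  have hcomm_of : ∀ (x : H) (hx : x ∈ P), (⟨x, hx⟩ : P) ∈ center P → ∀ y ∈ P, y * x = x * y :=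
    fun x hx hc y hy => congrArg Subtype.val (mem_center_iff.1 hc ⟨y, hy⟩)
  let Z0 : Subgroup H :=
    { carrier := {x | x ∈ P ∧ x ^ p = 1 ∧ ∀ y ∈ P, y * x = x * y}
      one_mem' := ⟨one_mem _, one_pow _, fun y _ => by simp⟩
      mul_mem' := fun {x x'} hx hx' => ⟨mul_mem hx.1 hx'.1,
        by rw [(show Commute x x' from hx'.2.2 x hx.1).mul_pow, hx.2.1, hx'.2.1, one_mul],
        fun y hy => by rw [← mul_assoc, hx.2.2 y hy, mul_assoc, hx'.2.2 y hy, mul_assoc]⟩
      inv_mem' := fun {x} hx => ⟨inv_mem hx.1, by rw [inv_pow, hx.2.1, inv_one],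
        fun y hy => ((show Commute y x from hx.2.2 y hy).inv_right).eq⟩ }
  haveI hZ0n : Z0.Normal := ⟨fun x hx g => ⟨hPn.conj_mem x hx.1 g,
    by rw [conj_pow, hx.2.1, mul_one, mul_inv_cancel], fun y hy => by
      have h1 := hx.2.2 (g⁻¹ * y * g) (by simpa using hPn.conj_mem y hy g⁻¹)
      calc y * (g * x * g⁻¹) = g * ((g⁻¹ * y * g) * x) * g⁻¹ := by group
        _ = g * (x * (g⁻¹ * y * g)) * g⁻¹ := by rw [h1]
        _ = g * x * g⁻¹ * y := by group⟩⟩
  obtain ⟨z, hzP, hzp, hz1, hzc⟩ : ∃ z ∈ P, z ^ p = 1 ∧ z ≠ 1 ∧ ∀ y ∈ P, y * z = z * y := by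
    haveI := hP.center_nontrivial
    obtain ⟨k, hk, hcard⟩ := (hP.to_subgroup (center P)).nontrivial_iff_card.1 inferInstance
    obtain ⟨c, hc⟩ := exists_prime_orderOf_dvd_card' (G := center P) p (hcard ▸ dvd_pow_self p hk.ne')
    refine ⟨((c : P) : H), (c : P).2, ?_, ?_, hcomm_of _ _ c.2⟩
    · have h1 : c ^ p = 1 := by rw [← hc]; exact pow_orderOf_eq_one c
      simpa using congrArg (fun t : center P => ((t : P) : H)) h1
    · intro h
      have h2 : c = 1 := Subtype.ext (Subtype.ext h)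
      rw [h2, orderOf_one] at hc
      exact hpp.ne_one hc.symm
  have hzo : orderOf z = p := orderOf_eq_prime hzp hz1
  have hZ0 : Z0 = zpowers z := by
    refine (Subgroup.eq_of_le_of_card_ge (zpowers_le.2 (show z ∈ Z0 from ⟨hzP, hzp, hzc⟩)) ?_).symm
    rw [Nat.card_zpowers, hzo]
    exact hnc Z0 hZ0n (fun x hx => hx.1) (fun x hx y hy => (hx.2.2 y hy.1).symm) (fun x hx => hx.2.1)
  have hzn : (zpowers z).Normal := hZ0 ▸ hZ0n
  have hzcP : ∀ t ∈ zpowers z, ∀ y ∈ P, y * t = t * y := fun t ht => (hZ0.symm ▸ ht : t ∈ Z0).2.2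
  have hzpP : ∀ t ∈ zpowers z, t ∈ P ∧ t ^ p = 1 := fun t ht =>
    ⟨(hZ0.symm ▸ ht : t ∈ Z0).1, (hZ0.symm ▸ ht : t ∈ Z0).2.1⟩
  have hfpf : ∀ v, ρ z v = v → v = 0 := by
    intro v hv
    rcases hirr (fixPts ρ (zpowers z)) (fun h u hu k hk => by
      have h1 := hu _ (show h⁻¹ * k * h ∈ zpowers z by simpa using hzn.conj_mem k hk h⁻¹)
      rw [← act_comp, show k * h = h * (h⁻¹ * k * h) by group, act_comp, h1]) with hb | ht
    · exact AddSubgroup.mem_bot.1 (hb ▸ mem_fixPts_zpowers ρ hv)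
    · exfalso
      apply hz1
      apply hinj
      rw [map_one]
      exact AddMonoidHom.ext fun u =>
        (ht.symm ▸ AddSubgroup.mem_top u : u ∈ fixPts ρ (zpowers z)) z (mem_zpowers z)
  have hfpfz : ∀ t ∈ zpowers z, t ≠ 1 → ∀ v, ρ t v = v → v = 0 := by
    intro t ht ht1 v hv
    refine hfpf v ?_
    have : z ∈ zpowers t := by
      have hc : IsCyclic (zpowers z) := inferInstance
      have := CfsgLib.PGroup.mem_zpowers_of_pow_eq_one (z := (⟨t, ht⟩ : zpowers z))
        (w := ⟨z, mem_zpowers z⟩) (n := p)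
        (by rw [Subgroup.orderOf_mk]; exact orderOf_eq_prime (hzpP t ht).2 ht1)
        (Subtype.ext hzp)
      obtain ⟨j, hj⟩ := mem_zpowers_iff.1 this
      exact ⟨j, congrArg Subtype.val hj⟩
    exact mem_fixPts_zpowers ρ hv z this
  -- commutator identities modulo the centre
  have hcm : ∀ x x' y : H, y ∈ P → x ∈ P → ⁅x', y⁆ ∈ zpowers z →
      ⁅x * x', y⁆ = ⁅x', y⁆ * ⁅x, y⁆ := by
    intro x x' y hy hx hx'
    have h1 := hzcP _ hx' x hx
    calc ⁅x * x', y⁆ = x * ⁅x', y⁆ * (y * x⁻¹ * y⁻¹) := by simp only [commutatorElement_def]; group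
      _ = ⁅x', y⁆ * x * (y * x⁻¹ * y⁻¹) := by rw [h1]
      _ = ⁅x', y⁆ * ⁅x, y⁆ := by simp only [commutatorElement_def]; group
  have hcmr : ∀ t x y : H, t ∈ P → x ∈ P → ⁅t, y⁆ ∈ zpowers z → y ∈ P →
      ⁅t, x * y⁆ = ⁅t, x⁆ * ⁅t, y⁆ := by
    intro t x y ht hx h hy
    have h1 := hzcP _ h x hx
    calc ⁅t, x * y⁆ = t * x * t⁻¹ * (⁅t, y⁆ * x⁻¹) := by simp only [commutatorElement_def]; group
      _ = t * x * t⁻¹ * (x⁻¹ * ⁅t, y⁆) := by
        rw [((show Commute x ⁅t, y⁆ from h1).inv_left).eq]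
      _ = ⁅t, x⁆ * ⁅t, y⁆ := by simp only [commutatorElement_def]; group
  -- the subgroup `E`
  let E : Subgroup H :=
    { carrier := {x | x ∈ P ∧ x ^ p = 1 ∧ ∀ y ∈ P, ⁅x, y⁆ ∈ zpowers z}
      one_mem' := ⟨one_mem _, one_pow _, fun y _ => by rw [commutatorElement_one_left]; exact one_mem _⟩
      mul_mem' := fun {x x'} hx hx' => ⟨mul_mem hx.1 hx'.1, by
          have hc := hx'.2.2 x hx.1
          have hinvc : ⁅x', x⁆⁻¹ ∈ zpowers z := inv_mem hc
          set c := x⁻¹ * x'⁻¹ * x * x' with hcdef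
          have hyx : x' * x = x * x' * c⁻¹ := by rw [hcdef]; group
          have hcz : c⁻¹ ∈ zpowers z := by
            have e : c = x⁻¹ * x'⁻¹ * ⁅x, x'⁆ * x' * x := by
              rw [hcdef]; simp only [commutatorElement_def]; group
            have e' : c = ⁅x, x'⁆ := by
              rw [e, mul_assoc, mul_assoc, mul_assoc, ← mul_assoc ⁅x, x'⁆,
                ← hzcP _ (hx.2.2 x' hx'.1) _ hx'.1, mul_assoc, ← hzcP _ (hx.2.2 x' hx'.1) _ hx.1]
              group
            rw [e']
            exact inv_mem (hx.2.2 x' hx'.1)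
          rw [pow_mul_comm_central hyx (hzcP _ hcz x hx.1).symm (hzcP _ hcz x' hx'.1).symm, hx.2.1,
            hx'.2.1, one_mul, one_mul]
          obtain ⟨m, hm⟩ : p ∣ p.choose 2 := hpp.dvd_choose_self (by norm_num)
            (lt_of_le_of_ne hpp.two_le (Ne.symm hp))
          rw [hm, pow_mul, (hzpP _ hcz).2, one_pow],
        fun y hy => by rw [hcm x x' y hy hx.1 (hx'.2.2 y hy)]; exact mul_mem (hx'.2.2 y hy) (hx.2.2 y hy)⟩
      inv_mem' := fun {x} hx => ⟨inv_mem hx.1, by rw [inv_pow, hx.2.1, inv_one], fun y hy => by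
          have h := hx.2.2 (x⁻¹ * y * x) (mul_mem (mul_mem (inv_mem hx.1) hy) hx.1)
          have e : ⁅x⁻¹, y⁆ = ⁅x, x⁻¹ * y * x⁆⁻¹ := by simp only [commutatorElement_def]; group
          rw [e]; exact inv_mem h⟩ }
  haveI hEn : E.Normal := ⟨fun x hx g => ⟨hPn.conj_mem x hx.1 g,
    by rw [conj_pow, hx.2.1, mul_one, mul_inv_cancel], fun y hy => by
      have h := hzn.conj_mem _ (hx.2.2 (g⁻¹ * y * g) (by simpa using hPn.conj_mem y hy g⁻¹)) g
      have e : g * ⁅x, g⁻¹ * y * g⁆ * g⁻¹ = ⁅g * x * g⁻¹, y⁆ := by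
        simp only [commutatorElement_def]; group
      rwa [e] at h⟩⟩
  have hzE : z ∈ E := ⟨hzP, hzp, fun y hy => by
    rw [(commutatorElement_eq_one_iff_mul_comm).2 (hzc y hy).symm]; exact one_mem _⟩
  have hEcent : ∀ e ∈ E, (∀ b ∈ E, e * b = b * e) → e ∈ zpowers z := by
    intro e he hcc
    let ZE : Subgroup H := E ⊓ centralizer (E : Set H)
    haveI : (centralizer (E : Set H)).Normal := inferInstance
    have hle : Nat.card ZE ≤ p := hnc ZE inferInstance (fun x hx => hx.1.1)
      (fun x hx y hy => mem_centralizer_iff.1 hy.2 x hx.1) (fun x hx => hx.1.2.1)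
    have hz' : zpowers z ≤ ZE := zpowers_le.2 ⟨hzE, mem_centralizer_iff.2 fun b hb => hzc b hb.1⟩
    have hZE : zpowers z = ZE := Subgroup.eq_of_le_of_card_ge hz' (by rwa [Nat.card_zpowers, hzo])
    rw [hZE]
    exact ⟨he, mem_centralizer_iff.2 fun b hb => (hcc b hb).symm⟩
  -- every element of `P` induces an inner automorphism on `E`
  have hinner : ∀ t ∈ P, ∃ e ∈ E, ∀ x ∈ E, ⁅e, x⁆ = ⁅t, x⁆ := by
    have hZzn : ((zpowers z).subgroupOf E).Normal := inferInstance
    let A := E ⧸ (zpowers z).subgroupOf E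
    have hAc : ∀ s t : A, s * t = t * s := by
      intro s t
      obtain ⟨s, rfl⟩ := QuotientGroup.mk_surjective s
      obtain ⟨t, rfl⟩ := QuotientGroup.mk_surjective t
      rw [← QuotientGroup.mk_mul, ← QuotientGroup.mk_mul, QuotientGroup.eq, mem_subgroupOf]
      have h := s.2.2.2 (t : H) t.2.1
      have h' := hzn.conj_mem _ (inv_mem h) ((t : H)⁻¹ * (s : H)⁻¹)
      convert h' using 1
      simp only [Subgroup.coe_mul, Subgroup.coe_inv, commutatorElement_def]
      group
    letI : CommGroup A := { (inferInstance : Group A) with mul_comm := hAc }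
    have hmem : ∀ t ∈ P, ∀ x ∈ E, ⁅t, x⁆ ∈ zpowers z := fun t ht x hx => by
      rw [← commutatorElement_inv]; exact inv_mem (hx.2.2 t ht)
    have hom : ∀ t ∈ P, ∃ f : A →* zpowers z, ∀ x : E, (f (QuotientGroup.mk x) : H) = ⁅t, (x : H)⁆ := by
      intro t ht
      let f0 : E →* zpowers z :=
        { toFun := fun x => ⟨⁅t, (x : H)⁆, hmem t ht x x.2⟩
          map_one' := Subtype.ext (by simp)
          map_mul' := fun x y => Subtype.ext (hcmr t x y ht x.2.1 (hmem t ht y y.2) y.2.1) }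
      refine ⟨QuotientGroup.lift _ f0 (fun x hx => ?_), fun x => rfl⟩
      refine MonoidHom.mem_ker.2 (Subtype.ext ?_)
      show ⁅t, (x : H)⁆ = 1
      exact commutatorElement_eq_one_iff_mul_comm.2 (hzcP _ (mem_subgroupOf.1 hx) t ht)
    choose F hF using hom
    let ψ : A → (A →* zpowers z) := fun s => F ((s.out : E) : H) (s.out).2.1
    have hψinj : Function.Injective ψ := by
      intro s s' h
      rw [← s.out_eq', ← s'.out_eq', QuotientGroup.eq, mem_subgroupOf]
      have hx : ∀ x : E, ⁅((s.out : E) : H), (x : H)⁆ = ⁅((s'.out : E) : H), (x : H)⁆ := fun x => by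
        rw [← hF _ s.out.2.1 x, ← hF _ s'.out.2.1 x]
        show ((ψ s (QuotientGroup.mk x) : zpowers z) : H) = ((ψ s' (QuotientGroup.mk x) : zpowers z) : H)
        rw [h]
      refine hEcent _ (mul_mem (inv_mem s.out.2) s'.out.2) fun b hb => ?_
      have h1 : ((s.out : E) : H) * b * ((s.out : E) : H)⁻¹ = ((s'.out : E) : H) * b * ((s'.out : E) : H)⁻¹ := by
        have := hx ⟨b, hb⟩
        simp only [commutatorElement_def] at this
        exact mul_right_cancel this
      simp only [Subgroup.coe_mul, Subgroup.coe_inv]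
      calc ((s.out : E) : H)⁻¹ * ((s'.out : E) : H) * b
          = ((s.out : E) : H)⁻¹ * (((s'.out : E) : H) * b * ((s'.out : E) : H)⁻¹) * ((s'.out : E) : H) := by group
        _ = b * (((s.out : E) : H)⁻¹ * ((s'.out : E) : H)) := by rw [← h1]; group
    have hcardle : Nat.card (A →* zpowers z) ≤ Nat.card A := by
      obtain ⟨ω, hω⟩ : ∃ ω : ℂˣ, orderOf ω = p := by
        have h := Complex.isPrimitiveRoot_exp p hpp.ne_zero
        refine ⟨(h.isUnit hpp.ne_zero).unit, ?_⟩
        rw [← orderOf_units, IsUnit.unit_spec]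
        exact h.eq_orderOf.symm
      let emb : zpowers z →* ℂˣ := monoidHomOfForallMemZpowers
        (g := (⟨z, mem_zpowers z⟩ : zpowers z)) (g' := ω)
        (fun x => by
          obtain ⟨j, hj⟩ := mem_zpowers_iff.1 x.2
          exact ⟨j, Subtype.ext hj⟩)
        (by rw [Subgroup.orderOf_mk, hzo, hω])
      have hemb : Function.Injective emb := by
        rw [injective_iff_map_eq_one]
        intro x hx
        obtain ⟨j, hj⟩ := mem_zpowers_iff.1 x.2
        have e : x = (⟨z, mem_zpowers z⟩ : zpowers z) ^ j := Subtype.ext hj.symm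
        rw [e, map_zpow, monoidHomOfForallMemZpowers_apply_gen, ← orderOf_dvd_iff_zpow_eq_one, hω,
          ← hzo, orderOf_dvd_iff_zpow_eq_one] at hx
        exact Subtype.ext (hj ▸ hx)
      haveI : Finite (A →* ℂˣ) := Nat.finite_of_card_ne_zero (by
        rw [CommGroup.card_monoidHom_of_hasEnoughRootsOfUnity A ℂ]; exact Nat.card_pos.ne')
      calc Nat.card (A →* zpowers z) ≤ Nat.card (A →* ℂˣ) :=
            Nat.card_le_card_of_injective (fun f => emb.comp f) fun f f' h =>
              MonoidHom.ext fun x => hemb (DFunLike.congr_fun h x)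
        _ = Nat.card A := CommGroup.card_monoidHom_of_hasEnoughRootsOfUnity A ℂ
    haveI : Finite (A →* zpowers z) := Finite.of_injective (fun f => (f : A → zpowers z)) DFunLike.coe_injective
    have hψsurj : Function.Surjective ψ :=
      (hψinj.bijective_of_nat_card_le hcardle).2
    intro t ht
    obtain ⟨s, hs⟩ := hψsurj (F t ht)
    refine ⟨(s.out : E), s.out.2, fun x hx => ?_⟩
    rw [← hF _ s.out.2.1 ⟨x, hx⟩, ← hF t ht ⟨x, hx⟩]
    show ((ψ s (QuotientGroup.mk (⟨x, hx⟩ : E)) : zpowers z) : H) = _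
    rw [hs]
  -- the centralizer of `E` in `P` is central
  let C : Subgroup H := P ⊓ centralizer (E : Set H)
  have hsplit : ∀ t ∈ P, ∃ e ∈ E, e⁻¹ * t ∈ C := by
    intro t ht
    obtain ⟨e, he, hex⟩ := hinner t ht
    refine ⟨e, he, (⟨mul_mem (inv_mem he.1) ht, mem_centralizer_iff.2 fun x hx => ?_⟩ :
      e⁻¹ * t ∈ P ∧ e⁻¹ * t ∈ centralizer (E : Set H))⟩
    have h1 : e * x * e⁻¹ = t * x * t⁻¹ := by
      have := hex x hx
      simp only [commutatorElement_def] at this
      exact mul_right_cancel this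
    calc x * (e⁻¹ * t) = e⁻¹ * (e * x * e⁻¹) * t := by group
      _ = e⁻¹ * t * x := by rw [h1]; group
  have hCc : IsCyclic C := by
    by_contra hnc'
    have hCp : IsPGroup p C := hP.to_le inf_le_left
    obtain ⟨U, hUn, hUc, hUe, hUcard⟩ :=
      CfsgLib.Transfer.exists_normal_elementary_sq hp hCp hnc'
    haveI := hUn
    have hU1 : U ≠ ⊥ := fun h => by
      rw [h, Subgroup.card_bot] at hUcard
      have := Nat.one_lt_pow two_ne_zero hpp.one_lt
      omega
    have key : ∀ u ∈ U, u ∈ center C → ((u : C) : H) ∈ zpowers z := by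
      intro u hu huc
      rw [← hZ0]
      refine ⟨u.2.1, by
        have := congrArg Subtype.val (hUe u hu)
        simpa using this, fun y hy => ?_⟩
      obtain ⟨e, he, hc⟩ := hsplit y hy
      have h1 : Commute ((u : C) : H) (e⁻¹ * y) :=
        (congrArg Subtype.val (mem_center_iff.1 huc ⟨_, hc⟩)).symm
      have h2 : Commute ((u : C) : H) e := (mem_centralizer_iff.1 u.2.2 e he).symm
      have h3 := h2.mul_right h1
      rw [mul_inv_cancel_left] at h3
      exact h3.symm
    haveI := hCp.isNilpotent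
    have hU0 : U ⊓ center C ≠ ⊥ := by
      haveI : Nontrivial C := Subgroup.nontrivial_iff_ne_bot C |>.2 fun h => hnc' (h ▸ inferInstance)
      exact CfsgLib.Solvable.normal_inf_center_ne_bot U hU1
    -- the centre meets `U` in `⟨z⟩`, and `U` is central modulo it
    have hUE : ∀ u ∈ U, ∀ c : C, ⁅((u : C) : H), (c : H)⁆ ∈ zpowers z := by
      set U0 := U ⊓ center C with hU0def
      intro u hu c
      by_contra hcon
      let π := QuotientGroup.mk' U0
      have hne : U.map π ≠ ⊥ := by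
        intro h
        rw [Subgroup.map_eq_bot_iff] at h
        apply hcon
        have hu0 : u ∈ U0 := QuotientGroup.ker_mk' U0 ▸ h hu
        have : ⁅((u : C) : H), (c : H)⁆ = 1 := commutatorElement_eq_one_iff_mul_comm.2
          (congrArg Subtype.val (mem_center_iff.1 hu0.2 c)).symm
        rw [this]; exact one_mem _
      haveI : (U.map π).Normal := hUn.map _ (QuotientGroup.mk'_surjective U0)
      haveI : Nontrivial (C ⧸ U0) := by
        obtain ⟨x, hx, hx1⟩ := (Subgroup.bot_or_exists_ne_one _).resolve_left hne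
        exact ⟨⟨x, 1, hx1⟩⟩
      have hQ : IsPGroup p (C ⧸ U0) := hCp.to_quotient U0
      haveI := hQ.isNilpotent
      have hne' := CfsgLib.Solvable.normal_inf_center_ne_bot (U.map π) hne
      obtain ⟨y, hy, hy1⟩ := (Subgroup.bot_or_exists_ne_one _).resolve_left hne'
      have hsmall : Nat.card (U.map π) ≤ p := by
        have hker : (π.subgroupMap U).ker = U0.subgroupOf U := by
          ext x
          rw [MonoidHom.mem_ker, mem_subgroupOf, ← QuotientGroup.eq_one_iff (N := U0)]
          exact ⟨fun h => congrArg Subtype.val h, fun h => Subtype.ext h⟩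
        have h1 : (π.subgroupMap U).ker.index = Nat.card (π.subgroupMap U).range := Subgroup.index_ker _
        rw [MonoidHom.range_eq_top.2 (MonoidHom.subgroupMap_surjective _ _), Subgroup.card_top, hker] at h1
        have h2 := (U0.subgroupOf U).index_mul_card
        rw [h1, hUcard] at h2
        haveI : Nontrivial (U0.subgroupOf U) := by
          refine (Subgroup.nontrivial_iff_ne_bot _).2 ?_
          rw [Ne, Subgroup.subgroupOf_eq_bot, disjoint_iff]
          rw [hU0def, inf_right_comm, inf_idem]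
          exact hU0
        obtain ⟨k, hk, hkc⟩ := ((hCp.to_subgroup U).to_subgroup (U0.subgroupOf U)).nontrivial_iff_card.1 inferInstance
        rw [hkc] at h2
        have hpk : p ≤ p ^ k := Nat.le_self_pow hk.ne' p
        by_contra hlt
        push Not at hlt
        have : p * p < Nat.card (U.map π) * p ^ k :=
          lt_of_lt_of_le (Nat.mul_lt_mul_of_pos_right hlt hpp.pos) (Nat.mul_le_mul_left _ hpk)
        rw [h2, sq] at this
        exact lt_irrefl _ this
      have hle : U.map π ≤ center (C ⧸ U0) := by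
        have hgen : zpowers y = U.map π := by
          refine Subgroup.eq_of_le_of_card_ge (zpowers_le.2 hy.1) ?_
          rw [Nat.card_zpowers]
          refine hsmall.trans ?_
          obtain ⟨k, hk⟩ := IsPGroup.iff_orderOf.1 hQ y
          rw [hk]
          refine Nat.le_self_pow ?_ p
          rintro rfl
          exact hy1 (orderOf_eq_one_iff.1 (by simpa using hk))
        rw [← hgen, zpowers_le]
        exact hy.2
      apply hcon
      have h1 := mem_center_iff.1 (hle (Subgroup.mem_map_of_mem π hu)) (π c)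
      rw [← map_mul, ← map_mul] at h1
      have h2 : ⁅u, c⁆ ∈ U0 := by
        rw [← QuotientGroup.eq_one_iff, ← QuotientGroup.mk'_apply, commutatorElement_def]
        show π (u * c * u⁻¹ * c⁻¹) = 1
        rw [map_mul, map_mul, ← h1, ← map_mul, ← map_mul]
        simp
      have h3 := key _ h2.1 h2.2
      exact h3
    have hUle : U.map C.subtype ≤ zpowers z := by
      rintro _ ⟨u, hu, rfl⟩
      refine hEcent _ ⟨u.2.1, by
        have := congrArg Subtype.val (hUe u hu)
        simpa using this, fun y hy => ?_⟩ fun b hb => (mem_centralizer_iff.1 u.2.2 b hb).symm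
      obtain ⟨e, he, hc⟩ := hsplit y hy
      have h1 := hUE u hu ⟨_, hc⟩
      have h2 : ⁅((u : C) : H), e⁆ = 1 :=
        commutatorElement_eq_one_iff_mul_comm.2 (mem_centralizer_iff.1 u.2.2 e he).symm
      have h3 := hcmr _ e (e⁻¹ * y) u.2.1 he.1 h1 hc.1
      rw [mul_inv_cancel_left, h2, one_mul] at h3
      rw [Subgroup.coe_subtype, h3]
      exact h1
    have := Subgroup.card_dvd_of_le hUle
    rw [Subgroup.card_map_of_injective C.subtype_injective, hUcard, Nat.card_zpowers, hzo] at this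
    have := Nat.le_of_dvd hpp.pos this
    nlinarith [hpp.two_le]
  have haE : a ∈ E := by
    obtain ⟨e, he, hc⟩ := hsplit a haP
    set c := e⁻¹ * a with hcdef
    haveI := hCc
    have hcZ : ∀ y ∈ P, y * c = c * y := by
      intro y hy
      obtain ⟨e', he', hc'⟩ := hsplit y hy
      have h1 : Commute c e' := (mem_centralizer_iff.1 hc.2 e' he').symm
      have h2 : Commute c (e'⁻¹ * y) :=
        congrArg Subtype.val ((IsCyclic.commGroup (α := C)).mul_comm ⟨c, hc⟩ ⟨_, hc'⟩)
      have h3 := h1.mul_right h2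
      rw [mul_inv_cancel_left] at h3
      exact h3.symm
    have hcp : c ^ p = 1 := by
      have : a = e * c := by rw [hcdef, mul_inv_cancel_left]
      rw [this, (show Commute e c from hcZ e he.1).mul_pow, he.2.1, one_mul] at hap
      exact hap
    have : c ∈ E := by
      have hc0 : c ∈ Z0 := ⟨hc.1, hcp, hcZ⟩
      rw [hZ0] at hc0
      exact zpowers_le.2 hzE hc0
    rw [show a = e * c by rw [hcdef, mul_inv_cancel_left]]
    exact mul_mem he this
  by_cases haz : a ∈ zpowers z
  · obtain ⟨v, hv⟩ := exists_ne (0 : V)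
    refine ⟨v, fun g hfix => hv (hfpfz _ (hzn.conj_mem a haz g) (fun h => ha ?_) v hfix)⟩
    simpa [mul_assoc] using congrArg (fun t => g⁻¹ * t * g) h
  -- counting
  by_contra hcon
  push Not at hcon
  haveI := Fintype.ofFinite V
  haveI := Fintype.ofFinite H
  set B := Finset.univ.filter (fun b : H => b ∈ E ∧ b ∉ zpowers z)
  set F : H → Finset V := fun b => Finset.univ.filter (fun v => v ≠ 0 ∧ ρ b v = v)
  have hcover : ∀ v : V, v ≠ 0 → p - 1 ≤ (B.filter (fun b => v ∈ F b)).card := by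
    intro v hv
    obtain ⟨g, hg⟩ := hcon v
    set b := g * a * g⁻¹ with hb
    have hbE : b ∈ E := hEn.conj_mem a haE g
    have hbz : b ∉ zpowers z := fun h => haz (by
      have := hzn.conj_mem b h g⁻¹
      simpa [hb, mul_assoc] using this)
    have hbo : orderOf b = p := orderOf_eq_prime hbE.2.1 fun h => hbz (h ▸ one_mem _)
    have hsub : (Finset.Ico 1 p).image (fun i => b ^ i) ⊆ B.filter (fun b => v ∈ F b) := by
      intro y hy
      obtain ⟨i, hi, rfl⟩ := Finset.mem_image.1 hy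
      rw [Finset.mem_Ico] at hi
      refine Finset.mem_filter.2 ⟨Finset.mem_filter.2 ⟨Finset.mem_univ _, pow_mem hbE i, fun h => ?_⟩,
        Finset.mem_filter.2 ⟨Finset.mem_univ _, hv, act_pow_of_fixed ρ hg i⟩⟩
      obtain ⟨t, ht⟩ := exists_pow_eq_self_of_coprime (n := i) (x := b) (by
        rw [hbo]
        exact ((hpp.coprime_iff_not_dvd.2 fun hd => by
          have := Nat.le_of_dvd (by omega) hd; omega)).symm)
      exact hbz (ht ▸ pow_mem h t)
    have hinj' : Set.InjOn (fun i => b ^ i) ↑(Finset.Ico 1 p) := by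
      intro i hi j hj h
      simp only [Finset.coe_Ico, Set.mem_Ico] at hi hj
      exact (pow_injOn_Iio_orderOf (x := b)) (by rw [hbo]; exact hi.2) (by rw [hbo]; exact hj.2) h
    have := Finset.card_le_card hsub
    rwa [Finset.card_image_of_injOn hinj', Nat.card_Ico] at this
  have hdouble : (Fintype.card V - 1) * (p - 1) ≤ ∑ b ∈ B, (F b).card := by
    have h1 : ∑ b ∈ B, (F b).card =
        ∑ v ∈ Finset.univ.erase (0 : V), (B.filter (fun b => v ∈ F b)).card := by
      simp only [Finset.card_filter]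
      rw [Finset.sum_comm]
      refine Finset.sum_congr rfl fun b _ => ?_
      rw [← Finset.card_filter]
      congr 1
      ext v
      simp only [F, Finset.mem_filter, Finset.mem_erase, Finset.mem_univ, true_and, and_true]
      tauto
    rw [h1]
    refine le_trans ?_ (Finset.card_nsmul_le_sum _ _ (p - 1) fun v hv => hcover v (Finset.mem_erase.1 hv).1)
    rw [Finset.card_erase_of_mem (Finset.mem_univ _), Finset.card_univ, smul_eq_mul]
  -- `V ≠ 0` gives a maximal fixed space
  have hBne : B.Nonempty := ⟨a, Finset.mem_filter.2 ⟨Finset.mem_univ _, haE, haz⟩⟩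
  obtain ⟨b0, hb0, hmax⟩ := B.exists_max_image (fun b => (F b).card) hBne
  obtain ⟨-, hb0E, hb0z⟩ := Finset.mem_filter.1 hb0
  obtain ⟨n, hnE, hbound⟩ := exists_bound ρ hco hzp hz1 hfpf (Nat.card E) E ⊤ inferInstance le_rfl hzE
    top_ne_bot (fun _ _ _ _ => AddSubgroup.mem_top _) (fun e he => he.2.1)
    (fun x hx y hy => hx.2.2 y hy.1) (fun e he => (hzc e he.1).symm) hEcent
    (fun e _ hfix => hinj (by
      rw [map_one]; exact AddMonoidHom.ext fun v => hfix v (AddSubgroup.mem_top v)))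
  -- the maximal fixed space
  set W := Nat.card (fixPts ρ (zpowers b0)) with hW
  have hFW : (F b0).card + 1 = W := by
    have h1 : F b0 = (Finset.univ.filter fun v : V => v ∈ fixPts ρ (zpowers b0)).erase 0 := by
      ext v
      simp only [F, Finset.mem_erase, Finset.mem_filter, Finset.mem_univ, true_and]
      exact and_congr_right fun _ => ⟨mem_fixPts_zpowers ρ, fun h => h b0 (mem_zpowers b0)⟩
    rw [h1, Finset.card_erase_of_mem (by simp [zero_mem]), Nat.sub_add_cancel (Finset.card_pos.2 ⟨0, by simp [zero_mem]⟩),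
      hW, Nat.card_eq_fintype_card, ← Fintype.card_coe]
    exact Fintype.card_congr (Equiv.subtypeEquivRight fun v => by simp)
  obtain ⟨x, hxE, hxb⟩ : ∃ x ∈ E, ⁅x, b0⁆ ≠ 1 := by
    by_contra h
    push Not at h
    exact hb0z (hEcent b0 hb0E fun y hy => (commutatorElement_eq_one_iff_mul_comm.1 (h y hy)).symm)
  have hzb : x * b0 * x⁻¹ = b0 * ⁅x, b0⁆ := by
    rw [hzcP _ (hxE.2.2 b0 hb0E.1) b0 hb0E.1, commutatorElement_def]; group
  have hWV : W ^ p ≤ Nat.card V :=
    card_fixPts_pow_le ρ hco hb0E.2.1 (hzpP _ (hxE.2.2 b0 hb0E.1)).2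
      (hzcP _ (hxE.2.2 b0 hb0E.1) b0 hb0E.1).symm (hzcP _ (hxE.2.2 b0 hb0E.1) x hxE.1)
      (hfpfz _ (hxE.2.2 b0 hb0E.1) hxb) hzb
  -- `|B| < (p - 1) W ^ (p - 1)`
  have hsum : ∑ b ∈ B, (F b).card ≤ B.card * (F b0).card := by
    refine le_trans (Finset.sum_le_card_nsmul _ _ _ hmax) ?_
    rw [smul_eq_mul]
  have hB : B.card < Nat.card E := by
    have h1 : B ⊆ (Finset.univ.filter fun b : H => b ∈ E).erase 1 := fun b hb => by
      obtain ⟨-, h, h'⟩ := Finset.mem_filter.1 hb
      exact Finset.mem_erase.2 ⟨fun e => h' (e ▸ one_mem _), Finset.mem_filter.2 ⟨Finset.mem_univ _, h⟩⟩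
    have h2 : (Finset.univ.filter fun b : H => b ∈ E).card = Nat.card E := by
      rw [Nat.card_eq_fintype_card, ← Fintype.card_coe]
      exact Fintype.card_congr (Equiv.subtypeEquivRight fun v => by simp)
    have h3 := Finset.card_le_card h1
    rw [Finset.card_erase_of_mem (by simp [one_mem]), h2] at h3
    have := Nat.card_pos (α := E)
    omega
  rw [Nat.card_eq_fintype_card] at hWV
  have hVcard : Fintype.card V = Nat.card (⊤ : AddSubgroup V) := by
    rw [AddSubgroup.card_top, Nat.card_eq_fintype_card]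
  -- lower bound for `W`
  have hWpos : 1 ≤ W := Nat.card_pos
  have hn1 : n ≠ 0 := by
    rintro rfl
    have h1 : zpowers z = E := Subgroup.eq_of_le_of_card_ge (zpowers_le.2 hzE) (by
      rw [hnE, Nat.card_zpowers, hzo]; simp)
    exact haz (h1 ▸ haE)
  have hV1 : 1 < Fintype.card V := Fintype.one_lt_card
  have hp3 : 3 ≤ p := lt_of_le_of_ne hpp.two_le (Ne.symm hp)
  have h5 : (Fintype.card V - 1) * (p - 1) ≤ B.card * (W - 1) := by
    refine hdouble.trans (hsum.trans ?_)
    rw [show (F b0).card = W - 1 by omega]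
  have hEbound : Nat.card E ≤ (p - 1) * W ^ (p - 1) := by
    -- `W` is at least `(p + 1) ^ (p ^ (n - 1))`
    have hW2 : (p + 1) ^ p ^ (n - 1) ≤ W := by
      by_contra hlt
      push Not at hlt
      have hWb : (W - 1) * p ^ (2 * n + 1) < (p - 1) * (Fintype.card V - 1) := by
        set X := (p + 1) ^ p ^ (n - 1) with hX
        have hXV : X ^ p ≤ Fintype.card V := by
          rw [hX, ← pow_mul, ← pow_succ, Nat.sub_add_cancel (Nat.one_le_iff_ne_zero.2 hn1), hVcard]
          exact hbound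
        have hE' : p ^ (2 * n + 1) ≤ (p - 1) * X ^ (p - 1) := pow_le_mul_pow hp3 hn1
        have hgeo : (X - 1) * X ^ (p - 1) + 1 ≤ X ^ p := by
          have : X ^ p = X * X ^ (p - 1) := by
            rw [← pow_succ', Nat.sub_add_cancel hpp.one_le]
          rw [this, Nat.sub_mul, one_mul]
          have h1 : 1 ≤ X ^ (p - 1) := Nat.one_le_pow _ _ (by positivity)
          have h2 : X ^ (p - 1) ≤ X * X ^ (p - 1) := Nat.le_mul_of_pos_left _ (by positivity)
          omega
        calc (W - 1) * p ^ (2 * n + 1) < (X - 1) * p ^ (2 * n + 1) :=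
              Nat.mul_lt_mul_of_pos_right (by omega) (pow_pos hpp.pos _)
          _ ≤ (X - 1) * ((p - 1) * X ^ (p - 1)) := Nat.mul_le_mul_left _ hE'
          _ = (p - 1) * ((X - 1) * X ^ (p - 1)) := by ring
          _ ≤ (p - 1) * (Fintype.card V - 1) := Nat.mul_le_mul_left _ (by omega)
      have h6 : B.card * (W - 1) ≤ (W - 1) * p ^ (2 * n + 1) := by
        rw [mul_comm B.card]; exact Nat.mul_le_mul_left _ (hnE ▸ hB.le)
      rw [mul_comm (p - 1)] at hWb
      omega
    rw [hnE]
    refine (pow_le_mul_pow hp3 hn1).trans ?_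
    exact Nat.mul_le_mul_left _ (Nat.pow_le_pow_left hW2 _)
  rcases Nat.eq_or_lt_of_le hWpos with hW1 | hW1
  · rw [← hW1, Nat.sub_self, mul_zero] at h5
    have : 1 ≤ (Fintype.card V - 1) * (p - 1) := Nat.one_le_iff_ne_zero.2 (by
      simp only [ne_eq, mul_eq_zero, not_or]; omega)
    omega
  have h7 : B.card * (W - 1) < (p - 1) * W ^ (p - 1) * (W - 1) :=
    Nat.mul_lt_mul_of_pos_right (lt_of_lt_of_le hB hEbound) (by omega)
  have h8 : (p - 1) * W ^ (p - 1) * (W - 1) ≤ (p - 1) * (Fintype.card V - 1) := by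
    rw [mul_assoc]
    refine Nat.mul_le_mul_left _ ?_
    have h1 : W ^ p = W ^ (p - 1) * W := by rw [← pow_succ, Nat.sub_add_cancel hpp.one_le]
    have h2 : W ^ (p - 1) * (W - 1) + W ^ (p - 1) = W ^ p := by
      rw [h1, ← Nat.mul_succ, Nat.succ_eq_add_one, Nat.sub_add_cancel hWpos]
    have h3 : 1 ≤ W ^ (p - 1) := Nat.one_le_pow _ _ (by omega)
    omega
  rw [mul_comm (p - 1) (Fintype.card V - 1)] at h8
  omega

end Blocks

theorem avoid_aux {p : ℕ} [Fact p.Prime] (hp : p ≠ 2) :
    ∀ (N : ℕ) (H : Type u) [Group H] [Finite H] (V : Type v) [AddCommGroup V] [Finite V],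
      Nat.card V = N → ∀ (ρ : H →* AddMonoid.End V) (P : Subgroup H), P.Normal → IsPGroup p P →
        p.Coprime (Nat.card V) → ∀ a ∈ P, ρ a ≠ 1 → ∃ v : V, ∀ g : H, ρ (g * a * g⁻¹) v ≠ v := by
  intro N
  induction N using Nat.strong_induction_on with
  | _ N ih =>
  intro H _ _ V _ _ hN ρ P hPn hP hco a haP ha
  classical
  have hpp : p.Prime := Fact.out
  have IH : ∀ (H' : Type u) [Group H'], AvoidBelow p H' V := fun _ _ H' _ _ V' _ _ hlt =>
    ih _ (hN ▸ hlt) H' V' rfl
  haveI hVnt : Nontrivial V := by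
    by_contra h
    rw [not_nontrivial_iff_subsingleton] at h
    exact ha (AddMonoidHom.ext fun v => Subsingleton.elim _ _)
  by_cases hred : ∃ W : AddSubgroup V, (∀ h, ∀ v ∈ W, ρ h v ∈ W) ∧ W ≠ ⊥ ∧ W ≠ ⊤
  · obtain ⟨W, hW, hWb, hWt⟩ := hred
    have hWlt : Nat.card W < Nat.card V :=
      lt_of_le_of_ne (AddSubgroup.card_le_card_addGroup _) fun h => hWt (AddSubgroup.eq_top_of_card_eq _ h)
    let ρW : H →* AddMonoid.End W :=
      { toFun := fun h => AddMonoidHom.mk' (fun v => ⟨ρ h v, hW h v v.2⟩)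
          (fun x y => Subtype.ext (map_add _ _ _))
        map_one' := AddMonoidHom.ext fun v => Subtype.ext (act_one ρ v)
        map_mul' := fun x y => AddMonoidHom.ext fun v => Subtype.ext (act_comp ρ x y v) }
    by_cases haW : ρW a = 1
    swap
    · obtain ⟨v, hv⟩ := IH H H W hWlt ρW P hPn hP
        (hco.coprime_dvd_right (AddSubgroup.card_addSubgroup_dvd_card _)) a haP haW
      exact ⟨(v : V), fun g h => hv g (Subtype.ext h)⟩
    let ρQ : H →* AddMonoid.End (V ⧸ W) :=
      { toFun := fun h => QuotientAddGroup.map W W (ρ h) (fun v hv => hW h v hv)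
        map_one' := AddMonoidHom.ext fun v => by
          obtain ⟨v, rfl⟩ := QuotientAddGroup.mk_surjective v
          exact congrArg QuotientAddGroup.mk (act_one ρ v)
        map_mul' := fun x y => AddMonoidHom.ext fun v => by
          obtain ⟨v, rfl⟩ := QuotientAddGroup.mk_surjective v
          exact congrArg QuotientAddGroup.mk (act_comp ρ x y v) }
    have hQlt : Nat.card (V ⧸ W) < Nat.card V := by
      rw [W.card_eq_card_quotient_mul_card_addSubgroup]
      have h1 : 1 < Nat.card W := by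
        haveI := (AddSubgroup.nontrivial_iff_ne_bot W).2 hWb
        exact Finite.one_lt_card
      exact lt_mul_of_one_lt_right Nat.card_pos h1
    have haQ : ρQ a ≠ 1 := by
      intro haQ
      apply ha
      refine AddMonoidHom.ext fun v => ?_
      have hw : ρ a v - v ∈ W := by
        rw [← QuotientAddGroup.eq_zero_iff, QuotientAddGroup.mk_sub, sub_eq_zero]
        exact DFunLike.congr_fun haQ (v : V ⧸ W)
      set w := ρ a v - v with hwdef
      have hpow : ∀ i : ℕ, ρ (a ^ i) v = v + i • w := by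
        intro i
        induction i with
        | zero => rw [pow_zero, act_one, zero_nsmul, add_zero]
        | succ i ih =>
          have hfixw : ρ a w = w :=
            congrArg Subtype.val (DFunLike.congr_fun haW (⟨w, hw⟩ : W))
          rw [pow_succ', act_comp, ih, map_add, map_nsmul, hfixw, succ_nsmul,
            show ρ a v = v + w by rw [hwdef, add_sub_cancel]]
          abel
      obtain ⟨k, hk⟩ := IsPGroup.iff_orderOf.1 hP ⟨a, haP⟩
      rw [Subgroup.orderOf_mk] at hk
      have := hpow (p ^ k)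
      rw [← hk, pow_orderOf_eq_one, act_one, hk, left_eq_add] at this
      have hw0 := eq_zero_of_nsmul (hco.pow_left k) this
      exact sub_eq_zero.1 hw0
    obtain ⟨v, hv⟩ := IH H H (V ⧸ W) hQlt ρQ P hPn hP
      (hco.coprime_dvd_right W.card_quotient_dvd_card) a haP haQ
    obtain ⟨v, rfl⟩ := QuotientAddGroup.mk_surjective v
    exact ⟨v, fun g h => hv g (congrArg QuotientAddGroup.mk h)⟩
  push Not at hred
  have hirr : ∀ W : AddSubgroup V, (∀ h, ∀ v ∈ W, ρ h v ∈ W) → W = ⊥ ∨ W = ⊤ := fun W hW => by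
    rcases eq_or_ne W ⊥ with h | h
    · exact Or.inl h
    · exact Or.inr (hred W hW h)
  -- pass to a faithful action
  let ρu : H →* (AddMonoid.End V)ˣ := ρ.toHomUnits
  let ρ' : H ⧸ ρu.ker →* AddMonoid.End V := (Units.coeHom _).comp (QuotientGroup.kerLift ρu)
  have hinj : Function.Injective ρ' := Units.val_injective.comp (QuotientGroup.kerLift_injective ρu)
  set P' := P.map (QuotientGroup.mk' ρu.ker) with hP'
  have hP'n : P'.Normal := hPn.map _ (QuotientGroup.mk'_surjective _)
  have hP'p : IsPGroup p P' := hP.map _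
  obtain ⟨k, hk⟩ := IsPGroup.iff_orderOf.1 hP'p ⟨QuotientGroup.mk' ρu.ker a, Subgroup.mem_map_of_mem _ haP⟩
  rw [Subgroup.orderOf_mk] at hk
  have hk0 : k ≠ 0 := by
    rintro rfl
    apply ha
    have h1 : QuotientGroup.mk' ρu.ker a = 1 := orderOf_eq_one_iff.1 (by simpa using hk)
    exact congrArg Units.val (MonoidHom.mem_ker.1 ((QuotientGroup.eq_one_iff a).1 h1))
  set a' := (QuotientGroup.mk' ρu.ker a) ^ p ^ (k - 1) with ha'
  have ha'o : orderOf a' = p := by
    rw [ha', orderOf_pow_of_dvd (pow_ne_zero _ hpp.ne_zero) (hk ▸ pow_dvd_pow p (Nat.sub_le k 1)), hk,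
      Nat.pow_div (Nat.sub_le k 1) hpp.pos, show k - (k - 1) = 1 by omega, pow_one]
  have ha'P : a' ∈ P' := pow_mem (Subgroup.mem_map_of_mem _ haP) _
  have ha'1 : a' ≠ 1 := fun h => by rw [h, orderOf_one] at ha'o; exact hpp.ne_one ha'o.symm
  have hirr' : ∀ W : AddSubgroup V, (∀ h, ∀ v ∈ W, ρ' h v ∈ W) → W = ⊥ ∨ W = ⊤ :=
    fun W hW => hirr W fun h => hW (QuotientGroup.mk h)
  have key : ∃ v : V, ∀ g : H ⧸ ρu.ker, ρ' (g * a' * g⁻¹) v ≠ v := by
    by_cases hE : ∃ E : Subgroup (H ⧸ ρu.ker), E.Normal ∧ E ≤ P' ∧ (∀ x ∈ E, ∀ y ∈ E, x * y = y * x) ∧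
        (∀ x ∈ E, x ^ p = 1) ∧ p < Nat.card E
    · obtain ⟨E, hEn, hEP, hEc, hEe, hEb⟩ := hE
      exact avoid_of_elementary ρ' hp (IH _) hco hinj hirr' P' hP'n hP'p ha'P ha'1 E hEn hEP hEc hEe hEb
    · push Not at hE
      exact avoid_of_cyclic_abelian ρ' hp hco hinj hirr' P' hP'n hP'p ha'P ha'1
        (by rw [← ha'o]; exact pow_orderOf_eq_one a') hE
  obtain ⟨v, hv⟩ := key
  refine ⟨v, fun g hg => hv (QuotientGroup.mk g) ?_⟩
  rw [ha', QuotientGroup.mk'_apply, ← conj_pow, ← QuotientGroup.mk_mul, ← QuotientGroup.mk_inv,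
    ← QuotientGroup.mk_mul]
  exact act_pow_of_fixed ρ' (show ρ' (QuotientGroup.mk (g * a * g⁻¹)) v = v from hg) _

/-- Odd `p`: some vector is fixed by no conjugate of `a`. -/
theorem exists_avoid_fixed {p : ℕ} [Fact p.Prime] (hp : p ≠ 2) {H : Type u} [Group H] [Finite H]
    {V : Type v} [AddCommGroup V] [Finite V] (ρ : H →* AddMonoid.End V) (P : Subgroup H)
    (hPn : P.Normal) (hP : IsPGroup p P) (hco : p.Coprime (Nat.card V)) {a : H} (haP : a ∈ P)
    (ha : ρ a ≠ 1) : ∃ v : V, ∀ g : H, ρ (g * a * g⁻¹) v ≠ v :=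
  avoid_aux hp _ H V rfl ρ P hPn hP hco a haP ha

end CfsgLib.Invol
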