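import Cfsg.Agent.Lib.Comp.Bender
import Cfsg.Agent.Lib.OddLocal.FittingHall
import Cfsg.Agent.Lib.Transfer.Basic

/-!
Bender's lemma on `p`-cores of subgroups containing a self-centralising subnormal subgroup of
`F*` of a maximal subgroup.
-/

set_option autoImplicit false
set_option linter.unusedSectionVars false
set_option linter.style.haveILetI false

namespace CfsgLib.Invol

open Subgroup
open scoped commutatorElement

variable {G : Type*} [Group G] [Finite G] {p : ℕ} [Fact p.Prime]

/-- `g ∈ H` commutes with `x` as soon as `x` commutes with all `p'`-elements of a perfect `H`. -/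
theorem mem_centralizer_of_perfect {H : Subgroup G} (hH : ⁅H, H⁆ = H) {x : G}
    (h : ∀ s ∈ H, (orderOf s).Coprime p → Commute x s) : x ∈ centralizer (H : Set G) := by
  haveI := CfsgLib.Transfer.pResidual_normal (p := p) (G := H)
  have hq : IsPGroup p (↥H ⧸ Cfsg.pResidual p H) :=
    CfsgLib.Transfer.isPGroup_quotient_of_pResidual_le le_rfl
  haveI : Group.IsNilpotent (↥H ⧸ Cfsg.pResidual p H) := hq.isNilpotent
  have htop : Cfsg.pResidual p H = ⊤ := by
    have h1 : ∀ n, (⊤ : Subgroup (↥H ⧸ Cfsg.pResidual p H)).lowerCentralSeries n = ⊤ := by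
      intro n
      induction n with
      | zero => rfl
      | succ n ihn =>
        change ⁅(⊤ : Subgroup (↥H ⧸ Cfsg.pResidual p H)).lowerCentralSeries n, ⊤⁆ = ⊤
        rw [ihn, ← map_top_of_surjective (QuotientGroup.mk' (Cfsg.pResidual p H))
          (QuotientGroup.mk'_surjective _), ← Subgroup.map_commutator]
        congr 1
        apply map_injective H.subtype_injective
        rw [Subgroup.map_commutator, ← MonoidHom.range_eq_map, range_subtype, hH]
    obtain ⟨n, hn⟩ := (isNilpotent_iff_lowerCentralSeries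
      (⊤ : Subgroup (↥H ⧸ Cfsg.pResidual p H))).1
        (Group.isNilpotent_congr Subgroup.topEquiv.symm |>.1 inferInstance)
    rw [h1] at hn
    rw [eq_top_iff]
    intro a _
    rw [← QuotientGroup.eq_one_iff, ← Subgroup.mem_bot, ← hn]
    exact mem_top _
  rw [mem_centralizer_iff]
  intro g hg
  have hmem : (⟨g, hg⟩ : H) ∈ (centralizer ({x} : Set G)).comap H.subtype := by
    have hle : Cfsg.pResidual p H ≤ (centralizer ({x} : Set G)).comap H.subtype := by
      rw [Cfsg.pResidual, closure_le]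
      intro a ha
      show (a : G) ∈ centralizer ({x} : Set G)
      rw [mem_centralizer_singleton_iff]
      exact (h a a.2 (by rw [orderOf_coe]; exact ha)).eq.symm
    rw [htop] at hle
    exact hle (mem_top _)
  exact mem_centralizer_singleton_iff.1 hmem

/-- Hypothesis: `S` is subnormal, inside `F*`, and self-centralising in `F*`. -/
structure SelfCentSub (S : Subgroup G) : Prop where
  le : S ≤ Cfsg.generalizedFittingSubgroup G
  sn : S.IsSubnormal
  self : Cfsg.generalizedFittingSubgroup G ⊓ centralizer (S : Set G) ≤ S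

namespace SelfCentSub

variable {S : Subgroup G} (hS : SelfCentSub S)
include hS

theorem component_le {L : Subgroup G} (hL : Cfsg.IsComponent L) : L ≤ S := by
  rcases CfsgLib.Comp.component_le_or_le_centralizer hL hS.sn with h | h
  · exact h
  · exact (le_inf ((CfsgLib.Comp.le_layer hL).trans (CfsgLib.Comp.layer_le_generalizedFitting G)) h).trans
      hS.self

theorem inf_centralizer_pCore {r : ℕ} [Fact r.Prime] {c : G} (hc : c ∈ Cfsg.pCore r G)
    (hD : ∀ d ∈ S ⊓ Cfsg.pCore r G, Commute c d) : c ∈ S := by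
  have hcF : c ∈ Cfsg.fittingSubgroup G := CfsgLib.Solvable.pCore_le_fittingSubgroup r hc
  refine hS.self ⟨CfsgLib.Comp.fittingSubgroup_le_generalizedFitting G hcF, ?_⟩
  have hlayer : ∀ L : Subgroup G, Cfsg.IsComponent L → L ≤ centralizer ({c} : Set G) := fun L hL l hl => by
    rw [mem_centralizer_singleton_iff]
    exact mem_centralizer_iff.1
      (CfsgLib.Comp.fittingSubgroup_le_centralizer_layer G hcF) l (CfsgLib.Comp.le_layer hL hl)
  suffices hle : S ≤ centralizer ({c} : Set G) by
    show c ∈ centralizer (S : Set G)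
    rw [mem_centralizer_iff]
    exact fun s hs => mem_centralizer_singleton_iff.1 (hle hs)
  refine (CfsgLib.Comp.le_fitting_inf_sup_components hS.sn hS.le).trans (sup_le ?_ ?_)
  · rintro f ⟨hfF, hfS⟩
    rw [mem_centralizer_singleton_iff]
    haveI := CfsgLib.Comp.isNilpotent_fittingSubgroup G
    set n := orderOf f with hn
    obtain ⟨a, m, hm, hnm⟩ := Nat.exists_eq_pow_mul_and_not_dvd (n := n)
      (orderOf_pos f).ne' r (Fact.out : r.Prime).ne_one
    have hcop : (r ^ a).Coprime m :=
      Nat.Coprime.pow_left _ ((Fact.out : r.Prime).coprime_iff_not_dvd.2 hm)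
    have hb := Nat.gcd_eq_gcd_ab (r ^ a) m
    rw [hcop.gcd_eq_one, Nat.cast_one] at hb
    have hr : Commute c (f ^ m) := by
      refine hD _ ⟨pow_mem hfS _, ?_⟩
      have hp : IsPGroup r (zpowers (f ^ m)) := by
        refine IsPGroup.of_card (n := a) ?_
        rw [Nat.card_zpowers, orderOf_pow, ← hn, hnm, Nat.gcd_mul_left_left,
          Nat.mul_div_cancel _ (Nat.pos_of_ne_zero fun e => by simp [e] at hm)]
      have hle : zpowers (f ^ m) ≤ Cfsg.fittingSubgroup G := zpowers_le.2 (pow_mem hfF _)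
      have hsn : (zpowers (f ^ m)).IsSubnormal := Subgroup.IsSubnormal.trans hle
        (CfsgLib.Solvable.isSubnormal_of_isNilpotent _)
        (CfsgLib.Comp.fittingSubgroup_normal G).isSubnormal
      exact CfsgLib.Comp.le_pCore_of_isSubnormal hsn hp (mem_zpowers _)
    have hr' : Commute c (f ^ (r ^ a)) := by
      have hc' : (⟨c, hcF⟩ : Cfsg.fittingSubgroup G) *
          ⟨f ^ (r ^ a), pow_mem hfF _⟩ = ⟨f ^ (r ^ a), pow_mem hfF _⟩ * ⟨c, hcF⟩ := by
        refine CfsgLib.OddLocal.commute_of_coprime_of_isNilpotent inferInstance ?_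
        rw [Subgroup.orderOf_mk, Subgroup.orderOf_mk, orderOf_pow, ← hn, hnm,
          Nat.gcd_mul_right_left, Nat.mul_div_cancel_left _ (pow_pos (Fact.out : r.Prime).pos a)]
        obtain ⟨k, hk⟩ := (Cfsg.pCore_normal r G |> fun _ =>
          CfsgLib.Comp.isPGroup_pCore r G) ⟨c, hc⟩
        refine Nat.Coprime.coprime_dvd_left (orderOf_dvd_of_pow_eq_one (n := r ^ k) ?_)
          (Nat.Coprime.pow_left _ ((Fact.out : r.Prime).coprime_iff_not_dvd.2 hm))
        exact congrArg Subtype.val hk
      exact congrArg Subtype.val hc'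
    have hsplit : f = (f ^ (r ^ a)) ^ (Nat.gcdA (r ^ a) m) * (f ^ m) ^ (Nat.gcdB (r ^ a) m) := by
      rw [← zpow_natCast, ← zpow_natCast f m, ← zpow_mul, ← zpow_mul, ← zpow_add, ← hb, zpow_one]
    have : Commute c f := by
      rw [hsplit]; exact (hr'.zpow_right _).mul_right (hr.zpow_right _)
    exact this.eq.symm
  · exact sSup_le fun L hL => hlayer L hL.1

/-- A `p`-element centralising the `p'`-elements of `S` centralises `O_r(G)` for `r ≠ p`. -/
theorem commute_pCore {r : ℕ} [Fact r.Prime] (hr : r ≠ p) {x : G} (hx : ∃ k : ℕ, x ^ p ^ k = 1)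
    (hfix : ∀ s ∈ S, (orderOf s).Coprime p → Commute x s) :
    ∀ y ∈ Cfsg.pCore r G, Commute x y := by
  set Q := Cfsg.pCore r G with hQ
  haveI hQn : Q.Normal := Cfsg.pCore_normal r G
  haveI : Group.IsNilpotent Q := (CfsgLib.Comp.isPGroup_pCore r G).isNilpotent
  have hordQ : ∀ y ∈ Q, ∃ k : ℕ, y ^ r ^ k = 1 := fun y hy => by
    obtain ⟨k, hk⟩ := CfsgLib.Comp.isPGroup_pCore r G ⟨y, hy⟩
    exact ⟨k, congrArg Subtype.val hk⟩
  have hrp : r.Coprime p := (Nat.coprime_primes (Fact.out : r.Prime) (Fact.out : p.Prime)).2 hr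
  have hD : ∀ d ∈ S ⊓ Q, Commute x d := fun d hd => by
    obtain ⟨k, hk⟩ := hordQ d hd.2
    exact hfix d hd.1 (Nat.Coprime.coprime_dvd_left (orderOf_dvd_of_pow_eq_one hk) (hrp.pow_left _))
  -- climb
  have key : ∀ T : Subgroup G, S ⊓ Q ≤ T → T ≤ Q → (∀ t ∈ T, Commute x t) →
      ∀ y ∈ Q, Commute x y := by
    intro T
    induction T using WellFoundedGT.induction with
    | ind T ih =>
      intro hDT hTQ hxT
      rcases eq_or_lt_of_le hTQ with e | hlt
      · exact e ▸ hxT
      set T' := Q ⊓ normalizer (T : Set G) with hT'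
      have hTT' : T ≤ T' := le_inf hTQ le_normalizer
      have hne : T ≠ T' := by
        intro e
        have h := normalizerCondition_of_isNilpotent (T.subgroupOf Q)
          (lt_of_le_of_ne le_top fun e => hlt.not_ge (subgroupOf_eq_top.1 e))
        refine h.not_ge fun g hg => ?_
        rw [mem_subgroupOf, e]
        refine ⟨g.2, ?_⟩
        rw [← map_subgroupOf_eq_of_le hTQ]
        exact le_normalizer_map Q.subtype (mem_map_of_mem _ hg)
      refine ih T' (lt_of_le_of_ne hTT' hne) (hDT.trans hTT') inf_le_left ?_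
      rintro u ⟨huQ, huT⟩
      set c := u⁻¹ * (x * u * x⁻¹) with hc
      have hcQ : c ∈ Q := mul_mem (inv_mem huQ) (hQn.conj_mem u huQ x)
      have hcT : ∀ t ∈ T, Commute c t := by
        intro t ht
        have h1 : Commute x (u * t * u⁻¹) := hxT _ ((mem_normalizer_iff.1 huT t).1 ht)
        have hxinv : x⁻¹ * t = t * x⁻¹ := (hxT t ht).inv_left.eq
        calc c * t = u⁻¹ * x * u * (x⁻¹ * t) := by rw [hc]; group
          _ = u⁻¹ * (x * (u * t * u⁻¹)) * u * x⁻¹ := by rw [hxinv]; group
          _ = u⁻¹ * ((u * t * u⁻¹) * x) * u * x⁻¹ := by rw [h1.eq]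
          _ = t * c := by rw [hc]; group
      have hcS : c ∈ S := hS.inf_centralizer_pCore hcQ fun d hd => hcT d (hDT hd)
      have hxc : Commute x c := hD c ⟨hcS, hcQ⟩
      have hpow : ∀ n : ℕ, x ^ n * u * (x ^ n)⁻¹ = u * c ^ n := by
        intro n
        induction n with
        | zero => simp
        | succ n ihn =>
          have hcx : x * c ^ n * x⁻¹ = c ^ n := by
            rw [(hxc.pow_right n).eq, mul_inv_cancel_right]
          calc x ^ (n + 1) * u * (x ^ (n + 1))⁻¹ = x * (x ^ n * u * (x ^ n)⁻¹) * x⁻¹ := by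
                rw [pow_succ']; group
            _ = (x * u * x⁻¹) * (x * c ^ n * x⁻¹) := by rw [ihn]; group
            _ = u * c * c ^ n := by rw [hcx, hc]; group
            _ = u * c ^ (n + 1) := by rw [pow_succ', mul_assoc]
      obtain ⟨k, hk⟩ := hx
      have h1 := hpow (p ^ k)
      rw [hk, one_mul, inv_one, mul_one] at h1
      have hc1 : c ^ p ^ k = 1 := (mul_left_cancel (a := u) (by rw [mul_one]; exact h1)).symm
      obtain ⟨l, hl⟩ := hordQ c hcQ
      have hc0 : c = 1 := orderOf_eq_one_iff.1 (Nat.eq_one_of_dvd_coprimes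
        (Nat.Coprime.pow l k hrp) (orderOf_dvd_of_pow_eq_one hl)
        (orderOf_dvd_of_pow_eq_one hc1))
      rw [hc, inv_mul_eq_one] at hc0
      exact (eq_mul_inv_iff_mul_eq.1 hc0).symm
  exact key (S ⊓ Q) le_rfl inf_le_right hD

theorem mem_centralizer_component {x : G}
    (hfix : ∀ s ∈ S, (orderOf s).Coprime p → Commute x s) {L : Subgroup G}
    (hL : Cfsg.IsComponent L) : x ∈ centralizer (L : Set G) :=
  mem_centralizer_of_perfect (CfsgLib.Comp.commutator_self_of_isComponent hL)
    fun s hs hc => hfix s (hS.component_le hL hs) hc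

/-- A `p`-element centralising the `p'`-elements of `S` centralises those of `F*(G)`. -/
theorem commute_residual {x : G} (hx : ∃ k : ℕ, x ^ p ^ k = 1)
    (hfix : ∀ s ∈ S, (orderOf s).Coprime p → Commute x s) {y : G}
    (hy : y ∈ Cfsg.generalizedFittingSubgroup G) (hyp : (orderOf y).Coprime p) : Commute x y := by
  set M := Cfsg.layer G ⊔ ⨆ r : {r : Nat.Primes // (r : ℕ) ≠ p}, Cfsg.pCore (r.1 : ℕ) G with hM
  have hMn : M.Normal := by
    haveI := CfsgLib.Comp.layer_normal G
    haveI : (⨆ r : {r : Nat.Primes // (r : ℕ) ≠ p}, Cfsg.pCore (r.1 : ℕ) G).Normal :=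
      (by haveI := fun r : {r : Nat.Primes // (r : ℕ) ≠ p} => Cfsg.pCore_normal (r.1 : ℕ) G; exact Subgroup.iSup_normal _)
    exact Subgroup.sup_normal _ _
  haveI := hMn
  have hMx : M ≤ centralizer ({x} : Set G) := by
    refine sup_le (sSup_le fun L hL l hl => ?_) (iSup_le fun r l hl => ?_)
    · rw [mem_centralizer_singleton_iff]
      exact mem_centralizer_iff.1 (hS.mem_centralizer_component hfix hL) l hl
    · haveI : Fact (r.1 : ℕ).Prime := ⟨r.1.2⟩
      rw [mem_centralizer_singleton_iff]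
      exact (hS.commute_pCore r.2 hx hfix l hl).eq.symm
  have hym : y ∈ M := by
    have hFR : Cfsg.generalizedFittingSubgroup G ≤ M ⊔ Cfsg.pCore p G := by
      refine sup_le (le_sup_left.trans le_sup_left) ?_
      rw [CfsgLib.Solvable.fittingSubgroup_eq_iSup_pCore]
      refine iSup_le fun r => ?_
      by_cases hr : (r : ℕ) = p
      · rw [hr]; exact le_sup_right
      · exact (le_iSup (fun r : {r : Nat.Primes // (r : ℕ) ≠ p} => Cfsg.pCore (r.1 : ℕ) G) ⟨r, hr⟩).trans
          (le_sup_right.trans le_sup_left)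
    have himg : (QuotientGroup.mk' M) y ∈ (Cfsg.pCore p G).map (QuotientGroup.mk' M) := by
      have h := mem_map_of_mem (QuotientGroup.mk' M) (hFR hy)
      rwa [Subgroup.map_sup, QuotientGroup.map_mk'_self, bot_sup_eq] at h
    obtain ⟨k, hk⟩ := (CfsgLib.Comp.isPGroup_pCore p G).map (QuotientGroup.mk' M) ⟨_, himg⟩
    have h1 : orderOf ((QuotientGroup.mk' M) y) ∣ p ^ k :=
      orderOf_dvd_of_pow_eq_one (congrArg Subtype.val hk)
    have h2 := orderOf_map_dvd (QuotientGroup.mk' M) y
    rw [← QuotientGroup.eq_one_iff]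
    exact orderOf_eq_one_iff.1 (Nat.eq_one_of_dvd_coprimes (hyp.pow_right k) h2 h1)
  exact (mem_centralizer_singleton_iff.1 (hMx hym)).symm

/-- A `p`-element of `F*(G)` centralising the `p'`-elements of `S` lies in `O_p(G)`. -/
theorem mem_pCore {x : G} (hx : ∃ k : ℕ, x ^ p ^ k = 1)
    (hfix : ∀ s ∈ S, (orderOf s).Coprime p → Commute x s)
    (hxF : x ∈ Cfsg.generalizedFittingSubgroup G) : x ∈ Cfsg.pCore p G := by
  haveI := CfsgLib.Comp.layer_normal G
  obtain ⟨e, he, f, hf, rfl⟩ := CfsgLib.Comp.exists_mul_of_mem_sup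
    (CfsgLib.Comp.le_normalizer_of_normal' (Cfsg.layer G) (Cfsg.fittingSubgroup G)) hxF
  have hef : e * f ∈ Cfsg.fittingSubgroup G := by
    refine mul_mem ?_ hf
    have : e ∈ Cfsg.layer G ⊓ centralizer (Cfsg.layer G : Set G) := by
      refine ⟨he, ?_⟩
      have hc : zpowers (e * f) ≤ centralizer (Cfsg.layer G : Set G) :=
        CfsgLib.Comp.le_centralizer_sSup fun L hL =>
          zpowers_le.2 (hS.mem_centralizer_component hfix hL)
      have h2 := mul_mem (hc (mem_zpowers _))
        (inv_mem (CfsgLib.Comp.fittingSubgroup_le_centralizer_layer G hf))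
      rwa [mul_inv_cancel_right] at h2
    rw [← CfsgLib.Comp.fittingSubgroup_inf_layer] at this
    exact this.1
  obtain ⟨k, hk⟩ := hx
  haveI := CfsgLib.Comp.isNilpotent_fittingSubgroup G
  have hsn : (zpowers (e * f)).IsSubnormal := Subgroup.IsSubnormal.trans (zpowers_le.2 hef)
    (CfsgLib.Solvable.isSubnormal_of_isNilpotent _)
    (CfsgLib.Comp.fittingSubgroup_normal G).isSubnormal
  have hp : IsPGroup p (zpowers (e * f)) := by
    obtain ⟨i, -, hi⟩ := (Nat.dvd_prime_pow (Fact.out : p.Prime)).1 (orderOf_dvd_of_pow_eq_one hk)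
    exact IsPGroup.of_card (n := i) (by rw [Nat.card_zpowers, hi])
  exact CfsgLib.Comp.le_pCore_of_isSubnormal hsn hp (mem_zpowers _)

omit hS in
theorem commute_of_comm_mem {x s : G} (hs : (orderOf s).Coprime p)
    (hc : ⁅s, x⁆ ∈ Cfsg.pCore p G) (hcs : Commute s ⁅s, x⁆) : Commute x s := by
  obtain ⟨k, hk⟩ := CfsgLib.Comp.isPGroup_pCore p G ⟨_, hc⟩
  have hk' : ⁅s, x⁆ ^ p ^ k = 1 := congrArg Subtype.val hk
  have e : x * s⁻¹ * x⁻¹ = s⁻¹ * ⁅s, x⁆ := by rw [commutatorElement_def]; group
  have h1 : ⁅s, x⁆ ^ orderOf s = 1 := by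
    have h2 : (x * s⁻¹ * x⁻¹) ^ orderOf s = 1 := by
      rw [conj_pow, inv_pow, pow_orderOf_eq_one, inv_one, mul_one, mul_inv_cancel]
    rw [e, hcs.inv_left.mul_pow, inv_pow, pow_orderOf_eq_one, inv_one, one_mul] at h2
    exact h2
  have h3 : ⁅s, x⁆ = 1 := orderOf_eq_one_iff.1 (Nat.eq_one_of_dvd_coprimes
    (hs.pow_right k) (orderOf_dvd_of_pow_eq_one h1) (orderOf_dvd_of_pow_eq_one hk'))
  exact (commutatorElement_eq_one_iff_commute.1 h3).symm

theorem pCore_commute_residual {s c : G} (hs : s ∈ Cfsg.generalizedFittingSubgroup G)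
    (hsp : (orderOf s).Coprime p) (hc : c ∈ Cfsg.pCore p G) : Commute s c := by
  refine (hS.commute_residual (x := c) ?_ (fun t ht htp => ?_) hs hsp).symm
  · obtain ⟨k, hk⟩ := CfsgLib.Comp.isPGroup_pCore p G ⟨c, hc⟩
    exact ⟨k, congrArg Subtype.val hk⟩
  · have hF := CfsgLib.Solvable.pCore_le_fittingSubgroup p hc
    have hle : Cfsg.generalizedFittingSubgroup G ≤
        (Cfsg.layer G ⊔ ⨆ r : {r : Nat.Primes // (r : ℕ) ≠ p}, Cfsg.pCore (r.1 : ℕ) G) ⊔
          Cfsg.pCore p G := by
      refine sup_le (le_sup_left.trans le_sup_left) ?_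
      rw [CfsgLib.Solvable.fittingSubgroup_eq_iSup_pCore]
      refine iSup_le fun r => ?_
      by_cases hr : (r : ℕ) = p
      · rw [hr]; exact le_sup_right
      · exact (le_iSup (fun r : {r : Nat.Primes // (r : ℕ) ≠ p} => Cfsg.pCore (r.1 : ℕ) G) ⟨r, hr⟩).trans
          (le_sup_right.trans le_sup_left)
    set M := Cfsg.layer G ⊔ ⨆ r : {r : Nat.Primes // (r : ℕ) ≠ p}, Cfsg.pCore (r.1 : ℕ) G with hM
    haveI : M.Normal := by
      haveI := CfsgLib.Comp.layer_normal G
      haveI : (⨆ r : {r : Nat.Primes // (r : ℕ) ≠ p}, Cfsg.pCore (r.1 : ℕ) G).Normal :=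
        (by haveI := fun r : {r : Nat.Primes // (r : ℕ) ≠ p} => Cfsg.pCore_normal (r.1 : ℕ) G; exact Subgroup.iSup_normal _)
      exact Subgroup.sup_normal _ _
    have hMc : M ≤ centralizer ({c} : Set G) := by
      refine sup_le (fun l hl => ?_) (iSup_le fun r l hl => ?_)
      · rw [mem_centralizer_singleton_iff]
        exact mem_centralizer_iff.1 (CfsgLib.Comp.fittingSubgroup_le_centralizer_layer G hF) l hl
      · haveI : Fact (r.1 : ℕ).Prime := ⟨r.1.2⟩
        rw [mem_centralizer_singleton_iff]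
        haveI := Cfsg.pCore_normal p G
        haveI := Cfsg.pCore_normal (r.1 : ℕ) G
        exact mem_centralizer_iff.1 (le_centralizer_iff.1
          (CfsgLib.Comp.radP_le_centralizer r.2 (CfsgLib.Comp.isPGroup_pCore _ G)
            (CfsgLib.Comp.isPGroup_pCore p G) (CfsgLib.Comp.le_normalizer_of_normal' _ _)
            (CfsgLib.Comp.le_normalizer_of_normal' _ _)) hc) l hl
    have himg : (QuotientGroup.mk' M) t ∈ (Cfsg.pCore p G).map (QuotientGroup.mk' M) := by
      have h := mem_map_of_mem (QuotientGroup.mk' M) (hle (hS.le ht))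
      rwa [Subgroup.map_sup, QuotientGroup.map_mk'_self, bot_sup_eq] at h
    obtain ⟨k, hk⟩ := (CfsgLib.Comp.isPGroup_pCore p G).map (QuotientGroup.mk' M) ⟨_, himg⟩
    have htM : t ∈ M := by
      rw [← QuotientGroup.eq_one_iff]
      exact orderOf_eq_one_iff.1 (Nat.eq_one_of_dvd_coprimes (htp.pow_right k)
        (orderOf_map_dvd (QuotientGroup.mk' M) t) (orderOf_dvd_of_pow_eq_one (congrArg Subtype.val hk)))
    exact (mem_centralizer_singleton_iff.1 (hMc htM)).symm

/-- A `p`-subgroup of `F*(G)` normalised by `S` lies in `O_p(G)`. -/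
theorem le_pCore_of_normalized : ∀ Z : Subgroup G, IsPGroup p Z →
    Z ≤ Cfsg.generalizedFittingSubgroup G → S ≤ normalizer (Z : Set G) → Z ≤ Cfsg.pCore p G := by
  intro Z
  induction Z using WellFoundedLT.induction with
  | ind Z ih =>
    intro hZp hZF hn
    by_cases hZS : Z ≤ S
    · exact CfsgLib.Comp.le_pCore_of_isSubnormal (Subgroup.IsSubnormal.trans hZS
        (CfsgLib.Comp.subgroupOf_isSubnormal_of_le_normalizer hn) hS.sn) hZp
    have hlt : S < S ⊔ Z :=
      lt_of_le_of_ne le_sup_left fun e => hZS (e ▸ le_sup_right)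
    obtain ⟨N, hSN, hNlt, hNn⟩ := CfsgLib.Comp.exists_lt_le_normalizer (M := S ⊔ Z)
      hS.sn.subgroupOf hlt
    have hlt' : Z ⊓ N < Z := lt_of_le_of_ne inf_le_left fun e =>
      hNlt.not_ge (sup_le hSN (e ▸ inf_le_right))
    have hsmall : Z ⊓ N ≤ Cfsg.pCore p G := ih _ hlt' hZp.to_inf_left (inf_le_left.trans hZF)
      (CfsgLib.Comp.le_normalizer_inf hn (hSN.trans le_normalizer))
    intro z hz
    refine hS.mem_pCore ?_ (fun s hs hsp => ?_) (hZF hz)
    · obtain ⟨k, hk⟩ := hZp ⟨z, hz⟩
      exact ⟨k, congrArg Subtype.val hk⟩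
    · have hc : ⁅s, z⁆ ∈ Cfsg.pCore p G := by
        refine hsmall ⟨?_, ?_⟩
        · rw [commutatorElement_def]
          exact mul_mem (show _ ∈ Z from (mem_normalizer_iff.1 (hn hs) z).1 hz)
            (show _ ∈ Z from inv_mem hz)
        · rw [commutatorElement_def]
          have := (mem_normalizer_iff.1 (hNn (mem_sup_right hz)) s⁻¹).1 (inv_mem (show s ∈ N from hSN hs))
          rw [mul_assoc s z, mul_assoc]
          exact mul_mem (hSN hs) (by simpa [mul_assoc] using this)
      exact commute_of_comm_mem hsp hc (hS.pCore_commute_residual (hS.le hs) hsp hc)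

/-- A `p`-element of a `p`-subgroup normalised by `S` centralises the `p'`-elements of `F*(G)`. -/
theorem normalized_commute {Z : Subgroup G} (hZ : IsPGroup p Z) (hn : S ≤ normalizer (Z : Set G))
    {z y : G} (hz : z ∈ Z) (hy : y ∈ Cfsg.generalizedFittingSubgroup G)
    (hyp : (orderOf y).Coprime p) : Commute z y := by
  haveI := CfsgLib.Comp.generalizedFittingSubgroup_normal G
  have hsmall : Z ⊓ Cfsg.generalizedFittingSubgroup G ≤ Cfsg.pCore p G :=
    hS.le_pCore_of_normalized _ hZ.to_inf_left inf_le_right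
      (CfsgLib.Comp.le_normalizer_inf hn (CfsgLib.Comp.le_normalizer_of_normal' _ _))
  refine hS.commute_residual ?_ (fun s hs hsp => ?_) hy hyp
  · obtain ⟨k, hk⟩ := hZ ⟨z, hz⟩
    exact ⟨k, congrArg Subtype.val hk⟩
  · have hc : ⁅s, z⁆ ∈ Cfsg.pCore p G := by
      refine hsmall ⟨?_, ?_⟩
      · rw [commutatorElement_def]
        exact mul_mem (show _ ∈ Z from (mem_normalizer_iff.1 (hn hs) z).1 hz)
            (show _ ∈ Z from inv_mem hz)
      · rw [commutatorElement_def, mul_assoc s z, mul_assoc]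
        exact mul_mem (hS.le hs)
          ((CfsgLib.Comp.generalizedFittingSubgroup_normal G).conj_mem _
            (inv_mem (show s ∈ Cfsg.generalizedFittingSubgroup G from hS.le hs)) z)
    exact commute_of_comm_mem hsp hc (hS.pCore_commute_residual (hS.le hs) hsp hc)

end SelfCentSub

section Simple

variable [IsSimpleGroup G]

omit [Finite G] in
theorem normalizer_eq_of_isCoatom {A X : Subgroup G} (hA : IsCoatom A) (hXA : X ≤ A) (hX : X ≠ ⊥)
    (hn : A ≤ normalizer (X : Set G)) : normalizer (X : Set G) = A := by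
  rcases hA.le_iff.1 hn with h | h
  · exfalso
    rcases (normalizer_eq_top_iff.1 h).eq_bot_or_eq_top with h' | h'
    · exact hX h'
    · exact hA.1 (eq_top_iff.2 (h' ▸ hXA))
  · exact h

omit [IsSimpleGroup G] in
theorem selfCentSub_of {A S : Subgroup G}
    (hSF : S ≤ (Cfsg.generalizedFittingSubgroup A).map A.subtype)
    (hSsn : (S.subgroupOf ((Cfsg.generalizedFittingSubgroup A).map A.subtype)).IsSubnormal)
    (hSC : (Cfsg.generalizedFittingSubgroup A).map A.subtype ⊓ centralizer (S : Set G) ≤ S) :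
    SelfCentSub (S.subgroupOf A) := by
  refine ⟨fun a ha => ?_, ?_, fun a ha => ?_⟩
  · obtain ⟨b, hb, e⟩ := hSF (mem_subgroupOf.1 ha)
    rwa [← A.subtype_injective e]
  · exact CfsgLib.Comp.subgroupOf_isSubnormal_trans hSF (map_subtype_le _) hSsn
      (by
        haveI := CfsgLib.Comp.generalizedFittingSubgroup_normal A
        exact CfsgLib.Comp.subgroupOf_isSubnormal_of_le_normalizer
          (CfsgLib.Comp.le_normalizer_map_subtype _))
  · refine mem_subgroupOf.2 (hSC ⟨⟨a, ha.1, rfl⟩, ?_⟩)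
    show (a : G) ∈ centralizer (S : Set G)
    rw [mem_centralizer_iff]
    intro s hs
    have hsA : s ∈ A := map_subtype_le _ (hSF hs)
    exact congrArg Subtype.val (mem_centralizer_iff.1 ha.2 ⟨s, hsA⟩ (mem_subgroupOf.2 hs))

omit [IsSimpleGroup G] in
/-- Elements of `Y ∩ A` centralise the `p'`-elements of `F*(A)`. -/
theorem inter_commute {A S Y : Subgroup G} (hS : SelfCentSub (S.subgroupOf A))
    (hY : IsPGroup p Y) (hn : S ≤ normalizer (Y : Set G)) {z : G} (hz : z ∈ Y) (hzA : z ∈ A)
    {y : A} (hy : y ∈ Cfsg.generalizedFittingSubgroup A) (hyp : (orderOf y).Coprime p) :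
    Commute z (y : G) := by
  have h1 : S.subgroupOf A ≤ normalizer ((Y.subgroupOf A : Subgroup A) : Set A) := by
    intro a ha
    rw [mem_normalizer_iff]
    intro b
    rw [mem_subgroupOf, mem_subgroupOf]
    simpa using mem_normalizer_iff.1 (hn (mem_subgroupOf.1 ha)) (b : G)
  have h2 : IsPGroup p (Y.subgroupOf A) := hY.comap_subtype
  have := hS.normalized_commute h2 h1 (z := ⟨z, hzA⟩) (mem_subgroupOf.2 hz) hy hyp
  exact congrArg Subtype.val this

theorem bender_lemma {A S Y : Subgroup G} (hA : IsCoatom A) (hS : SelfCentSub (S.subgroupOf A))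
    (hY : IsPGroup p Y) (hn : S ≤ normalizer (Y : Set G))
    (hp : p ∣ Nat.card (Cfsg.fittingSubgroup A)) {x : G} (hx : x ∈ Y) {y : A}
    (hy : y ∈ Cfsg.generalizedFittingSubgroup A) (hyp : (orderOf y).Coprime p) :
    Commute x (y : G) := by
  by_cases hall : ∀ y : A, y ∈ Cfsg.generalizedFittingSubgroup A → (orderOf y).Coprime p → y = 1
  · rw [hall y hy hyp]; exact Commute.one_right x
  have hR : Cfsg.pCore p A ≠ ⊥ := by
    intro hb
    haveI := CfsgLib.Comp.isNilpotent_fittingSubgroup A
    obtain ⟨f, hf⟩ := exists_prime_orderOf_dvd_card' p hp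
    have hfA : orderOf (f : A) = p := by rw [orderOf_coe, hf]
    have hsn : (zpowers (f : A)).IsSubnormal := Subgroup.IsSubnormal.trans (zpowers_le.2 f.2)
      (CfsgLib.Solvable.isSubnormal_of_isNilpotent _)
      (CfsgLib.Comp.fittingSubgroup_normal A).isSubnormal
    have := CfsgLib.Comp.le_pCore_of_isSubnormal hsn
      (IsPGroup.of_card (n := 1) (by rw [Nat.card_zpowers, hfA, pow_one])) (mem_zpowers (f : A))
    rw [hb, mem_bot] at this
    rw [this, orderOf_one] at hfA
    exact (Fact.out : p.Prime).one_lt.ne hfA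
  haveI := Cfsg.pCore_normal p A
  set Z : Subgroup A := Cfsg.pCore p A ⊓ centralizer (Cfsg.pCore p A : Set A) with hZ
  haveI hZn : Z.Normal := inferInstance
  have hZ1 : Z ≠ ⊥ := by
    haveI := (nontrivial_iff_ne_bot _).2 hR
    haveI := (CfsgLib.Comp.isPGroup_pCore p A).center_nontrivial
    obtain ⟨w, hw⟩ := exists_ne (1 : center (Cfsg.pCore p A))
    intro e
    refine hw (Subtype.ext (Subtype.ext ?_))
    refine mem_bot.1 (e ▸ ?_)
    refine ⟨w.1.2, ?_⟩
    show ((w : Cfsg.pCore p A) : A) ∈ centralizer (Cfsg.pCore p A : Set A)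
    rw [mem_centralizer_iff]
    exact fun r hr => congrArg Subtype.val (mem_center_iff.1 w.2 ⟨r, hr⟩)
  have hZS : Z ≤ S.subgroupOf A := by
    intro c hc
    exact hS.inf_centralizer_pCore hc.1 fun d hd => (mem_centralizer_iff.1 hc.2 d hd.2).symm
  set P : Subgroup A := S.subgroupOf A ⊓ Cfsg.pCore p A
  set PG := P.map A.subtype with hPG
  have hPp : IsPGroup p PG := ((CfsgLib.Comp.isPGroup_pCore p A).to_le inf_le_right).map _
  have hPY : PG ≤ normalizer (Y : Set G) := by
    rintro _ ⟨d, hd, rfl⟩; exact hn hd.1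
  have hZA : normalizer ((Z.map A.subtype : Subgroup G) : Set G) = A :=
    normalizer_eq_of_isCoatom hA (map_subtype_le Z)
      (fun e => hZ1 ((map_eq_bot_iff_of_injective _ A.subtype_injective).1 e))
      (CfsgLib.Comp.le_normalizer_map_subtype Z)
  have hCA : centralizer (PG : Set G) ≤ A := by
    rw [← hZA]
    exact (centralizer_le (map_mono (le_inf hZS inf_le_left))).trans
      (CfsgLib.Comp.centralizer_le_normalizer _)
  have hQ : ∀ s : A, s ∈ S.subgroupOf A → (orderOf s).Coprime p → Commute x (s : G) := by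
    intro s hs hsp
    have hle : zpowers (s : G) ≤ centralizer (Y : Set G) := by
      refine CfsgLib.Comp.le_centralizer_of_centralizes_fixed (P := PG) hY hPp
        (by rw [Nat.card_zpowers, orderOf_coe]; exact hsp) hPY (zpowers_le.2 (hn hs)) ?_ ?_
      · rw [zpowers_le, mem_centralizer_iff]
        rintro _ ⟨d, hd, rfl⟩
        exact (congrArg Subtype.val (hS.pCore_commute_residual (hS.le hs) hsp hd.2).eq).symm
      · rw [zpowers_le, mem_centralizer_iff]
        rintro w ⟨hwY, hwC⟩
        exact inter_commute hS hY hn hwY (hCA hwC) (hS.le hs) hsp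
    exact mem_centralizer_iff.1 (hle (mem_zpowers _)) x hx
  have hxA : x ∈ A := by
    -- a nontrivial normal subgroup of `A` centralised by `x`
    by_cases hE : Cfsg.layer A = ⊥
    · obtain ⟨r, hr, hr1⟩ : ∃ r : Nat.Primes, (r : ℕ) ≠ p ∧ Cfsg.pCore (r : ℕ) A ≠ ⊥ := by
        by_contra hc
        push Not at hc
        refine hall fun y hy hyp => ?_
        have hy' : y ∈ Cfsg.pCore p A := by
          rw [Cfsg.generalizedFittingSubgroup, hE, bot_sup_eq,
            CfsgLib.Solvable.fittingSubgroup_eq_iSup_pCore] at hy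
          refine SetLike.le_def.1 (iSup_le fun r => ?_) hy
          by_cases hr : (r : ℕ) = p
          · rw [hr]
          · rw [hc r hr]; exact bot_le
        obtain ⟨k, hk⟩ := CfsgLib.Comp.isPGroup_pCore p A ⟨y, hy'⟩
        exact orderOf_eq_one_iff.1 (Nat.eq_one_of_dvd_coprimes (hyp.pow_right k) dvd_rfl
          (orderOf_dvd_of_pow_eq_one (congrArg Subtype.val hk)))
      haveI : Fact (r : ℕ).Prime := ⟨r.2⟩
      haveI := Cfsg.pCore_normal (r : ℕ) A
      set W : Subgroup A := Cfsg.pCore (r : ℕ) A ⊓ centralizer (Cfsg.pCore (r : ℕ) A : Set A)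
      have hW1 : W ≠ ⊥ := by
        haveI := (nontrivial_iff_ne_bot _).2 hr1
        haveI := (CfsgLib.Comp.isPGroup_pCore (r : ℕ) A).center_nontrivial
        obtain ⟨w, hw⟩ := exists_ne (1 : center (Cfsg.pCore (r : ℕ) A))
        intro e
        refine hw (Subtype.ext (Subtype.ext ?_))
        refine mem_bot.1 (e ▸ ?_)
        refine ⟨w.1.2, ?_⟩
        show ((w : Cfsg.pCore (r : ℕ) A) : A) ∈ centralizer (Cfsg.pCore (r : ℕ) A : Set A)
        rw [mem_centralizer_iff]
        exact fun r hr => congrArg Subtype.val (mem_center_iff.1 w.2 ⟨r, hr⟩)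
      rw [← normalizer_eq_of_isCoatom hA (map_subtype_le W)
        (fun e => hW1 ((map_eq_bot_iff_of_injective _ A.subtype_injective).1 e))
        (CfsgLib.Comp.le_normalizer_map_subtype W)]
      refine CfsgLib.Comp.centralizer_le_normalizer _ ?_
      rw [mem_centralizer_iff]
      rintro _ ⟨w, hw, rfl⟩
      have hwS : w ∈ S.subgroupOf A :=
        hS.inf_centralizer_pCore hw.1 fun d hd => (mem_centralizer_iff.1 hw.2 d hd.2).symm
      obtain ⟨k, hk⟩ := CfsgLib.Comp.isPGroup_pCore (r : ℕ) A ⟨w, hw.1⟩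
      exact (hQ w hwS (Nat.Coprime.coprime_dvd_left
        (orderOf_dvd_of_pow_eq_one (congrArg Subtype.val hk))
        (((Nat.coprime_primes r.2 (Fact.out : p.Prime)).2 hr).pow_left _))).eq.symm
    · haveI := CfsgLib.Comp.layer_normal A
      rw [← normalizer_eq_of_isCoatom hA (map_subtype_le (Cfsg.layer A))
        (fun e => hE ((map_eq_bot_iff_of_injective _ A.subtype_injective).1 e))
        (CfsgLib.Comp.le_normalizer_map_subtype _)]
      refine CfsgLib.Comp.centralizer_le_normalizer _ ?_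
      have hle : Cfsg.layer A ≤ (centralizer ({x} : Set G)).comap A.subtype := by
        refine sSup_le fun L hL l hl => ?_
        have hperf : ⁅L.map A.subtype, L.map A.subtype⁆ = L.map A.subtype := by
          rw [← Subgroup.map_commutator, CfsgLib.Comp.commutator_self_of_isComponent hL]
        have := mem_centralizer_of_perfect (p := p) hperf (x := x) (by
          rintro _ ⟨s, hs, rfl⟩ hsp
          exact hQ s (hS.component_le hL hs) (by rwa [A.coe_subtype, orderOf_coe] at hsp))
        rw [mem_comap, mem_centralizer_singleton_iff]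
        exact mem_centralizer_iff.1 this _ ⟨l, hl, rfl⟩
      rw [mem_centralizer_iff]
      rintro _ ⟨l, hl, rfl⟩
      exact mem_centralizer_singleton_iff.1 (hle hl)
  exact inter_commute hS hY hn hx hxA hy hyp

omit [IsSimpleGroup G] in
theorem bender_lemma_disjoint {A S Y : Subgroup G} (hS : SelfCentSub (S.subgroupOf A))
    (hY : IsPGroup p Y) (hn : S ≤ normalizer (Y : Set G))
    (hp : ¬ p ∣ Nat.card (Cfsg.fittingSubgroup A)) : Y ⊓ A = ⊥ := by
  have hR : Cfsg.pCore p A = ⊥ := by
    by_contra hne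
    haveI := (nontrivial_iff_ne_bot _).2 hne
    refine hp (dvd_trans ?_ (card_dvd_of_le (CfsgLib.Solvable.pCore_le_fittingSubgroup p)))
    exact (CfsgLib.Comp.isPGroup_pCore p A).card_eq_or_dvd.resolve_left Finite.one_lt_card.ne'
  rw [eq_bot_iff_forall]
  rintro z ⟨hz, hzA⟩
  have hcomm : ∀ y : A, y ∈ Cfsg.generalizedFittingSubgroup A → (orderOf y).Coprime p →
      Commute (⟨z, hzA⟩ : A) y := fun y hy hyp => Subtype.ext (inter_commute hS hY hn hz hzA hy hyp).eq
  have hzF : (⟨z, hzA⟩ : A) ∈ Cfsg.fittingSubgroup A := by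
    refine CfsgLib.Comp.le_fittingSubgroup_of_centralizes ?_ fun L hL => ?_
    · rw [mem_centralizer_iff]
      intro f hf
      refine ((hcomm f (CfsgLib.Comp.fittingSubgroup_le_generalizedFitting A hf) ?_).eq).symm
      refine Nat.Coprime.symm ((Fact.out : p.Prime).coprime_iff_not_dvd.2 fun hd => hp (hd.trans ?_))
      rw [show orderOf f = orderOf (⟨f, hf⟩ : Cfsg.fittingSubgroup A) from
        (orderOf_mk f hf).symm]
      exact orderOf_dvd_natCard _
    · exact mem_centralizer_of_perfect (CfsgLib.Comp.commutator_self_of_isComponent hL)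
        fun s hs hsp => hcomm s (CfsgLib.Comp.layer_le_generalizedFitting A
          (CfsgLib.Comp.le_layer hL hs)) hsp
  have hord : orderOf z ∣ Nat.card (Cfsg.fittingSubgroup A) := by
    rw [show orderOf z = orderOf (⟨⟨z, hzA⟩, hzF⟩ : Cfsg.fittingSubgroup A) by
      rw [orderOf_mk, orderOf_mk]]
    exact orderOf_dvd_natCard _
  obtain ⟨k, hk⟩ := hY ⟨z, hz⟩
  exact orderOf_eq_one_iff.1 (Nat.eq_one_of_dvd_coprimes
    (((Fact.out : p.Prime).coprime_iff_not_dvd.2 hp).pow_left k)
    (orderOf_dvd_of_pow_eq_one (congrArg Subtype.val hk)) hord)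

end Simple

end CfsgLib.Invol
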