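import Cfsg.Agent.Lib.Invol.CAInvol

/-!
# Groups with abelian centralisers: the centraliser of an involution

In a group in which all centralisers of non-trivial elements are abelian and whose Sylow
2-subgroup is neither cyclic nor normal, the centraliser `A` of an involution of the Sylow
2-subgroup is a TI subgroup with normaliser `N_G(T)`, and the two-point stabilisers of the action
on the cosets of `N_G(T)` meet `A` trivially.
-/

set_option autoImplicit false
set_option linter.unusedSectionVars false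

namespace CfsgLib.Invol

variable {G : Type*} [Group G] [Finite G]

/-- The standing hypothesis: abelian centralisers, `A` the centraliser of the Sylow 2-subgroup. -/
structure CTHyp (T : Sylow 2 G) (A : Subgroup G) : Prop where
  ca : ∀ x a b : G, x ≠ 1 → Commute a x → Commute b x → Commute a b
  not_cyclic : ¬ IsCyclic (T : Subgroup G)
  not_normal : ¬ (T : Subgroup G).Normal
  T_le : (T : Subgroup G) ≤ A
  cent : ∀ a ∈ A, a ≠ 1 → Subgroup.centralizer ({a} : Set G) = A

/-- Existence of `A`. -/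
theorem exists_ctHyp (hca : ∀ x a b : G, x ≠ 1 → Commute a x → Commute b x → Commute a b)
    (T : Sylow 2 G) (hnc : ¬ IsCyclic (T : Subgroup G)) (hnn : ¬ (T : Subgroup G).Normal) :
    ∃ A : Subgroup G, CTHyp T A := by
  have : Nontrivial (T : Subgroup G) :=
    not_subsingleton_iff_nontrivial.1 fun hs => hnc inferInstance
  obtain ⟨z, hz⟩ := Subgroup.nontrivial_iff_exists_ne_one _ |>.1
    (IsPGroup.center_nontrivial T.isPGroup')
  obtain ⟨hzc, hz1⟩ := hz
  have hzG : (z : G) ≠ 1 := fun e => hz1 (Subtype.ext e)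
  refine ⟨Subgroup.centralizer ({(z : G)} : Set G), ⟨hca, hnc, hnn, fun a ha => ?_, fun a ha ha1 => ?_⟩⟩
  · rw [Subgroup.mem_centralizer_singleton_iff]
    exact congrArg Subtype.val (Subgroup.mem_center_iff.1 hzc ⟨a, ha⟩)
  · have hac : Commute a (z : G) := Subgroup.mem_centralizer_singleton_iff.1 ha
    ext b
    rw [Subgroup.mem_centralizer_singleton_iff, Subgroup.mem_centralizer_singleton_iff]
    exact ⟨fun hb => hca a b z ha1 hb hac.symm, fun hb => hca z b a hzG hb hac⟩

variable {T : Sylow 2 G} {A : Subgroup G}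

namespace CTHyp

variable (h : CTHyp T A)
include h

theorem comm {a b : G} (ha : a ∈ A) (hb : b ∈ A) : Commute a b := by
  by_cases hb1 : b = 1
  · rw [hb1]; exact Commute.one_right a
  · rw [← h.cent b hb hb1] at ha
    exact Subgroup.mem_centralizer_singleton_iff.1 ha

theorem mem_of_commute {a b : G} (ha : a ∈ A) (ha1 : a ≠ 1) (hb : Commute b a) : b ∈ A := by
  rw [← h.cent a ha ha1]
  exact Subgroup.mem_centralizer_singleton_iff.2 hb

theorem mem_normalizer_A {g a : G} (ha : a ∈ A) (ha1 : a ≠ 1) (hg : g * a * g⁻¹ ∈ A) :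
    g ∈ Subgroup.normalizer (A : Set G) := by
  have h1 : g * a * g⁻¹ ≠ 1 := by simpa using ha1
  refine Subgroup.mem_normalizer_fintype fun b hb => ?_
  refine h.mem_of_commute hg h1 ?_
  have := (h.comm hb ha).map (MulAut.conj g).toMonoidHom
  simpa using this

theorem mem_T_of_two {a : G} (ha : a ∈ A) {n : ℕ} (h2 : a ^ 2 ^ n = 1) : a ∈ (T : Subgroup G) := by
  have hp : IsPGroup 2 (Subgroup.zpowers a) := by
    obtain ⟨m, -, hm⟩ := (Nat.dvd_prime_pow Nat.prime_two).1 (orderOf_dvd_of_pow_eq_one h2)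
    exact IsPGroup.of_card (n := m) (by rw [Nat.card_zpowers, hm])
  have hle : Subgroup.zpowers a ≤ NH T := by
    rw [Subgroup.zpowers_le, Subgroup.mem_normalizer_iff]
    intro b
    constructor
    · intro hb
      rwa [(h.comm ha (h.T_le hb)).eq, mul_inv_cancel_right]
    · intro hb
      have hcb : Commute a (a * b * a⁻¹) := h.comm ha (h.T_le hb)
      have e : a * b * a⁻¹ = b := by
        have h' := hcb.eq
        rw [mul_assoc (a * b), inv_mul_cancel, mul_one] at h'
        calc a * b * a⁻¹ = a⁻¹ * (a * (a * b * a⁻¹)) := by group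
          _ = a⁻¹ * (a * b) := by rw [h']
          _ = b := by group
      rwa [e] at hb
  have hsup := T.isPGroup'.to_sup_of_normal_left' hp hle
  have := T.is_maximal' hsup le_sup_left
  rw [← this]
  exact Subgroup.mem_sup_right (Subgroup.mem_zpowers a)

theorem exists_z : ∃ z ∈ (T : Subgroup G), z ≠ 1 := by
  by_contra hc
  push Not at hc
  have : Subsingleton (T : Subgroup G) :=
    ⟨fun a b => Subtype.ext ((hc a.1 a.2).trans (hc b.1 b.2).symm)⟩
  exact h.not_cyclic inferInstance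

theorem normalizer_A : Subgroup.normalizer (A : Set G) = NH T := by
  ext g
  constructor
  · intro hg
    refine Subgroup.mem_normalizer_fintype fun b hb => ?_
    obtain ⟨n, hn⟩ := T.isPGroup' ⟨b, hb⟩
    refine h.mem_T_of_two ((Subgroup.mem_normalizer_iff.1 hg b).1 (h.T_le hb)) (n := n) ?_
    rw [conj_pow, show b ^ 2 ^ n = 1 from congrArg Subtype.val hn, mul_one, mul_inv_cancel]
  · intro hg
    obtain ⟨z, hz, hz1⟩ := h.exists_z
    exact h.mem_normalizer_A (h.T_le hz) hz1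
      (h.T_le ((Subgroup.mem_normalizer_iff.1 hg z).1 hz))

theorem A_le_NH : A ≤ NH T := h.normalizer_A ▸ Subgroup.le_normalizer

theorem conj_mem {d a : G} (hd : d ∈ NH T) (ha : a ∈ A) : d * a * d⁻¹ ∈ A := by
  rw [← h.normalizer_A] at hd
  exact (Subgroup.mem_normalizer_iff.1 hd a).1 ha

theorem mem_NH {g a : G} (ha : a ∈ A) (ha1 : a ≠ 1) (hg : g * a * g⁻¹ ∈ A) : g ∈ NH T :=
  h.normalizer_A ▸ h.mem_normalizer_A ha ha1 hg

theorem invol_mem_A {i : G} (hi : orderOf i = 2) (hiH : i ∈ NH T) : i ∈ A :=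
  h.T_le (CAHyp.mem_T_of_sq hiH (invol_mul_self hi))

theorem stronglyEmbedded : Cfsg.IsStronglyEmbedded (NH T) := by
  refine ⟨fun e => h.not_normal (Subgroup.normalizer_eq_top_iff.1 e), ?_, ?_⟩
  · obtain ⟨z, hz, hz1⟩ := h.exists_z
    have h1 : (⟨z, hz⟩ : (T : Subgroup G)) ≠ 1 := fun e => hz1 (congrArg Subtype.val e)
    obtain ⟨k, hk⟩ := IsPGroup.iff_card.1 T.isPGroup'
    have hk0 : k ≠ 0 := by
      rintro rfl
      exact h1 ((Nat.card_eq_one_iff_unique.1 (by simpa using hk)).1.elim _ _)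
    have h2 : 2 ∣ Nat.card (NH T) :=
      (hk ▸ dvd_pow_self 2 hk0 : 2 ∣ Nat.card (T : Subgroup G)).trans
        (Subgroup.card_dvd_of_le Subgroup.le_normalizer)
    exact even_iff_two_dvd.2 h2
  · intro g hg
    by_contra hodd
    rw [Nat.not_odd_iff_even] at hodd
    obtain ⟨i, ⟨hiH, k, hk, hki⟩, hi⟩ := exists_invol_mem hodd
    have hki' : g * k * g⁻¹ = i := hki
    have hk2 : orderOf k = 2 := by rw [← orderOf_conj_eq g k, hki', hi]
    refine hg (h.mem_NH (h.invol_mem_A hk2 hk) (invol_ne_one hk2) ?_)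
    rw [hki']
    exact h.invol_mem_A hi hiH

theorem odd_twoStab {y : G ⧸ NH T} (hy : y ≠ pt T) : Odd (Nat.card (twoStab T y)) := by
  obtain ⟨g, rfl⟩ := QuotientGroup.mk_surjective y
  have hg : g ∉ NH T := fun hg => hy (by rw [← smul_pt, smul_pt_iff.2 hg])
  have e : twoStab T (g : G ⧸ NH T) = NH T ⊓ (NH T).map (MulAut.conj g).toMonoidHom := by
    ext d; rw [mem_twoStab, mem_inter_conj_iff]
  rw [e]
  exact h.stronglyEmbedded.2.2 g hg

theorem odd_orderOf {y : G ⧸ NH T} (hy : y ≠ pt T) {d : G} (hd : d ∈ twoStab T y) :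
    Odd (orderOf d) :=
  Odd.of_dvd_nat (h.odd_twoStab hy) (Subgroup.orderOf_dvd_natCard _ hd)

/-- A two-point stabiliser meets `A` trivially. -/
theorem eq_one_of_mem {y : G ⧸ NH T} (hy : y ≠ pt T) {d : G} (hd : d ∈ twoStab T y) (hdA : d ∈ A) :
    d = 1 := by
  by_contra hd1
  obtain ⟨w, hw, hwy⟩ := se_swap_exists h.stronglyEmbedded hy.symm
  have hwy' : w • y = pt T := invol_smul_swap hw hwy
  have hwinv : w⁻¹ = w := invol_inv hw
  have hswap : ∀ e ∈ twoStab T y, w * e * w⁻¹ ∈ twoStab T y := by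
    intro e he
    obtain ⟨e1, e2⟩ := mem_twoStab.1 he
    rw [hwinv]
    exact mem_twoStab.2 ⟨by rw [mul_smul, mul_smul, hwy, e2, hwy'],
      by rw [mul_smul, mul_smul, hwy', e1, hwy]⟩
  have hwH : w ∉ NH T := fun hwH => hy (hwy.symm.trans (smul_pt_iff.2 hwH))
  -- `d` commutes with `e = w d w`, hence `e ∈ A`
  set e := w * d * w⁻¹ with he
  have heD := hswap d hd
  have he1 : e ≠ 1 := by simpa [he] using hd1
  have hedH : e * d * e⁻¹ * d⁻¹ ∈ A :=
    mul_mem (h.conj_mem heD.1 hdA) (inv_mem hdA)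
  have hconjA : ∀ c ∈ twoStab T y, ∀ x ∈ twoStab T y, w * x * w⁻¹ ∈ A →
      w * (c * x * c⁻¹) * w⁻¹ ∈ A := by
    intro c hc x _ hx
    have e' : w * (c * x * c⁻¹) * w⁻¹ = (w * c * w⁻¹) * (w * x * w⁻¹) * (w * c * w⁻¹)⁻¹ := by
      group
    rw [e']
    exact h.conj_mem (hswap c hc).1 hx
  have hww : ∀ x : G, w * (w * x * w⁻¹) * w⁻¹ = x := by
    intro x
    rw [hwinv, ← mul_assoc, ← mul_assoc, invol_mul_self hw, one_mul, mul_assoc, invol_mul_self hw,
      mul_one]
  have heA' : w * e * w⁻¹ ∈ A := by rw [he, hww]; exact hdA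
  have hcomm' : w * (e * d * e⁻¹ * d⁻¹) * w⁻¹ ∈ A := by
    have e' : w * (e * d * e⁻¹ * d⁻¹) * w⁻¹ =
        (w * e * w⁻¹) * (w * (d * e⁻¹ * d⁻¹) * w⁻¹) := by group
    rw [e']
    refine mul_mem heA' (hconjA d hd _ (inv_mem heD) ?_)
    have e'' : w * e⁻¹ * w⁻¹ = (w * e * w⁻¹)⁻¹ := by group
    rw [e'']; exact inv_mem heA'
  have hc1 : e * d * e⁻¹ * d⁻¹ = 1 := by
    by_contra hne
    exact hwH (h.mem_NH hedH hne hcomm')
  have hed : Commute e d := by
    show e * d = d * e
    calc e * d = (e * d * e⁻¹ * d⁻¹) * (d * e) := by group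
      _ = d * e := by rw [hc1, one_mul]
  exact hwH (h.mem_NH hdA hd1 (h.mem_of_commute hdA hd1 hed))

theorem semireg {y : G ⧸ NH T} (hy : y ≠ pt T) {d a : G} (hd : d ∈ twoStab T y)
    (ha : a ∈ A) (ha1 : a ≠ 1) (hc : Commute d a) : d = 1 :=
  h.eq_one_of_mem hy hd (h.mem_of_commute ha ha1 hc)

theorem A_inj {a b : G} (ha : a ∈ A) (hb : b ∈ A) {y : G ⧸ NH T}
    (hy : y ≠ pt T) (hab : a • y = b • y) : a = b := by
  have hm : b⁻¹ * a ∈ twoStab T y := mem_twoStab.2
    ⟨smul_pt_iff.2 (h.A_le_NH (mul_mem (inv_mem hb) ha)), by rw [mul_smul, hab, inv_smul_smul]⟩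
  exact (inv_mul_eq_one.1 (h.eq_one_of_mem hy hm (mul_mem (inv_mem hb) ha))).symm

end CTHyp

end CfsgLib.Invol
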