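import Cfsg.Agent.Lib.Invol.CenterIndexSqTwo
import Cfsg.Agent.Lib.Invol.Dihedral
import Cfsg.Agent.Lib.Fusion.HyperFocal

/-!
# Fusion systems over groups whose centre has index `p ^ 2`
-/

set_option autoImplicit false

namespace CfsgLib.Invol.IndexP

open Subgroup CfsgLib.Fusion
open scoped commutatorElement
open Cfsg.FusionSystem (normalizerIn centralizerIn)

variable {Ω : Type*} [Group Ω] {S A P K : Subgroup Ω} {p : ℕ} [Finite S] {F : Cfsg.FusionSystem S}
  {x : Ω}

/-- A nonabelian `p`-group whose centre has index `p ^ 2`. -/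
structure SmallCentre (p : ℕ) (S : Subgroup Ω) : Prop where
  pgroup : IsPGroup p S
  na : ¬ IsMulCommutative S
  card : Nat.card S = p * (p * Nat.card (Zc S))

namespace SmallCentre

theorem card_mid [hp : Fact p.Prime] (h : SmallCentre p S) (hK : Zc S < K) (hKS : K < S) :
    Nat.card S = p * Nat.card K ∧ Nat.card K = p * Nat.card (Zc S) := by
  haveI := finite_of_le (hKS.le)
  haveI := finite_of_le (inf_le_left : Zc S ≤ S)
  have h1 := relIndex_mul_relIndex ⊥ (Zc S) K bot_le hK.le
  have h2 := relIndex_mul_relIndex ⊥ K S bot_le hKS.le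
  rw [relIndex_bot_left, relIndex_bot_left] at h1 h2
  set r := (Zc S).relIndex K with hr
  set s := K.relIndex S with hs
  have h3 : r * s = p ^ 2 := by
    refine Nat.eq_of_mul_eq_mul_left (Nat.card_pos (α := Zc S)) ?_
    rw [← mul_assoc, h1, h2, h.card]; ring
  obtain ⟨i, hi, hri⟩ := (Nat.dvd_prime_pow hp.out).1 ⟨s, h3.symm⟩
  have hr1 : r ≠ 1 := fun e => hK.not_ge (relIndex_eq_one.1 (hr ▸ e))
  have hs1 : s ≠ 1 := fun e => hKS.not_ge (relIndex_eq_one.1 (hs ▸ e))
  rcases (show i = 0 ∨ i = 1 ∨ i = 2 by omega) with rfl | rfl | rfl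
  · exact absurd (by simpa using hri) hr1
  · rw [pow_one] at hri
    rw [hri, sq] at h3
    have hsp := Nat.eq_of_mul_eq_mul_left hp.out.pos h3
    exact ⟨by rw [← h2, hsp, mul_comm], by rw [← h1, hri, mul_comm]⟩
  · rw [hri] at h3
    exact absurd (Nat.eq_of_mul_eq_mul_left (pow_pos hp.out.pos 2) (h3.trans (mul_one _).symm)) hs1

theorem pow_mem_Zc [hp : Fact p.Prime] (h : SmallCentre p S) {s : Ω} (hs : s ∈ S) :
    s ^ p ∈ Zc S := by
  set π := QuotientGroup.mk' (center S) with hπ
  have hcQ : Nat.card (S ⧸ center S) = p ^ 2 := by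
    have h1 := card_eq_card_quotient_mul_card_subgroup (center S)
    rw [h.card, ← card_Zc] at h1
    haveI := finite_of_le (inf_le_left : Zc S ≤ S)
    refine (Nat.eq_of_mul_eq_mul_right (Nat.card_pos (α := Zc S)) ?_).symm
    rw [← h1]; ring
  have hncyc : ¬ IsCyclic (S ⧸ center S) := fun hc =>
    h.na (isMulCommutative_of_isCyclic_quotient_center_self S)
  have h2 : π ⟨s, hs⟩ ^ p = 1 := by
    by_contra hne
    refine hncyc (isCyclic_of_orderOf_eq_card (π ⟨s, hs⟩) ?_)
    obtain ⟨j, hj, ho⟩ := (Nat.dvd_prime_pow hp.out).1 (hcQ ▸ orderOf_dvd_natCard (π ⟨s, hs⟩))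
    have : j = 2 := by
      by_contra hj2
      refine hne (orderOf_dvd_iff_pow_eq_one.1 ?_)
      rw [ho]
      exact (pow_dvd_pow p (show j ≤ 1 by omega)).trans (pow_one p).dvd
    rw [ho, this, hcQ]
  rw [hπ, ← map_pow] at h2
  exact mem_center_iff_Zc.1 ((QuotientGroup.eq_one_iff _).1 h2)

theorem lt_essential [Fact p.Prime] (h : SmallCentre p S) (hP : F.IsEssential p P) : Zc S < P := by
  refine lt_of_le_of_ne (Zc_le_essential hP) ?_
  intro he
  refine h.na ⟨⟨fun a b => Subtype.ext ?_⟩⟩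
  have hC : ∀ s ∈ S, s ∈ Zc S := fun s hs => he.ge (hP.1.2 P (isConj_refl hP.1.1)
    ⟨hs, fun y hy => ((he.ge hy).2 s hs).symm⟩)
  exact ((hC _ a.2).2 b b.2).symm

/-- Every intermediate subgroup is met in the centre by an abelian subgroup of index `p`. -/
theorem exists_abCase [hp : Fact p.Prime] (h : SmallCentre p S) (hF : F.IsSaturated p)
    (hP : F.IsEssential p P) : ∃ A x, AbCase p F A P x := by
  have hZP := h.lt_essential hP
  have hPS := lt_of_essential h.pgroup hF hP
  obtain ⟨x, hx, hxZ⟩ := SetLike.exists_of_lt hZP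
  obtain ⟨y, hy, hyP⟩ := SetLike.exists_of_lt hPS
  set A := Zc S ⊔ zpowers y with hA
  have hAS : A ≤ S := sup_le inf_le_left (zpowers_le.2 hy)
  have hc : ∀ a ∈ A, Commute a y := by
    have hle : A ≤ centralizer ({y} : Set Ω) := sup_le
      (fun z hz => mem_centralizer_singleton_iff.2 (commute_of_mem_Zc hz hy).eq)
      (zpowers_le.2 (mem_centralizer_singleton_iff.2 rfl))
    exact fun a ha => mem_centralizer_singleton_iff.1 (hle ha)
  have hab : IsMulCommutative A := by
    refine ⟨⟨fun a b => Subtype.ext ?_⟩⟩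
    have hle : A ≤ centralizer ({(b : Ω)} : Set Ω) := sup_le
      (fun z hz => mem_centralizer_singleton_iff.2 (commute_of_mem_Zc hz (hAS b.2)).eq)
      (zpowers_le.2 (mem_centralizer_singleton_iff.2 (hc b b.2).symm.eq))
    exact mem_centralizer_singleton_iff.1 (hle a.2)
  have hAlt : A < S := lt_of_le_of_ne hAS fun e => h.na (e ▸ hab)
  have hZA : Zc S < A := lt_of_le_of_ne le_sup_left fun e =>
    hyP (hZP.le (e.ge (mem_sup_right (mem_zpowers y))))
  haveI := finite_of_le hAS
  obtain ⟨hSA, hcA⟩ := h.card_mid hZA hAlt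
  have hidx : (A.subgroupOf S).index = p := by
    have h1 := card_mul_index (A.subgroupOf S)
    rw [Nat.card_congr (subgroupOfEquivOfLe hAS).toEquiv, hSA, mul_comm p] at h1
    exact Nat.eq_of_mul_eq_mul_left Nat.card_pos h1
  have hB : A ⊓ P = Zc S := by
    have hle : Zc S ≤ A ⊓ P := le_inf le_sup_left hZP.le
    refine (hle.eq_or_lt.resolve_right fun hlt => ?_).symm
    have hcK := (h.card_mid hlt (lt_of_le_of_lt inf_le_left hAlt)).2
    have he : A ⊓ P = A := eq_of_le_of_card_le inf_le_left (by rw [hcK, hcA])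
    exact hyP ((he.ge (mem_sup_right (mem_zpowers y))).2)
  exact ⟨A, x, ⟨h.pgroup, h.na, hAS, hab, hidx⟩, hF, hP, hx, fun hxA => hxZ (hB.le ⟨hxA, hx⟩), hB⟩

theorem card_Dc [hp : Fact p.Prime] (h : SmallCentre p S) (hA : Base p S A) :
    Nat.card (Dc S) = p := by
  have h1 := hA.card_S
  rw [h.card] at h1
  haveI := finite_of_le (inf_le_left : Zc S ≤ S)
  have h2 := Nat.eq_of_mul_eq_mul_left hp.out.pos h1
  rw [mul_comm p] at h2
  exact (Nat.eq_of_mul_eq_mul_left Nat.card_pos h2).symm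

/-- The final step: the centre has order `p`. -/
theorem conclude [hp : Fact p.Prime] (h : SmallCentre p S) (hF : F.IsSaturated p)
    (hcore : F.core = ⊥) (hZ : Nat.card (Zc S) = p) :
    Cfsg.IsExtraspecial p S ∧ Nat.card S = p ^ 3 ∧ (p ≠ 2 → Monoid.exponent S = p) ∧
      (p = 2 → Nonempty (S ≃* DihedralGroup 4)) := by
  have hS3 : Nat.card S = p ^ 3 := by rw [h.card, hZ]; ring
  obtain ⟨a0, b0, hab0⟩ : ∃ a b : S, a * b ≠ b * a := by
    by_contra hc
    push Not at hc
    exact h.na ⟨⟨hc⟩⟩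
  have hex := EssentialFour.extraspecial_cube hS3 hab0
  refine ⟨hex, hS3, ?_⟩
  have hcardP : ∀ P, F.IsEssential p P → Nat.card P = p ^ 2 := fun P hP => by
    rw [(h.card_mid (h.lt_essential hP) (lt_of_essential h.pgroup hF hP)).2, hZ, sq]
  obtain ⟨P, hP⟩ : ∃ P, F.IsEssential p P := by
    obtain ⟨A, P, x, c⟩ := IndexP.exists_abCase h.pgroup hF h.na hcore fun P hP => Or.inl (h.exists_abCase hF hP)
    exact ⟨P, c.hP⟩
  have hel := EssentialSmall.card_sq h.pgroup hF hP (hcardP P hP)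
  haveI := finite_of_le hP.1.1
  obtain ⟨Q, hQS, hQel, hQc, hne⟩ : ∃ Q : Subgroup Ω, Q ≤ S ∧ Cfsg.IsElementaryAbelian p Q ∧
      Nat.card Q = p ^ 2 ∧ Q ≠ P := by
    by_contra hc
    push Not at hc
    have hN : F.IsNormal P := by
      refine isNormal_of_alperin h.pgroup hF hP.1.1 fun R hR => ?_
      rcases hR with rfl | hR
      · refine ⟨hP.1.1, fun α hα z hz => ?_⟩
        have hm := (isMap_of_autGroup le_rfl hα).mono hP.1.1
        have hi : img P (toFun (R.subtype.comp α.toMonoidHom)) = P := by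
          refine hc _ hm.img_le ?_ ((hm.card_img).trans (hcardP P hP))
          refine ⟨⟨⟨fun a b => Subtype.ext ?_⟩⟩, fun a ha => ?_⟩
          · obtain ⟨a', ha', e1⟩ := hm.mem_img.1 a.2
            obtain ⟨b', hb', e2⟩ := hm.mem_img.1 b.2
            rw [Subgroup.coe_mul, Subgroup.coe_mul, ← e1, ← e2, ← hm.map_mul ha' hb',
              ← hm.map_mul hb' ha']
            exact congrArg _ (congrArg Subtype.val (hel.1.is_comm.comm ⟨a', ha'⟩ ⟨b', hb'⟩))
          · obtain ⟨a', ha', e1⟩ := hm.mem_img.1 ha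
            rw [← e1, ← hm.map_pow ha', hel.2 a' ha', hm.map_one]
        rw [← hi, ← toFun_aut_apply α z.2]
        exact hm.apply_mem_img hz
      · obtain rfl := hc R hR.1.1 (EssentialSmall.card_sq h.pgroup hF hR (hcardP R hR)) (hcardP R hR)
        exact ⟨le_rfl, fun α _ z _ => (α z).2⟩
    have h0 : P = ⊥ := eq_bot_iff.2 (hcore ▸ le_sSup (show P ∈ {Q | F.IsNormal Q} from hN))
    have := hcardP P hP
    rw [h0, card_bot] at this
    nlinarith [hp.out.two_le]
  have hgen : P ⊔ Q = S := by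
    refine eq_of_le_of_card_le (sup_le hP.1.1 hQS) ?_
    haveI := finite_of_le (sup_le hP.1.1 hQS)
    obtain ⟨i, hi⟩ := IsPGroup.iff_card.1 (h.pgroup.to_le (sup_le hP.1.1 hQS))
    have hlt : Nat.card P < Nat.card (P ⊔ Q : Subgroup Ω) := lt_of_not_ge fun hge => by
      haveI := finite_of_le hQS
      have e := eq_of_le_of_card_le (le_sup_left : P ≤ P ⊔ Q) hge
      exact hne (eq_of_le_of_card_le (e ▸ le_sup_right) (by rw [hcardP P hP, hQc]))
    rw [hcardP P hP, hi, Nat.pow_lt_pow_iff_right hp.out.one_lt] at hlt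
    rw [hS3, hi]
    exact Nat.pow_le_pow_right hp.out.pos hlt
  refine ⟨fun hp2 => ?_, fun hp2 => ?_⟩
  · obtain ⟨-, hcom, -⟩ := EssentialFour.cube_center h.pgroup hS3 hab0
    have hcp : ∀ u w : S, ⁅w, u⁆ ^ p = 1 := fun u w => by
      have := pow_card_eq_one' (G := center S) (x := ⟨⁅w, u⁆, hcom w u⟩)
      rw [← card_Zc, hZ] at this
      exact congrArg Subtype.val this
    let f : S →* S := MonoidHom.mk' (fun w => w ^ p) fun u w => by
      rw [CfsgLib.PGroup.mul_pow_of_central_comm u w (fun y => (Subgroup.mem_center_iff.1 (hcom w u) y).symm)]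
      obtain ⟨k, hk⟩ : p ∣ p.choose 2 :=
        hp.out.dvd_choose_self (by norm_num) (by have := hp.out.two_le; omega)
      rw [hk, pow_mul, hcp, one_pow, mul_one]
    have hker : ∀ R : Subgroup Ω, R ≤ S → Cfsg.IsElementaryAbelian p R → R ≤ f.ker.map S.subtype :=
      fun R hR he y hy => ⟨⟨y, hR hy⟩, Subtype.ext (he.2 y hy), rfl⟩
    have hall : ∀ w : S, w ^ p = 1 := fun w => by
      obtain ⟨w', hw', e⟩ := (hgen.ge.trans (sup_le (hker P hP.1.1 hel) (hker Q hQS hQel))) w.2
      rw [← S.subtype_injective e]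
      exact hw'
    refine ((Nat.dvd_prime hp.out).1 (Monoid.exponent_dvd_of_forall_pow_eq_one hall)).resolve_left
      fun h1 => hab0 ?_
    have : ∀ w : S, w = 1 := fun w => by
      have := Monoid.pow_exponent_eq_one w
      rwa [h1, pow_one] at this
    rw [this a0, this b0]
  · subst hp2
    obtain ⟨x, hx, hxQ⟩ : ∃ x ∈ P, x ∉ Q := SetLike.not_le_iff_exists.1 fun hle => by
      haveI := finite_of_le hQS
      exact hne (eq_of_le_of_card_le hle (by rw [hcardP P hP, hQc])).symm
    obtain ⟨y, hy, hxy⟩ : ∃ y ∈ Q, x * y ≠ y * x := by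
      by_contra hc
      push Not at hc
      refine h.na ?_
      have hle : S ≤ centralizer ({x} : Set Ω) := hgen ▸ sup_le
        (fun z hz => mem_centralizer_singleton_iff.2
          (congrArg Subtype.val (hel.1.is_comm.comm ⟨z, hz⟩ ⟨x, hx⟩)))
        (fun z hz => mem_centralizer_singleton_iff.2 (hc z hz).symm)
      have hxZ : x ∈ Zc S := ⟨hP.1.1 hx, fun s hs => mem_centralizer_singleton_iff.1 (hle hs)⟩
      exfalso
      haveI := finite_of_le hQS
      have hZQ : ¬ Zc S ≤ Q := fun hle => hxQ (hle hxZ)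
      have hQZ : Q ⊔ Zc S = S := by
        refine eq_of_le_of_card_le (sup_le hQS inf_le_left) ?_
        haveI := finite_of_le (sup_le hQS inf_le_left : Q ⊔ Zc S ≤ S)
        obtain ⟨i, hi⟩ := IsPGroup.iff_card.1 (h.pgroup.to_le (sup_le hQS inf_le_left : Q ⊔ Zc S ≤ S))
        have hlt : Nat.card Q < Nat.card (Q ⊔ Zc S : Subgroup Ω) := lt_of_not_ge fun hge =>
          hZQ (by rw [eq_of_le_of_card_le (le_sup_left : Q ≤ Q ⊔ Zc S) hge]; exact le_sup_right)
        rw [hQc, hi, Nat.pow_lt_pow_iff_right hp.out.one_lt] at hlt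
        rw [hS3, hi]
        exact Nat.pow_le_pow_right hp.out.pos hlt
      refine h.na ⟨⟨fun a b => Subtype.ext ?_⟩⟩
      have h1 : ∀ q ∈ Q, ∀ s ∈ S, Commute q s := fun q hq s hs => by
        have hle : Q ⊔ Zc S ≤ centralizer ({q} : Set Ω) := sup_le
          (fun z hz => mem_centralizer_singleton_iff.2
            (congrArg Subtype.val (hQel.1.is_comm.comm ⟨z, hz⟩ ⟨q, hq⟩)))
          (fun z hz => mem_centralizer_singleton_iff.2 (commute_of_mem_Zc hz (hQS hq)).eq)
        exact (mem_centralizer_singleton_iff.1 (hle (hQZ.ge hs))).symm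
      have hle : Q ⊔ Zc S ≤ centralizer ({(b : Ω)} : Set Ω) := sup_le
        (fun z hz => mem_centralizer_singleton_iff.2 (h1 z hz b b.2).eq)
        (fun z hz => mem_centralizer_singleton_iff.2 (commute_of_mem_Zc hz b.2).eq)
      exact mem_centralizer_singleton_iff.1 (hle (hQZ.ge a.2))
    have hx2 : x ^ 2 = 1 := hel.2 x hx
    have hy2 : y ^ 2 = 1 := hQel.2 y hy
    have hox : orderOf (⟨x, hP.1.1 hx⟩ : S) = 2 := orderOf_eq_prime (Subtype.ext hx2) fun e =>
      hxy (by rw [show x = 1 from congrArg Subtype.val e, one_mul, mul_one])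
    have hoy : orderOf (⟨y, hQS hy⟩ : S) = 2 := orderOf_eq_prime (Subtype.ext hy2) fun e =>
      hxy (by rw [show y = 1 from congrArg Subtype.val e, one_mul, mul_one])
    have hne' : (⟨x, hP.1.1 hx⟩ : S) ≠ ⟨y, hQS hy⟩ := fun e => hxy (by rw [show x = y from congrArg Subtype.val e])
    obtain ⟨e⟩ := dihedral_of_pair hox hoy hne'
    set m := orderOf ((⟨x, hP.1.1 hx⟩ : S) * ⟨y, hQS hy⟩) with hm
    have hm4 : m = 4 := by
      refine orderOf_eq_prime_pow (p := 2) (n := 1) ?_ ?_
      · intro h1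
        refine hxy ?_
        have h2 : x * y * (x * y) = 1 := by
          have := congrArg Subtype.val h1
          simpa [sq] using this
        rw [sq] at hx2 hy2
        calc x * y = x * (x * y * (x * y)) * y := by rw [h2, mul_one]
          _ = (x * x) * (y * x) * (y * y) := by group
          _ = y * x := by rw [hx2, hy2, one_mul, mul_one]
      · refine Subtype.ext ?_
        have hz : (x * y) ^ 2 ∈ Zc S := h.pow_mem_Zc (mul_mem (hP.1.1 hx) (hQS hy))
        have h2 := pow_card_eq_one' (G := Zc S) (x := ⟨_, hz⟩)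
        rw [hZ] at h2
        have h3 : ((x * y) ^ 2) ^ 2 = 1 := congrArg Subtype.val h2
        rw [← pow_mul] at h3
        exact h3
    have htop : closure ({⟨x, hP.1.1 hx⟩, ⟨y, hQS hy⟩} : Set S) = ⊤ := by
      refine eq_top_of_card_eq _ ?_
      rw [Nat.card_congr e.toEquiv, DihedralGroup.nat_card, hm4, hS3]
      norm_num
    rw [hm4] at e
    exact ⟨topEquiv.symm.trans ((MulEquiv.subgroupCongr htop.symm).trans e)⟩

end SmallCentre

end CfsgLib.Invol.IndexP
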