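import Cfsg.Agent.Lib.Invol.CenterIndexSq
import Cfsg.Agent.Lib.Comp.Subnormal

/-!
# The centre of index four: its order in a core-free system without proper residual
-/

set_option autoImplicit false

namespace CfsgLib.Invol.IndexP

open Subgroup CfsgLib.Fusion
open scoped commutatorElement
open Cfsg.FusionSystem (normalizerIn centralizerIn)

variable {Ω : Type*} [Group Ω] {S A P E : Subgroup Ω} [Finite S] {F : Cfsg.FusionSystem S} {x : Ω}

/-- An automorphism with a power in `K` prime to an outer order lies in `K`. -/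
theorem mem_of_pow_mem_inn {p : ℕ} [hp : Fact p.Prime] (hS : IsPGroup p S) (hF : F.IsSaturated p)
    {K : Subgroup (MulAut S)} (hK : Cfsg.Inn S ≤ K) {γ : MulAut S} (hγ : γ ∈ F.autGroup S)
    (hγp : γ ^ p ∈ K) : γ ∈ K := by
  set I := (Cfsg.Inn S).subgroupOf (F.autGroup S) with hI
  haveI : I.Normal := by
    haveI : (Cfsg.Inn S).Normal := inn_normal
    exact Subgroup.normal_subgroupOf
  obtain ⟨T, hT⟩ := (fullyAutomized_of_fullyNormalized hS hF (fullyNormalized_top F)).2
  have hinn : Cfsg.autInducedBy S S = Cfsg.Inn S := by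
    refine le_antisymm (fun α hα => ?_) (inn_le_autInducedBy le_rfl)
    obtain ⟨a, ha, hax⟩ := mem_autInducedBy_iff.1 hα
    exact ⟨⟨a, ha⟩, MulEquiv.ext fun y => Subtype.ext (hax y).symm⟩
  rw [hinn] at hT
  have hn : ¬ p ∣ I.index := by
    have := T.not_dvd_index
    rwa [hT] at this
  have hγn : γ ^ I.index ∈ K := hK (by
    have := mem_subgroupOf.1 (I.pow_index_mem ⟨γ, hγ⟩)
    rwa [Subgroup.coe_pow] at this)
  obtain ⟨u, v, huv⟩ : ∃ u v : ℤ, (p : ℤ) * u + (I.index : ℤ) * v = 1 :=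
    ⟨_, _, by
      rw [← Int.gcd_eq_gcd_ab, Int.gcd_natCast_natCast, hp.out.coprime_iff_not_dvd.2 hn]; rfl⟩
  rw [← zpow_one γ, ← huv, zpow_add, zpow_mul, zpow_mul, zpow_natCast, zpow_natCast]
  exact mul_mem (zpow_mem hγp u) (zpow_mem hγn v)

/-- An elementary abelian subgroup of index two over the centre. -/
structure ElemTwo (S E : Subgroup Ω) : Prop where
  hZ : Zc S ≤ E
  hS : E ≤ S
  card : Nat.card S = 2 * Nat.card E
  sq : ∀ y ∈ E, y * y = 1

namespace SmallCentre

theorem ab_of_sq {E : Subgroup Ω} (hsq : ∀ y ∈ E, y * y = 1) : IsMulCommutative E := by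
  refine ⟨⟨fun a b => Subtype.ext ?_⟩⟩
  show (a : Ω) * b = b * a
  have h1 := hsq _ a.2
  have h2 := hsq _ b.2
  have h3 := hsq _ (mul_mem a.2 b.2)
  calc (a : Ω) * b = a * (a * b * (a * b)) * b := by rw [h3, mul_one]
    _ = (a * a) * (b * a) * (b * b) := by group
    _ = b * a := by rw [h1, h2, one_mul, mul_one]

theorem _root_.CfsgLib.Invol.IndexP.ElemTwo.base (e : ElemTwo S E) (h : SmallCentre 2 S) :
    Base 2 S E := by
  refine ⟨h.pgroup, h.na, e.hS, ab_of_sq e.sq, ?_⟩
  haveI := finite_of_le e.hS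
  have h1 := card_mul_index (E.subgroupOf S)
  rw [Nat.card_congr (subgroupOfEquivOfLe e.hS).toEquiv, e.card, mul_comm 2] at h1
  exact Nat.eq_of_mul_eq_mul_left Nat.card_pos h1

theorem lt_mid (h : SmallCentre 2 S) (hZ : Zc S ≤ E) (hc : Nat.card S = 2 * Nat.card E)
    (hES : E ≤ S) : Zc S < E ∧ E < S := by
  haveI := finite_of_le (inf_le_left : Zc S ≤ S)
  haveI := finite_of_le hES
  constructor
  · refine lt_of_le_of_ne hZ fun e => ?_
    subst e
    have := h.card
    have := Nat.card_pos (α := Zc S)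
    omega
  · refine lt_of_le_of_ne hES fun e => ?_
    subst e
    have := Nat.card_pos (α := E)
    omega

theorem eq_of_common (h : SmallCentre 2 S) {E' : Subgroup Ω} (e : ElemTwo S E) (e' : ElemTwo S E')
    {y : Ω} (hy : y ∈ E) (hy' : y ∈ E') (hyZ : y ∉ Zc S) : E = E' := by
  haveI : Fact (Nat.Prime 2) := ⟨Nat.prime_two⟩
  haveI := finite_of_le e.hS
  haveI := finite_of_le e'.hS
  have hlt : Zc S < E ⊓ E' := lt_of_le_not_ge (le_inf e.hZ e'.hZ) fun hle => hyZ (hle ⟨hy, hy'⟩)
  have hlt' : E ⊓ E' < S := lt_of_le_of_lt inf_le_left (h.lt_mid e.hZ e.card e.hS).2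
  have hc := (h.card_mid hlt hlt').1
  have h1 : E ⊓ E' = E := eq_of_le_of_card_le inf_le_left (by rw [e.card] at hc; omega)
  have h2 : E ⊓ E' = E' := eq_of_le_of_card_le inf_le_right (by rw [e'.card] at hc; omega)
  exact h1.symm.trans h2

/-- There are at most two elementary abelian subgroups of index two over the centre. -/
theorem two_elem (h : SmallCentre 2 S) {E1 E2 E3 : Subgroup Ω} (e1 : ElemTwo S E1) (e2 : ElemTwo S E2)
    (e3 : ElemTwo S E3) (hne : E1 ≠ E2) : E3 = E1 ∨ E3 = E2 := by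
  haveI : Fact (Nat.Prime 2) := ⟨Nat.prime_two⟩
  obtain ⟨y2, hy2, hy2Z⟩ := SetLike.exists_of_lt (h.lt_mid e2.hZ e2.card e2.hS).1
  obtain ⟨y3, hy3, hy3Z⟩ := SetLike.exists_of_lt (h.lt_mid e3.hZ e3.card e3.hS).1
  by_cases hy31 : y3 ∈ E1
  · exact Or.inl (h.eq_of_common e3 e1 hy3 hy31 hy3Z)
  have hy21 : y2 ∉ E1 := fun hm => hne (h.eq_of_common e1 e2 hm hy2 hy2Z)
  have hb := e1.base h
  have he : y2 * y3 ∈ E1 := mem_subgroupOf.1
    ((mul_mem_iff_of_index_two hb.index (a := ⟨y2, e2.hS hy2⟩) (b := ⟨y3, e3.hS hy3⟩)).2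
      (iff_of_false (fun m => hy21 m) fun m => hy31 m))
  refine Or.inr (h.eq_of_common e3 e2 hy3 ?_ hy3Z)
  suffices hz : y2 * y3 ∈ Zc S by
    have := mul_mem (inv_mem hy2) (e2.hZ hz)
    rwa [inv_mul_cancel_left] at this
  refine hb.mem_Zc_of_commute (e3.hS hy3) hy31 he ?_
  have h1 := e2.sq y2 hy2
  have h2 := e3.sq y3 hy3
  have h3 := e1.sq _ he
  have h4 : y2 * y3 = y3 * y2 := by
    calc y2 * y3 = y2 * (y2 * y3 * (y2 * y3)) * y3 := by rw [h3, mul_one]
      _ = (y2 * y2) * (y3 * y2) * (y3 * y3) := by group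
      _ = y3 * y2 := by rw [h1, h2, one_mul, mul_one]
  exact Commute.mul_left h4 (Commute.refl y3)

/-- Elementary abelian subgroups of index two over the centre are fixed by `Aut_F(S)`. -/
theorem elem_invariant (h : SmallCentre 2 S) (hF : F.IsSaturated 2) (e : ElemTwo S E) {γ : MulAut S}
    (hγ : γ ∈ F.autGroup S) (y : S) (hy : (y : Ω) ∈ E) : (γ y : Ω) ∈ E := by
  haveI : Fact (Nat.Prime 2) := ⟨Nat.prime_two⟩
  have himg : ∀ {E' : Subgroup Ω}, ElemTwo S E' → ∀ β : MulAut S,
      ElemTwo S (((E'.subgroupOf S).map β.toMonoidHom).map S.subtype) := by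
    intro E' e' β
    refine ⟨fun z hz => ?_, map_subtype_le _, ?_, ?_⟩
    · refine ⟨⟨z, hz.1⟩, ⟨β⁻¹ ⟨z, hz.1⟩, ?_, MulAut.apply_inv_self _ _ _⟩, rfl⟩
      exact e'.hZ (mem_center_iff_Zc.1 (aut_center β⁻¹ (mem_center_iff_Zc.2 hz)))
    · rw [card_map_of_injective S.subtype_injective, card_map_of_injective β.injective,
        Nat.card_congr (subgroupOfEquivOfLe e'.hS).toEquiv]
      exact e'.card
    · rintro _ ⟨_, ⟨w, hw, rfl⟩, rfl⟩
      show ((β w : S) : Ω) * (β w : S) = 1
      rw [← Subgroup.coe_mul, ← map_mul, show w * w = 1 from Subtype.ext (e'.sq _ hw), map_one]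
      rfl
  let K : Subgroup (MulAut S) :=
    { carrier := {β | (E.subgroupOf S).map β.toMonoidHom = E.subgroupOf S}
      one_mem' := map_id _
      mul_mem' := fun {a b} (ha : (E.subgroupOf S).map a.toMonoidHom = E.subgroupOf S)
          (hb : (E.subgroupOf S).map b.toMonoidHom = E.subgroupOf S) => by
        show (E.subgroupOf S).map ((a * b : MulAut S)).toMonoidHom = _
        rw [show ((a * b : MulAut S)).toMonoidHom = a.toMonoidHom.comp b.toMonoidHom from rfl,
          ← Subgroup.map_map, hb, ha]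
      inv_mem' := fun {a} (ha : (E.subgroupOf S).map a.toMonoidHom = E.subgroupOf S) => by
        show (E.subgroupOf S).map (a⁻¹).toMonoidHom = _
        conv_lhs => rw [← ha, Subgroup.map_map]
        rw [show (a⁻¹).toMonoidHom.comp a.toMonoidHom = MonoidHom.id S from
          MonoidHom.ext fun w => MulAut.inv_apply_self _ _ _, Subgroup.map_id] }
  suffices hK : γ ∈ K by exact mem_subgroupOf.1 ((hK : _ = _).le (mem_map_of_mem _ (mem_subgroupOf.2 hy)))
  refine mem_of_pow_mem_inn h.pgroup hF ?_ hγ ?_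
  · haveI := (e.base h).normal
    rintro _ ⟨a, rfl⟩
    refine eq_of_le_of_card_ge ?_ (card_map_of_injective (MulAut.conj a).injective).ge
    rintro _ ⟨w, hw, rfl⟩
    exact (inferInstance : (E.subgroupOf S).Normal).conj_mem w hw a
  · by_cases h1 : γ ∈ K
    · exact pow_mem h1 2
    set E' := ((E.subgroupOf S).map γ.toMonoidHom).map S.subtype
    have hne : E ≠ E' := fun he => h1 (by
      show (E.subgroupOf S).map γ.toMonoidHom = E.subgroupOf S
      conv_rhs => rw [he]
      exact (comap_map_eq_self_of_injective S.subtype_injective _).symm)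
    show (E.subgroupOf S).map (γ ^ 2).toMonoidHom = E.subgroupOf S
    rw [pow_two, show ((γ * γ : MulAut S)).toMonoidHom = γ.toMonoidHom.comp γ.toMonoidHom from rfl,
      ← Subgroup.map_map]
    rcases h.two_elem e (himg e γ) (himg (himg e γ) γ) hne with h2 | h2 <;>
      rw [show E'.subgroupOf S = (E.subgroupOf S).map γ.toMonoidHom from
        comap_map_eq_self_of_injective S.subtype_injective _] at h2
    · conv_rhs => rw [← h2]
      exact (comap_map_eq_self_of_injective S.subtype_injective _).symm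
    · exfalso
      have h3 := congrArg (fun L : Subgroup Ω => L.subgroupOf S) h2
      simp only [E', subgroupOf, comap_map_eq_self_of_injective S.subtype_injective] at h3
      exact h1 (map_injective γ.injective h3)

/-- Off the essential subgroups the centre is preserved. -/
theorem preserves_of_not_essential (h : SmallCentre 2 S) (hF : F.IsSaturated 2) (hE : E ≤ S)
    (hZ : Zc S ≤ E) (hc : Nat.card S = 2 * Nat.card E) (hne : ¬ F.IsEssential 2 E) :
    ∀ α ∈ F.autGroup E, ∀ z : E, (z : Ω) ∈ Zc S → (α z : Ω) ∈ Zc S := by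
  haveI : Fact (Nat.Prime 2) := ⟨Nat.prime_two⟩
  haveI := finite_of_le hE
  have hlt := (h.lt_mid hZ hc hE).2
  have hnS : normalizerIn S E = S := by
    refine inf_eq_left.2 fun s hs => ?_
    haveI : Finite (E : Set Ω) := inferInstanceAs (Finite E)
    refine mem_normalizer_fintype fun y hy => ?_
    have hi : (E.subgroupOf S).index = 2 := by
      have h1 := card_mul_index (E.subgroupOf S)
      rw [Nat.card_congr (subgroupOfEquivOfLe hE).toEquiv, hc, mul_comm 2] at h1
      exact Nat.eq_of_mul_eq_mul_left Nat.card_pos h1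
    haveI := normal_of_index_eq_two hi
    exact mem_subgroupOf.1 ((inferInstance : (E.subgroupOf S).Normal).conj_mem ⟨y, hE hy⟩
      (mem_subgroupOf.2 hy) ⟨s, hs⟩)
  have hfn : F.IsFullyNormalized E :=
    ⟨hE, fun Q _ => by rw [hnS]; exact card_le_of_le inf_le_left⟩
  intro α hα
  rw [← extAut_eq_of_not_essential h.pgroup hF hlt hfn hne] at hα
  rw [extAut] at hα
  induction hα using closure_induction with
  | mem β hβ =>
    intro z hz
    obtain ⟨R, hR, g, hg, hgx⟩ := hβ
    haveI := finite_of_le hg.le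
    have hRS : R = S := hg.le.eq_or_lt.resolve_right fun hlt' => by
      have h1 := (h.card_mid (lt_of_le_of_lt hZ hR) hlt').1
      exact hR.ne (eq_of_le_of_card_le hR.le (by rw [hc] at h1; omega))
    subst hRS
    have hi : img R g = R := eq_of_le_of_card_le hg.img_le hg.card_img.ge
    have := mem_center_iff_Zc.1 (aut_center (hg.toAut hi) ((mem_center_iff_Zc (z := (⟨(z : Ω), hE z.2⟩ : R))).2 hz))
    rwa [IsMap.toAut_apply, hgx] at this
  | one => exact fun z hz => hz
  | mul a b _ _ ha hb => exact fun z hz => ha _ (hb z hz)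
  | inv a _ ha =>
    intro z hz
    have hle : ((Zc S).subgroupOf E).map a.toMonoidHom = (Zc S).subgroupOf E := by
      refine eq_of_le_of_card_ge ?_ (card_map_of_injective a.injective).ge
      rintro _ ⟨w, hw, rfl⟩
      exact ha w hw
    obtain ⟨w, hw, hwz⟩ := hle.ge (show z ∈ (Zc S).subgroupOf E from hz)
    rw [← hwz]
    show ((a⁻¹ (a w) : E) : Ω) ∈ Zc S
    rwa [MulAut.inv_apply_self]

/-- The centre has order two. -/
theorem card_Zc_two (h : SmallCentre 2 S) (hF : F.IsSaturated 2) (hcore : F.core = ⊥)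
    (hhyp : F.hyperfocalSubgroup 2 = S) : Nat.card (Zc S) = 2 := by
  haveI : Fact (Nat.Prime 2) := ⟨Nat.prime_two⟩
  haveI := finite_of_le (inf_le_left : Zc S ≤ S)
  have hnormal : ∀ Q : Subgroup Ω, F.IsNormal Q → Q = ⊥ := fun Q hQ =>
    eq_bot_iff.2 (hcore ▸ le_sSup (show Q ∈ {Q | F.IsNormal Q} from hQ))
  have hcardP : ∀ P, F.IsEssential 2 P → Nat.card S = 2 * Nat.card P := fun P hP =>
    (h.card_mid (h.lt_essential hP) (lt_of_essential h.pgroup hF hP)).1
  let R : Subgroup Ω :=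
    { carrier := {z | z ∈ Zc S ∧ ∀ (E : Subgroup Ω) (f : Ω → Ω), Zc S ≤ E →
        Nat.card S = 2 * Nat.card E → IsMap F E f → img E f = E → f z ∈ Zc S}
      one_mem' := ⟨one_mem _, fun E f _ _ hf _ => by rw [hf.map_one]; exact one_mem _⟩
      mul_mem' := fun {a b} ha hb => ⟨mul_mem ha.1 hb.1, fun E f hZE hc hf hi => by
        rw [hf.map_mul (hZE ha.1) (hZE hb.1)]
        exact mul_mem (ha.2 E f hZE hc hf hi) (hb.2 E f hZE hc hf hi)⟩
      inv_mem' := fun {a} ha => ⟨inv_mem ha.1, fun E f hZE hc hf hi => by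
        rw [hf.map_inv (hZE ha.1)]; exact inv_mem (ha.2 E f hZE hc hf hi)⟩ }
  have hRaut : ∀ {P : Subgroup Ω}, F.IsEssential 2 P → ∀ α ∈ F.autGroup P, ∀ z : P,
      (z : Ω) ∈ R → (α z : Ω) ∈ Zc S := fun {P} hP α hα z hz => by
    have := hz.2 P _ (Zc_le_essential hP) (hcardP P hP) (isMap_of_autGroup hP.1.1 hα) (img_toFun_aut α)
    rwa [toFun_aut_apply α z.2] at this
  have hRγ : ∀ γ ∈ F.autGroup S, ∀ z : S, (z : Ω) ∈ R → (γ z : Ω) ∈ R := by
    intro γ hγ z hz
    have hcen : ∀ β ∈ F.autGroup S, ∀ w ∈ Zc S,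
        toFun (S.subtype.comp (β : MulAut S).toMonoidHom) w ∈ Zc S := fun β _ w hw => by
      rw [toFun_aut_apply _ hw.1]
      exact mem_center_iff_Zc.1 (aut_center β (mem_center_iff_Zc.2 hw))
    refine ⟨mem_center_iff_Zc.1 (aut_center γ (mem_center_iff_Zc.2 hz.1)), fun E f hZE hc hf hi => ?_⟩
    set g := toFun (S.subtype.comp γ.toMonoidHom) with hg
    set gi := toFun (S.subtype.comp γ⁻¹.toMonoidHom) with hgi
    have hgm := isMap_of_autGroup (le_refl S) hγ
    have hgim := isMap_of_autGroup (le_refl S) (inv_mem hγ)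
    have hggi : ∀ w ∈ S, g (gi w) = w := fun w hw => by
      rw [hgi, toFun_aut_apply _ hw, hg, toFun_aut_apply _ (SetLike.coe_mem _), Subtype.coe_eta,
        MulAut.apply_inv_self]
    have hgig : ∀ w ∈ S, gi (g w) = w := fun w hw => by
      rw [hg, toFun_aut_apply _ hw, hgi, toFun_aut_apply _ (SetLike.coe_mem _), Subtype.coe_eta,
        MulAut.inv_apply_self]
    set E' := img E gi with hE'
    have hES := hf.le
    haveI := finite_of_le hES
    have hgiE : IsMap F E gi := hgim.mono hES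
    have hE'S : E' ≤ S := hgiE.img_le
    haveI := finite_of_le hE'S
    have hmem1 : ∀ w ∈ E', g w ∈ E := fun w hw => by
      obtain ⟨e, he, rfl⟩ := hgiE.mem_img.1 hw
      rwa [hggi e (hES he)]
    have hm1 : IsMap F E' (fun w => f (g w)) := (hgm.mono hE'S).comp hf hmem1
    have hmem2 : ∀ w ∈ E', f (g w) ∈ E := fun w hw =>
      hi.le (hf.apply_mem_img (hmem1 w hw))
    have hm2 : IsMap F E' (fun w => gi (f (g w))) := hm1.comp hgiE hmem2
    have hi' : img E' (fun w => gi (f (g w))) = E' := by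
      refine eq_of_le_of_card_le (fun y hy => ?_) hm2.card_img.ge
      obtain ⟨w, hw, rfl⟩ := hm2.mem_img.1 hy
      exact hgiE.apply_mem_img (hmem2 w hw)
    have hZE' : Zc S ≤ E' := fun w hw => by
      rw [← hgig w hw.1]
      exact hgiE.apply_mem_img (hZE (hcen γ hγ w hw))
    have h1 : gi (f (g z)) ∈ Zc S := hz.2 E' _ hZE' (by rw [hgiE.card_img]; exact hc) hm2 hi'
    have h2 := hcen γ hγ _ h1
    rw [← hg, hggi _ (hf.mem (hmem1 _ (hZE' hz.1))), hg, toFun_aut_apply γ z.2] at h2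
    exact h2
  have hRN : F.IsNormal R := by
    refine isNormal_of_alperin h.pgroup hF (fun z hz => hz.1.1) fun P hP => ?_
    rcases hP with rfl | hP
    · exact ⟨fun z hz => hz.1.1, fun α hα z hz => hRγ α hα z hz⟩
    refine ⟨fun z hz => Zc_le_essential hP hz.1, fun α hα z hz => ?_⟩
    have hext : ∀ k : MulAut P, k ∈ F.autGroup P → (∀ y : P, (y : Ω) ∈ Zc S → (k y : Ω) ∈ Zc S) →
        (k z : Ω) ∈ R := by
      intro k hk hinv
      obtain ⟨γ, hγ, hγk⟩ := exists_extend_center h.pgroup hF hP.1.1 (Zc_le_essential hP) hk hinv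
      rw [← hγk z hz.1]
      exact hRγ γ hγ _ hz
    by_cases hinv : ∀ y : P, (y : Ω) ∈ Zc S → (α y : Ω) ∈ Zc S
    · exact hext α hα hinv
    push Not at hinv
    obtain ⟨A, x, c⟩ := h.exists_abCase hF hP
    obtain ⟨t, u, T⟩ := c.exists_transvection
    have hαu := c.image_u_not_mem T hα hinv
    have hαu' := c.image_u_not_mem T (inv_mem hα) (c.exists_out hinv)
    have htA := autInducedBy_le_autGroup (F := F) c.hP.1.1 T.mem
    set k := (α * t * α⁻¹) * t * α with hk
    have hkinv : ∀ y : P, (y : Ω) ∈ Zc S → (k y : Ω) ∈ Zc S := by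
      intro y hy
      show (((α * t * α⁻¹) (t (α y)) : P) : Ω) ∈ Zc S
      by_cases hy' : (α y : Ω) ∈ Zc S
      · rw [T.hfix _ hy', AbCase.conj_fix T α (by rwa [MulAut.inv_apply_self])]
        exact hy'
      · rw [T.hmove _ hy']
        have h1 : ((α⁻¹ (α y * u) : P) : Ω) ∉ Zc S := by
          rw [map_mul, MulAut.inv_apply_self, Subgroup.coe_mul]
          exact fun hm => hαu' ((mul_mem_cancel_left hy).1 hm)
        rw [AbCase.conj_move T α h1, mul_assoc, c.hab u, ← mul_assoc, Subgroup.coe_mul]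
        exact mul_mem (c.mul_mem_Zc hy' hαu) (AbCase.u_mem T)
    have hαz := hRaut hP α hα z hz
    have h2 : k z = α z := by
      show (α * t * α⁻¹) (t (α z)) = α z
      rw [T.hfix _ hαz, AbCase.conj_fix T α (by rw [MulAut.inv_apply_self]; exact hz.1)]
    rw [← h2]
    exact hext k (mul_mem (mul_mem (mul_mem (mul_mem hα htA) (inv_mem hα)) htA) hα) hkinv
  have hR0 := hnormal R hRN
  -- the centre is elementary
  have hsq : ∀ z ∈ Zc S, z * z = 1 := by
    intro z hz
    have hm : z * z ∈ R := ⟨mul_mem hz hz, fun E f hZE hc hf hi => by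
      rw [hf.map_mul (hZE hz) (hZE hz), ← sq]
      exact h.pow_mem_Zc (hf.mem (hZE hz))⟩
    rwa [hR0, mem_bot] at hm
  have helem : ∀ P, F.IsEssential 2 P → ElemTwo S P := by
    intro P hP
    obtain ⟨A, x, c⟩ := h.exists_abCase hF hP
    refine ⟨Zc_le_essential hP, hP.1.1, hcardP P hP, fun y hy => ?_⟩
    by_cases hyZ : y ∈ Zc S
    · exact hsq y hyZ
    obtain ⟨t, u, T⟩ := c.exists_transvection
    obtain ⟨g, hgA, hg⟩ := c.exists_move
    have hv := c.image_u_not_mem T hgA hg
    have h1 := hsq _ (c.mul_mem_Zc (y := ⟨y, hy⟩) hyZ hv)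
    have h2 : g u * g u = 1 := by rw [← map_mul, T.sq, map_one]
    have h3 : ((⟨y, hy⟩ : P) * g u) * (⟨y, hy⟩ * g u) = 1 := Subtype.ext h1
    rw [(show Commute (g u) ⟨y, hy⟩ from c.hab _ _).mul_mul_mul_comm, h2, mul_one] at h3
    exact congrArg Subtype.val h3
  -- two essential subgroups
  obtain ⟨A1, P1, x1, c1⟩ := IndexP.exists_abCase h.pgroup hF h.na hcore fun P hP => Or.inl (h.exists_abCase hF hP)
  have e1 := helem P1 c1.hP
  obtain ⟨P2, hP2, hne⟩ : ∃ P2, F.IsEssential 2 P2 ∧ P1 ≠ P2 := by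
    by_contra hc
    push Not at hc
    have hN : F.IsNormal P1 := by
      refine isNormal_of_alperin h.pgroup hF c1.hP.1.1 fun P hP => ?_
      rcases hP with rfl | hP
      · exact ⟨c1.hP.1.1, fun α hα z hz => h.elem_invariant hF e1 hα z hz⟩
      · obtain rfl := hc P hP
        exact ⟨le_rfl, fun α _ z _ => (α z).2⟩
    exact c1.hxA (by rw [show x1 = 1 from mem_bot.1 (hnormal P1 hN ▸ c1.hx)]; exact one_mem _)
  obtain ⟨A2, x2, c2⟩ := h.exists_abCase hF hP2
  have e2 := helem P2 hP2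
  obtain ⟨t1, u1, T1⟩ := c1.exists_transvection
  obtain ⟨t2, u2, T2⟩ := c2.exists_transvection
  obtain ⟨g1, hg1A, hg1⟩ := c1.exists_move
  obtain ⟨g2, hg2A, hg2⟩ := c2.exists_move
  -- the fixed parts
  have hWinv : ∀ {A P : Subgroup Ω} {x : Ω} {t : MulAut P} {u : P}, AbCase 2 F A P x →
      Transvection F P t u → ∀ g : MulAut P, g ∈ F.autGroup P →
        (∃ z : P, (z : Ω) ∈ Zc S ∧ (g z : Ω) ∉ Zc S) →
      ∀ z ∈ AbCase.meet S g, ∀ α ∈ F.autGroup P, (α z : Ω) ∈ Zc S := by
    intro A P x t u c T g hgA hg z hz α hα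
    by_cases hinv : ∀ y : P, (y : Ω) ∈ Zc S → (α y : Ω) ∈ Zc S
    · exact hinv z hz.1
    push Not at hinv
    have := (c.two_moves T hgA hg (inv_mem hα) (c.exists_out hinv)).2 z hz
    rwa [inv_inv] at this
  set W1 := (AbCase.meet S g1).map P1.subtype with hW1
  set W2 := (AbCase.meet S g2).map P2.subtype with hW2
  have hW1Z : W1 ≤ Zc S := by rintro _ ⟨w, hw, rfl⟩; exact hw.1
  have hW2Z : W2 ≤ Zc S := by rintro _ ⟨w, hw, rfl⟩; exact hw.1
  have hinf : W1 ⊓ W2 = ⊥ := by
    refine (eq_bot_iff_forall _).2 fun z hz => ?_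
    have hm : z ∈ R := ⟨hW1Z hz.1, fun E f hZE hc hf hi => by
      have hES := hf.le
      set α := hf.toAut hi
      have hαA : α ∈ F.autGroup E := hf.toAut_mem hi
      have hfz : f z = (α ⟨z, hZE (hW1Z hz.1)⟩ : Ω) := (hf.toAut_apply hi ⟨z, _⟩).symm
      rw [hfz]
      by_cases hess : F.IsEssential 2 E
      · rcases h.two_elem e1 e2 (helem E hess) hne with rfl | rfl
        · obtain ⟨w, hw, hwz⟩ := hz.1
          obtain rfl : w = ⟨z, hZE (hW1Z hz.1)⟩ := Subtype.ext hwz
          exact hWinv c1 T1 g1 hg1A hg1 _ hw α hαA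
        · obtain ⟨w, hw, hwz⟩ := hz.2
          obtain rfl : w = ⟨z, hZE (hW1Z hz.1)⟩ := Subtype.ext hwz
          exact hWinv c2 T2 g2 hg2A hg2 _ hw α hαA
      · exact h.preserves_of_not_essential hF hES hZE hc hess α hαA _ (hW1Z hz.1)⟩
    rwa [hR0, mem_bot] at hm
  have hhalf : ∀ {A P : Subgroup Ω} {x : Ω} (c : AbCase 2 F A P x) (g : MulAut P),
      ((AbCase.meet S g).map P.subtype).relIndex (Zc S) ≤ 2 := by
    intro A P x c g
    refine Nat.le_of_dvd two_pos ?_
    have h1 := c.relIndex_meet g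
    have h3 : (AbCase.meet S g).relIndex ((Zc S).subgroupOf P) =
        ((AbCase.meet S g).map P.subtype).relIndex (((Zc S).subgroupOf P).map P.subtype) := by
      rw [relIndex_map_map_of_injective _ _ P.subtype_injective]
    rw [h3, subgroupOf_map_subtype, inf_eq_left.2 (Zc_le_essential c.hP)] at h1
    exact h1
  have hcW : ∀ W : Subgroup Ω, W ≤ Zc S → W.relIndex (Zc S) ≤ 2 →
      Nat.card (Zc S) ≤ 2 * Nat.card W := fun W hW hr => by
    have h1 := relIndex_mul_relIndex ⊥ W (Zc S) bot_le hW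
    rw [relIndex_bot_left, relIndex_bot_left] at h1
    rw [← h1, mul_comm 2]
    exact Nat.mul_le_mul_left _ hr
  haveI := finite_of_le (hW1Z.trans inf_le_left)
  haveI := finite_of_le (hW2Z.trans inf_le_left)
  have hW2c : Nat.card W2 ≤ 2 := by
    have h1 := relIndex_mul_relIndex ⊥ (W1 ⊓ W2) W2 bot_le inf_le_right
    rw [relIndex_bot_left, relIndex_bot_left, inf_relIndex_right, hinf, card_bot, one_mul] at h1
    rw [← h1]
    exact (relIndex_le_of_le_right hW2Z (by
      intro h0; have := relIndex_mul_relIndex ⊥ W1 (Zc S) bot_le hW1Z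
      rw [relIndex_bot_left, relIndex_bot_left, h0, mul_zero] at this
      exact Nat.card_pos.ne this)).trans (hhalf c1 g1)
  have hW1c : Nat.card W1 ≤ 2 := by
    have h1 := relIndex_mul_relIndex ⊥ (W2 ⊓ W1) W1 bot_le inf_le_right
    rw [relIndex_bot_left, relIndex_bot_left, inf_relIndex_right, inf_comm, hinf, card_bot, one_mul] at h1
    rw [← h1]
    exact (relIndex_le_of_le_right hW1Z (by
      intro h0; have := relIndex_mul_relIndex ⊥ W2 (Zc S) bot_le hW2Z
      rw [relIndex_bot_left, relIndex_bot_left, h0, mul_zero] at this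
      exact Nat.card_pos.ne this)).trans (hhalf c2 g2)
  have hZ4 : Nat.card (Zc S) ≤ 4 := (hcW W2 hW2Z (hhalf c2 g2)).trans (by omega)
  obtain ⟨k, hk⟩ := IsPGroup.iff_card.1 (h.pgroup.to_le (inf_le_left : Zc S ≤ S))
  have hk1 : 1 ≤ k := by
    by_contra hk0
    have h1 := card_le_of_le (inf_le_left : Zc S ⊓ Dc S ≤ Zc S)
    rw [c1.card_ZD, hk, show k = 0 by omega] at h1
    omega
  have hk2 : k ≤ 2 := (Nat.pow_le_pow_iff_right (by norm_num : 1 < 2)).1 (by rw [← hk]; exact hZ4)
  rcases (show k = 1 ∨ k = 2 by omega) with rfl | rfl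
  · exact hk
  exfalso
  -- `|Z| = 4`: the hyperfocal subgroup is proper
  have hDZ : Dc S ≤ Zc S := by
    haveI := finite_of_le (Dc_le (S := S))
    have he : Zc S ⊓ Dc S = Dc S := eq_of_le_of_card_le inf_le_right
      (by rw [c1.card_ZD, h.card_Dc c1.hA])
    exact he.ge.trans inf_le_left
  have hu12 : (u1 : Ω) = u2 := by
    have h2 := mem_subgroupOf.1 T2.hu
    have := congrArg Subtype.val (T1.uniq ⟨(u2 : Ω), Zc_le_essential c1.hP h2.1⟩ (mem_subgroupOf.2 h2)
      fun e => T2.ne_one (Subtype.ext (by simpa using congrArg Subtype.val e)))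
    exact this.symm
  let U : (P : Subgroup Ω) → P → Subgroup Ω := fun P u =>
    closure {y : Ω | ∃ α ∈ F.autGroup P, y = (α u : P)}
  set D := U P1 u1 ⊔ U P2 u2 with hD
  set z0 := (u1 : Ω) with hz0
  have hz0D : z0 ∈ D := mem_sup_left (subset_closure ⟨1, one_mem _, rfl⟩)
  have hDcD : Dc S ≤ D := by
    intro d hd
    by_cases hd1 : d = 1
    · rw [hd1]; exact one_mem _
    have := congrArg Subtype.val (T1.uniq ⟨d, Zc_le_essential c1.hP (hDZ hd)⟩
      (mem_subgroupOf.2 ⟨hDZ hd, hd⟩) fun e => hd1 (congrArg Subtype.val e))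
    rw [show d = z0 from this]
    exact hz0D
  set H := zpowers z0 ⊔ zpowers ((g1 u1 : P1) : Ω) with hH
  have hU : ∀ {A P : Subgroup Ω} {x : Ω} {t : MulAut P} {u : P}, AbCase 2 F A P x →
      Transvection F P t u → ∀ g : MulAut P, g ∈ F.autGroup P →
        (∃ z : P, (z : Ω) ∈ Zc S ∧ (g z : Ω) ∉ Zc S) →
      U P u ≤ zpowers (u : Ω) ⊔ zpowers ((g u : P) : Ω) := by
    intro A P x t u c T g hgA hg
    refine (closure_le _).2 ?_
    rintro _ ⟨α, hα, rfl⟩
    by_cases hinv : ∀ y : P, (y : Ω) ∈ Zc S → (α y : Ω) ∈ Zc S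
    · rw [c.preserving_fix T hα hinv]
      exact mem_sup_left (mem_zpowers _)
    push Not at hinv
    rcases (c.two_moves T hgA hg hα hinv).1 with e | e <;> rw [e]
    · exact mem_sup_right (mem_zpowers _)
    · rw [Subgroup.coe_mul]
      exact mul_mem (mem_sup_left (mem_zpowers _)) (mem_sup_right (mem_zpowers _))
  set v2 := ((g2 u2 : P2) : Ω) with hv2
  have hDle : D ≤ H ⊔ zpowers v2 := by
    refine sup_le ((hU c1 T1 g1 hg1A hg1).trans le_sup_left) ((hU c2 T2 g2 hg2A hg2).trans ?_)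
    rw [← hu12]
    exact sup_le (le_sup_left.trans le_sup_left) le_sup_right
  have hHS : H ≤ S := sup_le (zpowers_le.2 (AbCase.u_mem T1).1) (zpowers_le.2 (c1.hP.1.1 (g1 u1).2))
  haveI : Finite H := finite_of_le hHS
  have hDcH : Dc S ≤ H := by
    intro d hd
    by_cases hd1 : d = 1
    · rw [hd1]; exact one_mem _
    have := congrArg Subtype.val (T1.uniq ⟨d, Zc_le_essential c1.hP (hDZ hd)⟩
      (mem_subgroupOf.2 ⟨hDZ hd, hd⟩) fun e => hd1 (congrArg Subtype.val e))
    rw [show d = z0 from this]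
    exact mem_sup_left (mem_zpowers _)
  have hcH : Nat.card H ≤ 4 := by
    have hn : zpowers ((g1 u1 : P1) : Ω) ≤ normalizer (zpowers z0 : Set Ω) := zpowers_le.2 (by
      haveI : Finite (zpowers z0 : Set Ω) :=
        (finite_of_le (zpowers_le.2 (AbCase.u_mem T1).1) : Finite (zpowers z0))
      refine mem_normalizer_fintype fun y hy => ?_
      obtain ⟨i, rfl⟩ := mem_zpowers_iff.1 hy
      rw [(commute_of_mem_Zc (zpow_mem (AbCase.u_mem T1) i) (c1.hP.1.1 (g1 u1).2)).symm.eq,
        mul_inv_cancel_right]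
      exact zpow_mem (mem_zpowers _) i)
    refine (Nat.le_of_dvd ?_ (CfsgLib.Comp.card_sup_dvd_mul hn)).trans ?_
    · haveI := finite_of_le (zpowers_le.2 (AbCase.u_mem T1).1)
      haveI := finite_of_le (zpowers_le.2 (c1.hP.1.1 (g1 u1).2) : zpowers _ ≤ S)
      exact Nat.mul_pos Nat.card_pos Nat.card_pos
    · rw [Nat.card_zpowers, Nat.card_zpowers]
      refine (Nat.mul_le_mul (orderOf_le_of_pow_eq_one two_pos ?_) (orderOf_le_of_pow_eq_one two_pos ?_)).trans (by norm_num : 2 * 2 ≤ 4)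
      · rw [sq]; exact e1.sq _ (u1.2)
      · rw [sq]; exact e1.sq _ (g1 u1).2
  have hcD : Nat.card D ≤ 8 := by
    have hn : zpowers v2 ≤ normalizer (H : Set Ω) := zpowers_le.2 (by
      haveI : Finite (H : Set Ω) := inferInstanceAs (Finite H)
      refine mem_normalizer_fintype fun y hy => ?_
      rw [show v2 * y * v2⁻¹ = ⁅v2, y⁆ * y by rw [commutatorElement_def]; group]
      exact mul_mem (hDcH (comm_mem_Dc (hP2.1.1 (g2 u2).2) (hHS hy))) hy)
    haveI := finite_of_le (sup_le hHS (zpowers_le.2 (hP2.1.1 (g2 u2).2)) : H ⊔ zpowers v2 ≤ S)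
    refine (card_le_of_le hDle).trans ((Nat.le_of_dvd ?_ (CfsgLib.Comp.card_sup_dvd_mul hn)).trans ?_)
    · haveI := finite_of_le (zpowers_le.2 (hP2.1.1 (g2 u2).2) : zpowers v2 ≤ S)
      exact Nat.mul_pos Nat.card_pos Nat.card_pos
    · rw [Nat.card_zpowers]
      exact (Nat.mul_le_mul hcH (orderOf_le_of_pow_eq_one two_pos
        (by rw [sq]; exact e2.sq _ (g2 u2).2))).trans (by norm_num : 4 * 2 ≤ 8)
  have hDS : D ≤ S := hDle.trans (sup_le hHS (zpowers_le.2 (hP2.1.1 (g2 u2).2)))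
  have hN : ∀ a ∈ S, ∀ y ∈ D, a * y * a⁻¹ ∈ D := fun a ha y hy => by
    rw [show a * y * a⁻¹ = ⁅a, y⁆ * y by rw [commutatorElement_def]; group]
    exact mul_mem (hDcD (comm_mem_Dc ha (hDS hy))) hy
  have hE : ∀ {A P : Subgroup Ω} {x : Ω} {t : MulAut P} {u : P} (c : AbCase 2 F A P x)
      (T : Transvection F P t u) (g : MulAut P), g ∈ F.autGroup P →
        (∃ z : P, (z : Ω) ∈ Zc S ∧ (g z : Ω) ∉ Zc S) →
      Nat.card ((AbCase.meet S g).map P.subtype) ≤ 2 → U P u ≤ D →
      ∀ α ∈ F.autGroup P, ∀ y : P, (y : Ω)⁻¹ * (α y : P) ∈ D := by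
    intro A P x t u c T g hgA hg hWc hUD α hα
    have hmul : ∀ a b : P, (a : Ω)⁻¹ * (α a : P) ∈ D → (b : Ω)⁻¹ * (α b : P) ∈ D →
        ((a * b : P) : Ω)⁻¹ * (α (a * b) : P) ∈ D := by
      intro a b ha hb
      have h1 := mul_mem (hN _ (inv_mem (c.hP.1.1 b.2)) _ ha) hb
      rw [map_mul, Subgroup.coe_mul, Subgroup.coe_mul]
      convert h1 using 1
      group
    have hu : ∀ β ∈ F.autGroup P, ((β u : P) : Ω)⁻¹ * (α (β u) : P) ∈ D := fun β hβ =>
      mul_mem (inv_mem (hUD (subset_closure ⟨β, hβ, rfl⟩)))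
        (hUD (subset_closure ⟨α * β, mul_mem hα hβ, rfl⟩))
    have hW : ∀ w ∈ AbCase.meet S g, α w = w := by
      intro w hw
      haveI := c.fin
      rw [card_map_of_injective P.subtype_injective] at hWc
      have hmem : α w ∈ AbCase.meet S g := by
        have h1 := hWinv c T g hgA hg w hw α hα
        refine ⟨h1, g⁻¹ (α w), ?_, MulAut.apply_inv_self _ _ _⟩
        exact hWinv c T g hgA hg w hw (g⁻¹ * α) (mul_mem (inv_mem hgA) hα)
      by_cases hw1 : w = 1
      · rw [hw1, map_one]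
      by_contra hne'
      classical
      have h3 : 3 ≤ Nat.card (AbCase.meet S g) := by
        have hi : Function.Injective
            (![⟨1, one_mem _⟩, ⟨w, hw⟩, ⟨α w, hmem⟩] : Fin 3 → AbCase.meet S g) := by
          intro i j hij
          have := congrArg Subtype.val hij
          have d1 : (1 : P) ≠ w := Ne.symm hw1
          have d2 : (1 : P) ≠ α w := fun e => hw1 ((MulEquiv.map_eq_one_iff α).1 e.symm)
          have d3 : w ≠ α w := fun e => hne' e.symm
          fin_cases i <;> fin_cases j <;> first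
            | rfl
            | exact absurd this d1
            | exact absurd this.symm d1
            | exact absurd this d2
            | exact absurd this.symm d2
            | exact absurd this d3
            | exact absurd this.symm d3
        simpa using Nat.card_le_card_of_injective _ hi
      omega
    have hZ : ∀ y : P, (y : Ω) ∈ Zc S → (y : Ω)⁻¹ * (α y : P) ∈ D := by
      intro y hy
      haveI := c.normal_any (AbCase.meet S g)
      obtain ⟨w, hw, q, hq, rfl⟩ := mem_sup_of_normal_left.1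
        ((c.sup_meet hgA hg).ge (mem_subgroupOf.2 hy))
      refine hmul w q (by rw [hW w hw, inv_mul_cancel]; exact one_mem _) ?_
      by_cases hq1 : q = 1
      · rw [hq1, map_one, inv_mul_cancel]; exact one_mem _
      · rw [T.uniq q hq hq1]; exact hu 1 (one_mem _)
    intro y
    by_cases hy : (y : Ω) ∈ Zc S
    · exact hZ y hy
    · have h2 : g u * g u = 1 := by rw [← map_mul, T.sq, map_one]
      have e : y = (y * g u) * g u := by rw [mul_assoc, h2, mul_one]
      rw [e]
      exact hmul _ _ (hZ _ (c.mul_mem_Zc hy (c.image_u_not_mem T hgA hg))) (hu g hgA)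
  have hmaps : ∀ P, (P = S ∨ F.IsEssential 2 P) → ∀ α ∈ F.autGroup P,
      ∀ y : P, (y : Ω)⁻¹ * (α y : P) ∈ D := by
    rintro P (rfl | hP) α hα
    swap
    · rcases h.two_elem e1 e2 (helem P hP) hne with rfl | rfl
      · exact hE c1 T1 g1 hg1A hg1 hW1c le_sup_left α hα
      · exact hE c2 T2 g2 hg2A hg2 hW2c le_sup_right α hα
    let M : Subgroup Ω :=
      { carrier := {y | ∃ hy : y ∈ P, y⁻¹ * (α ⟨y, hy⟩ : Ω) ∈ D}
        one_mem' := ⟨one_mem _, by
          rw [show (⟨1, one_mem _⟩ : P) = 1 from rfl, map_one]; simp⟩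
        mul_mem' := by
          rintro a b ⟨ha, ha'⟩ ⟨hb, hb'⟩
          refine ⟨mul_mem ha hb, ?_⟩
          have h1 := mul_mem (hN _ (inv_mem hb) _ ha') hb'
          rw [show (⟨a * b, mul_mem ha hb⟩ : P) = ⟨a, ha⟩ * ⟨b, hb⟩ from rfl, map_mul, Subgroup.coe_mul]
          convert h1 using 1
          group
        inv_mem' := by
          rintro a ⟨ha, ha'⟩
          refine ⟨inv_mem ha, ?_⟩
          have h1 := hN _ ha _ (inv_mem ha')
          rw [show (⟨a⁻¹, inv_mem ha⟩ : P) = ⟨a, ha⟩⁻¹ from rfl, map_inv, Subgroup.coe_inv]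
          convert h1 using 1
          group }
    have hres : ∀ {E : Subgroup Ω}, ElemTwo P E →
        (∀ β ∈ F.autGroup E, ∀ y : E, (y : Ω)⁻¹ * (β y : E) ∈ D) → E ≤ M := by
      intro E e hd y hy
      have hm := (isMap_of_autGroup le_rfl hα).mono e.hS
      haveI := finite_of_le e.hS
      have hi : img E (toFun (P.subtype.comp α.toMonoidHom)) = E := by
        refine eq_of_le_of_card_le (fun w hw => ?_) hm.card_img.ge
        obtain ⟨w', hw', rfl⟩ := hm.mem_img.1 hw
        rw [toFun_aut_apply α (e.hS hw')]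
        exact h.elem_invariant hF e hα ⟨w', e.hS hw'⟩ hw'
      refine ⟨e.hS hy, ?_⟩
      have h1 := hd _ (hm.toAut_mem hi) ⟨y, hy⟩
      rwa [IsMap.toAut_apply, toFun_aut_apply α (e.hS hy)] at h1
    have h1 := hres e1 (hE c1 T1 g1 hg1A hg1 hW1c le_sup_left)
    have h2 := hres e2 (hE c2 T2 g2 hg2A hg2 hW2c le_sup_right)
    have hsup : P1 ⊔ P2 = P := by
      haveI := finite_of_le (sup_le e1.hS e2.hS)
      refine (sup_le e1.hS e2.hS).eq_or_lt.resolve_right fun hlt => hne ?_
      have hc := (h.card_mid (lt_of_lt_of_le (h.lt_mid e1.hZ e1.card e1.hS).1 le_sup_left) hlt).1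
      haveI := finite_of_le e1.hS
      haveI := finite_of_le e2.hS
      have h3 : P1 = P1 ⊔ P2 := eq_of_le_of_card_le le_sup_left (by rw [e1.card] at hc; omega)
      have h4 : P2 = P1 ⊔ P2 := eq_of_le_of_card_le le_sup_right (by rw [e2.card] at hc; omega)
      exact h3.trans h4.symm
    intro y
    obtain ⟨hy, hy'⟩ := (hsup ▸ sup_le h1 h2) y.2
    exact hy'
  have hconj : F ≤ conjModSys F D hN := by
    refine alperin h.pgroup hF fun P hP α hα => ?_
    have hPS : P ≤ S := hP.elim (fun e => e.le) fun e => e.1.1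
    refine (autGroup_iff_isMap hPS fun y => (toFun_aut_apply α y.2).symm).2
      ((isMap_conjModSys_iff hN).2 ⟨isMap_of_autGroup hPS hα, 1, one_mem _, fun y hy => ?_⟩)
    rw [toFun_aut_apply _ hy, one_mul, inv_one, mul_one]
    exact hmaps P hP α hα ⟨y, hy⟩
  have hle : F.hyperfocalSubgroup 2 ≤ D := hyperfocal_le_of D fun P hP α hα _ y => by
    obtain ⟨-, a, ha, hax⟩ := (isMap_conjModSys_iff hN).1 (le_iff_isMap.1 hconj P _ (isMap_of_autGroup hP hα))
    have h1 := hax y y.2
    rw [toFun_aut_apply α y.2] at h1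
    have h2 := mul_mem (hDcD (comm_mem_Dc (inv_mem (hP y.2)) ha)) h1
    convert h2 using 1
    rw [commutatorElement_def]
    group
  rw [hhyp] at hle
  haveI := finite_of_le hDS
  have := card_le_of_le hle
  have h16 := h.card
  rw [hk] at h16
  omega

end SmallCentre

end CfsgLib.Invol.IndexP
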