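import Cfsg.Agent.Lib.Invol.EssentialIndexPCore

/-!
# Abelian essential subgroups with a centre of index two, for `p = 2`
-/

set_option autoImplicit false

namespace CfsgLib.Invol.IndexP

open Subgroup CfsgLib.Fusion
open scoped commutatorElement
open Cfsg.FusionSystem (normalizerIn centralizerIn)

variable {Ω : Type*} [Group Ω] {S A P : Subgroup Ω} [Finite S] {F : Cfsg.FusionSystem S} {x : Ω}

/-- An involution in the derived subgroup and the transvection that `S` induces on `P`. -/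
structure Transvection (F : Cfsg.FusionSystem S) (P : Subgroup Ω) (t : MulAut P) (u : P) : Prop where
  mem : t ∈ Cfsg.autInducedBy S P
  hu : u ∈ AbCase.ZD S P
  ne_one : u ≠ 1
  hfix : ∀ z : P, (z : Ω) ∈ Zc S → t z = z
  hmove : ∀ y : P, (y : Ω) ∉ Zc S → t y = y * u
  uniq : ∀ w ∈ AbCase.ZD S P, w ≠ 1 → w = u
  only : ∀ τ ∈ Cfsg.autInducedBy S P, τ = 1 ∨ τ = t
  sq : u * u = 1

namespace AbCase

variable {g g' : MulAut P} {t : MulAut P} {u : P}

theorem exists_transvection (c : AbCase 2 F A P x) : ∃ t u, Transvection F P t u := by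
  haveI : Fact (Nat.Prime 2) := ⟨Nat.prime_two⟩
  haveI := c.fin
  have hc : Nat.card (ZD S P) = 2 :=
    (Nat.card_congr (subgroupOfEquivOfLe
      (inf_le_left.trans (Zc_le_essential c.hP) : Zc S ⊓ Dc S ≤ P)).toEquiv).trans c.card_ZD
  obtain ⟨u, hu, hu1⟩ := (ZD S P).bot_or_exists_ne_one.resolve_left fun h => by
    rw [h, card_bot] at hc; omega
  have huniq : ∀ w ∈ ZD S P, w ≠ 1 → w = u := fun w hw hw1 =>
    congrArg Subtype.val (((Nat.card_eq_two_iff' (1 : ZD S P)).1 hc).unique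
      (y₁ := ⟨w, hw⟩) (y₂ := ⟨u, hu⟩) (fun e => hw1 (congrArg Subtype.val e))
      (fun e => hu1 (congrArg Subtype.val e)))
  have hmv : ∀ τ ∈ Cfsg.autInducedBy S P, τ ≠ 1 → ∀ y : P, (y : Ω) ∉ Zc S → τ y = y * u := by
    intro τ hτ hτ1 y hy
    have hw : y⁻¹ * τ y ∈ ZD S P := by
      rw [c.hab y⁻¹ (τ y)]
      exact ⟨c.hB.le ⟨c.hA.Dc_le_A ((Base.induced_apply c.hP.1.1 hτ).2 y), (τ y * y⁻¹).2⟩,
        (Base.induced_apply c.hP.1.1 hτ).2 y⟩
    rw [← huniq _ hw fun e => hτ1 (c.induced_eq_one hτ hy (inv_mul_eq_one.1 e).symm),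
      mul_inv_cancel_left]
  obtain ⟨t, ht, ht1⟩ := c.exists_induced_ne_one
  refine ⟨t, u, ht, hu, hu1, (Base.induced_apply c.hP.1.1 ht).1, hmv t ht ht1, huniq,
    fun τ hτ => or_iff_not_imp_left.2 fun hτ1 => ?_, ?_⟩
  · refine MulEquiv.ext fun y => ?_
    by_cases hy : (y : Ω) ∈ Zc S
    · rw [(Base.induced_apply c.hP.1.1 hτ).1 y hy, (Base.induced_apply c.hP.1.1 ht).1 y hy]
    · rw [hmv τ hτ hτ1 y hy, hmv t ht ht1 y hy]
  · have h1 := pow_card_eq_one' (G := ZD S P) (x := ⟨u, hu⟩)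
    rw [hc, sq] at h1
    exact congrArg Subtype.val h1

theorem mul_mem_Zc (c : AbCase 2 F A P x) {y z : P} (hy : (y : Ω) ∉ Zc S) (hz : (z : Ω) ∉ Zc S) :
    ((y * z : P) : Ω) ∈ Zc S := by
  haveI : Fact (Nat.Prime 2) := ⟨Nat.prime_two⟩
  exact mem_subgroupOf.1 ((mul_mem_iff_of_index_two c.index_Z).2 (iff_of_false (fun h => hy h) fun h => hz h))

theorem u_mem (T : Transvection F P t u) : (u : Ω) ∈ Zc S :=
  (mem_inf.1 (mem_subgroupOf.1 T.hu)).1

theorem image_u_not_mem (c : AbCase 2 F A P x) (T : Transvection F P t u) (hgA : g ∈ F.autGroup P)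
    (hg : ∃ z : P, (z : Ω) ∈ Zc S ∧ (g z : Ω) ∉ Zc S) : (g u : Ω) ∉ Zc S := by
  haveI : Fact (Nat.Prime 2) := ⟨Nat.prime_two⟩
  intro hmem
  exact T.ne_one (c.inf_meet (inv_mem hgA) (c.exists_out hg) (mem_inf.1 (mem_subgroupOf.1 T.hu)).2
    ⟨u_mem T, g u, hmem, MulAut.inv_apply_self _ _ _⟩)

theorem conj_fix (T : Transvection F P t u) (g : MulAut P) {y : P}
    (hy : ((g⁻¹ y : P) : Ω) ∈ Zc S) : (g * t * g⁻¹) y = y := by
  show g (t (g⁻¹ y)) = y
  rw [T.hfix _ hy, MulAut.apply_inv_self]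

theorem conj_move (T : Transvection F P t u) (g : MulAut P) {y : P}
    (hy : ((g⁻¹ y : P) : Ω) ∉ Zc S) : (g * t * g⁻¹) y = y * g u := by
  show g (t (g⁻¹ y)) = y * g u
  rw [T.hmove _ hy, map_mul, MulAut.apply_inv_self]

theorem preserving_fix (c : AbCase 2 F A P x) (T : Transvection F P t u) {h : MulAut P}
    (hh : h ∈ F.autGroup P) (hinv : ∀ z : P, (z : Ω) ∈ Zc S → (h z : Ω) ∈ Zc S) : h u = u := by
  haveI : Fact (Nat.Prime 2) := ⟨Nat.prime_two⟩
  obtain ⟨γ, -, hγ⟩ := exists_extend_center c.hA.pgroup c.hF c.hP.1.1 (Zc_le_essential c.hP) hh hinv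
  refine T.uniq _ (mem_subgroupOf.2 ⟨hinv u (u_mem T), ?_⟩) fun e => T.ne_one (h.injective (e.trans (map_one h).symm))
  obtain ⟨d, hd, hdu⟩ := mem_map.1 (mem_inf.1 (mem_subgroupOf.1 T.hu)).2
  refine ⟨γ d, aut_commutator γ hd, ?_⟩
  have he : (⟨(u : Ω), (u_mem T).1⟩ : S) = d := Subtype.ext hdu.symm
  rw [← he]
  exact hγ u (u_mem T)

/-- Two moving automorphisms send `u` to one of two elements, and `meet` is the same for both. -/
theorem two_moves (c : AbCase 2 F A P x) (T : Transvection F P t u) (hgA : g ∈ F.autGroup P)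
    (hg : ∃ z : P, (z : Ω) ∈ Zc S ∧ (g z : Ω) ∉ Zc S) (hg'A : g' ∈ F.autGroup P)
    (hg' : ∃ z : P, (z : Ω) ∈ Zc S ∧ (g' z : Ω) ∉ Zc S) :
    (g' u = g u ∨ g' u = u * g u) ∧ ∀ z ∈ meet S g, ((g'⁻¹ z : P) : Ω) ∈ Zc S := by
  haveI : Fact (Nat.Prime 2) := ⟨Nat.prime_two⟩
  haveI := c.fin
  have hmeet : ∀ z ∈ meet S g, ((g⁻¹ z : P) : Ω) ∈ Zc S := by
    rintro _ ⟨-, v, hv, rfl⟩
    show ((g⁻¹ (g v) : P) : Ω) ∈ Zc S
    rw [MulAut.inv_apply_self]; exact hv
  set h := g⁻¹ * g' with hh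
  have hhA : h ∈ F.autGroup P := mul_mem (inv_mem hgA) hg'A
  by_cases hpres : ∀ z : P, (z : Ω) ∈ Zc S → (h z : Ω) ∈ Zc S
  · have hu := c.preserving_fix T hhA hpres
    refine ⟨Or.inl ?_, fun z hz => ?_⟩
    · conv_rhs => rw [← hu, hh, MulAut.mul_apply, MulAut.apply_inv_self]
    · have hinv : ∀ z : P, (z : Ω) ∈ Zc S → (h⁻¹ z : Ω) ∈ Zc S := by
        intro y hy
        by_contra hy'
        obtain ⟨y', hy1, hy2⟩ := c.exists_out (g := h⁻¹) ⟨y, hy, hy'⟩
        rw [inv_inv] at hy2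
        exact hy2 (hpres y' hy1)
      have h1 := hinv _ (hmeet z hz)
      rw [hh, mul_inv_rev, inv_inv, MulAut.mul_apply, MulAut.apply_inv_self] at h1
      exact h1
  push Not at hpres
  set v := g u with hv
  set w := g' u with hw
  have hb1 : ((g⁻¹ w : P) : Ω) ∉ Zc S := c.image_u_not_mem (g := h) T hhA hpres
  have hb2 : ((g'⁻¹ v : P) : Ω) ∉ Zc S := by
    have := c.image_u_not_mem T (inv_mem hhA) (c.exists_out hpres)
    rw [hh, mul_inv_rev, inv_inv] at this
    exact this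
  have hb3 : ((g⁻¹ u : P) : Ω) ∉ Zc S := c.image_u_not_mem T (inv_mem hgA) (c.exists_out hg)
  have hb4 : ((g'⁻¹ u : P) : Ω) ∉ Zc S := c.image_u_not_mem T (inv_mem hg'A) (c.exists_out hg')
  have hwZ : (w : Ω) ∉ Zc S := c.image_u_not_mem T hg'A hg'
  have hvZ : (v : Ω) ∉ Zc S := c.image_u_not_mem T hgA hg
  have ht' : ∀ y : P, t⁻¹ y = t y := by
    intro y
    have : t (t y) = y := by
      by_cases hy : (y : Ω) ∈ Zc S
      · rw [T.hfix y hy, T.hfix y hy]
      · rw [T.hmove y hy, map_mul, T.hmove y hy, T.hfix u (u_mem T), mul_assoc, T.sq, mul_one]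
    conv_lhs => rw [← this]
    exact MulAut.inv_apply_self _ _ _
  -- the two conjugates commute
  have hk : (t * g) u = u * v := by
    show t (g u) = u * v
    rw [T.hmove _ hvZ, c.hab]
  set q := (t * g) * t * (t * g)⁻¹ with hq
  set r := g' * t * g'⁻¹ with hr
  have hqw : q w = w := by
    refine conj_fix T (t * g) ?_
    show (((t * g)⁻¹ w : P) : Ω) ∈ Zc S
    rw [mul_inv_rev, MulAut.mul_apply, ht', T.hmove _ hwZ, map_mul]
    exact c.mul_mem_Zc hb1 hb3
  have hruv : r (u * v) = u * v := by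
    refine conj_fix T g' ?_
    rw [map_mul]
    exact c.mul_mem_Zc hb4 hb2
  have hqy : ∀ y, q y = y ∨ q y = y * (u * v) := fun y => by
    by_cases hy : (((t * g)⁻¹ y : P) : Ω) ∈ Zc S
    · exact Or.inl (conj_fix T _ hy)
    · exact Or.inr ((conj_move T _ hy).trans (by rw [hk]))
  have hry : ∀ y, r y = y ∨ r y = y * w := fun y => by
    by_cases hy : ((g'⁻¹ y : P) : Ω) ∈ Zc S
    · exact Or.inl (conj_fix T _ hy)
    · exact Or.inr (conj_move T _ hy)
  have hcomm : Commute q r := by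
    refine MulEquiv.ext fun y => ?_
    show q (r y) = r (q y)
    rcases hqy y with h1 | h1 <;> rcases hry y with h2 | h2 <;>
      simp only [h1, h2, map_mul, hqw, hruv]
    rw [mul_assoc y, c.hab (u * v) w, ← mul_assoc]
  have hinvol : ∀ k : MulAut P, (k * t * k⁻¹) * (k * t * k⁻¹) = 1 := fun k => by
    refine MulEquiv.ext fun y => ?_
    show k (t (k⁻¹ (k (t (k⁻¹ y))))) = y
    rw [MulAut.inv_apply_self, ← ht' (t _), MulAut.inv_apply_self, MulAut.apply_inv_self]
  have hqA : q ∈ F.autGroup P := mul_mem (mul_mem (mul_mem (autInducedBy_le_autGroup c.hP.1.1 T.mem) hgA)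
    (autInducedBy_le_autGroup c.hP.1.1 T.mem)) (inv_mem (mul_mem (autInducedBy_le_autGroup c.hP.1.1 T.mem) hgA))
  have hrA : r ∈ F.autGroup P :=
    mul_mem (mul_mem hg'A (autInducedBy_le_autGroup c.hP.1.1 T.mem)) (inv_mem hg'A)
  have hq1 : q ≠ 1 := fun e => by
    have e1 : t = 1 := conj_eq_one_iff.1 (hq ▸ e)
    have := T.hmove w hwZ
    rw [e1, MulAut.one_apply, left_eq_mul] at this
    exact T.ne_one this
  have hr1 : r ≠ 1 := fun e => by
    have e1 : t = 1 := conj_eq_one_iff.1 (hr ▸ e)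
    have := T.hmove w hwZ
    rw [e1, MulAut.one_apply, left_eq_mul] at this
    exact T.ne_one this
  have hqr : q = r := by
    by_contra hne
    let H : Subgroup (F.autGroup P) := closure {⟨q, hqA⟩, ⟨r, hrA⟩}
    have hc : ∀ a ∈ ({⟨q, hqA⟩, ⟨r, hrA⟩} : Set (F.autGroup P)),
        ∀ b ∈ ({⟨q, hqA⟩, ⟨r, hrA⟩} : Set (F.autGroup P)), a * b = b * a := by
      rintro a (rfl | rfl) b (rfl | rfl)
      · rfl
      · exact Subtype.ext hcomm.eq
      · exact Subtype.ext hcomm.eq.symm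
      · rfl
    haveI := isMulCommutative_closure hc
    have hsq : ∀ a ∈ H, a * a = 1 := by
      intro a ha
      induction ha using closure_induction with
      | mem a ha => rcases ha with rfl | rfl <;> exact Subtype.ext (hinvol _)
      | one => exact one_mul 1
      | mul a b ha hb h1 h2 =>
        rw [(show Commute b a from setLike_mul_comm hb ha).mul_mul_mul_comm, h1, h2, one_mul]
      | inv a _ h1 => rw [← mul_inv_rev, h1, inv_one]
    have hp2 : IsPGroup 2 H := fun a => ⟨1, Subtype.ext (by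
      rw [pow_one, sq]; exact hsq a a.2)⟩
    obtain ⟨T', hT'⟩ := hp2.exists_le_sylow
    obtain ⟨R, hR⟩ := (fullyAutomized_of_fullyNormalized c.hA.pgroup c.hF c.hP.2.1).2
    have hcard : Nat.card T' = Nat.card R := by
      rw [Sylow.card_eq_multiplicity, Sylow.card_eq_multiplicity]
    have h2 : Nat.card R ≤ 2 := by
      classical
      refine (Nat.card_le_card_of_injective (fun a : R => decide (((a : F.autGroup P) : MulAut P) = 1))
        fun a b hab => ?_).trans (by simp)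
      have ha : ((a : F.autGroup P) : MulAut P) ∈ Cfsg.autInducedBy S P := hR.le a.2
      have hb : ((b : F.autGroup P) : MulAut P) ∈ Cfsg.autInducedBy S P := hR.le b.2
      refine Subtype.ext (Subtype.ext ?_)
      rcases T.only _ ha with h1 | h1 <;> rcases T.only _ hb with h2 | h2 <;>
        simp only [h1, h2, decide_eq_decide, iff_true, true_iff] at hab ⊢ <;> simp_all
    have h3 : 3 ≤ Nat.card H := by
      classical
      have h4 : ({1, ⟨q, hqA⟩, ⟨r, hrA⟩} : Finset (F.autGroup P)).card = 3 := by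
        rw [Finset.card_insert_of_notMem, Finset.card_pair]
        · exact fun e => hne (congrArg Subtype.val e)
        · simp only [Finset.mem_insert, Finset.mem_singleton, not_or]
          exact ⟨fun e => hq1 (congrArg Subtype.val e.symm), fun e => hr1 (congrArg Subtype.val e.symm)⟩
      rw [← h4]
      rw [← Nat.card_eq_finsetCard]
      refine Nat.card_le_card_of_injective (fun a => (⟨a.1, ?_⟩ : H)) fun a b e => Subtype.ext (congrArg (fun k : H => (k : F.autGroup P)) e)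
      have ha := a.2
      simp only [Finset.mem_insert, Finset.mem_singleton] at ha
      rcases ha with e | e | e <;> rw [e]
      · exact one_mem _
      · exact subset_closure (Or.inl rfl)
      · exact subset_closure (Or.inr rfl)
    have := card_le_of_le hT'
    rw [hcard] at this
    omega
  refine ⟨Or.inr ?_, fun z hz => ?_⟩
  · have h1 : r u = u * w := conj_move T g' hb4
    have h2 : q u = v := by
      show (t * g) (t ((t * g)⁻¹ u)) = v
      rw [mul_inv_rev, MulAut.mul_apply, MulAut.mul_apply, ht', T.hfix u (u_mem T), T.hmove _ hb3,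
        map_mul, MulAut.apply_inv_self, map_mul, ← hv, T.hfix u (u_mem T), T.hmove _ hvZ, c.hab v u,
        ← mul_assoc, T.sq, one_mul]
    rw [hqr, h1] at h2
    calc w = u * (u * w) := by rw [← mul_assoc, T.sq, one_mul]
      _ = u * v := by rw [h2]
  · by_contra hz'
    have h1 : q z = z := by
      refine conj_fix T _ ?_
      rw [mul_inv_rev, MulAut.mul_apply, ht', T.hfix z hz.1]
      exact hmeet z hz
    have h2 : r z = z * w := conj_move T g' hz'
    rw [hqr, h2, mul_eq_left] at h1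
    exact hwZ (h1 ▸ one_mem (Zc S))

end AbCase

end CfsgLib.Invol.IndexP
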