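import Cfsg.Agent.Lib.Invol.TransferChain

/-!
The product of a cocycle over an action decomposes into transfers from the point stabilisers.
-/

set_option autoImplicit false
set_option linter.style.haveILetI false

open Subgroup MulAction

namespace CfsgLib.Invol

variable {S : Type*} [Group S] {X : Type*} [MulAction S X]
  {A : Type*} [CommGroup A] {u : S → X → A}

/-- The restriction of a cocycle to a point stabiliser is a homomorphism. -/
def stabCocycle (hu : ∀ (b a : S) (w : X), u (b * a) w = u b (a • w) * u a w) (w : X) :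
    stabilizer S w →* A :=
  MonoidHom.mk' (fun r => u r w) fun b a => by
    have h : (a : S) • w = w := a.2
    show u (b * a) w = u b w * u a w
    rw [hu, h]

variable [Finite S] [Finite X]

/-- The product of a cocycle is the product over the orbits of transfers from stabilisers. -/
theorem cocycle_prod_eq (hu : ∀ (b a : S) (w : X), u (b * a) w = u b (a • w) * u a w) (x : S)
    [Fintype X] [Fintype (Quotient (orbitRel S X))] :
    ∏ w : X, u x w =
      ∏ ω : Quotient (orbitRel S X), MonoidHom.transfer (stabCocycle hu ω.out) x := by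
  classical
  set Ω := Quotient (orbitRel S X)
  letI : ∀ ω : Ω, Fintype (S ⧸ stabilizer S ω.out) := fun ω => Fintype.ofFinite _
  let s : ∀ ω : Ω, S ⧸ stabilizer S ω.out → S := fun ω => Quotient.out
  have hs : ∀ ω b, (QuotientGroup.mk (s ω b) : S ⧸ stabilizer S ω.out) = b :=
    fun ω b => b.out_eq'
  let e : (Σ ω : Ω, S ⧸ stabilizer S ω.out) → X := fun q => s q.1 q.2 • q.1.out
  have he : Function.Bijective e := by
    constructor
    · rintro ⟨ω, b⟩ ⟨ω', b'⟩ h
      have h' : (s ω b) • ω.out = (s ω' b') • ω'.out := h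
      have hω : ω = ω' := by
        rw [← ω.out_eq, ← ω'.out_eq]
        refine Quotient.sound ⟨(s ω b)⁻¹ * s ω' b', ?_⟩
        show ((s ω b)⁻¹ * s ω' b') • ω'.out = ω.out
        rw [mul_smul, ← h', inv_smul_smul]
      subst hω
      have hb : b = b' := by
        rw [← hs ω b, ← hs ω b', QuotientGroup.eq, mem_stabilizer_iff, mul_smul, ← h',
          inv_smul_smul]
      rw [hb]
    · intro q
      set ω : Ω := Quotient.mk'' q
      obtain ⟨σ, hσ⟩ : ∃ σ : S, σ • ω.out = q := by
        obtain ⟨σ, hσ⟩ := Quotient.exact (ω.out_eq : Quotient.mk'' ω.out = Quotient.mk'' q)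
        exact ⟨σ⁻¹, by rw [show ω.out = σ • q from hσ.symm, inv_smul_smul]⟩
      refine ⟨⟨ω, QuotientGroup.mk σ⟩, ?_⟩
      have h1 : (s ω (QuotientGroup.mk σ))⁻¹ * σ ∈ stabilizer S ω.out :=
        QuotientGroup.eq.1 (hs _ _)
      rw [mem_stabilizer_iff, mul_smul, hσ] at h1
      show s ω (QuotientGroup.mk σ) • ω.out = q
      calc s ω (QuotientGroup.mk σ) • ω.out
          = s ω (QuotientGroup.mk σ) • ((s ω (QuotientGroup.mk σ))⁻¹ • q) :=
            congrArg (fun w => s ω (QuotientGroup.mk σ) • w) h1.symm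
        _ = q := smul_inv_smul _ _
  rw [← (Equiv.ofBijective e he).prod_comp, Fintype.prod_sigma]
  refine Finset.prod_congr (by ext; simp) fun ω _ => ?_
  rw [transfer_eq_prod_sect _ (s ω) (hs ω)]
  set w₀ := ω.out with hw₀
  have hterm : ∀ b, stabCocycle hu w₀ ⟨(s ω (x • b))⁻¹ * x * s ω b, sect_mem _ (hs ω) x b⟩ =
      u x (s ω b • w₀) * u (s ω b) w₀ / u (s ω (x • b)) w₀ := by
    intro b
    have h1 : ((s ω (x • b))⁻¹ * x * s ω b) • w₀ = w₀ := sect_mem _ (hs ω) x b
    rw [eq_div_iff_mul_eq']
    show u ((s ω (x • b))⁻¹ * x * s ω b) w₀ * u (s ω (x • b)) w₀ = _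
    have h2 := hu (s ω (x • b)) ((s ω (x • b))⁻¹ * x * s ω b) w₀
    rw [h1] at h2
    rw [mul_comm, ← h2, ← hu]
    congr 1
    group
  rw [Finset.prod_congr rfl fun b _ => hterm b, Finset.prod_div_distrib, Finset.prod_mul_distrib,
    Fintype.prod_equiv (toPerm x : Equiv.Perm (S ⧸ stabilizer S w₀))
      (fun b => u (s ω (x • b)) w₀) (fun b => u (s ω b) w₀) (fun b => rfl),
    mul_div_assoc, div_self', mul_one]
  rfl

omit [Finite S] in
/-- The size of a set acted on is the sum of the indices of the stabilisers. -/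
theorem card_eq_sum_index [Fintype (Quotient (orbitRel S X))] :
    Nat.card X = ∑ ω : Quotient (orbitRel S X), (stabilizer S ω.out).index := by
  classical
  haveI : ∀ ω : Quotient (orbitRel S X), Finite (S ⧸ stabilizer S ω.out) := fun ω =>
    Finite.of_equiv _ (orbitEquivQuotientStabilizer S ω.out)
  rw [Nat.card_congr (selfEquivSigmaOrbitsQuotientStabilizer S X), Nat.card_sigma]
  rfl

end CfsgLib.Invol
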