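import Cfsg.Agent.Lib.Invol.AvoidFixed
import Cfsg.Agent.Lib.OddLocal.QuadPair
import Cfsg.Agent.Lib.Amalgam.PCore
import Cfsg.Agent.Lib.Comp.Subnormal

/-!
Solvable groups, `p` odd: a `p`-subgroup generating a `p`-group with some conjugate from every class
lies in `O_p`.
-/

set_option autoImplicit false
set_option linter.style.haveILetI false

open Subgroup
open scoped Pointwise

universe u

namespace CfsgLib.Invol

theorem isPGroup_join_of_subnormal {G : Type u} [Group G] [Finite G] {p : ℕ} [Fact p.Prime]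
    {A : Subgroup G} (hA : IsPGroup p A) (g : G)
    (hsn : (A.subgroupOf (A ⊔ MulAut.conj g • A)).IsSubnormal) :
    IsPGroup p (A ⊔ MulAut.conj g • A : Subgroup G) := by
  set B := MulAut.conj g • A with hB
  set J := A ⊔ B
  haveI := Cfsg.pCore_normal p J
  have h1 : A.subgroupOf J ≤ Cfsg.pCore p J :=
    CfsgLib.Comp.le_pCore_of_isSubnormal hsn
      (hA.of_equiv (Subgroup.subgroupOfEquivOfLe le_sup_left).symm)
  have hBp : IsPGroup p B := hA.of_equiv (Subgroup.equivSMul (MulAut.conj g) A)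
  have h2 : IsPGroup p (Cfsg.pCore p J ⊔ B.subgroupOf J : Subgroup J) :=
    (CfsgLib.Comp.isPGroup_pCore p J).to_sup_of_normal_left
      (hBp.of_equiv (Subgroup.subgroupOfEquivOfLe le_sup_right).symm)
  have h3 : (⊤ : Subgroup J) ≤ Cfsg.pCore p J ⊔ B.subgroupOf J := by
    rw [← Subgroup.subgroupOf_self J]
    show (A ⊔ B).subgroupOf J ≤ _
    rw [Subgroup.subgroupOf_sup le_sup_left le_sup_right]
    exact sup_le_sup_right h1 _
  exact (h2.to_le h3).of_equiv Subgroup.topEquiv

theorem le_pCore_of_class_join_aux {p : ℕ} [Fact p.Prime] (hp : p ≠ 2) :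
    ∀ (n : ℕ) (G : Type u) [Group G] [Finite G], Group.IsSolvable G → Nat.card G ≤ n →
      ∀ A : Subgroup G, IsPGroup p A →
        (∀ c : G, ∃ g : G, IsConj c g ∧ IsPGroup p (A ⊔ MulAut.conj g • A : Subgroup G)) →
        A ≤ Cfsg.pCore p G := by
  intro n
  induction n with
  | zero =>
    intro G _ _ _ hn
    exact absurd hn (by have := Nat.card_pos (α := G); omega)
  | succ n ih =>
  intro G _ _ hs hn A hA h
  classical
  haveI := hs
  have hpp : p.Prime := Fact.out
  rcases subsingleton_or_nontrivial G with hG | hG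
  · intro x _
    rw [Subsingleton.elim x 1]
    exact one_mem _
  -- a normal abelian `q`-subgroup
  obtain ⟨D, hDn, hD1, hDc⟩ := CfsgLib.OddLocal.exists_abelian_normal G
  haveI := hDn
  haveI := hDc
  obtain ⟨q, hq, hqD⟩ := Nat.exists_prime_and_dvd (mt Subgroup.card_eq_one.1 hD1)
  haveI := Fact.mk hq
  obtain ⟨Q⟩ := (inferInstance : Nonempty (Sylow q D))
  haveI hQn : (Q : Subgroup D).Normal :=
    ⟨fun x hx y => by rw [mul_comm' y x, mul_inv_cancel_right]; exact hx⟩
  haveI := Q.characteristic_of_normal hQn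
  set N : Subgroup G := (Q : Subgroup D).map D.subtype with hNdef
  haveI hNn : N.Normal := inferInstance
  have hNq : IsPGroup q N := Q.2.map _
  have hN1 : N ≠ ⊥ := by
    rw [hNdef, Ne, Subgroup.map_eq_bot_iff_of_injective _ D.subtype_injective]
    intro hb
    have h1 := Q.card_eq_multiplicity
    rw [hb, Subgroup.card_bot] at h1
    have h2 := hq.factorization_pos_of_dvd Nat.card_pos.ne' hqD
    exact absurd h1 (Nat.one_lt_pow h2.ne' hq.one_lt).ne
  have hNc : ∀ x ∈ N, ∀ y ∈ N, x * y = y * x := by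
    rintro _ ⟨x, -, rfl⟩ _ ⟨y, -, rfl⟩
    exact congrArg Subtype.val (mul_comm' x y)
  -- the quotient
  let π := QuotientGroup.mk' N
  haveI : Group.IsSolvable (G ⧸ N) := inferInstance
  have hlt : Nat.card (G ⧸ N) ≤ n := by
    have h1 := N.card_eq_card_quotient_mul_card_subgroup
    have h2 : 1 < Nat.card N := N.one_lt_card_iff_ne_bot.2 hN1
    have h3 : Nat.card (G ⧸ N) < Nat.card G := h1.symm ▸ lt_mul_of_one_lt_right Nat.card_pos h2
    omega
  have hAq : A.map π ≤ Cfsg.pCore p (G ⧸ N) := by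
    refine ih (G ⧸ N) inferInstance hlt _ (hA.map π) fun c => ?_
    obtain ⟨c, rfl⟩ := QuotientGroup.mk_surjective c
    obtain ⟨g, hcg, hg⟩ := h c
    refine ⟨π g, π.map_isConj hcg, ?_⟩
    have e : (MulAut.conj (π g) • A.map π : Subgroup (G ⧸ N)) = (MulAut.conj g • A).map π := by
      ext x
      simp only [Subgroup.mem_map, Subgroup.mem_smul_pointwise_iff_exists, MulAut.smul_def,
        MulAut.conj_apply]
      constructor
      · rintro ⟨_, ⟨a, ha, rfl⟩, rfl⟩
        exact ⟨_, ⟨a, ha, rfl⟩, by rw [map_mul, map_mul, map_inv]⟩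
      · rintro ⟨_, ⟨a, ha, rfl⟩, rfl⟩
        exact ⟨_, ⟨a, ha, rfl⟩, by rw [map_mul, map_mul, map_inv]⟩
    rw [e, ← Subgroup.map_sup]
    exact hg.map π
  haveI := Cfsg.pCore_normal p (G ⧸ N)
  set K : Subgroup G := (Cfsg.pCore p (G ⧸ N)).comap π with hK
  haveI hKn : K.Normal := Subgroup.Normal.comap inferInstance _
  have hAK : A ≤ K := Subgroup.map_le_iff_le_comap.1 hAq
  have hKp : IsPGroup p (K.map π) :=
    (CfsgLib.Comp.isPGroup_pCore p _).to_le (Subgroup.map_comap_le _ _)
  by_cases hqp : q = p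
  · subst hqp
    refine hAK.trans (CfsgLib.Amalgam.le_pCore hKn ?_)
    exact (CfsgLib.Comp.isPGroup_pCore q _).comap_of_ker_isPGroup π
      (by rw [QuotientGroup.ker_mk']; exact hNq)
  have hpN : p.Coprime (Nat.card N) := by
    obtain ⟨k, hk⟩ := IsPGroup.iff_card.1 hNq
    rw [hk]
    exact ((Nat.coprime_primes hpp hq).2 (Ne.symm hqp)).pow_right k
  set C : Subgroup G := centralizer (N : Set G) with hC
  haveI hCn : C.Normal := inferInstance
  by_cases hAC : A ≤ C
  · -- `A` centralizes `N`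
    set KC : Subgroup G := K ⊓ C
    haveI : KC.Normal := inferInstance
    have hAKC : A ≤ KC := le_inf hAK hAC
    have hnil : Group.IsNilpotent KC := by
      let f : KC →* K.map π := (π.subgroupMap K).comp (Subgroup.inclusion inf_le_left)
      haveI : Group.IsNilpotent (K.map π) := hKp.isNilpotent
      haveI : Group.IsNilpotent f.range := inferInstance
      refine Subgroup.isNilpotent_of_ker_le_center f.rangeRestrict (fun x hx => ?_)
      rw [MonoidHom.ker_rangeRestrict, MonoidHom.mem_ker] at hx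
      have hxN : (x : G) ∈ N := (QuotientGroup.eq_one_iff (x : G)).1 (congrArg Subtype.val hx)
      rw [mem_center_iff]
      intro y
      exact Subtype.ext ((mem_centralizer_iff.1 y.2.2 (x : G) hxN).symm)
    obtain ⟨T, hT⟩ := (hA.of_equiv (Subgroup.subgroupOfEquivOfLe hAKC).symm).exists_le_sylow
    haveI hTn : (T : Subgroup KC).Normal :=
      Sylow.normal_of_normalizerCondition Group.normalizerCondition_of_isNilpotent T
    haveI := T.characteristic_of_normal hTn
    intro a ha
    exact CfsgLib.Amalgam.le_pCore (N := (T : Subgroup KC).map KC.subtype) inferInstance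
      (T.2.map _) ⟨⟨a, hAKC ha⟩, hT ha, rfl⟩
  -- the action on `N`
  obtain ⟨a, ha, haC⟩ := SetLike.not_le_iff_exists.1 hAC
  letI : CommGroup N :=
    { (inferInstance : Group N) with mul_comm := fun x y => Subtype.ext (hNc x x.2 y y.2) }
  let act : G →* AddMonoid.End (Additive N) :=
    { toFun := fun g => MonoidHom.toAdditive (MulAut.conjNormal g : N ≃* N).toMonoidHom
      map_one' := by
        refine AddMonoidHom.ext fun x => ?_
        show Additive.ofMul ((MulAut.conjNormal (1 : G)) x.toMul) = x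
        rw [map_one]; rfl
      map_mul' := fun g k => by
        refine AddMonoidHom.ext fun x => ?_
        show Additive.ofMul ((MulAut.conjNormal (g * k)) x.toMul) = _
        rw [map_mul]; rfl }
  have hact : ∀ g : G, ∀ x : Additive N, (act g x = x ↔ g * (x.toMul : G) * g⁻¹ = x.toMul) := by
    intro g x
    rw [← Additive.toMul.injective.eq_iff, ← Subtype.coe_inj]
    show ((MulAut.conjNormal g (x.toMul) : N) : G) = _ ↔ _
    rw [MulAut.conjNormal_apply]
  have hCact : C ≤ act.toHomUnits.ker := by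
    intro g hg
    rw [MonoidHom.mem_ker]
    refine Units.ext (AddMonoidHom.ext fun x => (hact g x).2 ?_)
    rw [← mem_centralizer_iff.1 hg _ x.toMul.2, mul_inv_cancel_right]
  let ρ : G ⧸ C →* AddMonoid.End (Additive N) :=
    (Units.coeHom _).comp (QuotientGroup.lift C act.toHomUnits hCact)
  have hP : IsPGroup p (K.map (QuotientGroup.mk' C)) := by
    -- a quotient of `K / N`
    have hNC : N ≤ C := fun x hx => mem_centralizer_iff.2 fun y hy => hNc y hy x hx
    have e : K.map (QuotientGroup.mk' C) =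
        (K.map π).map (QuotientGroup.map N C (MonoidHom.id G) hNC) := by
      rw [Subgroup.map_map]
      rfl
    rw [e]
    exact hKp.map _
  obtain ⟨v, hv⟩ := exists_avoid_fixed hp ρ (K.map (QuotientGroup.mk' C))
    (hKn.map _ (QuotientGroup.mk'_surjective C)) hP (by rwa [Nat.card_congr Additive.toMul])
    (Subgroup.mem_map_of_mem _ (hAK ha)) (fun e => haC (mem_centralizer_iff.2 fun y hy => by
      have h1 := (hact a (Additive.ofMul (⟨y, hy⟩ : N))).1 (DFunLike.congr_fun e _)
      exact (mul_inv_eq_iff_eq_mul.1 h1).symm))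
  obtain ⟨g, hcg, hg⟩ := h ((v.toMul : N) : G)
  obtain ⟨x, hx⟩ := isConj_iff.1 hcg
  have hgN : g ∈ N := hx ▸ hNn.conj_mem _ v.toMul.2 x
  set J : Subgroup G := A ⊔ MulAut.conj g • A
  have hcomm : g * a * g⁻¹ * a⁻¹ = 1 := by
    have h1 : g * a * g⁻¹ * a⁻¹ ∈ J := mul_mem (mem_sup_right
      (Subgroup.mem_smul_pointwise_iff_exists _ _ _ |>.2 ⟨a, ha, rfl⟩)) (inv_mem (mem_sup_left ha))
    have h2 : g * a * g⁻¹ * a⁻¹ ∈ N := by
      rw [show g * a * g⁻¹ * a⁻¹ = g * (a * g⁻¹ * a⁻¹) by group]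
      exact mul_mem hgN (hNn.conj_mem _ (inv_mem hgN) a)
    obtain ⟨k, hk⟩ := IsPGroup.iff_card.1 hg
    exact orderOf_eq_one_iff.1 (Nat.eq_one_of_dvd_coprimes (hpN.pow_left k)
      (hk ▸ Subgroup.orderOf_dvd_natCard _ h1) (Subgroup.orderOf_dvd_natCard _ h2))
  exfalso
  refine hv (QuotientGroup.mk x⁻¹) ?_
  rw [QuotientGroup.mk'_apply, ← QuotientGroup.mk_mul, ← QuotientGroup.mk_inv, ← QuotientGroup.mk_mul]
  refine (hact _ v).2 ?_
  rw [inv_inv]
  have hga : g * a = a * g := by
    have h1 := mul_inv_eq_one.1 hcomm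
    exact mul_inv_eq_iff_eq_mul.1 h1
  calc x⁻¹ * a * x * (v.toMul : G) * (x⁻¹ * a * x)⁻¹
      = x⁻¹ * (a * (x * (v.toMul : G) * x⁻¹)) * a⁻¹ * x := by group
    _ = x⁻¹ * (g * a) * a⁻¹ * x := by rw [hx, hga]
    _ = x⁻¹ * (x * (v.toMul : G) * x⁻¹) * x := by rw [hx]; group
    _ = (v.toMul : G) := by group

/-- Solvable `G`, odd `p`: the class criterion for membership in `O_p(G)`. -/
theorem le_pCore_of_class_subnormal {G : Type u} [Group G] [Finite G] (hG : Group.IsSolvable G)
    {p : ℕ} [Fact p.Prime] (hp : p ≠ 2) {A : Subgroup G} (hA : IsPGroup p A)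
    (h : ∀ c : G, ∃ g : G, IsConj c g ∧ (A.subgroupOf (A ⊔ MulAut.conj g • A)).IsSubnormal) :
    A ≤ Cfsg.pCore p G :=
  le_pCore_of_class_join_aux hp _ G hG le_rfl A hA fun c => by
    obtain ⟨g, hcg, hg⟩ := h c
    exact ⟨g, hcg, isPGroup_join_of_subnormal hA g hg⟩

end CfsgLib.Invol
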