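import Cfsg.Agent.Lib.InvChar.CosetCert

/-!
# Certified coset enumerations for arbitrary generators

Variant of `Lib/InvChar/CosetCert` in which the letters come in pairs `2k`, `2k + 1` standing for a
generator and its inverse.  A fact `(a, x, b)` claims `v a * s x * (v b)⁻¹ ∈ H`; it is justified by
a path of earlier facts from `b` back to `a` closing a relator, or by a generator of the subgroup.
-/

set_option autoImplicit false

namespace CfsgLib.Invol.SCoset

open CfsgLib.InvChar.Coset

/-- The letter of the inverse. -/
noncomputable def flipL (x : ℕ) : ℕ := bif Nat.beq x 15 then 15 else Nat.xor x 1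

/-- Follow `n` earlier facts from node `c`; the lowest bit of each index gives the direction. -/
noncomputable def walk (D : Cert) (t : ℕ) (n : ℕ) :
    ℕ → ℕ → List ℕ → (ℕ → ℕ → List ℕ → Bool) → Bool :=
  Nat.rec (fun s c L k => k s c L)
    (fun _ ih s c L k =>
      force (s % 2 ^ 20) fun e => force (e / 2) fun r => Nat.blt r t &&
        force (D.fa r) fun a => force (D.fx r) fun x => force (D.fb r) fun b =>
          force (s >>> 20) fun s' =>
            bif Nat.beq (e % 2) 0 then Nat.beq c a && ih s' b (consX x L) k
            else Nat.beq c b && ih s' a (consX (flipL x) L) k) n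

/-- A rotated relator. -/
noncomputable def relWord (D : Cert) (rel rot : ℕ) : List ℕ :=
  (D.rels.getD rel []).drop rot ++ (D.rels.getD rel []).take rot

/-- The test at the end of the path justifying the fact `(a, x, b)`. -/
noncomputable def concl (D : Cert) (a x kind rel rot b c : ℕ) (L : List ℕ) : Bool :=
  Nat.beq c a &&
    bif Nat.beq kind 0 then leq (consX x L.reverse) (relWord D rel rot)
    else Nat.beq a 0 && Nat.beq b 0 && leq L [] && leq [x] (D.subs.getD rel [])

/-- Check the derived fact `t` whose justification starts the stream `s`. -/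
noncomputable def chkFact (D : Cert) (t s : ℕ) (k : ℕ → Bool) : Bool :=
  force (s % 2 ^ 12) fun n => force ((s >>> 12) % 2 ^ 8) fun rel =>
  force ((s >>> 20) % 2 ^ 8) fun rot => force ((s >>> 28) % 2) fun kind =>
  force (s >>> 29) fun s₁ =>
  walk D t n s₁ (D.fb t) [] fun s₂ c L =>
    concl D (D.fa t) (D.fx t) kind rel rot (D.fb t) c L && k s₂

/-- Check `n` facts starting from fact `t`, reading the stream `s`. -/
noncomputable def chkRun (D : Cert) (n : ℕ) : ℕ → ℕ → Bool :=
  Nat.rec (fun _ _ => true)
    (fun _ ih t s =>
      bif Nat.blt t D.nf then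
        force (t + 1) fun t' =>
          bif Nat.blt t D.nd then D.chkDef t && ih t' s else chkFact D t s (ih t')
      else true) n

/-- Check `cnt` blocks starting from block `j`. -/
noncomputable def chkBlocks (D : Cert) (cnt : ℕ) : ℕ → Bool :=
  Nat.rec (fun _ => true)
    (fun _ ih j => force (D.just.get j) (fun s => chkRun D 128 (j * 128) s) && force (j + 1) ih) cnt

section Sound

variable {G : Type*} [Group G]

/-- The conditions on the values of the letters. -/
structure LetterVal (s : ℕ → G) : Prop where
  eps : s 15 = 1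
  inv : ∀ x, s (flipL x) = (s x)⁻¹

theorem val_eq {s : ℕ → G} (hs : LetterVal s) (x : ℕ) : val s x = s x := by
  unfold val; split
  · next h => rw [h, hs.eps]
  · rfl

variable {D : Cert} {s : ℕ → G} {H : Subgroup G}

theorem walk_sound (hs : LetterVal s) {t : ℕ} (hold : ∀ r < t, Holds D s H r) :
    ∀ (n st c : ℕ) (L : List ℕ) (k : ℕ → ℕ → List ℕ → Bool), walk D t n st c L k = true →
      ∃ st' c' L', k st' c' L' = true ∧
        ∀ u : G, u * wprod s L.reverse * (nodeRep D s c)⁻¹ ∈ H →
          u * wprod s L'.reverse * (nodeRep D s c')⁻¹ ∈ H := by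
  intro n
  induction n with
  | zero => intro st c L k h; exact ⟨st, c, L, h, fun _ hu => hu⟩
  | succ n ih =>
    intro st c L k h
    have h' : (force (st % 2 ^ 20) fun e => force (e / 2) fun r => Nat.blt r t &&
        force (D.fa r) fun a => force (D.fx r) fun x => force (D.fb r) fun b =>
          force (st >>> 20) fun s' =>
            bif Nat.beq (e % 2) 0 then Nat.beq c a && walk D t n s' b (consX x L) k
            else Nat.beq c b && walk D t n s' a (consX (flipL x) L) k) = true := h
    simp only [force_eq, Bool.and_eq_true] at h'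
    obtain ⟨hr, h'⟩ := h'
    have hr' : st % 2 ^ 20 / 2 < t := by simpa [Nat.blt] using hr
    have hH := hold _ hr'
    unfold Holds at hH
    set r := st % 2 ^ 20 / 2
    rw [val_eq hs] at hH
    cases hd : Nat.beq (st % 2 ^ 20 % 2) 0 with
    | true =>
      rw [hd] at h'
      simp only [cond_true, Bool.and_eq_true] at h'
      have hc : c = D.fa r := Nat.eq_of_beq_eq_true h'.1
      obtain ⟨st', c', L', hk, hi⟩ := ih _ _ _ _ h'.2
      refine ⟨st', c', L', hk, fun u hu => hi u ?_⟩
      rw [wprod_reverse_consX, val_eq hs]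
      have := mul_mem hu hH
      rw [hc] at this
      simpa [mul_assoc] using this
    | false =>
      rw [hd] at h'
      simp only [cond_false, Bool.and_eq_true] at h'
      have hc : c = D.fb r := Nat.eq_of_beq_eq_true h'.1
      obtain ⟨st', c', L', hk, hi⟩ := ih _ _ _ _ h'.2
      refine ⟨st', c', L', hk, fun u hu => hi u ?_⟩
      rw [wprod_reverse_consX, val_eq hs, hs.inv]
      have := mul_mem hu (inv_mem hH)
      rw [hc] at this
      simpa [mul_assoc] using this

theorem chkFact_sound (hs : LetterVal s) (hR : ∀ r ∈ D.rels, wprod s r = 1)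
    (hS : ∀ r ∈ D.subs, wprod s r ∈ H) {t st : ℕ} {k : ℕ → Bool}
    (hold : ∀ r < t, Holds D s H r) (h : chkFact D t st k = true) :
    Holds D s H t ∧ ∃ st', k st' = true := by
  unfold chkFact at h
  simp only [force_eq] at h
  obtain ⟨s₂, c, L, h₂, i₁⟩ := walk_sound hs hold _ _ _ _ _ h
  rw [Bool.and_eq_true] at h₂
  obtain ⟨hc, hk⟩ := h₂
  refine ⟨?_, s₂, hk⟩
  simp only [concl, Bool.and_eq_true] at hc
  obtain ⟨hca, hc⟩ := hc
  have hca := Nat.eq_of_beq_eq_true hca
  have j₁ := i₁ (nodeRep D s (D.fb t)) (by simp [wprod])
  rw [hca] at j₁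
  unfold Holds
  rw [val_eq hs]
  generalize (st >>> 28) % 2 = kind at hc
  cases hb : Nat.beq kind 0 with
  | true =>
    rw [hb, cond_true] at hc
    have hw := congrArg (wprod s) (eq_of_leq _ _ hc)
    have hone : ∀ rel rot, wprod s (relWord D rel rot) = 1 := by
      intro rel rot
      refine wprod_rotate s _ _ ?_
      rcases lt_or_ge rel D.rels.length with hl | hl
      · rw [List.getD_eq_getElem _ _ hl]; exact hR _ (List.getElem_mem hl)
      · rw [List.getD_eq_default _ _ hl]; simp [wprod]
    rw [hone, wprod_consX, val_eq hs] at hw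
    rw [eq_inv_of_mul_eq_one_right hw] at j₁
    have := inv_mem j₁
    simpa [mul_assoc] using this
  | false =>
    rw [hb] at hc
    simp only [cond_false, Bool.and_eq_true] at hc
    obtain ⟨⟨⟨ha, hb'⟩, -⟩, hsub⟩ := hc
    rw [Nat.eq_of_beq_eq_true ha, Nat.eq_of_beq_eq_true hb', nodeRep, inv_one, one_mul, mul_one]
    have hmem : wprod s [D.fx t] ∈ H := by
      rw [eq_of_leq _ _ hsub]
      generalize (st >>> 12) % 2 ^ 8 = rel
      rcases lt_or_ge rel D.subs.length with hl | hl
      · rw [List.getD_eq_getElem _ _ hl]; exact hS _ (List.getElem_mem hl)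
      · rw [List.getD_eq_default _ _ hl]; simp [wprod]
    simpa [wprod] using hmem

theorem chkRun_sound (hs : LetterVal s) (hR : ∀ r ∈ D.rels, wprod s r = 1)
    (hS : ∀ r ∈ D.subs, wprod s r ∈ H) :
    ∀ (n t st : ℕ), chkRun D n t st = true → (∀ r < t, Holds D s H r) →
      ∀ r, r < t + n → r < D.nf → Holds D s H r := by
  intro n
  induction n with
  | zero => intro t st _ hold r hr _; exact hold r (by omega)
  | succ n ih =>
    intro t st h hold r hr hrn
    rcases lt_or_ge r t with hrt | hrt
    · exact hold r hrt
    have htn : t < D.nf := lt_of_le_of_lt hrt hrn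
    have h' : (bif Nat.blt t D.nf then
        force (t + 1) fun t' =>
          bif Nat.blt t D.nd then D.chkDef t && chkRun D n t' st else chkFact D t st (chkRun D n t')
      else true) = true := h
    rw [show Nat.blt t D.nf = true by simpa [Nat.blt] using htn, cond_true, force_eq] at h'
    suffices hh : Holds D s H t ∧ ∃ st', chkRun D n (t + 1) st' = true by
      obtain ⟨ht, st', hst⟩ := hh
      refine ih _ _ hst (fun r' hr' => ?_) r (by omega) hrn
      rcases lt_or_eq_of_le (Nat.lt_succ_iff.1 hr') with h1 | h1
      · exact hold r' h1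
      · rw [h1]; exact ht
    cases hd : Nat.blt t D.nd with
    | true =>
      rw [hd] at h'
      simp only [cond_true, Bool.and_eq_true, Cert.chkDef] at h'
      refine ⟨?_, st, h'.2⟩
      unfold Holds
      rw [Nat.eq_of_beq_eq_true h'.1.2, nodeRep.eq_2, if_pos (Nat.le_of_ble_eq_true h'.1.1),
        mul_inv_cancel]
      exact one_mem H
    | false =>
      rw [hd] at h'
      exact chkFact_sound hs hR hS hold h'

theorem chkBlocks_get : ∀ (cnt j : ℕ), chkBlocks D cnt j = true →
    ∀ i < cnt, chkRun D 128 ((j + i) * 128) (D.just.get (j + i)) = true := by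
  intro cnt
  induction cnt with
  | zero => intro j _ i hi; omega
  | succ cnt ih =>
    intro j h i hi
    have h' : (force (D.just.get j) (fun s => chkRun D 128 (j * 128) s) &&
      force (j + 1) (fun j' => chkBlocks D cnt j')) = true := h
    simp only [force_eq, Bool.and_eq_true] at h'
    rcases i with _ | i
    · exact h'.1
    · have := ih _ h'.2 i (by omega)
      rwa [show j + 1 + i = j + (i + 1) by omega] at this

/-- All facts hold once all blocks have been checked. -/
theorem holds_of_blocks (hs : LetterVal s) (hR : ∀ r ∈ D.rels, wprod s r = 1)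
    (hS : ∀ r ∈ D.subs, wprod s r ∈ H) (nb : ℕ) (hnb : D.nf ≤ nb * 128)
    (h : ∀ j < nb, chkRun D 128 (j * 128) (D.just.get j) = true) :
    ∀ r < D.nf, Holds D s H r := by
  suffices ∀ j ≤ nb, ∀ r < D.nf, r < j * 128 → Holds D s H r from
    fun r hr => this nb le_rfl r hr (lt_of_lt_of_le hr hnb)
  intro j
  induction j with
  | zero => intro _ r _ hr; omega
  | succ j ih =>
    intro hj r hrn hr
    rcases lt_or_ge r (j * 128) with h1 | h1
    · exact ih (by omega) r hrn h1
    · refine chkRun_sound hs hR hS 128 _ _ (h j (by omega)) (fun r' hr' => ?_) r (by omega) hrn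
      exact ih (by omega) r' (by omega) hr'

end Sound

/-- The check that the letters `x < m` map node `i` of the live table to live nodes. -/
noncomputable def chkRow (D : Cert) (live fin : Tr) (n : ℕ) (g i m : ℕ) : Bool :=
  Nat.rec true
    (fun x ih =>
      force (field fin 128 40 (i * g + x)) (fun e => force (e / 2 % 2 ^ 18) fun f =>
        force (e >>> 19) fun j =>
        Nat.blt j n && Nat.blt f D.nf &&
          bif Nat.beq (e % 2) 0 then
            Nat.beq (D.fx f) x && Nat.beq (D.fa f) (field live 128 20 i) &&
              Nat.beq (D.fb f) (field live 128 20 j)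
          else
            Nat.beq (D.fx f) (flipL x) && Nat.beq (D.fb f) (field live 128 20 i) &&
              Nat.beq (D.fa f) (field live 128 20 j)) && ih) m

/-- The rows `i, …, i + cnt - 1`. -/
noncomputable def chkRows (D : Cert) (live fin : Tr) (n g : ℕ) (cnt : ℕ) : ℕ → Bool :=
  Nat.rec (fun _ => true)
    (fun _ ih i => chkRow D live fin n g i g && force (i + 1) ih) cnt

section Cover

variable {G : Type*} [Group G] {D : Cert} {s : ℕ → G} {H : Subgroup G} {live fin : Tr} {n g : ℕ}

/-- The coset of row `i` is moved to the coset of another row by the letter `x`. -/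
def Moves (D : Cert) (live : Tr) (n g : ℕ) (s : ℕ → G) (H : Subgroup G) (i : ℕ) : Prop :=
  ∀ x < g, ∃ j < n,
    nodeRep D s (field live 128 20 i) * s x * (nodeRep D s (field live 128 20 j))⁻¹ ∈ H

theorem flipL_flipL {s : ℕ → G} (hs : LetterVal s) (x : ℕ) : s (flipL x) = (s x)⁻¹ := hs.inv x

theorem chkRow_sound (hs : LetterVal s) (hF : ∀ r < D.nf, Holds D s H r) {i : ℕ} :
    ∀ m, chkRow D live fin n g i m = true → ∀ x < m, ∃ j < n,
      nodeRep D s (field live 128 20 i) * s x * (nodeRep D s (field live 128 20 j))⁻¹ ∈ H := by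
  intro m
  induction m with
  | zero => intro _ x hx; omega
  | succ m ih =>
    intro hm x hx
    have h' : (force (field fin 128 40 (i * g + m)) (fun e => force (e / 2 % 2 ^ 18) fun f =>
        force (e >>> 19) fun j =>
        Nat.blt j n && Nat.blt f D.nf &&
          bif Nat.beq (e % 2) 0 then
            Nat.beq (D.fx f) m && Nat.beq (D.fa f) (field live 128 20 i) &&
              Nat.beq (D.fb f) (field live 128 20 j)
          else
            Nat.beq (D.fx f) (flipL m) && Nat.beq (D.fb f) (field live 128 20 i) &&
              Nat.beq (D.fa f) (field live 128 20 j)) &&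
        chkRow D live fin n g i m) = true := hm
    simp only [force_eq, Bool.and_eq_true] at h'
    rcases Nat.lt_succ_iff_lt_or_eq.1 hx with h1 | h1
    · exact ih h'.2 x h1
    · subst h1
      obtain ⟨⟨⟨a1, a2⟩, a3⟩, -⟩ := h'
      set e := field fin 128 40 (i * g + x)
      have hf := hF (e / 2 % 2 ^ 18) (by simpa [Nat.blt] using a2)
      unfold Holds at hf
      rw [val_eq hs] at hf
      refine ⟨e >>> 19, by simpa [Nat.blt] using a1, ?_⟩
      cases hd : Nat.beq (e % 2) 0 with
      | true =>
        rw [hd] at a3
        simp only [cond_true, Bool.and_eq_true] at a3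
        rw [Nat.eq_of_beq_eq_true a3.1.1, Nat.eq_of_beq_eq_true a3.1.2,
          Nat.eq_of_beq_eq_true a3.2] at hf
        exact hf
      | false =>
        rw [hd] at a3
        simp only [cond_false, Bool.and_eq_true] at a3
        rw [Nat.eq_of_beq_eq_true a3.1.1, Nat.eq_of_beq_eq_true a3.1.2,
          Nat.eq_of_beq_eq_true a3.2, hs.inv] at hf
        have := inv_mem hf
        simpa [mul_assoc] using this

theorem chkRows_sound (hs : LetterVal s) (hF : ∀ r < D.nf, Holds D s H r) :
    ∀ (cnt i : ℕ), chkRows D live fin n g cnt i = true →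
      ∀ j, i ≤ j → j < i + cnt → Moves D live n g s H j := by
  intro cnt
  induction cnt with
  | zero => intro i _ j h1 h2; omega
  | succ cnt ih =>
    intro i h j h1 h2
    have h' : (chkRow D live fin n g i g &&
      force (i + 1) (fun i' => chkRows D live fin n g cnt i')) = true := h
    rw [Bool.and_eq_true, force_eq] at h'
    rcases eq_or_lt_of_le h1 with rfl | h3
    · exact chkRow_sound hs hF _ h'.1
    · exact ih _ h'.2 j h3 (by omega)

/-- A closed table bounds the index in the group generated by the letters. -/
theorem card_closure_le [Finite H] (hs : LetterVal s) (hn : 0 < n)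
    (hg : ∀ x < g, flipL x < g) (h0 : field live 128 20 0 = 0)
    (hrow : ∀ i < n, Moves D live n g s H i) :
    Finite (Subgroup.closure (s '' Set.Iio g)) ∧
      Nat.card (Subgroup.closure (s '' Set.Iio g)) ≤ n * Nat.card H := by
  classical
  let f : Fin n × H → G := fun p => (p.2 : G) * nodeRep D s (field live 128 20 p.1)
  have key : ∀ a ∈ Subgroup.closure (s '' Set.Iio g), a ∈ Set.range f := by
    intro a ha
    suffices ∀ b ∈ Set.range f, b * a ∈ Set.range f by
      simpa using this 1 ⟨(⟨0, hn⟩, 1), by simp [f, h0, nodeRep]⟩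
    have step : ∀ x < g, ∀ b ∈ Set.range f, b * s x ∈ Set.range f := by
      rintro x hx _ ⟨⟨i, k⟩, rfl⟩
      obtain ⟨j, hj, hm⟩ := hrow i i.2 x hx
      refine ⟨(⟨j, hj⟩, k * ⟨_, hm⟩), ?_⟩
      simp [f, mul_assoc]
    induction ha using Subgroup.closure_induction_left with
    | one => intro b hb; simpa using hb
    | mul_left a ha y _ ih =>
      obtain ⟨x, hx, rfl⟩ := ha
      intro b hb
      rw [← mul_assoc]
      exact ih _ (step x hx b hb)
    | inv_mul_cancel a ha y _ ih =>
      obtain ⟨x, hx, rfl⟩ := ha
      intro b hb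
      rw [← mul_assoc, ← hs.inv]
      exact ih _ (step _ (hg x hx) b hb)
  have hsub : ((Subgroup.closure (s '' Set.Iio g) : Subgroup G) : Set G) ⊆ Set.range f := key
  have hfin : (Set.range f).Finite := Set.finite_range f
  refine ⟨(hfin.subset hsub).to_subtype, ?_⟩
  have : Finite (Set.range f) := hfin.to_subtype
  calc Nat.card (Subgroup.closure (s '' Set.Iio g)) ≤ Nat.card (Set.range f) :=
        Nat.card_mono hfin hsub
    _ ≤ Nat.card (Fin n × H) := Nat.card_le_card_of_surjective _ Set.rangeFactorization_surjective
    _ = n * Nat.card H := by rw [Nat.card_prod, Nat.card_fin]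

end Cover

end CfsgLib.Invol.SCoset
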