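import Cfsg.Agent.Lib.Invol.Basic
import Cfsg.Agent.S0219
import Cfsg.Agent.S0235
import Cfsg.Agent.S0239

/-!
# Counting pairs of involutions (Brauer–Fowler)
-/

namespace CfsgLib.Invol

variable {G : Type*} [Group G]

theorem card_inverters_eq [Finite G] {x : G} (hreal : IsConj x x⁻¹) :
    Nat.card {g : G // g * x * g⁻¹ = x⁻¹} = Nat.card (Subgroup.centralizer ({x} : Set G)) := by
  obtain ⟨t, ht⟩ := isConj_iff.1 hreal
  refine Nat.card_congr ((Equiv.mulLeft t⁻¹).subtypeEquiv fun g => ?_)
  simp only [Equiv.coe_mulLeft, Subgroup.mem_centralizer_singleton_iff]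
  constructor
  · intro h
    calc t⁻¹ * g * x = t⁻¹ * (g * x * g⁻¹) * g := by group
      _ = t⁻¹ * (t * x * t⁻¹) * g := by rw [h, ht]
      _ = x * (t⁻¹ * g) := by group
  · intro h
    calc g * x * g⁻¹ = t * (t⁻¹ * g * x) * g⁻¹ := by group
      _ = t * x * t⁻¹ := by rw [h]; group
      _ = x⁻¹ := ht

theorem isConj_inv_of_pair {x u v : G} (hu : orderOf u = 2) (hv : orderOf v = 2) (h : u * v = x) :
    IsConj x x⁻¹ :=
  isConj_iff.2 ⟨u, by rw [← h]; exact conj_left_mul hu hv⟩

/-- Number of ordered pairs of involutions with product `x`. -/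
noncomputable def pairCount (x : G) : ℕ :=
  Nat.card {p : G × G // orderOf p.1 = 2 ∧ orderOf p.2 = 2 ∧ p.1 * p.2 = x}

theorem pairCount_eq_zero [Finite G] {x : G} (h : ¬ IsConj x x⁻¹) : pairCount x = 0 := by
  rw [pairCount, Nat.card_eq_zero]
  exact Or.inl ⟨fun p => h (isConj_inv_of_pair p.2.1 p.2.2.1 p.2.2.2)⟩

theorem pairCount_one [Finite G] : pairCount (1 : G) = Nat.card {t : G // orderOf t = 2} := by
  refine Nat.card_congr ⟨fun p => ⟨p.1.1, p.2.1⟩,
    fun t => ⟨(t.1, t.1), t.2, t.2, invol_mul_self t.2⟩, ?_, fun _ => rfl⟩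
  rintro ⟨⟨u, v⟩, hu, hv, h⟩
  simp only at h
  refine Subtype.ext (Prod.ext rfl ?_)
  show u = v
  rw [eq_inv_of_mul_eq_one_left h, invol_inv hv]

/-- For an involution `x` the pairs correspond to the involutions `t ≠ x` commuting with `x`. -/
theorem pairCount_invol_add_one [Finite G] {x : G} (hx : orderOf x = 2) :
    pairCount x + 1 = Nat.card {t : G // orderOf t = 2 ∧ Commute t x} := by
  classical
  rw [pairCount, ← Finite.card_option]
  refine Nat.card_congr ⟨fun o => ?_, fun t => ?_, ?_, ?_⟩
  · exact o.elim ⟨x, hx, Commute.refl x⟩ fun p => ⟨p.1.1, p.2.1, by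
      obtain ⟨⟨u, v⟩, hu, hv, rfl⟩ := p
      have h1 := conj_left_mul hu hv
      rw [invol_inv hx] at h1
      exact mul_inv_eq_iff_eq_mul.1 h1⟩
  · exact if h : t.1 = x then none else some ⟨(t.1, t.1 * x), t.2.1,
      invol_of_mul_self (by
        show t.1 * x * (t.1 * x) = 1
        rw [mul_assoc, ← mul_assoc x, ← t.2.2.eq, mul_assoc t.1 x x, invol_mul_self hx, mul_one,
          invol_mul_self t.2.1])
        (fun e => h (by rw [eq_inv_of_mul_eq_one_left e, invol_inv hx])),
      by show t.1 * (t.1 * x) = x; rw [← mul_assoc, invol_mul_self t.2.1, one_mul]⟩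
  · intro o
    rcases o with _ | ⟨⟨u, v⟩, hu, hv, huv⟩
    · simp
    · simp only at huv
      have hne : u ≠ x := by
        rintro rfl
        exact invol_ne_one hv (mul_eq_left.1 huv)
      simp only [Option.elim_some]
      refine (dif_neg hne).trans (congrArg some (Subtype.ext (Prod.ext rfl ?_)))
      show u * x = v
      rw [← huv, ← mul_assoc, invol_mul_self hu, one_mul]
  · intro t
    by_cases h : t.1 = x
    · simp only [h, dite_true, Option.elim_none]
      exact Subtype.ext h.symm
    · simp only [h, dite_false, Option.elim_some]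

theorem pairCount_le [Finite G] (x : G) :
    pairCount x ≤ Nat.card (Subgroup.centralizer ({x} : Set G)) := by
  by_cases hr : IsConj x x⁻¹
  · rw [← card_inverters_eq hr]
    refine Nat.card_le_card_of_injective
      (fun p => ⟨p.1.1, by obtain ⟨⟨u, v⟩, hu, hv, rfl⟩ := p; exact conj_left_mul hu hv⟩) ?_
    rintro ⟨⟨u, v⟩, hu, hv, h⟩ ⟨⟨u', v'⟩, hu', hv', h'⟩ e
    have e' : u = u' := congrArg Subtype.val e
    subst e'
    simp only at h h'
    exact Subtype.ext (Prod.ext rfl (mul_left_cancel (h.trans h'.symm)))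
  · simp [pairCount_eq_zero hr]

theorem pairCount_invol_add_two_le [Finite G] {x : G} (hx : orderOf x = 2) :
    pairCount x + 2 ≤ Nat.card (Subgroup.centralizer ({x} : Set G)) := by
  have h := pairCount_invol_add_one hx
  have hle : Nat.card {t : G // orderOf t = 2 ∧ Commute t x} + 1 ≤
      Nat.card (Subgroup.centralizer ({x} : Set G)) := by
    rw [← Finite.card_option]
    refine Nat.card_le_card_of_injective (fun o => o.elim ⟨1, one_mem _⟩
      fun t => ⟨t.1, Subgroup.mem_centralizer_singleton_iff.2 t.2.2⟩) ?_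
    rintro (_ | t) (_ | t') e <;> simp only [Option.elim_none, Option.elim_some, Subtype.mk.injEq] at e
    · rfl
    · exact absurd e.symm (invol_ne_one t'.2.1)
    · exact absurd e (invol_ne_one t.2.1)
    · exact congrArg some (Subtype.ext e)
  omega

theorem sum_pairCount [Fintype G] :
    ∑ x : G, pairCount x = (Nat.card {t : G // orderOf t = 2}) ^ 2 := by
  rw [pow_two, ← Nat.card_prod]
  simp only [pairCount]
  rw [← Nat.card_sigma]
  exact Nat.card_congr
    ⟨fun s => (⟨s.2.1.1, s.2.2.1⟩, ⟨s.2.1.2, s.2.2.2.1⟩),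
      fun p => ⟨p.1.1 * p.2.1, ⟨(p.1.1, p.2.1), p.1.2, p.2.2, rfl⟩⟩,
      by rintro ⟨x, ⟨⟨u, v⟩, hu, hv, h⟩⟩; subst h; rfl, fun _ => rfl⟩

/-- The extended centraliser `C*(x)`: elements sending `x` to `x` or to `x⁻¹`. -/
def extCentralizer (x : G) : Subgroup G where
  carrier := {g | g * x * g⁻¹ = x ∨ g * x * g⁻¹ = x⁻¹}
  one_mem' := Or.inl (by simp)
  mul_mem' {a b} ha hb := by
    have e : a * b * x * (a * b)⁻¹ = a * (b * x * b⁻¹) * a⁻¹ := by group
    simp only [Set.mem_setOf_eq] at ha hb ⊢
    rw [e]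
    rcases hb with hb | hb <;> rw [hb]
    · exact ha
    · rw [← conj_inv]
      rcases ha with ha | ha <;> rw [ha]
      · exact Or.inr rfl
      · exact Or.inl (inv_inv x)
  inv_mem' {a} ha := by
    simp only [Set.mem_setOf_eq] at ha ⊢
    rcases ha with ha | ha
    · left
      nth_rewrite 1 [← ha]
      group
    · right
      calc a⁻¹ * x * a⁻¹⁻¹ = a⁻¹ * (a * x * a⁻¹)⁻¹ * a := by rw [ha, inv_inv, inv_inv]
        _ = x⁻¹ := by group

theorem card_extCentralizer [Finite G] {x : G} (hx : x ^ 2 ≠ 1) (hreal : IsConj x x⁻¹) :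
    Nat.card (extCentralizer x) = 2 * Nat.card (Subgroup.centralizer ({x} : Set G)) := by
  rw [two_mul]
  nth_rewrite 2 [← card_inverters_eq hreal]
  classical
  have hne : x ≠ x⁻¹ := fun h => hx (by rw [pow_two]; nth_rewrite 1 [h]; exact inv_mul_cancel x)
  rw [← Nat.card_sum]
  refine Nat.card_congr ⟨fun g => if h : g.1 * x * g.1⁻¹ = x then Sum.inl ⟨g.1, ?_⟩
      else Sum.inr ⟨g.1, g.2.resolve_left h⟩,
    fun s => s.elim (fun c => ⟨c.1, Or.inl ?_⟩) (fun c => ⟨c.1, Or.inr c.2⟩), ?_, ?_⟩
  · exact Subgroup.mem_centralizer_singleton_iff.2 (mul_inv_eq_iff_eq_mul.1 h)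
  · exact mul_inv_eq_iff_eq_mul.2 (Subgroup.mem_centralizer_singleton_iff.1 c.2)
  · intro g
    by_cases h : g.1 * x * g.1⁻¹ = x <;> simp [h]
  · rintro (⟨c, hc⟩ | ⟨c, hc⟩)
    · simp only [Sum.elim_inl]
      exact (dif_pos (mul_inv_eq_iff_eq_mul.2 (Subgroup.mem_centralizer_singleton_iff.1 hc))).trans rfl
    · simp only [Sum.elim_inr]
      exact (dif_neg (fun h : c * x * c⁻¹ = x => hne (h.symm.trans hc))).trans rfl

/-- Brauer–Fowler: with `n` involutions and centre of odd order some proper subgroup has index `2`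
or less than `a(a+1)/2` for `a = |G|/n`. -/
theorem brauer_fowler [Finite G] (heven : Even (Nat.card G))
    (hZ : Odd (Nat.card (Subgroup.center G))) :
    ∃ H : Subgroup G, H ≠ ⊤ ∧ (H.index = 2 ∨
      2 * H.index * (Nat.card {t : G // orderOf t = 2}) ^ 2 <
        Nat.card G * (Nat.card G + Nat.card {t : G // orderOf t = 2})) := by
  classical
  have : Fintype G := Fintype.ofFinite G
  by_contra hcon
  push Not at hcon
  set n := Nat.card {t : G // orderOf t = 2} with hn
  have hnpos : 0 < n := by
    obtain ⟨t, ht⟩ := exists_prime_orderOf_dvd_card' (G := G) 2 (even_iff_two_dvd.1 heven)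
    have : Nonempty {t : G // orderOf t = 2} := ⟨⟨t, ht⟩⟩
    exact Nat.card_pos
  have hB : ∀ H : Subgroup G, H ≠ ⊤ → Nat.card H * (Nat.card G + n) ≤ 2 * n ^ 2 := by
    intro H hH
    have h := (hcon H hH).2
    nth_rewrite 1 [← H.card_mul_index] at h
    refine Nat.le_of_mul_le_mul_left ?_ (Nat.pos_of_ne_zero H.index_ne_zero_of_finite)
    calc H.index * (Nat.card H * (Nat.card G + n)) = Nat.card H * H.index * (Nat.card G + n) := by ring
      _ ≤ 2 * H.index * n ^ 2 := h
      _ = H.index * (2 * n ^ 2) := by ring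
  have hbound : ∀ x : G, x ≠ 1 → pairCount x * (Nat.card G + n) +
      (if orderOf x = 2 then 2 * (Nat.card G + n) else 0) ≤
      (if orderOf x = 2 then 2 * n ^ 2 else n ^ 2) := by
    intro x hx1
    by_cases hx : orderOf x = 2
    · rw [if_pos hx, if_pos hx, ← add_mul]
      refine le_trans (Nat.mul_le_mul_right _ (pairCount_invol_add_two_le hx)) (hB _ ?_)
      intro htop
      have hxc : x ∈ Subgroup.center G := by
        rw [Subgroup.mem_center_iff]
        intro g
        exact Subgroup.mem_centralizer_singleton_iff.1 (htop ▸ Subgroup.mem_top g)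
      exact (Nat.not_even_iff_odd.2 hZ) (even_card_of_invol_mem hx hxc)
    · rw [if_neg hx, if_neg hx, add_zero]
      by_cases hr : IsConj x x⁻¹
      · have hx2 : x ^ 2 ≠ 1 := fun h => hx (invol_of_mul_self (by rwa [← pow_two]) hx1)
        have hcard := card_extCentralizer hx2 hr
        have hne : extCentralizer x ≠ ⊤ := by
          intro htop
          rw [htop, Subgroup.card_top] at hcard
          have hpos : 0 < Nat.card (Subgroup.centralizer ({x} : Set G)) := Nat.card_pos
          have hidx : (Subgroup.centralizer ({x} : Set G)).index = 2 := by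
            have h := (Subgroup.centralizer ({x} : Set G)).card_mul_index
            refine Nat.eq_of_mul_eq_mul_left hpos ?_
            rw [h, hcard, mul_comm]
          exact (hcon _ (fun h => by rw [h, Subgroup.index_top] at hidx; omega)).1 hidx
        have h1 := hB _ hne
        rw [hcard] at h1
        have h2 := Nat.mul_le_mul_right (Nat.card G + n) (pairCount_le x)
        linarith
      · simp [pairCount_eq_zero hr]
  have hsum := sum_pairCount (G := G)
  rw [← Finset.add_sum_erase _ _ (Finset.mem_univ (1 : G)), pairCount_one, ← hn] at hsum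
  have h1 := Finset.sum_le_sum (s := Finset.univ.erase (1 : G))
    fun x hx => hbound x (Finset.ne_of_mem_erase hx)
  rw [Finset.sum_add_distrib, ← Finset.sum_mul] at h1
  have hI : ((Finset.univ.erase (1 : G)).filter fun x => orderOf x = 2).card = n := by
    rw [hn, Nat.card_eq_fintype_card, Fintype.card_subtype]
    congr 1
    ext x
    simp only [Finset.mem_filter, Finset.mem_erase, Finset.mem_univ, and_true, true_and]
    exact ⟨fun h => h.2, fun h => ⟨invol_ne_one h, h⟩⟩
  have hN : ((Finset.univ.erase (1 : G)).filter fun x => ¬ orderOf x = 2).card + n + 1 = Nat.card G := by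
    rw [← hI, add_comm _ ((Finset.filter _ _).card), Finset.card_filter_add_card_filter_not,
      Finset.card_erase_add_one (Finset.mem_univ _), Finset.card_univ, Nat.card_eq_fintype_card]
  simp only [Finset.sum_ite, Finset.sum_const, smul_eq_mul, hI, mul_zero, add_zero] at h1
  set S := ∑ x ∈ Finset.univ.erase (1 : G), pairCount x
  set K := ((Finset.univ.erase (1 : G)).filter fun x => ¬ orderOf x = 2).card
  nlinarith

theorem exists_pair_of_index [Finite G] (x : G) {H : Subgroup G}
    (hH : 2 * H.index * (Nat.card {t : G // orderOf t = 2}) ^ 2 <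
        Nat.card G * (Nat.card G + Nat.card {t : G // orderOf t = 2})) (hx : orderOf x = 2) :
    H.index < Nat.card (Subgroup.centralizer ({x} : Set G)) ^ 2 := by
  have hk := card_class_mul_card_centralizer x
  have hkn : Nat.card {t : G // IsConj x t} ≤ Nat.card {t : G // orderOf t = 2} :=
    Nat.card_le_card_of_injective (fun t => ⟨t.1, by rw [orderOf_eq_of_isConj t.2, hx]⟩)
      fun a b e => Subtype.ext (congrArg (fun w : {t : G // orderOf t = 2} => (w : G)) e)
  have hng : Nat.card {t : G // orderOf t = 2} ≤ Nat.card G := Finite.card_subtype_le _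
  have hg : 0 < Nat.card G := Nat.card_pos
  by_contra hle
  push Not at hle
  set k := Nat.card {t : G // IsConj x t}
  set c := Nat.card (Subgroup.centralizer ({x} : Set G))
  set n := Nat.card {t : G // orderOf t = 2}
  set g := Nat.card G
  have h1 : g * g ≤ H.index * n ^ 2 :=
    calc g * g = c ^ 2 * k ^ 2 := by rw [← hk]; ring
      _ ≤ H.index * n ^ 2 := Nat.mul_le_mul hle (Nat.pow_le_pow_left hkn 2)
  nlinarith

end CfsgLib.Invol
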