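import Mathlib.Algebra.BigOperators.Group.Finset.Basic
import Mathlib.Algebra.BigOperators.Ring.Finset
import Mathlib.Algebra.Order.BigOperators.Group.Finset
import Mathlib.Data.Fintype.BigOperators
import Mathlib.Data.Rat.Cast.Order
import Mathlib.Tactic

/-!
The arithmetic which excludes an automizer of order 21 on an elementary abelian Sylow 2-subgroup
of order 8.
-/

set_option autoImplicit false

namespace CfsgLib.Invol.Eight

open Finset

theorem sq_le_three {x : ℤ} (h : x * x ≤ 3) : x = -1 ∨ x = 0 ∨ x = 1 := by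
  have h1 : x ≤ 1 := by nlinarith
  have h2 : -1 ≤ x := by nlinarith
  omega

theorem signed_support {ι : Type*} [DecidableEq ι] (s : Finset ι) (x : ι → ℤ) {n : ℕ}
    (h : ∑ i ∈ s, x i * x i = n) (hn : n ≤ 3) :
    (s.filter fun i => x i ≠ 0).card = n ∧ ∀ i ∈ s, x i = -1 ∨ x i = 0 ∨ x i = 1 := by
  have hs : ∀ i ∈ s, x i = -1 ∨ x i = 0 ∨ x i = 1 := fun i hi => sq_le_three <| by
    have := Finset.single_le_sum (f := fun i => x i * x i) (fun j _ => mul_self_nonneg _) hi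
    have : (n : ℤ) ≤ 3 := by exact_mod_cast hn
    omega
  refine ⟨?_, hs⟩
  have e : ∑ i ∈ s, x i * x i = ((s.filter fun i => x i ≠ 0).card : ℤ) := by
    rw [Finset.card_filter, Nat.cast_sum]
    refine Finset.sum_congr rfl fun i hi => ?_
    rcases hs i hi with h | h | h <;> simp [h]
  rw [e] at h
  exact_mod_cast h

theorem three_cases {a b c : ℤ} (h : a + b + c = 2) (hq : a * a + b * b + c * c ≤ 4) :
    ((a = 0 ∧ b = 1 ∧ c = 1) ∨ (a = 1 ∧ b = 0 ∧ c = 1) ∨ (a = 1 ∧ b = 1 ∧ c = 0)) ∨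
      ((a = 2 ∧ b = 0 ∧ c = 0) ∨ (a = 0 ∧ b = 2 ∧ c = 0) ∨ (a = 0 ∧ b = 0 ∧ c = 2)) := by
  have ha : a ≤ 2 ∧ -2 ≤ a := ⟨by nlinarith, by nlinarith⟩
  have hb : b ≤ 2 ∧ -2 ≤ b := ⟨by nlinarith, by nlinarith⟩
  obtain ⟨ha1, ha2⟩ := ha
  obtain ⟨hb1, hb2⟩ := hb
  have hc : c = 2 - a - b := by omega
  subst hc
  interval_cases a <;> interval_cases b <;> omega

theorem final_case {X U V : ℤ} {κ r₁ r₂ : ℤ} (hκ : κ = 0 ∨ κ = 1)
    (h1 : r₁ = -1 ∨ r₁ = 0 ∨ r₁ = 1) (h2 : r₂ = -1 ∨ r₂ = 0 ∨ r₂ = 1) (hr : r₁ + r₂ = κ)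
    (hX : X % 8 = (1 + κ) % 8) (hU : U % 8 = (1 + r₁) % 8) (hV : V % 8 = (1 + r₂) % 8)
    (hX1 : X ≠ 1) (hU1 : U ≠ 1) (hV1 : V ≠ 1) (hU0 : U ≠ 0) (hV0 : V ≠ 0)
    (hneg : κ = 1 → X ≠ -6) (hsum : U + V = 1 + X)
    (hid : U * V * (X + (1 + κ) ^ 2) = X * ((1 + r₁) ^ 2 * V + (1 + r₂) ^ 2 * U)) : False := by
  have key : ∀ {W Z : ℤ}, W + Z = 1 + X → κ = 0 → Z ≠ 0 → W * Z * (X + 1) = X * (4 * Z) → False := by
    intro W Z hs hk hZ he
    subst hk
    have e : W * (X + 1) = 4 * X := mul_right_cancel₀ hZ (by linear_combination he)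
    have hd : X + 1 ∣ 4 := ⟨4 - W, by linear_combination e⟩
    have hle : X + 1 ≤ 4 := Int.le_of_dvd (by norm_num) hd
    have hge : -(X + 1) ≤ 4 := Int.le_of_dvd (by norm_num) (neg_dvd.2 hd)
    omega
  have key2 : ∀ {W Z : ℤ}, W + Z = 1 + X → κ = 1 → W % 8 = 2 → Z % 8 = 1 → Z ≠ 1 →
      W * Z * (X + 4) = X * (4 * Z + W) → False := by
    intro W Z hs hk hW hZ hZ1 he
    subst hk
    obtain rfl : W = 1 + X - Z := by omega
    have e : (Z - 1) * ((X + 4) * Z - X * (X + 1)) = 0 := by linear_combination -he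
    rcases mul_eq_zero.1 e with h | h
    · omega
    have hd : X + 4 ∣ 12 := ⟨Z - (X - 3), by linear_combination -h⟩
    have hle : X + 4 ≤ 12 := Int.le_of_dvd (by norm_num) hd
    have hge : -(X + 4) ≤ 12 := Int.le_of_dvd (by norm_num) (neg_dvd.2 hd)
    have hX2 : X = 2 ∨ X = -6 := by
      have h3 : X % 8 = 2 := hX
      have hXl : X ≤ 8 := by omega
      have hXg : -16 ≤ X := by omega
      rcases (show X = 2 ∨ X = -6 ∨ X = -14 by omega) with h' | h' | h'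
      · exact Or.inl h'
      · exact Or.inr h'
      · rw [h'] at hd; norm_num at hd
    rcases hX2 with rfl | rfl
    · omega
    · exact hneg rfl rfl
  rcases hκ with rfl | rfl <;> rcases h1 with rfl | rfl | rfl <;> rcases h2 with rfl | rfl | rfl <;>
    first | omega | skip
  -- the possible patterns
  · exact key (W := V) (Z := U) (by omega) rfl hU0 (by linear_combination hid)
  · have e : (U * V - X) * (X + 1) = 0 := by
      have : U + V = 1 + X := hsum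
      linear_combination hid + X * this
    rcases mul_eq_zero.1 e with h | h
    · have e2 : (U - 1) * (V - 1) = 0 := by linear_combination h - hsum
      rcases mul_eq_zero.1 e2 with h' | h' <;> omega
    · omega
  · exact key (W := U) (Z := V) hsum rfl hV0 (by linear_combination hid)
  · exact key2 (W := V) (Z := U) (by omega) rfl (by omega) (by omega) hU1 (by linear_combination hid)
  · exact key2 (W := U) (Z := V) hsum rfl (by omega) (by omega) hV1 (by linear_combination hid)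

variable {ι : Type*} [Fintype ι] (e : ι) (c0 c1 c2 : ι → ℤ) (d : ι → ℕ)

/-- The final contradiction. -/
theorem arith_main
    (hd : ∀ i, 0 < d i) (hlin : ∀ i, d i = 1 → i = e) (hde : d e = 1)
    (e0 : c0 e = 1) (e1 : c1 e = 0) (e2 : c2 e = 0)
    (n0 : ∑ i, c0 i * c0 i = 4) (n1 : ∑ i, c1 i * c1 i = 4) (n2 : ∑ i, c2 i * c2 i = 4)
    (g01 : ∑ i, c0 i * c1 i = 2) (g02 : ∑ i, c0 i * c2 i = 2) (g12 : ∑ i, c1 i * c2 i = 2)
    (hsec : ∀ i, c0 i ≠ 0 ∨ c1 i ≠ 0 → ∃ m : ℕ, (d i : ℤ) + 7 * (c0 i + c1 i + c2 i) = 8 * m)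
    (deg0 : ∑ i, c0 i * (d i : ℤ) = 0) (deg1 : ∑ i, c1 i * (d i : ℤ) = 0)
    (deg2 : ∑ i, c2 i * (d i : ℤ) = 0)
    (hid : ∑ i, ((c0 i - c1 i : ℤ) : ℚ) * ((c0 i + c1 i + c2 i : ℤ) : ℚ) ^ 2 / (d i : ℚ) = 0) :
    False := by
  classical
  set s := (univ : Finset ι).erase e with hs
  have hsum : ∀ f : ι → ℤ, ∑ i, f i = f e + ∑ i ∈ s, f i := fun f =>
    (add_sum_erase _ _ (mem_univ e)).symm
  have h0 : ∑ i ∈ s, c0 i * c0 i = ((3 : ℕ) : ℤ) := by
    rw [hsum, e0] at n0; push_cast; linarith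
  obtain ⟨hT, hT1⟩ := signed_support s c0 h0 le_rfl
  set T := s.filter fun i => c0 i ≠ 0 with hTdef
  have hsT : T ⊆ s := filter_subset _ _
  have hT0 : ∀ i ∈ s, i ∉ T → c0 i = 0 := fun i hi hn => by
    by_contra h; exact hn (mem_filter.2 ⟨hi, h⟩)
  have hTs : ∀ i ∈ T, c0 i = 1 ∨ c0 i = -1 := fun i hi => by
    have := (mem_filter.1 hi).2
    rcases hT1 i (hsT hi) with h | h | h
    · exact Or.inr h
    · exact absurd h this
    · exact Or.inl h
  have hsq : ∀ i ∈ T, c0 i * c0 i = 1 := fun i hi => by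
    rcases hTs i hi with h | h <;> simp [h]
  -- split of a sum
  have hsplit : ∀ f : ι → ℤ, ∑ i, f i = f e + ∑ i ∈ T, f i + ∑ i ∈ s \ T, f i := fun f => by
    rw [hsum, add_assoc, ← sum_sdiff hsT, add_comm (∑ i ∈ s \ T, f i)]
  have hprod : ∀ c : ι → ℤ, c e = 0 → ∑ i, c0 i * c i = 2 → ∑ i, c i * c i = 4 →
      ∑ i, c i * (d i : ℤ) = 0 →
      (∑ i ∈ T, c0 i * c i = 2) ∧ ∀ a b g, T = {a, b, g} → a ≠ b → a ≠ g → b ≠ g →
        ((c0 a * c a = 0 ∧ c0 b * c b = 1 ∧ c0 g * c g = 1) ∨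
          (c0 a * c a = 1 ∧ c0 b * c b = 0 ∧ c0 g * c g = 1) ∨
          (c0 a * c a = 1 ∧ c0 b * c b = 1 ∧ c0 g * c g = 0)) := by
    intro c hce hg hn hdg
    have hT2 : ∑ i ∈ T, c0 i * c i = 2 := by
      rw [hsplit, hce, mul_zero, zero_add, sum_eq_zero (s := s \ T), add_zero] at hg
      · exact hg
      · intro i hi
        rw [hT0 i (mem_sdiff.1 hi).1 (mem_sdiff.1 hi).2, zero_mul]
    refine ⟨hT2, fun a b g hab n1 n2 n3 => ?_⟩
    have hsub : ∑ i ∈ T, c i * c i ≤ 4 := by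
      rw [← hn]
      exact sum_le_univ_sum_of_nonneg (fun i => mul_self_nonneg _)
    have hval : ∀ i ∈ T, c i * c i = c0 i * c i * (c0 i * c i) := fun i hi => by
      linear_combination -(c i * c i) * hsq i hi
    rw [hab, sum_insert (by simp [n1, n2]), sum_pair n3] at hT2
    rw [sum_congr rfl hval, hab, sum_insert (by simp [n1, n2]), sum_pair n3, ← add_assoc] at hsub
    rcases three_cases (by linarith) hsub with h | h
    · exact h
    exfalso
    have kill : ∀ i ∈ T, c0 i * c i = 2 → False := by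
      intro i hi h2
      have hci : c i = 2 * c0 i := by linear_combination c0 i * h2 - c i * hsq i hi
      have hz : ∀ j ∈ (univ : Finset ι), j ≠ i → c j = 0 := by
        intro j _ hji
        have h4 : c i * c i + c j * c j ≤ 4 := by
          rw [← hn, ← sum_pair (f := fun k => c k * c k) hji.symm]
          exact sum_le_univ_sum_of_nonneg (fun i => mul_self_nonneg _)
        rw [hci] at h4
        have : c j * c j ≤ 0 := by nlinarith [hsq i hi]
        exact mul_self_eq_zero.1 (le_antisymm this (mul_self_nonneg _))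
      rw [sum_eq_single i (fun j hj hji => by rw [hz j hj hji, zero_mul]) (by simp), hci] at hdg
      have := hd i
      rcases hTs i hi with h | h <;> rw [h] at hdg <;> omega
    rcases h with ⟨h, -, -⟩ | ⟨-, h, -⟩ | ⟨-, -, h⟩
    · exact kill a (by simp [hab]) h
    · exact kill b (by simp [hab]) h
    · exact kill g (by simp [hab]) h
  obtain ⟨hp2, hp⟩ := hprod c1 e1 g01 n1 deg1
  obtain ⟨hq2, hq⟩ := hprod c2 e2 g02 n2 deg2
  obtain ⟨x, y, w, hxy, hxw, hyw, hTxyw⟩ := card_eq_three.1 hT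
  obtain ⟨a, b, g, hab, hag, hbg, hTabg, pa, pb, pg⟩ :
      ∃ a b g, a ≠ b ∧ a ≠ g ∧ b ≠ g ∧ T = {a, b, g} ∧
        c0 a * c1 a = 1 ∧ c0 b * c1 b = 1 ∧ c0 g * c1 g = 0 := by
    rcases hp x y w hTxyw hxy hxw hyw with h | h | h
    · exact ⟨y, w, x, hyw, hxy.symm, hxw.symm,
        by rw [hTxyw]; ext; simp only [mem_insert, mem_singleton]; tauto, h.2.1, h.2.2, h.1⟩
    · exact ⟨x, w, y, hxw, hxy, hyw.symm,
        by rw [hTxyw]; ext; simp only [mem_insert, mem_singleton]; tauto, h.1, h.2.2, h.2.1⟩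
    · exact ⟨x, y, w, hxy, hxw, hyw, hTxyw, h.1, h.2.1, h.2.2⟩
  have hq' := hq a b g hTabg hab hag hbg
  have haT : a ∈ T := by simp [hTabg]
  have hbT : b ∈ T := by simp [hTabg]
  have hgT : g ∈ T := by simp [hTabg]
  have ha1 : c1 a = c0 a := by linear_combination c0 a * pa - c1 a * hsq a haT
  have hb1 : c1 b = c0 b := by linear_combination c0 b * pb - c1 b * hsq b hbT
  have hg1 : c1 g = 0 := by linear_combination c0 g * pg - c1 g * hsq g hgT
  set κ := c0 g * c2 g with hκdef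
  have hκ : κ = 0 ∨ κ = 1 := by omega
  have hg2 : c2 g = c0 g * κ := by linear_combination -(c2 g) * hsq g hgT
  -- outside
  set R := s \ T with hR
  have hR0 : ∀ i ∈ R, c0 i = 0 := fun i hi => hT0 i (mem_sdiff.1 hi).1 (mem_sdiff.1 hi).2
  have hTsum : ∀ f : ι → ℤ, ∑ i ∈ T, f i = f a + f b + f g := fun f => by
    rw [hTabg, sum_insert (by simp [hab, hag]), sum_pair hbg, add_assoc]
  have hn1R : ∑ i ∈ R, c1 i * c1 i = ((2 : ℕ) : ℤ) := by
    rw [hsplit, e1, hTsum, ha1, hb1, hg1, hsq a haT, hsq b hbT] at n1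
    push_cast; linarith
  obtain ⟨hO, hO1⟩ := signed_support R c1 hn1R (by norm_num)
  obtain ⟨o, o', hoo, hOeq⟩ := card_eq_two.1 hO
  have hoR : o ∈ R ∧ c1 o ≠ 0 := mem_filter.1 (hOeq ▸ mem_insert_self o {o'})
  have hoR' : o' ∈ R ∧ c1 o' ≠ 0 := mem_filter.1 (hOeq ▸ mem_insert_of_mem (mem_singleton_self o'))
  have hn2R : ∑ i ∈ R, c2 i * c2 i = ((2 : ℕ) : ℤ) := by
    rw [hsplit, e2, hTsum] at n2
    have hsq2 : ∀ i ∈ T, c2 i * c2 i = c0 i * c2 i * (c0 i * c2 i) := fun i hi => by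
      linear_combination -(c2 i * c2 i) * hsq i hi
    rw [hsq2 a haT, hsq2 b hbT, hsq2 g hgT] at n2
    rcases hq' with ⟨h1, h2, h3⟩ | ⟨h1, h2, h3⟩ | ⟨h1, h2, h3⟩ <;>
      rw [hκdef] at h3 <;> rw [h1, h2, h3] at n2 <;>
      push_cast <;> linarith
  obtain ⟨-, hO2⟩ := signed_support R c2 hn2R (by norm_num)
  have hRsum : ∀ f : ι → ℤ, (∀ i ∈ R, c1 i = 0 → f i = 0) → ∑ i ∈ R, f i = f o + f o' := by
    intro f hf
    rw [← sum_pair hoo, ← hOeq]
    refine (sum_subset (filter_subset _ _) fun i hi hn => hf i hi ?_).symm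
    by_contra h; exact hn (mem_filter.2 ⟨hi, h⟩)
  have hsgn : ∀ i ∈ R, c1 i ≠ 0 → c1 i * c1 i = 1 := fun i hi h => by
    rcases hO1 i hi with h' | h' | h'
    · rw [h']; norm_num
    · exact absurd h' h
    · rw [h']; norm_num
  set r₁ := c1 o * c2 o with hr₁
  set r₂ := c1 o' * c2 o' with hr₂
  have hr : r₁ + r₂ = κ := by
    rw [hsplit, e1, hTsum, ha1, hb1, hg1, zero_mul, zero_add,
      hRsum (fun i => c1 i * c2 i) (fun i _ h => by simp [h])] at g12
    rw [hTsum] at hq2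
    omega
  -- degrees
  set X := c0 g * (d g : ℤ) with hXdef
  set U := c1 o * (d o : ℤ) with hUdef
  set V := c1 o' * (d o' : ℤ) with hVdef
  have hUV : U + V = 1 + X := by
    have := deg0
    rw [hsplit, e0, hde, hTsum, sum_eq_zero (fun i hi => by rw [hR0 i hi, zero_mul])] at this
    have h1 := deg1
    rw [hsplit, e1, hTsum, ha1, hb1, hg1,
      hRsum (fun i => c1 i * (d i : ℤ)) (fun i _ h => by simp [h])] at h1
    push_cast at this
    simp only [← hUdef, ← hVdef, ← hXdef] at h1 this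
    linarith
  have hsg : c0 g + c1 g + c2 g = c0 g * (1 + κ) := by rw [hg1, hg2]; ring
  have hso : ∀ i ∈ R, c1 i ≠ 0 → c0 i + c1 i + c2 i = c1 i * (1 + c1 i * c2 i) := fun i hi h => by
    linear_combination hR0 i hi - c2 i * hsgn i hi h
  have hs_g := hso o hoR.1 hoR.2
  have hs_o' := hso o' hoR'.1 hoR'.2
  have hne1 : ∀ i, i ≠ e → (d i : ℤ) ≠ 1 := fun i hi h => hi (hlin i (by exact_mod_cast h))
  have hge : g ≠ e := fun h => by have := hsT hgT; simp [hs, h] at this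
  have hoe : o ≠ e := fun h => by have := (mem_sdiff.1 hoR.1).1; simp [hs, h] at this
  have hoe' : o' ≠ e := fun h => by have := (mem_sdiff.1 hoR'.1).1; simp [hs, h] at this
  have hmodel : ∀ {σ D t : ℤ}, (σ = 1 ∨ σ = -1) → 0 < D → D ≠ 1 → (∃ m : ℕ, D + 7 * (σ * t) = 8 * m) →
      (σ * D) % 8 = t % 8 ∧ σ * D ≠ 1 ∧ σ * D ≠ 0 ∧ (t = 2 → σ * D ≠ -6) := by
    rintro σ D t (rfl | rfl) hD hD1 ⟨m, hm⟩ <;> refine ⟨?_, ?_, ?_, ?_⟩ <;> omega
  have hdg : (0 : ℤ) < d g := by exact_mod_cast hd g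
  have hdo : (0 : ℤ) < d o := by exact_mod_cast hd o
  have hdo' : (0 : ℤ) < d o' := by exact_mod_cast hd o'
  have hsign1 : ∀ i ∈ R, c1 i ≠ 0 → c1 i = 1 ∨ c1 i = -1 := fun i hi h =>
    mul_self_eq_one_iff.1 (hsgn i hi h)
  obtain ⟨hX8, hX1, hX0, hX6⟩ := hmodel (t := 1 + κ) (hTs g hgT) hdg (hne1 g hge) (by
    rw [← hsg]; exact hsec g (Or.inl (mem_filter.1 hgT).2))
  obtain ⟨hU8, hU1, hU0, -⟩ := hmodel (t := 1 + r₁) (hsign1 o hoR.1 hoR.2) hdo (hne1 o hoe) (by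
    rw [← hs_g]; exact hsec o (Or.inr hoR.2))
  obtain ⟨hV8, hV1, hV0, -⟩ := hmodel (t := 1 + r₂) (hsign1 o' hoR'.1 hoR'.2) hdo' (hne1 o' hoe') (by
    rw [← hs_o']; exact hsec o' (Or.inr hoR'.2))
  have hrb : ∀ i ∈ R, c1 i ≠ 0 → c1 i * c2 i = -1 ∨ c1 i * c2 i = 0 ∨ c1 i * c2 i = 1 := fun i hi h => by
    rcases hsign1 i hi h with h' | h' <;> rcases hO2 i hi with h'' | h'' | h'' <;> simp [h', h'']
  refine final_case hκ (hrb o hoR.1 hoR.2) (hrb o' hoR'.1 hoR'.2) hr hX8 hU8 hV8 hX1 hU1 hV1 hU0 hV0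
    (fun h => hX6 (by omega)) hUV ?_
  -- the identity
  let F : ι → ℚ := fun i => ((c0 i - c1 i : ℤ) : ℚ) * ((c0 i + c1 i + c2 i : ℤ) : ℚ) ^ 2 / (d i : ℚ)
  have hF : F e + (F a + F b + F g) + (F o + F o') = 0 := by
    rw [← hid, ← add_sum_erase _ _ (mem_univ e), add_assoc]
    congr 1
    rw [show (univ : Finset ι).erase e = s from rfl, ← sum_sdiff hsT, add_comm]
    congr 1
    · rw [← sum_pair hoo, ← hOeq]
      refine sum_subset (filter_subset _ _) fun i hi hn => ?_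
      have : c1 i = 0 := by by_contra h; exact hn (mem_filter.2 ⟨hi, h⟩)
      simp [F, hR0 i hi, this]
    · rw [hTabg, sum_insert (by simp [hab, hag]), sum_pair hbg, add_assoc]
  have Fe : F e = 1 := by simp [F, e0, e1, e2, hde]
  have Fa : F a = 0 := by simp [F, ha1]
  have Fb : F b = 0 := by simp [F, hb1]
  have hqd : ∀ i, (d i : ℚ) ≠ 0 := fun i => by exact_mod_cast (hd i).ne'
  have Fg : F g = ((1 + κ : ℤ) : ℚ) ^ 2 / (X : ℚ) := by
    simp only [F]
    rw [hsg, hg1, sub_zero, hXdef]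
    rcases hTs g hgT with h | h <;> rw [h] <;> push_cast <;> field_simp <;> ring
  have Fo : ∀ i ∈ R, c1 i ≠ 0 → F i =
      -(((1 + c1 i * c2 i : ℤ) : ℚ) ^ 2 / ((c1 i * (d i : ℤ) : ℤ) : ℚ)) := fun i hi h => by
    simp only [F, hR0 i hi, zero_sub]
    rcases hsign1 i hi h with h' | h' <;> rw [h'] <;> push_cast <;> field_simp <;> ring
  rw [Fe, Fa, Fb, Fg, Fo o hoR.1 hoR.2, Fo o' hoR'.1 hoR'.2, ← hr₁, ← hr₂, ← hUdef, ← hVdef] at hF
  have qX : (X : ℚ) ≠ 0 := by exact_mod_cast hX0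
  have qU : (U : ℚ) ≠ 0 := by exact_mod_cast hU0
  have qV : (V : ℚ) ≠ 0 := by exact_mod_cast hV0
  field_simp at hF
  push_cast at hF
  have : ((U * V * (X + (1 + κ) ^ 2) : ℤ) : ℚ) =
      ((X * ((1 + r₁) ^ 2 * V + (1 + r₂) ^ 2 * U) : ℤ) : ℚ) := by
    push_cast; linear_combination hF
  exact_mod_cast this

end CfsgLib.Invol.Eight
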