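import Cfsg.Agent.Lib.Invol.EightChar
import Cfsg.Agent.Lib.Char.Brauer

/-!
The generalized characters of the section of the involutions, and their behaviour on the principal
2-block.
-/

set_option autoImplicit false
set_option linter.unusedSectionVars false
set_option maxHeartbeats 1000000

namespace CfsgLib.Invol.Eight

open Cfsg
open scoped ComplexConjugate

universe u

namespace Data

variable {G : Type u} [Group G] [Finite G] (D : Data G)

/-- The three functions on the whole group. -/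
noncomputable def Phi (j : Fin 3) : G → ℂ := D.secFn (D.fj j)

theorem Phi_class (j : Fin 3) : IsClassFunction G (D.Phi j) := D.secFn_class (D.fj_conj j)

theorem exists_conj_into {g : G} (hg : ∃ k : ℕ, orderOf g = 2 ^ k) :
    ∃ a : G, a * g * a⁻¹ ∈ (D.S : Subgroup G) := by
  obtain ⟨k, hk⟩ := hg
  obtain ⟨R, hR⟩ := (IsPGroup.of_card (p := 2) (n := k) (G := Subgroup.zpowers g)
    (by rw [Nat.card_zpowers, hk])).exists_le_sylow
  obtain ⟨a, ha⟩ := MulAction.exists_smul_eq G R D.S
  refine ⟨a, ?_⟩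
  rw [← ha, Sylow.coe_subgroup_smul]
  exact Subgroup.smul_mem_pointwise_smul _ (MulAut.conj a) _ (hR (Subgroup.mem_zpowers _))

include D in
theorem two_elt_sq {g : G} (hg : ∃ k : ℕ, orderOf g = 2 ^ k) : g * g = 1 := by
  obtain ⟨a, ha⟩ := D.exists_conj_into hg
  have h := D.hexp _ ha
  rwa [show a * g * a⁻¹ * (a * g * a⁻¹) = a * (g * g) * a⁻¹ by group, conj_eq_one_iff] at h

theorem exists_conj_z {g : G} (hg : ∃ k : ℕ, orderOf g = 2 ^ k) (h1 : g ≠ 1) :
    ∃ a : G, a * g * a⁻¹ = D.z := by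
  obtain ⟨a, ha⟩ := D.exists_conj_into hg
  obtain ⟨b, hb⟩ := isConj_iff.1 (D.hconj _ ha fun e => h1 (conj_eq_one_iff.1 e))
  exact ⟨b⁻¹ * a, by
    calc b⁻¹ * a * g * (b⁻¹ * a)⁻¹ = b⁻¹ * (a * g * a⁻¹) * b := by group
      _ = b⁻¹ * (b * D.z * b⁻¹) * b := by rw [hb]
      _ = D.z := by group⟩

/-- A 2-element other than `1` and `z` is centralized only inside `L`. -/
theorem mem_L_of_commute_two {h u : D.H} (hu : ∃ k : ℕ, orderOf u = 2 ^ k) (hu1 : u ≠ 1)
    (huz : u ≠ D.zH) (hc : Commute h u) : h ∈ D.L := by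
  obtain ⟨Q, hQ⟩ := D.sylowH
  obtain ⟨k, hk⟩ := hu
  obtain ⟨R, hR⟩ := (IsPGroup.of_card (p := 2) (n := k) (G := Subgroup.zpowers u)
    (by rw [Nat.card_zpowers, hk])).exists_le_sylow
  obtain ⟨a, ha⟩ := MulAction.exists_smul_eq D.H R Q
  have hm : a * u * a⁻¹ ∈ D.T := by
    rw [← hQ, ← ha, Sylow.coe_subgroup_smul]
    exact Subgroup.smul_mem_pointwise_smul _ (MulAut.conj a) _ (hR (Subgroup.mem_zpowers _))
  have hne : a * u * a⁻¹ ≠ D.zH := fun e => huz <| by
    calc u = a⁻¹ * (a * u * a⁻¹) * a := by group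
      _ = D.zH := by rw [e, mul_assoc, (D.zH_central a).eq, inv_mul_cancel_left]
  have h' := D.L_normal.conj_mem _ (D.mem_L_of_commute hm (fun e => hu1 (conj_eq_one_iff.1 e)) hne
    (hc.map (MulAut.conj a).toMonoidHom)) a⁻¹
  simpa [mul_assoc] using h'

include D in
theorem delta_gen {P : Subgroup G} (hP : IsPGroup 2 P) :
    IsGeneralizedCharacter P (fun x : P => open Classical in if (x : G) = 1 then (0 : ℂ) else 8) := by
  classical
  have := Fintype.ofFinite P
  obtain ⟨q, hq⟩ : Nat.card P ∣ 8 := by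
    obtain ⟨R, hR⟩ := hP.exists_le_sylow
    rw [← D.h8, ← R.card_eq_multiplicity.trans D.S.card_eq_multiplicity.symm]
    exact Subgroup.card_dvd_of_le hR
  have he : (fun x : P => if (x : G) = 1 then (0 : ℂ) else 8) =
      (fun x : P => (8 : ℂ) - if x = 1 then 8 else 0) := funext fun x => by
    by_cases h : x = 1
    · simp [h]
    · simp [h, (fun e => h (Subtype.ext e) : (x : G) ≠ 1)]
  rw [he]
  refine CfsgLib.Char.isGeneralized_sub ?_ (CfsgLib.Char.isGeneralized_of_int ?_ fun χ hχ => ?_)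
  · have := CfsgLib.Char.isGeneralized_zsmul
      (CfsgLib.Char.isGeneralized_of_isCharacter (CfsgLib.Char.isCharacter_one (G := P))) 8
    convert this using 1
    funext x; simp
  · intro g h
    simp [conj_eq_one_iff]
  · obtain ⟨d, hd⟩ := CfsgLib.Char.char_apply_one_eq_nat (CfsgLib.Char.irr_isCharacter hχ)
    refine ⟨(q : ℤ) * d, ?_⟩
    rw [CfsgLib.Char.classInner_def, Finset.sum_eq_single (1 : P) (fun b _ hb => by simp [hb]) (by simp),
      if_pos rfl, hd, Complex.conj_natCast,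
      show (8 : ℂ) = (Nat.card P : ℂ) * (q : ℂ) by exact_mod_cast hq]
    have h0 : (Nat.card P : ℂ) ≠ 0 := CfsgLib.Char.natCard_ne_zero
    push_cast
    field_simp

theorem Phi_gen (j : Fin 3) : IsGeneralizedCharacter G (D.Phi j) := by
  classical
  have := Fintype.ofFinite G
  refine CfsgLib.Char.brauer_characterization (D.Phi_class j) fun E p hp hE => ?_
  have := Fintype.ofFinite E
  by_cases hex : ∃ e : E, twoPart e ≠ 1
  swap
  · push Not at hex
    rw [show (fun e : E => D.Phi j e) = 0 from funext fun e => D.secFn_eq_zero _ fun ⟨a, ha⟩ =>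
      invol_ne_one D.hz (by rw [← ha, twoPart_coe, hex e]; simp)]
    exact CfsgLib.Char.isGeneralized_zero
  obtain ⟨e0, he0⟩ := hex
  set t := twoPart e0
  have hnil := isNilpotent_of_isElementary hp hE
  obtain ⟨R, hR⟩ := CfsgLib.BlockA.exists_regular_subgroup (p := 2) hp hE
  have hmul := twoPart_mul_of_nilpotent hnil hR
  have htwo : ∀ x : E, (∃ k : ℕ, orderOf x = 2 ^ k) → x * x = 1 := fun x ⟨k, hk⟩ =>
    Subtype.ext (D.two_elt_sq ⟨k, by rw [Subgroup.orderOf_coe, hk]⟩)
  by_cases hall : ∀ e : E, twoPart e = 1 ∨ twoPart e = t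
  · have ht1 : (t : G) ≠ 1 := fun h => he0 (Subtype.ext h)
    have ht2 : ∃ k : ℕ, orderOf (t : G) = 2 ^ k := by
      obtain ⟨k, hk⟩ := exists_orderOf_twoPart e0
      exact ⟨k, by rw [Subgroup.orderOf_coe, hk]⟩
    obtain ⟨a, ha⟩ := D.exists_conj_z ht2 ht1
    have htc : ∀ x : E, Commute t x := fun x => by
      rcases hall (x * e0 * x⁻¹) with h | h <;> rw [twoPart_conj] at h
      · exact absurd (conj_eq_one_iff.1 h) he0
      · exact (mul_inv_eq_iff_eq_mul.1 h).symm
    let ι : E →* D.H :=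
      { toFun := fun e => ⟨a * (e : G) * a⁻¹, by
          rw [Subgroup.mem_centralizer_singleton_iff, ← ha]
          have := (htc e).map ((MulAut.conj a).toMonoidHom.comp E.subtype)
          simp only [MonoidHom.coe_comp, Function.comp_apply, MulEquiv.coe_toMonoidHom,
            MulAut.conj_apply, Subgroup.subtype_apply] at this
          exact this.symm.eq⟩
        map_one' := Subtype.ext (by simp)
        map_mul' := fun x y => Subtype.ext (by simp [mul_assoc]) }
    have htt : t * t = 1 := htwo t (exists_orderOf_twoPart e0)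
    have hne : (1 : E) ≠ t := fun h => he0 h.symm
    let ε : E →* ℂˣ :=
      { toFun := fun e => if twoPart e = t then -1 else 1
        map_one' := by rw [twoPart_of_odd (by simp), if_neg hne]
        map_mul' := fun x y => by
          rcases hall x with hx | hx <;> rcases hall y with hy | hy <;>
            simp [hmul, hx, hy, htt, hne] }
    have e : (fun e : E => D.Phi j e) = ((fun _ => (1 : ℂ)) - fun e => (ε e : ℂ)) *
        (((fun _ => (1 : ℂ)) + fun e => (((D.lam.comp ι) e : ℂˣ) : ℂ)) +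
          (fun e => ((((D.lam.comp ι) ^ 2) e : ℂˣ) : ℂ)) +
          fun e => ((((D.lam.comp ι) ^ (j : ℕ)) e : ℂˣ) : ℂ)) := by
      funext e
      simp only [Pi.mul_apply, Pi.sub_apply, Pi.add_apply, MonoidHom.pow_apply,
        Units.val_pow_eq_pow_val, MonoidHom.comp_apply]
      rcases hall e with h | h
      · rw [show (ε e : ℂ) = 1 by simp [ε, h, hne], sub_self, zero_mul]
        refine D.secFn_eq_zero _ fun ⟨b, hb⟩ => invol_ne_one D.hz ?_
        rw [← hb, twoPart_coe, h]; simp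
      · have ha' : a * twoPart (e : G) * a⁻¹ = D.z := by rw [twoPart_coe, h, ha]
        rw [show (ε e : ℂ) = -1 by simp [ε, h]]
        show D.secFn (D.fj j) e = _
        rw [D.secFn_eq (D.fj_conj j) ha',
          show (⟨a * (e : G) * a⁻¹, D.mem_centralizer_of_twoPart ha'⟩ : D.H) = ι e from rfl, fj]
        ring
    rw [e]
    have lc : ∀ l : E →* ℂˣ, IsGeneralizedCharacter E (fun e => (l e : ℂ)) := fun l =>
      CfsgLib.Char.isGeneralized_of_isCharacter
        (CfsgLib.Char.irr_isCharacter (CfsgLib.Char.isIrrCharacter_linear l))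
    have one : IsGeneralizedCharacter E (fun _ : E => (1 : ℂ)) :=
      CfsgLib.Char.isGeneralized_of_isCharacter CfsgLib.Char.isCharacter_one
    exact CfsgLib.Char.isGeneralized_mul (CfsgLib.Char.isGeneralized_sub one (lc ε))
      (CfsgLib.Char.isGeneralized_add
        (CfsgLib.Char.isGeneralized_add (CfsgLib.Char.isGeneralized_add one (lc _)) (lc _)) (lc _))
  push Not at hall
  obtain ⟨e1, he11, he1t⟩ := hall
  set w : G → ℂ := fun g => if g = 1 then 0 else 8
  have hw : IsGeneralizedCharacter G (fun g => w (twoPart g)) :=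
    isGeneralized_sectFn (fun g h => by simp [w, conj_eq_one_iff]) fun P hP => D.delta_gen hP
  convert isGeneralized_comp hw E.subtype using 1
  funext e
  show D.Phi j e = w (twoPart (e : G))
  by_cases h1 : twoPart (e : G) = 1
  · simp only [w, if_pos h1]
    exact D.secFn_eq_zero _ fun ⟨b, hb⟩ => invol_ne_one D.hz (by rw [← hb, h1]; simp)
  simp only [w, if_neg h1]
  obtain ⟨a, ha⟩ := D.exists_conj_z (exists_orderOf_twoPart (e : G)) h1
  show D.secFn (D.fj j) e = _
  rw [D.secFn_eq (D.fj_conj j) ha]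
  refine D.fj_of_mem j ?_
  set s := twoPart e
  obtain ⟨e', hne, hne1⟩ : ∃ e' : E, twoPart e' ≠ s ∧ twoPart e' ≠ 1 := by
    by_cases h : t = s
    · exact ⟨e1, h ▸ he1t, he11⟩
    · exact ⟨e0, h, he0⟩
  set u := twoPart e'
  obtain ⟨k', hk'⟩ := exists_orderOf_twoPart e'
  obtain ⟨k, hk⟩ := exists_orderOf_twoPart e
  have hus : Commute u s := by
    have h2 : u * s * (u * s) = 1 := htwo _ (by
      have := exists_orderOf_twoPart (e' * e)
      rwa [hmul] at this)
    have a1 : u⁻¹ = u := inv_eq_of_mul_eq_one_left (htwo u ⟨k', hk'⟩)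
    have a2 : s⁻¹ = s := inv_eq_of_mul_eq_one_left (htwo s ⟨k, hk⟩)
    have a3 : (u * s)⁻¹ = u * s := inv_eq_of_mul_eq_one_left h2
    rw [mul_inv_rev, a1, a2] at a3
    exact a3.symm
  have huy : Commute u (s⁻¹ * e) :=
    CfsgLib.OddLocal.commute_of_coprime_of_isNilpotent hnil (by
      rw [hk']
      exact Nat.Coprime.pow_left k' (Nat.coprime_two_left.2 (odd_orderOf_twoPart_inv_mul e)))
  have hue : Commute u e := by
    have := hus.mul_right huy
    rwa [mul_inv_cancel_left] at this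
  have haz : a * (s : G) * a⁻¹ = D.z := by rw [← ha, twoPart_coe]
  have huH : a * (u : G) * a⁻¹ ∈ D.H := by
    rw [Subgroup.mem_centralizer_singleton_iff, ← haz]
    exact ((hus.map ((MulAut.conj a).toMonoidHom.comp E.subtype))).eq
  refine D.mem_L_of_commute_two (u := ⟨_, huH⟩) ⟨k', ?_⟩ (fun h => hne1 ?_) (fun h => hne ?_) ?_
  · rw [Subgroup.orderOf_mk, orderOf_conj_eq, Subgroup.orderOf_coe, hk']
  · exact Subtype.ext (conj_eq_one_iff.1 (congrArg Subtype.val h))
  · have h' : a * (u : G) * a⁻¹ = a * (s : G) * a⁻¹ := (congrArg Subtype.val h).trans haz.symm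
    exact Subtype.ext (mul_left_cancel (mul_right_cancel h'))
  · exact Subtype.ext ((hue.symm.map ((MulAut.conj a).toMonoidHom.comp E.subtype))).eq

/-! ### The principal block of the centralizer -/

variable {M : Ideal AlgInt} (hM : IsPModular 2 M)

include hM in
theorem mem_principal_iff [Fintype D.K] (ξ : IrrCharacter D.H) :
    ξ ∈ principalBlock M D.H ↔
      classInner (fun k : D.K => (ξ : D.H → ℂ) k)
        ((CfsgLib.Block.trivIrr : IrrCharacter D.K) : D.K → ℂ) ≠ 0 := by
  classical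
  have := Fintype.ofFinite D.H
  have := CfsgLib.Block.isPrime_of_pmodular hM
  have := D.K_normal
  obtain ⟨B, hB, hiff, -⟩ := CfsgLib.BlockA.principalType (K := D.K) hM D.quot_facts.2
    (CfsgLib.Solvable.pPrimeCore_coprime 2) CfsgLib.Block.trivIrr
    (fun g => Subtype.ext (funext fun n => by
      rw [CfsgLib.Block.conjIrr_apply]; rfl))
  have h1 : (CfsgLib.Block.trivIrr : IrrCharacter D.H) ∈ B := by
    rw [hiff]
    rw [show (fun k : D.K => ((CfsgLib.Block.trivIrr : IrrCharacter D.H) : D.H → ℂ) k) =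
      ((CfsgLib.Block.trivIrr : IrrCharacter D.K) : D.K → ℂ) from rfl,
      CfsgLib.Char.irr_classInner_self (CfsgLib.Block.trivIrr : IrrCharacter D.K).2]
    exact one_ne_zero
  rw [← CfsgLib.Block.isPBlock_eq_of_mem hB CfsgLib.Block.isPBlock_principalBlock h1
    CfsgLib.Block.one_mem_principalBlock, hiff]

include hM in
open Classical in
theorem blockSum_eq [Fintype D.H] [Fintype D.K] :
    CfsgLib.Block.blockSum (principalBlock M D.H) =
      CfsgLib.Block.mkGA (fun h : D.H => if h ∈ D.K then (Nat.card D.K : ℂ)⁻¹ else 0) := by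
  have := CfsgLib.Block.isPrime_of_pmodular hM
  have hKn := D.K_normal
  have hKp : ¬ 2 ∣ Nat.card D.K := fun h => Nat.not_even_iff_odd.2 D.odd_card_K (even_iff_two_dvd.2 h)
  refine CfsgLib.Block.eq_of_omegaC_eq (CfsgLib.Block.blockSum_isClassCoeff _) (fun g h => ?_)
    fun ξ => ?_
  · simp only [CfsgLib.Block.coeff_mkGA]
    exact if_congr ⟨fun hx => by simpa [mul_assoc] using hKn.conj_mem _ hx h⁻¹,
      fun hx => hKn.conj_mem _ hx h⟩ rfl rfl
  have hval : CfsgLib.Block.omegaC (ξ : D.H → ℂ)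
      (CfsgLib.Block.mkGA (fun h : D.H => if h ∈ D.K then (Nat.card D.K : ℂ)⁻¹ else 0)) =
      classInner (fun k : D.K => (ξ : D.H → ℂ) k) ((CfsgLib.Block.trivIrr : IrrCharacter D.K) : D.K → ℂ) /
        (ξ : D.H → ℂ) 1 := by
    rw [CfsgLib.Block.omegaC_eq, CfsgLib.Char.classInner_def]
    congr 1
    rw [Finset.mul_sum]
    simp only [CfsgLib.Block.coeff_mkGA, ite_mul, zero_mul, CfsgLib.Block.trivIrr, map_one, mul_one]
    rw [← Finset.sum_filter]
    refine (Finset.sum_bij (fun (k : D.K) _ => (k : D.H)) (fun k _ => by simp)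
      (fun x _ y _ h => Subtype.ext h)
      (fun x hx => ⟨⟨x, (Finset.mem_filter.1 hx).2⟩, Finset.mem_univ _, rfl⟩)
      (fun k _ => rfl)).symm
  rw [CfsgLib.Block.omegaC_blockSum, hval]
  by_cases hξ : ξ ∈ principalBlock M D.H
  · rw [if_pos hξ]
    have hle := CfsgLib.Block.le_kerIrr_of_mem_principalBlock (N := D.K) hM hKp hξ
    rw [show (fun k : D.K => (ξ : D.H → ℂ) k) = (ξ : D.H → ℂ) 1 •
        ((CfsgLib.Block.trivIrr : IrrCharacter D.K) : D.K → ℂ) from funext fun k => by
        simpa [CfsgLib.Block.trivIrr] using CfsgLib.Block.mem_kerIrr.1 (hle k.2),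
      CfsgLib.Char.classInner_smul_left,
      CfsgLib.Char.irr_classInner_self (CfsgLib.Block.trivIrr : IrrCharacter D.K).2, mul_one,
      div_self (CfsgLib.Char.irr_apply_one_ne_zero ξ.2)]
  · rw [if_neg hξ, not_not.1 fun h => hξ ((D.mem_principal_iff hM ξ).2 h), zero_div]

include hM in
open Classical in
theorem sum_K_eq_zero [Fintype G] [Fintype D.H] [Fintype D.K] {χ : IrrCharacter G}
    (hχ : χ ∉ principalBlock M G) {g : D.H} (hg : g ∈ D.fib) :
    ∑ v : D.K, (χ : G → ℂ) (((v : D.H) * g : D.H) : G) = 0 := by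
  have := CfsgLib.Block.isPrime_of_pmodular hM
  have := Fact.mk Nat.prime_two
  have hp : IsPGroup 2 (Subgroup.zpowers D.z) :=
    IsPGroup.of_card (n := 1) (by rw [Nat.card_zpowers, D.hz]; rfl)
  have hzH : D.z ∈ D.H := D.zH.2
  have hCH : Subgroup.centralizer (Subgroup.zpowers D.z : Set G) ≤ D.H :=
    Subgroup.centralizer_le (Set.singleton_subset_iff.2 (Subgroup.mem_zpowers D.z))
  have hHN : D.H ≤ Subgroup.normalizer (Subgroup.zpowers D.z : Set G) := by
    have : D.H = Subgroup.centralizer (Subgroup.zpowers D.z : Set G) := by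
      rw [Subgroup.zpowers_eq_closure, Subgroup.centralizer_closure]
    rw [this]
    exact Subgroup.centralizer_le_normalizer _
  obtain ⟨B, hind⟩ := CfsgLib.Block.exists_isInducedBlock_of_normalizer hM hp
    (Subgroup.zpowers_le.2 hzH) hCH hHN (CfsgLib.Block.isPBlock_principalBlock (M := M) (G := D.H))
  have hBp : B = principalBlock M G :=
    CfsgLib.Block.isInducedBlock_unique D.H hind
      ((Cfsg.Agent.S0936.result 2 M hM D.H _ ⟨B, hind⟩).2 rfl)
  have hgp : IsPPart 2 (g : G) D.z := by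
    have e : twoPart (g : G) = D.z := by rw [twoPart_coe, (D.mem_fib).1 hg]
    have h := twoPart_spec (g : G)
    rwa [e] at h
  have h0 := CfsgLib.Block.chiExt_inclSub_blockSum_eq_zero hM hind g.2 hgp le_rfl (χ := χ) (hBp ▸ hχ)
  rw [D.blockSum_eq hM, CfsgLib.Block.chiExt_eq, ← Finset.sum_filter_of_ne (p := fun x => x ∈ D.H)
    (fun x _ hne => by
      by_contra hx
      exact hne (by rw [CfsgLib.Block.coeff_inclSub_of_not_mem D.H _ hx, zero_mul]))] at h0
  have h1 : ∑ x ∈ Finset.univ.filter (fun x => x ∈ D.H),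
      (CfsgLib.Block.inclSub D.H (CfsgLib.Block.mkGA
        (fun h : D.H => if h ∈ D.K then (Nat.card D.K : ℂ)⁻¹ else 0))).coeff x * (χ : G → ℂ) (x * g) =
      (Nat.card D.K : ℂ)⁻¹ * ∑ v : D.K, (χ : G → ℂ) (((v : D.H) * g : D.H) : G) := by
    rw [Finset.mul_sum]
    rw [← Finset.sum_bij (s := (Finset.univ : Finset D.H)) (fun (h : D.H) _ => (h : G))
      (f := fun h : D.H => (if h ∈ D.K then (Nat.card D.K : ℂ)⁻¹ else 0) * (χ : G → ℂ) (h * g))
      (fun h _ => by simp) (fun x _ y _ h => Subtype.ext h)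
      (fun x hx => ⟨⟨x, (Finset.mem_filter.1 hx).2⟩, Finset.mem_univ _, rfl⟩)
      (fun h _ => by rw [CfsgLib.Block.coeff_inclSub_of_mem, CfsgLib.Block.coeff_mkGA])]
    simp only [ite_mul, zero_mul]
    rw [← Finset.sum_filter]
    exact (Finset.sum_bij (fun (k : D.K) _ => (k : D.H)) (fun k _ => by simp)
      (fun x _ y _ h => Subtype.ext h)
      (fun x hx => ⟨⟨x, (Finset.mem_filter.1 hx).2⟩, Finset.mem_univ _, rfl⟩)
      (fun k _ => rfl)).symm
  rw [h1] at h0
  exact (mul_eq_zero.1 h0).resolve_left (inv_ne_zero (Nat.cast_ne_zero.2 Nat.card_pos.ne'))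

include hM in
open Classical in
theorem sum_fib_eq_zero [Fintype G] [Fintype D.H] [Fintype D.K] {χ : IrrCharacter G}
    (hχ : χ ∉ principalBlock M G) (f : D.H → ℂ)
    (hf : ∀ x v, v ∈ D.K → f (x * v) = f x) :
    ∑ x ∈ D.fib, f x * (χ : G → ℂ) x = 0 := by
  have hKn := D.K_normal
  have hl : ∀ v ∈ D.K, ∀ x, f (v * x) = f x := fun v hv x => by
    rw [show v * x = x * (x⁻¹ * v * x) by group]
    exact hf x _ (by simpa using hKn.conj_mem v hv x⁻¹)
  have hfl : ∀ v ∈ D.K, ∀ x ∈ D.fib, v * x ∈ D.fib := fun v hv x hx => by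
    rw [show v * x = x * (x⁻¹ * v * x) by group]
    exact D.mul_K_mem_fib hx (by simpa using hKn.conj_mem v hv x⁻¹)
  have e : ∀ v : D.K, ∑ x ∈ D.fib, f x * (χ : G → ℂ) (((v : D.H) * x : D.H) : G) =
      ∑ x ∈ D.fib, f x * (χ : G → ℂ) x := fun v => by
    refine Finset.sum_nbij' (fun x => (v : D.H) * x) (fun x => (v : D.H)⁻¹ * x) (fun x hx => hfl v v.2 x hx)
      (fun x hx => hfl _ (inv_mem v.2) x hx) (fun x _ => inv_mul_cancel_left _ x)
      (fun x _ => mul_inv_cancel_left _ x) fun x _ => by rw [hl v v.2]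
  have h : (Nat.card D.K : ℂ) * ∑ x ∈ D.fib, f x * (χ : G → ℂ) x = 0 := by
    rw [Nat.card_eq_fintype_card, ← nsmul_eq_mul, ← Finset.card_univ, ← Finset.sum_const,
      ← Finset.sum_congr rfl (fun v _ => e v), Finset.sum_comm]
    refine Finset.sum_eq_zero fun x hx => ?_
    rw [← Finset.mul_sum, D.sum_K_eq_zero hM hχ hx, mul_zero]
  exact (mul_eq_zero.1 h).resolve_left (Nat.cast_ne_zero.2 Nat.card_pos.ne')

end Data

end CfsgLib.Invol.Eight
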