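import Cfsg.Agent.Lib.Invol.EightLocal
import Cfsg.Agent.Lib.Invol.EightArith
import Cfsg.Agent.Lib.Invol.PrincipalBlock
import Cfsg.Agent.Lib.Block.KerNormal
import Cfsg.Agent.Lib.BlockA.PrincipalType
import Cfsg.Agent.Lib.BlockB.PModular
import Cfsg.Agent.Lib.BlockB.ClassMul

/-!
No simple group has an elementary abelian Sylow 2-subgroup of order 8 with an automizer of order 21
and solvable centralizers of involutions: three generalized characters supported on the section
of the involutions give a linear character.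
-/

set_option autoImplicit false
set_option linter.unusedSectionVars false

namespace CfsgLib.Invol.Eight

open Cfsg
open scoped ComplexConjugate

universe u

namespace Data

variable {G : Type u} [Group G] [Finite G] (D : Data G)

/-- The chosen linear character with kernel `L`. -/
noncomputable def lam : D.H →* ℂˣ := D.exists_lambda.choose

theorem lam_eq_one_iff (x : D.H) : D.lam x = 1 ↔ x ∈ D.L := D.exists_lambda.choose_spec.1 x

theorem lam_cube (x : D.H) : (D.lam x : ℂ) ^ 3 = 1 := by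
  rw [← Units.val_pow_eq_pow_val, lam, D.exists_lambda.choose_spec.2, Units.val_one]

theorem lam_of_mem {x : D.H} (hx : x ∈ D.L) : (D.lam x : ℂ) = 1 := by
  rw [(D.lam_eq_one_iff x).2 hx, Units.val_one]

theorem lam_sum_of_not_mem {x : D.H} (hx : x ∉ D.L) :
    1 + (D.lam x : ℂ) + (D.lam x : ℂ) ^ 2 = 0 := by
  have hne : (D.lam x : ℂ) - 1 ≠ 0 := sub_ne_zero.2 fun h =>
    hx ((D.lam_eq_one_iff x).1 (Units.ext h))
  refine mul_left_cancel₀ hne ?_
  linear_combination D.lam_cube x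

/-- The three local functions: `8` on `L` and `2λʲ` off `L`. -/
noncomputable def fj (j : Fin 3) (x : D.H) : ℂ :=
  2 * (1 + (D.lam x : ℂ) + (D.lam x : ℂ) ^ 2) + 2 * (D.lam x : ℂ) ^ (j : ℕ)

theorem fj_of_mem (j : Fin 3) {x : D.H} (hx : x ∈ D.L) : D.fj j x = 8 := by
  simp only [fj, D.lam_of_mem hx, one_pow]; norm_num

theorem fj_conj (j : Fin 3) (x a : D.H) : D.fj j (a * x * a⁻¹) = D.fj j x := by
  have : D.lam (a * x * a⁻¹) = D.lam x := by
    rw [map_mul, map_mul, map_inv, mul_right_comm, mul_inv_cancel, one_mul]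
  simp only [fj, this]

theorem fj_mul_right (j : Fin 3) (x : D.H) {u : D.H} (hu : u ∈ D.L) : D.fj j (x * u) = D.fj j x := by
  have : D.lam (x * u) = D.lam x := by rw [map_mul, (D.lam_eq_one_iff u).2 hu, mul_one]
  simp only [fj, this]

theorem mem_centralizer_of_twoPart {a g : G} (ha : a * twoPart g * a⁻¹ = D.z) :
    a * g * a⁻¹ ∈ D.H := by
  rw [Subgroup.mem_centralizer_singleton_iff]
  have h := (twoPart_commute_self g).map (MulAut.conj a).toMonoidHom
  simp only [MulEquiv.coe_toMonoidHom, MulAut.conj_apply, ha] at h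
  exact h.symm.eq

open scoped Classical in
/-- A class function of `H` transported to the section of the involutions. -/
noncomputable def secFn (f : D.H → ℂ) (g : G) : ℂ :=
  if h : ∃ a : G, a * twoPart g * a⁻¹ = D.z then
    f ⟨h.choose * g * h.choose⁻¹, D.mem_centralizer_of_twoPart h.choose_spec⟩ else 0

variable {f : D.H → ℂ} (hf : ∀ x a : D.H, f (a * x * a⁻¹) = f x)

include hf in
theorem secFn_eq {a g : G} (ha : a * twoPart g * a⁻¹ = D.z) :
    D.secFn f g = f ⟨a * g * a⁻¹, D.mem_centralizer_of_twoPart ha⟩ := by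
  classical
  have h : ∃ a : G, a * twoPart g * a⁻¹ = D.z := ⟨a, ha⟩
  unfold secFn
  rw [dif_pos h]
  set b := h.choose
  have hb : b * twoPart g * b⁻¹ = D.z := h.choose_spec
  have hc : a * b⁻¹ ∈ D.H := by
    rw [Subgroup.mem_centralizer_singleton_iff]
    refine mul_inv_eq_iff_eq_mul.1 ?_
    conv_lhs => rw [← hb]
    rw [← ha]; group
  rw [← hf ⟨b * g * b⁻¹, D.mem_centralizer_of_twoPart hb⟩ ⟨a * b⁻¹, hc⟩]
  congr 1
  refine Subtype.ext ?_
  push_cast
  group

theorem secFn_eq_zero (f : D.H → ℂ) {g : G} (h : ¬ ∃ a : G, a * twoPart g * a⁻¹ = D.z) :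
    D.secFn f g = 0 := dif_neg h

theorem secFn_one (f : D.H → ℂ) : D.secFn f 1 = 0 := by
  refine D.secFn_eq_zero f fun ⟨a, ha⟩ => invol_ne_one D.hz ?_
  rw [← ha, twoPart_of_odd (by simp), mul_one, mul_inv_cancel]

include hf in
theorem secFn_class : IsClassFunction G (D.secFn f) := by
  intro g h
  by_cases hg : ∃ a : G, a * twoPart g * a⁻¹ = D.z
  · obtain ⟨a, ha⟩ := hg
    have ha' : a * h⁻¹ * twoPart (h * g * h⁻¹) * (a * h⁻¹)⁻¹ = D.z := by
      rw [twoPart_conj, ← ha]; group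
    rw [D.secFn_eq hf ha, D.secFn_eq hf ha']
    congr 1
    exact Subtype.ext (by simp [mul_assoc])
  · rw [D.secFn_eq_zero f hg, D.secFn_eq_zero f]
    rintro ⟨a, ha⟩
    exact hg ⟨a * h, by rw [twoPart_conj] at ha; rw [← ha]; group⟩

/-- The fibre of the 2-part over the involution. -/
noncomputable abbrev fib [Fintype D.H] : Finset D.H :=
  open Classical in Finset.univ.filter fun x => twoPart x = D.zH

include hf in
theorem secFn_inner [Fintype G] [Fintype D.H] {F : G → ℂ} (hF : IsClassFunction G F) :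
    classInner (D.secFn f) F =
      (Nat.card D.H : ℂ)⁻¹ * ∑ x ∈ D.fib, f x * conj (F x) := by
  classical
  set P : G → ℂ := fun g => D.secFn f g * conj (F g)
  have hP : IsClassFunction G P := fun g h => by simp only [P, D.secFn_class hf g h, hF g h]
  rw [CfsgLib.Char.classInner_def,
    ← Finset.sum_filter_of_ne (p := fun g => IsConj D.z (twoPart g)) (fun g _ hne => by
      by_contra hn
      refine hne ?_
      rw [D.secFn_eq_zero f fun ⟨a, ha⟩ => hn (isConj_iff.2 ⟨a⁻¹, by rw [← ha]; group⟩), zero_mul]),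
    sum_section D.z hP, sum_fiber_coe D.H D.zH le_rfl P]
  have hidx : ((Nat.card D.H : ℂ)) * (D.H.index : ℂ) = (Nat.card G : ℂ) := by
    exact_mod_cast D.H.card_mul_index
  have h0 : (Nat.card G : ℂ) ≠ 0 := CfsgLib.Char.natCard_ne_zero
  have h1 : (Nat.card D.H : ℂ) ≠ 0 := CfsgLib.Char.natCard_ne_zero
  have e : ∀ x ∈ D.fib, P x = f x * conj (F x) := by
    intro x hx
    have hx' : twoPart x = D.zH := (Finset.mem_filter.1 hx).2
    have ha : (1 : G) * twoPart (x : G) * 1⁻¹ = D.z := by rw [twoPart_coe, hx']; simp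
    show D.secFn f x * _ = _
    rw [D.secFn_eq hf ha]
    congr 2
    exact Subtype.ext (by simp)
  rw [Finset.sum_congr rfl e, ← mul_assoc]
  congr 1
  rw [← hidx, mul_inv, mul_assoc, inv_mul_cancel₀ (Nat.cast_ne_zero.2 Subgroup.index_ne_zero_of_finite),
    mul_one]

variable [Fintype D.H]

theorem mem_fib {x : D.H} : x ∈ D.fib ↔ twoPart x = D.zH := by
  classical simp [fib]

theorem twoPart_z_mul {y : D.H} (hy : Odd (orderOf y)) : twoPart (D.zH * y) = D.zH :=
  twoPart_mul (D.zH_central y) ⟨1, by rw [D.orderOf_zH, pow_one]⟩ hy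

theorem mul_K_mem_fib {x u : D.H} (hx : x ∈ D.fib) (hu : u ∈ D.K) : x * u ∈ D.fib := by
  rw [D.mem_fib] at hx ⊢
  have h : Odd (orderOf ((twoPart x)⁻¹ * x * u)) := D.odd_mul_K (odd_orderOf_twoPart_inv_mul x) hu
  rw [hx] at h
  have := D.twoPart_z_mul h
  rwa [← mul_assoc, ← mul_assoc, mul_inv_cancel, one_mul] at this

open Classical in
theorem card_fib_L : ((D.fib.filter fun x => x ∈ D.L).card) = Nat.card D.K := by
  rw [← Nat.card_eq_finsetCard]
  refine Nat.card_congr
    ⟨fun x => ⟨D.zH * x.1, ?_⟩, fun k => ⟨D.zH * k.1, ?_⟩, fun x => ?_, fun k => ?_⟩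
  · obtain ⟨hx, hxL⟩ := Finset.mem_filter.1 x.2
    refine D.mem_K_of_odd (mul_mem ((le_sup_right : D.T ≤ D.L) D.zH_mem) hxL) ?_
    have h := odd_orderOf_twoPart_inv_mul x.1
    rwa [(D.mem_fib).1 hx, inv_eq_of_mul_eq_one_left D.zH_sq] at h
  · exact Finset.mem_filter.2 ⟨D.mem_fib.2 (D.twoPart_z_mul (D.odd_of_mem_K k.2)),
      mul_mem ((le_sup_right : D.T ≤ D.L) D.zH_mem) ((le_sup_left : D.K ≤ D.L) k.2)⟩
  · exact Subtype.ext (by simp [← mul_assoc, D.zH_sq])
  · exact Subtype.ext (by simp [← mul_assoc, D.zH_sq])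

open Classical in
/-- Off `L` the fibre is half of the whole. -/
theorem sum_fib_not_L (φ : D.H → ℂ) (hφ : ∀ x, φ (D.zH * x) = φ x) :
    2 * ∑ x ∈ D.fib.filter (fun x => x ∉ D.L), φ x =
      ∑ x ∈ Finset.univ.filter (fun x => x ∉ D.L), φ x := by
  have hzL : ∀ x, D.zH * x ∈ D.L ↔ x ∈ D.L := fun x =>
    D.L.mul_mem_cancel_left ((le_sup_right : D.T ≤ D.L) D.zH_mem)
  have hne : D.zH ≠ 1 := fun h => invol_ne_one D.hz (congrArg Subtype.val h)
  have hswap : ∀ x, x ∉ D.L → (twoPart (D.zH * x) = D.zH ↔ ¬ twoPart x = D.zH) := by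
    intro x hx
    constructor
    · intro h h'
      have hodd := odd_orderOf_twoPart_inv_mul x
      rw [h', inv_eq_of_mul_eq_one_left D.zH_sq] at hodd
      rw [twoPart_of_odd hodd] at h
      exact hne h.symm
    · intro h
      rcases D.twoPart_cases hx with h' | h'
      · exact D.twoPart_z_mul ((twoPart_eq_one_iff x).1 h')
      · exact absurd h' h
  have e : D.fib.filter (fun x => x ∉ D.L) =
      (Finset.univ.filter fun x => x ∉ D.L).filter fun x => twoPart x = D.zH := by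
    ext x; simp [D.mem_fib, and_comm]
  rw [e, two_mul, ← Finset.sum_filter_add_sum_filter_not (Finset.univ.filter fun x => x ∉ D.L)
    (fun x => twoPart x = D.zH)]
  congr 1
  refine Finset.sum_nbij' (fun x => D.zH * x) (fun x => D.zH * x) ?_ ?_ ?_ ?_ fun x _ => (hφ x).symm
  · intro x hx
    simp only [Finset.mem_coe, Finset.mem_filter, Finset.mem_univ, true_and] at hx ⊢
    refine ⟨fun h => hx.1 ((hzL x).1 h), fun h => ?_⟩
    exact (hswap x hx.1).1 h hx.2
  · intro x hx
    simp only [Finset.mem_coe, Finset.mem_filter, Finset.mem_univ, true_and] at hx ⊢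
    exact ⟨fun h => hx.1 ((hzL x).1 h), (hswap x hx.1).2 hx.2⟩
  · intro x _; simp [← mul_assoc, D.zH_sq]
  · intro x _; simp [← mul_assoc, D.zH_sq]

open Classical in
theorem sum_fib_split (φ : D.H → ℂ) (hφ : ∀ x, φ (D.zH * x) = φ x) {A : ℂ}
    (hL : ∀ x ∈ D.L, φ x = A) :
    2 * ∑ x ∈ D.fib, φ x = ∑ x, φ x - 6 * Nat.card D.K * A := by
  rw [← Finset.sum_filter_add_sum_filter_not D.fib (fun x => x ∈ D.L), mul_add, D.sum_fib_not_L φ hφ,
    ← Finset.sum_filter_add_sum_filter_not Finset.univ (fun x => x ∈ D.L) φ,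
    Finset.sum_congr rfl (fun x hx => hL x (Finset.mem_filter.1 hx).2),
    Finset.sum_congr rfl (s₂ := Finset.univ.filter fun x => x ∈ D.L)
      (fun x hx => hL x (Finset.mem_filter.1 hx).2),
    Finset.sum_const, Finset.sum_const, D.card_fib_L, nsmul_eq_mul, nsmul_eq_mul,
    show ((Finset.univ : Finset D.H).filter fun x => x ∈ D.L).card = 8 * Nat.card D.K by
      rw [← D.card_L, Nat.card_eq_fintype_card, Fintype.card_subtype]]
  push_cast
  ring

theorem lam_z_mul (x : D.H) : D.lam (D.zH * x) = D.lam x := by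
  rw [map_mul, (D.lam_eq_one_iff _).2 ((le_sup_right : D.T ≤ D.L) D.zH_mem), one_mul]

theorem sum_lam_pow {m : ℕ} (hm : ¬ 3 ∣ m) : ∑ x : D.H, (D.lam x : ℂ) ^ m = 0 := by
  obtain ⟨x0, hx0⟩ : ∃ x : D.H, x ∉ D.L := by
    by_contra h
    push Not at h
    have : D.L = ⊤ := eq_top_iff.2 fun x _ => h x
    have := D.L_index
    rw [‹D.L = ⊤›, Subgroup.index_top] at this
    omega
  have hne : (D.lam x0 : ℂ) ^ m ≠ 1 := by
    intro h
    refine hx0 (D.mem_L_of_pow (m := m) ((Nat.prime_three.coprime_iff_not_dvd.2 hm).symm) ?_)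
    exact (D.lam_eq_one_iff _).1 (Units.ext (by
      rw [map_pow, Units.val_pow_eq_pow_val, h, Units.val_one]))
  have e : (D.lam x0 : ℂ) ^ m * ∑ x : D.H, (D.lam x : ℂ) ^ m = ∑ x : D.H, (D.lam x : ℂ) ^ m := by
    rw [Finset.mul_sum]
    refine Fintype.sum_equiv (Equiv.mulLeft x0) _ _ fun x => ?_
    simp [mul_pow]
  by_contra h
  exact hne (mul_left_eq_self₀.1 e |>.resolve_right h)

open Classical in
theorem sum_fib_lam_pow (m : ℕ) :
    ∑ x ∈ D.fib, (D.lam x : ℂ) ^ m =
      if 3 ∣ m then 9 * (Nat.card D.K : ℂ) else -3 * (Nat.card D.K : ℂ) := by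
  have h := D.sum_fib_split (fun x => (D.lam x : ℂ) ^ m) (fun x => by simp only [D.lam_z_mul])
    (A := 1) (fun x hx => by simp [D.lam_of_mem hx])
  split_ifs with hm
  · obtain ⟨i, rfl⟩ := hm
    have hone : ∀ x, (D.lam x : ℂ) ^ (3 * i) = 1 := fun x => by rw [pow_mul, D.lam_cube, one_pow]
    rw [Finset.sum_congr rfl (s₂ := (Finset.univ : Finset D.H)) (fun x _ => hone x),
      Finset.sum_const, Finset.card_univ, ← Nat.card_eq_fintype_card, D.card_H] at h
    simp only [nsmul_one] at h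
    push_cast at h
    linear_combination h / 2
  · rw [D.sum_lam_pow hm] at h
    linear_combination h / 2

theorem fj_conj_val (j : Fin 3) (x : D.H) :
    conj (D.fj j x) = 2 * (1 + (D.lam x : ℂ) + (D.lam x : ℂ) ^ 2) + 2 * (D.lam x : ℂ) ^ (2 * (j : ℕ)) := by
  have h3 := D.lam_cube x
  have hn : conj (D.lam x : ℂ) = (D.lam x : ℂ) ^ 2 := by
    have h := Complex.mul_conj' (D.lam x : ℂ)
    rw [Complex.norm_eq_one_of_pow_eq_one h3 (by norm_num)] at h
    have e : (D.lam x : ℂ) * conj (D.lam x : ℂ) = (D.lam x : ℂ) * (D.lam x : ℂ) ^ 2 := by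
      rw [h]; push_cast; linear_combination -h3
    exact mul_left_cancel₀ (Units.ne_zero _) e
  simp only [fj, map_add, map_mul, map_pow, map_ofNat, map_one, hn, pow_mul]
  linear_combination (2 * (D.lam x : ℂ)) * h3

theorem fj_inner_sum (i j : Fin 3) :
    ∑ x ∈ D.fib, D.fj i x * conj (D.fj j x) =
      (Nat.card D.K : ℂ) * if i = j then 96 else 48 := by
  have e : ∀ x ∈ D.fib, D.fj i x * conj (D.fj j x) =
      20 * ((D.lam x : ℂ) ^ 0 + (D.lam x : ℂ) ^ 1 + (D.lam x : ℂ) ^ 2) +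
        4 * (D.lam x : ℂ) ^ ((i : ℕ) + 2 * (j : ℕ)) := by
    intro x _
    rw [D.fj_conj_val]
    by_cases hx : x ∈ D.L
    · simp only [fj, D.lam_of_mem hx, one_pow]; norm_num
    · have h := D.lam_sum_of_not_mem hx
      simp only [fj, pow_zero, pow_one, h, mul_zero, zero_add, pow_add]
      ring
  rw [Finset.sum_congr rfl e, Finset.sum_add_distrib, ← Finset.mul_sum, ← Finset.mul_sum,
    Finset.sum_add_distrib, Finset.sum_add_distrib, D.sum_fib_lam_pow, D.sum_fib_lam_pow,
    D.sum_fib_lam_pow, D.sum_fib_lam_pow]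
  fin_cases i <;> fin_cases j <;> norm_num <;> ring

theorem fj_one_sum (j : Fin 3) :
    ∑ x ∈ D.fib, D.fj j x = (Nat.card D.K : ℂ) * if j = 0 then 24 else 0 := by
  have e : ∀ x ∈ D.fib, D.fj j x = 2 * ((D.lam x : ℂ) ^ 0 + (D.lam x : ℂ) ^ 1 + (D.lam x : ℂ) ^ 2) +
        2 * (D.lam x : ℂ) ^ (j : ℕ) := fun x _ => by simp only [fj, pow_zero, pow_one]
  rw [Finset.sum_congr rfl e, Finset.sum_add_distrib, ← Finset.mul_sum, ← Finset.mul_sum,
    Finset.sum_add_distrib, Finset.sum_add_distrib, D.sum_fib_lam_pow, D.sum_fib_lam_pow,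
    D.sum_fib_lam_pow, D.sum_fib_lam_pow]
  fin_cases j <;> norm_num <;> ring

theorem fj_total (x : D.H) :
    D.fj 0 x + D.fj 1 x + D.fj 2 x = 8 * (1 + (D.lam x : ℂ) + (D.lam x : ℂ) ^ 2) := by
  simp only [fj, Fin.val_zero, Fin.val_one, Fin.val_two, pow_zero, pow_one]
  ring

end Data

end CfsgLib.Invol.Eight
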