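import Cfsg.Agent.Lib.Invol.SectionChar
import Cfsg.Agent.Lib.Solvable.HallHigman
import Cfsg.Agent.Lib.Comp.Local
import Cfsg.Agent.Lib.Char.Linear
import Mathlib.GroupTheory.SpecificGroups.Cyclic

/-!
The centralizer of an involution in an elementary abelian Sylow 2-subgroup of order 8 whose
automizer meets the stabilizer of the involution in a group of order three.
-/

set_option autoImplicit false
set_option linter.unusedSectionVars false
set_option linter.style.haveILetI false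

namespace CfsgLib.Invol.Eight

open Cfsg Subgroup

universe u

/-- The local data. -/
structure Data (G : Type u) [Group G] [Finite G] where
  S : Sylow 2 G
  z : G
  hab : ∀ a ∈ (S : Subgroup G), ∀ b ∈ (S : Subgroup G), a * b = b * a
  hexp : ∀ a ∈ (S : Subgroup G), a * a = 1
  h8 : Nat.card (S : Subgroup G) = 8
  hzS : z ∈ (S : Subgroup G)
  hz : orderOf z = 2
  hconj : ∀ t ∈ (S : Subgroup G), t ≠ 1 → IsConj z t
  hsol : Group.IsSolvable ↥(centralizer ({z} : Set G))
  hstab : (centralizer ((S : Subgroup G) : Set G)).relIndex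
    (normalizer ((S : Subgroup G) : Set G) ⊓ centralizer ({z} : Set G)) = 3

namespace Data

variable {G : Type u} [Group G] [Finite G] (D : Data G)

/-- The centralizer of the involution. -/
abbrev H : Subgroup G := centralizer ({D.z} : Set G)

/-- The Sylow subgroup inside the centralizer. -/
abbrev T : Subgroup D.H := (D.S : Subgroup G).subgroupOf D.H

/-- The core of the centralizer. -/
abbrev K : Subgroup D.H := Cfsg.pPrimeCore 2 ↥D.H

/-- The subgroup of index three. -/
abbrev L : Subgroup D.H := D.K ⊔ D.T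

/-- The involution in its centralizer. -/
abbrev zH : D.H := ⟨D.z, mem_centralizer_singleton_iff.2 rfl⟩

theorem S_le : (D.S : Subgroup G) ≤ D.H := fun a ha =>
  mem_centralizer_singleton_iff.2 (D.hab a ha _ D.hzS)

theorem zH_mem : D.zH ∈ D.T := D.hzS

theorem zH_sq : D.zH * D.zH = 1 := Subtype.ext (invol_mul_self D.hz)

theorem orderOf_zH : orderOf D.zH = 2 := by rw [← Subgroup.orderOf_coe]; exact D.hz

theorem zH_central (x : D.H) : Commute D.zH x :=
  Subtype.ext (mem_centralizer_singleton_iff.1 x.2).symm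

theorem card_T : Nat.card D.T = 8 :=
  (Nat.card_congr (subgroupOfEquivOfLe D.S_le).toEquiv).trans D.h8

theorem isPGroup_T : IsPGroup 2 D.T := IsPGroup.of_card (n := 3) D.card_T

theorem K_normal : (D.K).Normal := CfsgLib.Solvable.pPrimeCore_normal 2 _

theorem odd_card_K : Odd (Nat.card D.K) := by
  have := CfsgLib.Solvable.pPrimeCore_coprime (G := ↥D.H) 2
  rwa [Nat.coprime_two_right] at this

theorem T_inf_K : D.T ⊓ D.K = ⊥ := by
  refine Subgroup.inf_eq_bot_of_coprime ?_
  rw [D.card_T, show (8 : ℕ) = 2 ^ 3 from rfl]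
  exact Nat.Coprime.pow_left 3 (Nat.coprime_two_left.2 D.odd_card_K)

theorem comm_T {a b : D.H} (ha : a ∈ D.T) (hb : b ∈ D.T) : a * b = b * a :=
  Subtype.ext (D.hab a ha b hb)

theorem sylowH : ∃ Q : Sylow 2 D.H, (Q : Subgroup D.H) = D.T := ⟨D.S.subtype D.S_le, rfl⟩

/-- An element of the stabilizer moving `S` cubes into the centralizer. -/
theorem eq_of_fix {n : G} (hn : n ∈ normalizer ((D.S : Subgroup G) : Set G)) (hnz : n ∈ D.H)
    {t : G} (ht : t ∈ (D.S : Subgroup G)) (ht1 : t ≠ 1) (htz : t ≠ D.z) (hnt : Commute n t) :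
    n ∈ centralizer ((D.S : Subgroup G) : Set G) := by
  set C := centralizer ((D.S : Subgroup G) : Set G)
  set M := normalizer ((D.S : Subgroup G) : Set G) ⊓ D.H
  -- the cube centralizes `S`
  have hn3 : ∀ s ∈ (D.S : Subgroup G), n ^ 3 * s * (n ^ 3)⁻¹ = s := by
    intro s hs
    have hCn : (C.subgroupOf M).Normal := by
      refine ⟨fun x hx g => ?_⟩
      rw [mem_subgroupOf] at hx ⊢
      refine mem_centralizer_iff.2 fun a ha => ?_
      have hg := (mem_inf.1 g.2).1
      have ha' := (mem_normalizer_iff''.1 hg a).1 ha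
      have := mem_centralizer_iff.1 hx _ ha'
      simp only [Subgroup.coe_mul, Subgroup.coe_inv]
      calc a * ((g : G) * x * (g : G)⁻¹) = g * (((g : G)⁻¹ * a * g) * x) * (g : G)⁻¹ := by group
        _ = g * (x * ((g : G)⁻¹ * a * g)) * (g : G)⁻¹ := by rw [this]
        _ = g * x * (g : G)⁻¹ * a := by group
    have hidx : (C.subgroupOf M).index = 3 := D.hstab
    have h := Subgroup.pow_index_mem (C.subgroupOf M) (⟨n, hn, hnz⟩ : M)
    rw [hidx, mem_subgroupOf, SubmonoidClass.coe_pow] at h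
    rw [← mem_centralizer_iff.1 h s hs, mul_inv_cancel_right]
  set F := (D.S : Subgroup G) ⊓ centralizer ({n} : Set G) with hF
  have hmem : ∀ a ∈ (D.S : Subgroup G), Commute n a → a ∈ F := fun a ha hc =>
    ⟨ha, mem_centralizer_singleton_iff.2 hc.eq.symm⟩
  have hzn : Commute n D.z := mem_centralizer_singleton_iff.1 hnz
  have hF4 : 4 ≤ Nat.card F := by
    have hd : Nat.card F ∣ 2 ^ 3 := by
      rw [show (2 : ℕ) ^ 3 = 8 from rfl, ← D.h8]
      exact card_dvd_of_le inf_le_left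
    obtain ⟨i, hi, he⟩ := (Nat.dvd_prime_pow Nat.prime_two).1 hd
    have h3 : 3 ≤ Nat.card F := by
      classical
      have := Fintype.ofFinite F
      rw [Nat.card_eq_fintype_card]
      refine le_trans ?_ (Finset.card_le_univ
        ({1, ⟨D.z, hmem _ D.hzS hzn⟩, ⟨t, hmem _ ht hnt⟩} : Finset F))
      rw [Finset.card_insert_of_notMem, Finset.card_pair]
      · exact fun h => htz (congrArg Subtype.val h).symm
      · simp only [Finset.mem_insert, Finset.mem_singleton, not_or]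
        exact ⟨fun h => invol_ne_one D.hz (congrArg Subtype.val h).symm,
          fun h => ht1 (congrArg Subtype.val h).symm⟩
    rw [he] at h3 ⊢
    rcases (show i = 0 ∨ i = 1 ∨ 2 ≤ i by omega) with rfl | rfl | h
    · simp at h3
    · simp at h3
    · exact le_trans (by norm_num) (Nat.pow_le_pow_right two_pos h)
  refine mem_centralizer_iff.2 fun s hs => ?_
  by_cases hsF : s ∈ F
  · exact mem_centralizer_singleton_iff.1 hsF.2
  have hidx : (F.subgroupOf (D.S : Subgroup G)).index = 2 := by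
    have h := (F.subgroupOf (D.S : Subgroup G)).card_mul_index
    rw [Nat.card_congr (subgroupOfEquivOfLe inf_le_left).toEquiv, D.h8] at h
    have h0 : (F.subgroupOf (D.S : Subgroup G)).index ≠ 0 := index_ne_zero_of_finite
    have hne : (F.subgroupOf (D.S : Subgroup G)).index ≠ 1 := fun e => by
      rw [index_eq_one, subgroupOf_eq_top] at e
      exact hsF (e hs)
    have : (F.subgroupOf (D.S : Subgroup G)).index ≤ 2 := by nlinarith
    omega
  have hns : n * s * n⁻¹ ∈ (D.S : Subgroup G) := (mem_normalizer_iff.1 hn s).1 hs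
  have hnsF : n * s * n⁻¹ ∉ F := fun h => hsF (by
    have hc : Commute n (n * s * n⁻¹) := (mem_centralizer_singleton_iff.1 h.2).symm
    have e : n * s * n⁻¹ = s := by
      have := hc.eq
      calc n * s * n⁻¹ = n⁻¹ * (n * (n * s * n⁻¹)) := by group
        _ = n⁻¹ * ((n * s * n⁻¹) * n) := by rw [this]
        _ = s := by group
    exact e ▸ h)
  have hv : n * s * n⁻¹ * s⁻¹ ∈ F := by
    have := (Subgroup.mul_mem_iff_of_index_two hidx (a := ⟨n * s * n⁻¹, hns⟩) (b := ⟨s, hs⟩⁻¹)).2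
      (by simp only [mem_subgroupOf, Subgroup.coe_inv, inv_mem_iff]; exact iff_of_false hnsF hsF)
    simpa [mem_subgroupOf] using this
  set v := n * s * n⁻¹ * s⁻¹ with hvd
  clear_value v
  have hcv : n * v * n⁻¹ = v := mul_inv_eq_iff_eq_mul.2 (mem_centralizer_singleton_iff.1 hv.2).symm
  have e1 : n * s * n⁻¹ = v * s := by rw [hvd]; group
  have e3 : n ^ 3 * s * (n ^ 3)⁻¹ = v * v * v * s := by
    have f1 : MulAut.conj n s = v * s := e1
    have f2 : MulAut.conj n v = v := hcv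
    rw [← MulAut.conj_apply, map_pow, pow_succ, pow_two, MulAut.mul_apply, MulAut.mul_apply, f1,
      map_mul, f2, f1, map_mul, map_mul, f2, f1]
    group
  rw [hn3 s hs, D.hexp v hv.1, one_mul] at e3
  have hv1 : v = 1 := mul_eq_right.1 e3.symm
  rw [hv1, one_mul] at e1
  exact (mul_inv_eq_iff_eq_mul.1 e1).symm

/-- The image of `T` modulo the core is normal and self-centralizing. -/
theorem quot_facts :
    letI := D.K_normal
    Cfsg.pCore 2 (↥D.H ⧸ D.K) = D.T.map (QuotientGroup.mk' D.K) ∧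
      centralizer (Cfsg.pCore 2 (↥D.H ⧸ D.K) : Set (↥D.H ⧸ D.K)) ≤ Cfsg.pCore 2 (↥D.H ⧸ D.K) := by
  letI := D.K_normal
  haveI := D.hsol
  obtain ⟨Q, hQ⟩ := D.sylowH
  set q := QuotientGroup.mk' D.K with hq
  have hc : centralizer (Cfsg.pCore 2 (↥D.H ⧸ D.K) : Set (↥D.H ⧸ D.K)) ≤
      Cfsg.pCore 2 (↥D.H ⧸ D.K) :=
    CfsgLib.Solvable.centralizer_pCore_le 2 (CfsgLib.Solvable.pPrimeCore_quotient_eq_bot 2)
  refine ⟨le_antisymm ?_ ?_, hc⟩
  · have := CfsgLib.Solvable.pCore_le_sylow (Q.mapSurjective (QuotientGroup.mk'_surjective D.K))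
    rwa [Sylow.coe_mapSurjective, hQ] at this
  · refine le_trans ?_ hc
    rintro _ ⟨a, ha, rfl⟩
    refine mem_centralizer_iff.2 fun b hb => ?_
    have hb' := CfsgLib.Solvable.pCore_le_sylow (Q.mapSurjective (QuotientGroup.mk'_surjective D.K)) hb
    rw [Sylow.coe_mapSurjective, hQ] at hb'
    obtain ⟨c, hc', rfl⟩ := hb'
    rw [← map_mul, ← map_mul, D.comm_T hc' ha]

theorem L_normal : (D.L).Normal := by
  letI := D.K_normal
  have h1 : (D.T.map (QuotientGroup.mk' D.K)).Normal := by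
    rw [← D.quot_facts.1]; exact CfsgLib.Solvable.pCore_normal 2 _
  have := h1.comap (QuotientGroup.mk' D.K)
  rwa [comap_map_eq, QuotientGroup.ker_mk', sup_comm] at this

theorem exists_normalizer_mul (x : D.H) :
    ∃ n ∈ normalizer (D.T : Set D.H), ∃ k ∈ D.K, x = n * k := by
  letI := D.K_normal
  set q := QuotientGroup.mk' D.K
  have hN : (D.T.map q).Normal := by
    rw [← D.quot_facts.1]; exact CfsgLib.Solvable.pCore_normal 2 _
  have : q x ∈ (normalizer (D.T : Set D.H)).map q := by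
    rw [CfsgLib.Comp.map_normalizer_eq (CfsgLib.Solvable.pPrimeCore_coprime 2) D.isPGroup_T,
      normalizer_eq_top_iff.2 hN]
    trivial
  obtain ⟨n, hn, he⟩ := this
  exact ⟨n, hn, n⁻¹ * x, (QuotientGroup.eq).1 he, by group⟩

theorem normalizer_inf_K {k : D.H} (hk : k ∈ D.K) (hn : k ∈ normalizer (D.T : Set D.H)) :
    k ∈ centralizer (D.T : Set D.H) := by
  refine mem_centralizer_iff.2 fun t ht => ?_
  have h1 : k * t * k⁻¹ * t⁻¹ ∈ D.T ⊓ D.K := by
    refine mem_inf.2 ⟨mul_mem ((mem_normalizer_iff.1 hn t).1 ht) (inv_mem ht), ?_⟩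
    rw [mul_assoc, mul_assoc]
    exact mul_mem hk (by simpa [mul_assoc] using D.K_normal.conj_mem _ (inv_mem hk) t)
  rw [D.T_inf_K, mem_bot, mul_inv_eq_one, mul_inv_eq_iff_eq_mul] at h1
  exact h1.symm

theorem centralizer_le_L : centralizer (D.T : Set D.H) ≤ D.L := by
  letI := D.K_normal
  intro c hc
  have h : QuotientGroup.mk' D.K c ∈ D.T.map (QuotientGroup.mk' D.K) := by
    rw [← D.quot_facts.1]
    refine D.quot_facts.2 ?_
    rw [D.quot_facts.1]
    refine mem_centralizer_iff.2 ?_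
    rintro _ ⟨t, ht, rfl⟩
    rw [← map_mul, ← map_mul, mem_centralizer_iff.1 hc t ht]
  rw [← mem_comap, comap_map_eq, QuotientGroup.ker_mk', sup_comm] at h
  exact h

theorem L_inf_normalizer :
    normalizer (D.T : Set D.H) ⊓ D.L = centralizer (D.T : Set D.H) := by
  letI := D.K_normal
  refine le_antisymm ?_ (le_inf (centralizer_le_normalizer _) D.centralizer_le_L)
  intro x hx
  obtain ⟨hxn, hxl⟩ := mem_inf.1 hx
  obtain ⟨k, hk, t, ht, rfl⟩ := Subgroup.mem_sup_of_normal_left.1 hxl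
  have hkn : k ∈ normalizer (D.T : Set D.H) := by
    have := mul_mem hxn (inv_mem (le_normalizer ht))
    rwa [mul_inv_cancel_right] at this
  exact mul_mem (D.normalizer_inf_K hk hkn)
    (mem_centralizer_iff.2 fun a ha => D.comm_T ha ht)

theorem mem_normalizer_T {n : D.H} :
    n ∈ normalizer (D.T : Set D.H) ↔ (n : G) ∈ normalizer ((D.S : Subgroup G) : Set G) := by
  constructor
  · intro hn
    refine mem_normalizer_iff.2 fun a => ⟨fun ha => (mem_normalizer_iff.1 hn ⟨a, D.S_le ha⟩).1 ha,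
      fun ha => ?_⟩
    have haH : a ∈ D.H := by
      have := mul_mem (mul_mem (inv_mem n.2) (D.S_le ha)) n.2
      simpa [mul_assoc] using this
    exact (mem_normalizer_iff.1 hn ⟨a, haH⟩).2 ha
  · intro hn
    exact mem_normalizer_iff.2 fun a => mem_normalizer_iff.1 hn (a : G)

theorem mem_centralizer_T {n : D.H} :
    n ∈ centralizer (D.T : Set D.H) ↔ (n : G) ∈ centralizer ((D.S : Subgroup G) : Set G) := by
  constructor
  · intro hn
    exact mem_centralizer_iff.2 fun a ha =>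
      congrArg Subtype.val (mem_centralizer_iff.1 hn ⟨a, D.S_le ha⟩ ha)
  · intro hn
    exact mem_centralizer_iff.2 fun a ha => Subtype.ext (mem_centralizer_iff.1 hn a ha)

theorem L_index : (D.L).index = 3 := by
  have hL := D.L_normal
  set N := normalizer (D.T : Set D.H)
  have htop : N ⊔ D.L = ⊤ := by
    rw [eq_top_iff]
    intro x _
    obtain ⟨n, hn, k, hk, rfl⟩ := D.exists_normalizer_mul x
    exact mul_mem_sup hn ((le_sup_left : D.K ≤ D.L) hk)
  have h1 := relIndex_sup_right (H := N) (K := D.L)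
  rw [htop, relIndex_top_right] at h1
  rw [h1, ← inf_relIndex_right, inf_comm, D.L_inf_normalizer]
  have h2 : normalizer (D.T : Set D.H) =
      (normalizer ((D.S : Subgroup G) : Set G) ⊓ D.H).subgroupOf D.H := by
    ext n
    rw [mem_subgroupOf, mem_inf, D.mem_normalizer_T]
    exact ⟨fun h => ⟨h, n.2⟩, fun h => h.1⟩
  have h3 : centralizer (D.T : Set D.H) =
      (centralizer ((D.S : Subgroup G) : Set G)).subgroupOf D.H := by
    ext n; rw [mem_subgroupOf, D.mem_centralizer_T]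
  rw [show N = _ from h2, h3, relIndex_subgroupOf inf_le_right, D.hstab]

/-- Only `z` is centralized outside `L`. -/
theorem mem_L_of_commute {y t : D.H} (ht : t ∈ D.T) (ht1 : t ≠ 1) (htz : t ≠ D.zH)
    (hc : Commute y t) : y ∈ D.L := by
  obtain ⟨n, hn, k, hk, rfl⟩ := D.exists_normalizer_mul y
  have hcn : Commute n t := by
    have h1 : n * t * n⁻¹ * t⁻¹ ∈ D.T ⊓ D.K := by
      refine mem_inf.2 ⟨mul_mem ((mem_normalizer_iff.1 hn t).1 ht) (inv_mem ht), ?_⟩
      have e : n * t * n⁻¹ * t⁻¹ = (n * t * n⁻¹) * ((n * k) * t * (n * k)⁻¹)⁻¹ := by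
        rw [mul_inv_eq_iff_eq_mul.2 hc.eq]
      rw [e, show (n * t * n⁻¹) * ((n * k) * t * (n * k)⁻¹)⁻¹ =
        n * ((t * k * t⁻¹) * k⁻¹) * n⁻¹ by group]
      exact D.K_normal.conj_mem _ (mul_mem (D.K_normal.conj_mem k hk t) (inv_mem hk)) n
    rw [D.T_inf_K, mem_bot, mul_inv_eq_one, mul_inv_eq_iff_eq_mul] at h1
    exact h1
  have := D.eq_of_fix (D.mem_normalizer_T.1 hn) n.2 ht (fun h => ht1 (Subtype.ext h))
    (fun h => htz (Subtype.ext h)) (hcn.map D.H.subtype)
  exact mul_mem (D.centralizer_le_L (D.mem_centralizer_T.2 this)) ((le_sup_left : D.K ≤ D.L) hk)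

/-- Elements of order prime to three lie in `L`. -/
theorem mem_L_of_pow {x : D.H} {m : ℕ} (hm : m.Coprime 3) (h : x ^ m ∈ D.L) : x ∈ D.L := by
  haveI := D.L_normal
  have h3 : x ^ 3 ∈ D.L := by
    have := Subgroup.pow_index_mem D.L x
    rwa [D.L_index] at this
  have h1 := Int.natCast_inj.2 hm
  rw [← zpow_one x, ← Nat.cast_one, ← h1, Nat.gcd_eq_gcd_ab, zpow_add, zpow_mul, zpow_mul,
    zpow_natCast, zpow_natCast]
  exact mul_mem (zpow_mem h _) (zpow_mem h3 _)

theorem card_L : Nat.card D.L = 8 * Nat.card D.K := by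
  letI := D.K_normal
  have h := (D.K.subgroupOf D.L).card_mul_index
  rw [Nat.card_congr (subgroupOfEquivOfLe (le_sup_left : D.K ≤ D.L)).toEquiv, ← relIndex] at h
  rw [← h, show D.L = D.T ⊔ D.K from sup_comm _ _, relIndex_sup_right, ← inf_relIndex_right,
    inf_comm, D.T_inf_K, relIndex_bot_left, D.card_T, mul_comm]

theorem card_H : Nat.card D.H = 24 * Nat.card D.K := by
  rw [← D.L.card_mul_index, D.L_index, D.card_L]; ring

theorem isPGroup_two_mem_L {x : D.H} {j : ℕ} (hx : orderOf x = 2 ^ j) : x ∈ D.L :=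
  D.mem_L_of_pow (m := 2 ^ j) (Nat.Coprime.pow_left j (by norm_num))
    (by rw [← hx, pow_orderOf_eq_one]; exact one_mem _)

theorem mem_K_of_odd {x : D.H} (hx : x ∈ D.L) (ho : Odd (orderOf x)) : x ∈ D.K := by
  letI := D.K_normal
  set q := QuotientGroup.mk' D.K
  have hmem : q x ∈ D.T.map q := by
    have h := mem_map_of_mem q hx
    rw [Subgroup.map_sup, (Subgroup.map_eq_bot_iff _).2 (QuotientGroup.ker_mk' D.K).ge, bot_sup_eq] at h
    exact h
  obtain ⟨k, hk⟩ := IsPGroup.iff_orderOf.1 (D.isPGroup_T.map q) ⟨q x, hmem⟩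
  rw [Subgroup.orderOf_mk] at hk
  have h1 : orderOf (q x) = 1 := Nat.eq_one_of_dvd_coprimes
    ((Nat.coprime_two_left.2 ho).pow_left k) (hk ▸ dvd_rfl) (orderOf_map_dvd q x)
  exact (QuotientGroup.eq_one_iff x).1 (orderOf_eq_one_iff.1 h1)

theorem odd_of_mem_K {x : D.H} (hx : x ∈ D.K) : Odd (orderOf x) :=
  Odd.of_dvd_nat D.odd_card_K (orderOf_dvd_natCard D.K hx)

theorem odd_mul_K {y u : D.H} (hy : Odd (orderOf y)) (hu : u ∈ D.K) : Odd (orderOf (y * u)) := by
  letI := D.K_normal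
  set q := QuotientGroup.mk' D.K
  have hq : q (y * u) = q y := by
    rw [map_mul, (QuotientGroup.eq_one_iff u).2 hu |> fun h => (show q u = 1 from h), mul_one]
  have h1 : (y * u) ^ orderOf y ∈ D.K := by
    refine (QuotientGroup.eq_one_iff _).1 ?_
    show q ((y * u) ^ orderOf y) = 1
    rw [map_pow, hq, ← map_pow, pow_orderOf_eq_one, map_one]
  refine Odd.of_dvd_nat (hy.mul (D.odd_of_mem_K h1)) (orderOf_dvd_of_pow_eq_one ?_)
  rw [pow_mul, pow_orderOf_eq_one]

/-- Outside `L` the 2-part is `1` or `z`. -/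
theorem twoPart_cases {x : D.H} (hx : x ∉ D.L) : twoPart x = 1 ∨ twoPart x = D.zH := by
  obtain ⟨Q, hQ⟩ := D.sylowH
  obtain ⟨k, hk⟩ := exists_orderOf_twoPart x
  obtain ⟨R, hR⟩ := (IsPGroup.of_card (p := 2) (n := k) (G := zpowers (twoPart x))
    (by rw [Nat.card_zpowers, hk])).exists_le_sylow
  obtain ⟨a, ha⟩ := MulAction.exists_smul_eq D.H R Q
  have hm : a * twoPart x * a⁻¹ ∈ D.T := by
    rw [← hQ, ← ha, Sylow.coe_subgroup_smul]
    exact Subgroup.smul_mem_pointwise_smul _ (MulAut.conj a) _ (hR (mem_zpowers _))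
  have hc : Commute (a * x * a⁻¹) (a * twoPart x * a⁻¹) :=
    ((twoPart_commute_self x).symm).map (MulAut.conj a).toMonoidHom
  by_cases h1 : a * twoPart x * a⁻¹ = 1
  · exact Or.inl (conj_eq_one_iff.1 h1)
  by_cases hz : a * twoPart x * a⁻¹ = D.zH
  · right
    calc twoPart x = a⁻¹ * D.zH * a := by rw [← hz]; group
      _ = D.zH := by rw [mul_assoc, (D.zH_central a).eq, inv_mul_cancel_left]
  · exfalso
    refine hx ?_
    have h := D.L_normal.conj_mem _ (D.mem_L_of_commute hm h1 hz hc) a⁻¹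
    simpa [mul_assoc] using h

theorem exists_lambda :
    ∃ l : D.H →* ℂˣ, (∀ x, l x = 1 ↔ x ∈ D.L) ∧ ∀ x, l x ^ 3 = 1 := by
  haveI := D.L_normal
  haveI : Fact (Nat.Prime 3) := ⟨Nat.prime_three⟩
  have hcard : Nat.card (↥D.H ⧸ D.L) = 3 := by rw [← index_eq_card, D.L_index]
  haveI := isCyclic_of_prime_card hcard
  let := IsCyclic.commGroup (α := ↥D.H ⧸ D.L)
  obtain ⟨g, hg⟩ : ∃ g : ↥D.H ⧸ D.L, g ≠ 1 := by
    have : Nontrivial (↥D.H ⧸ D.L) := Finite.one_lt_card_iff_nontrivial.1 (by omega)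
    exact exists_ne 1
  obtain ⟨l, hl⟩ := CfsgLib.Char.exists_linear_ne_one (G := ↥D.H ⧸ D.L) (fun a b => mul_comm a b) hg
  refine ⟨l.comp (QuotientGroup.mk' D.L), fun x => ⟨fun h => ?_, fun h => ?_⟩, fun x => ?_⟩
  · by_contra hx
    refine hl ?_
    have hne : (x : ↥D.H ⧸ D.L) ≠ 1 := fun e => hx ((QuotientGroup.eq_one_iff x).1 e)
    have hz : g ∈ zpowers ((x : ↥D.H ⧸ D.L)) := mem_zpowers_of_prime_card hcard hne
    obtain ⟨j, rfl⟩ := mem_zpowers_iff.1 hz
    rw [map_zpow, show l (x : ↥D.H ⧸ D.L) = 1 from h, one_zpow]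
  · show l (x : ↥D.H ⧸ D.L) = 1
    rw [(QuotientGroup.eq_one_iff x).2 h, map_one]
  · show l (x : ↥D.H ⧸ D.L) ^ 3 = 1
    rw [← map_pow, ← hcard, pow_card_eq_one', map_one]

end Data

end CfsgLib.Invol.Eight
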