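import Cfsg.Agent.Lib.Invol.EightBlock

/-!
An automizer of order 21 with solvable centralizers forces a non-trivial linear character.
-/

set_option autoImplicit false
set_option linter.unusedSectionVars false
set_option maxHeartbeats 1000000

namespace CfsgLib.Invol.Eight

open Cfsg
open scoped ComplexConjugate

universe u

namespace Data

variable {G : Type u} [Group G] [Finite G] (D : Data G)

/-- A product of two involutions in the section lies in `L`. -/
theorem fj_of_pair {a g w : G} (ha : a * twoPart g * a⁻¹ = D.z) (hw2 : w * w = 1)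
    (hinv : w * g * w⁻¹ = g⁻¹) :
    (⟨a * g * a⁻¹, D.mem_centralizer_of_twoPart ha⟩ : D.H) ∈ D.L := by
  set v := a * w * a⁻¹ with hv
  set h := a * g * a⁻¹ with hh
  have hvv : v * v = 1 := by
    rw [hv, show a * w * a⁻¹ * (a * w * a⁻¹) = a * (w * w) * a⁻¹ by group, hw2]; group
  have hvh : v * h * v⁻¹ = h⁻¹ := by
    rw [hv, hh, show a * w * a⁻¹ * (a * g * a⁻¹) * (a * w * a⁻¹)⁻¹ = a * (w * g * w⁻¹) * a⁻¹ by group,
      hinv]
    group
  have ht : twoPart h = D.z := by rw [hh, twoPart_conj, ha]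
  have hti : twoPart h⁻¹ = D.z := by
    have hodd := odd_orderOf_twoPart_inv_mul h
    rw [ht, invol_inv D.hz] at hodd
    have hc : Commute D.z h := ht ▸ twoPart_commute_self h
    have e : h⁻¹ = D.z * (D.z * h)⁻¹ := by
      rw [mul_inv_rev D.z h, invol_inv D.hz, ← mul_assoc, hc.inv_right.eq, mul_assoc, invol_mul_self D.hz,
        mul_one]
    rw [e]
    exact twoPart_mul ((Commute.refl D.z).mul_right hc).inv_right ⟨1, by rw [D.hz, pow_one]⟩
      (by rw [orderOf_inv]; exact hodd)
  have hvH : v ∈ D.H := by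
    rw [Subgroup.mem_centralizer_singleton_iff]
    refine mul_inv_eq_iff_eq_mul.1 ?_
    calc v * D.z * v⁻¹ = v * twoPart h * v⁻¹ := by rw [ht]
      _ = twoPart (h⁻¹) := by rw [← twoPart_conj, hvh]
      _ = D.z := hti
  set v' : D.H := ⟨v, hvH⟩
  set h' : D.H := ⟨h, D.mem_centralizer_of_twoPart ha⟩
  have hv2 : v' ∈ D.L := by
    by_cases h1 : v' = 1
    · rw [h1]; exact one_mem _
    · exact D.isPGroup_two_mem_L (j := 1)
        (by rw [pow_one]; exact invol_of_mul_self (Subtype.ext hvv) h1)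
  rw [← D.lam_eq_one_iff]
  have hl : D.lam h' = (D.lam h')⁻¹ := by
    have e : v' * h' * v'⁻¹ = h'⁻¹ := Subtype.ext hvh
    have := congrArg D.lam e
    rwa [map_mul, map_mul, map_inv, (D.lam_eq_one_iff v').2 hv2, one_mul, inv_one, mul_one,
      map_inv] at this
  have h3 : (D.lam h') ^ 3 = 1 := Units.ext (by
    rw [Units.val_pow_eq_pow_val, D.lam_cube, Units.val_one])
  calc D.lam h' = D.lam h' * (D.lam h' * D.lam h') := by
        nth_rewrite 4 [hl]; rw [mul_inv_cancel, mul_one]
    _ = D.lam h' ^ 3 := by rw [← mul_assoc, pow_succ, pow_two]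
    _ = 1 := h3

include D in
/-- The main contradiction. -/
theorem false_of_perfect
    (hlin : ∀ χ : IrrCharacter G, (χ : G → ℂ) 1 = 1 → (χ : G → ℂ) = fun _ => 1) : False := by
  classical
  have := Fintype.ofFinite G
  have := Fintype.ofFinite D.H
  have := Fintype.ofFinite D.K
  have := Fintype.ofFinite (D.S : Subgroup G)
  have := Fintype.ofFinite (IrrCharacter G)
  obtain ⟨M, hM⟩ := CfsgLib.BlockB.exists_isPModular Nat.prime_two
  choose c hc using fun (j : Fin 3) (χ : IrrCharacter G) =>
    CfsgLib.Char.classInner_isGeneralized_int (D.Phi_gen j)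
      (CfsgLib.Char.isGeneralized_of_isCharacter (CfsgLib.Char.irr_isCharacter χ.2))
  choose d hd using fun χ : IrrCharacter G =>
    CfsgLib.Char.char_apply_one_eq_nat (CfsgLib.Char.irr_isCharacter χ.2)
  have hk : (Nat.card D.K : ℂ) ≠ 0 := CfsgLib.Char.natCard_ne_zero
  have hH : (Nat.card D.H : ℂ) = 24 * (Nat.card D.K : ℂ) := by rw [D.card_H]; push_cast; ring
  have hci : ∀ (j : Fin 3) (χ : IrrCharacter G), (c j χ : ℂ) =
      (Nat.card D.H : ℂ)⁻¹ * ∑ x ∈ D.fib, D.fj j x * conj ((χ : G → ℂ) x) := fun j χ => by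
    rw [← hc j χ]; exact D.secFn_inner (D.fj_conj j) (CfsgLib.Char.irr_isClassFunction χ.2)
  -- inner products
  have hgram : ∀ i j, ((∑ χ, c i χ * c j χ : ℤ) : ℂ) = if i = j then 4 else 2 := by
    intro i j
    have h := CfsgLib.Char.classInner_eq_sum_mul (D.Phi_class i) (D.Phi j)
    simp only [hc, map_intCast] at h
    push_cast
    rw [← h, show D.Phi i = D.secFn (D.fj i) from rfl,
      D.secFn_inner (D.fj_conj i) (D.Phi_class j),
      Finset.sum_congr rfl (g := fun x => D.fj i x * conj (D.fj j x)) fun x hx => by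
        have hx' : (1 : G) * twoPart (x : G) * 1⁻¹ = D.z := by
          rw [twoPart_coe, (D.mem_fib).1 hx]; simp
        congr 2
        show D.secFn (D.fj j) x = _
        rw [D.secFn_eq (D.fj_conj j) hx']
        congr 1
        exact Subtype.ext (by simp), D.fj_inner_sum, hH]
    split_ifs <;> field_simp <;> ring
  -- the trivial character
  set e : IrrCharacter G := CfsgLib.Block.trivIrr
  have he : ∀ j, (c j e : ℂ) = if j = 0 then 1 else 0 := by
    intro j
    rw [hci, Finset.sum_congr rfl (g := fun x => D.fj j x) fun x _ => by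
      show _ * conj (1 : ℂ) = _; simp, D.fj_one_sum, hH]
    split_ifs <;> field_simp <;> ring
  -- outside the principal block
  have hprin : ∀ j χ, c j χ ≠ 0 → χ ∈ principalBlock M G := by
    intro j χ hne
    by_contra hχ
    apply hne
    have h0 := D.sum_fib_eq_zero hM hχ (fun x => conj (D.fj j x)) fun x v hv => by
      rw [D.fj_mul_right j x ((le_sup_left : D.K ≤ D.L) hv)]
    have h1 : (c j χ : ℂ) = 0 := by
      have h2 : ∑ x ∈ D.fib, D.fj j x * conj ((χ : G → ℂ) x) = 0 := by
        rw [← map_zero (starRingEnd ℂ), ← h0, map_sum]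
        simp [map_mul]
      rw [hci, h2, mul_zero]
    exact_mod_cast h1
  -- the values at the involution
  have hval : ∀ χ ∈ principalBlock M G,
      (χ : G → ℂ) D.z = ((c 0 χ + c 1 χ + c 2 χ : ℤ) : ℂ) := by
    intro χ hχ
    have key : (c 0 χ : ℂ) + c 1 χ + c 2 χ = conj ((χ : G → ℂ) D.z) := by
      rw [hci, hci, hci, ← mul_add, ← mul_add, ← Finset.sum_add_distrib, ← Finset.sum_add_distrib,
        Finset.sum_congr rfl (g := fun x : D.H =>
          if x ∈ D.L then 24 * conj ((χ : G → ℂ) D.z) else 0) fun x hx => by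
          rw [← add_mul, ← add_mul, D.fj_total]
          split_ifs with hL
          · rw [D.lam_of_mem hL]
            have hodd := odd_orderOf_twoPart_inv_mul x
            rw [(D.mem_fib).1 hx, inv_eq_of_mul_eq_one_left D.zH_sq] at hodd
            have hv := D.mem_K_of_odd (mul_mem ((le_sup_right : D.T ≤ D.L) D.zH_mem) hL) hodd
            have hxv : (χ : G → ℂ) x = (χ : G → ℂ) D.z := by
              have := principal_const_on_core hM (x := D.z) ⟨1, by rw [D.hz, pow_one]⟩
                (v := ((D.zH * x : D.H) : G)) ⟨D.zH * x, hv, rfl⟩ hχ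
              rwa [show D.z * ((D.zH * x : D.H) : G) = x by
                show D.z * (D.z * (x : G)) = x
                rw [← mul_assoc, invol_mul_self D.hz, one_mul]] at this
            rw [hxv]; ring
          · rw [D.lam_sum_of_not_mem hL, mul_zero, zero_mul],
        ← Finset.sum_filter, Finset.sum_const, D.card_fib_L, nsmul_eq_mul, hH]
      field_simp
    have := congrArg (starRingEnd ℂ) key
    rw [Complex.conj_conj] at this
    rw [← this]
    push_cast
    simp
  -- restriction to the Sylow subgroup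
  have hsec : ∀ χ, c 0 χ ≠ 0 ∨ c 1 χ ≠ 0 →
      ∃ m : ℕ, (d χ : ℤ) + 7 * (c 0 χ + c 1 χ + c 2 χ) = 8 * m := by
    intro χ h
    have hχ : χ ∈ principalBlock M G := h.elim (hprin 0 χ) (hprin 1 χ)
    obtain ⟨m, hm⟩ := CfsgLib.Char.classInner_isCharacter_nat
      (CfsgLib.Char.isCharacter_restrict (CfsgLib.Char.irr_isCharacter χ.2) (D.S : Subgroup G))
      (CfsgLib.Char.isCharacter_one (G := (D.S : Subgroup G)))
    refine ⟨m, ?_⟩
    have e1 : ∑ x : (D.S : Subgroup G), (χ : G → ℂ) x =
        (d χ : ℂ) + 7 * ((c 0 χ + c 1 χ + c 2 χ : ℤ) : ℂ) := by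
      rw [← Finset.add_sum_erase _ _ (Finset.mem_univ (1 : (D.S : Subgroup G))),
        Finset.sum_congr rfl (g := fun _ => ((c 0 χ + c 1 χ + c 2 χ : ℤ) : ℂ)) fun x hx => by
          rw [← hval χ hχ]
          exact (CfsgLib.Char.isClassFunction_isConj (CfsgLib.Char.irr_isClassFunction χ.2)
            (D.hconj x x.2 fun h => (Finset.ne_of_mem_erase hx) (Subtype.ext h))).symm,
        Finset.sum_const, Finset.card_erase_of_mem (Finset.mem_univ _), Finset.card_univ,
        ← Nat.card_eq_fintype_card, D.h8, OneMemClass.coe_one, hd, nsmul_eq_mul]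
      norm_num
    rw [CfsgLib.Char.classInner_def, D.h8] at hm
    simp only [map_one, mul_one] at hm
    rw [e1] at hm
    push_cast at hm
    have : (((d χ : ℤ) + 7 * (c 0 χ + c 1 χ + c 2 χ) : ℤ) : ℂ) = ((8 * (m : ℤ) : ℤ) : ℂ) := by
      push_cast; linear_combination (8 : ℂ) * hm
    exact_mod_cast this
  -- degrees
  have hdeg : ∀ j, ∑ χ, c j χ * (d χ : ℤ) = 0 := by
    intro j
    have h := CfsgLib.Char.classFunction_apply_eq_sum (D.Phi_class j) (1 : G)
    simp only [hc, hd] at h
    rw [show D.Phi j 1 = 0 from D.secFn_one _] at h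
    exact_mod_cast h.symm
  -- the identity
  have hid : ∑ χ, ((c 0 χ - c 1 χ : ℤ) : ℚ) * ((c 0 χ + c 1 χ + c 2 χ : ℤ) : ℚ) ^ 2 / (d χ : ℚ) = 0 := by
    set F : G → ℂ := fun g => D.Phi 0 g - D.Phi 1 g
    have hF0 : ∀ t : G, F (D.z * (t * D.z * t⁻¹)) = 0 := by
      intro t
      set g := D.z * (t * D.z * t⁻¹) with hg
      by_cases hex : ∃ a : G, a * twoPart g * a⁻¹ = D.z
      · obtain ⟨a, ha⟩ := hex
        have hL := D.fj_of_pair ha (invol_mul_self D.hz) (by
          have hb : t * D.z * t⁻¹ * (t * D.z * t⁻¹) = 1 := by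
            rw [show t * D.z * t⁻¹ * (t * D.z * t⁻¹) = t * (D.z * D.z) * t⁻¹ by group,
              invol_mul_self D.hz]
            group
          rw [hg, mul_inv_rev, inv_eq_of_mul_eq_one_left hb, invol_inv D.hz, ← mul_assoc D.z D.z,
            invol_mul_self D.hz, one_mul])
        show D.secFn _ g - D.secFn _ g = 0
        rw [D.secFn_eq (D.fj_conj 0) ha, D.secFn_eq (D.fj_conj 1) ha, D.fj_of_mem 0 hL,
          D.fj_of_mem 1 hL, sub_self]
      · show D.secFn _ g - D.secFn _ g = 0
        rw [D.secFn_eq_zero _ hex, D.secFn_eq_zero _ hex, sub_self]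
    have hsum : ∑ t : G, F (D.z * (t * D.z * t⁻¹)) = ∑ χ : IrrCharacter G,
        ((c 0 χ - c 1 χ : ℤ) : ℂ) *
          ((Nat.card G : ℂ) * (χ : G → ℂ) D.z * (χ : G → ℂ) D.z / (d χ : ℂ)) := by
      have hexp : ∀ g, F g = ∑ χ : IrrCharacter G, ((c 0 χ - c 1 χ : ℤ) : ℂ) * (χ : G → ℂ) g := fun g => by
        simp only [F]
        rw [CfsgLib.Char.classFunction_apply_eq_sum (D.Phi_class 0) g,
          CfsgLib.Char.classFunction_apply_eq_sum (D.Phi_class 1) g, ← Finset.sum_sub_distrib]
        refine Finset.sum_congr rfl fun χ _ => ?_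
        rw [hc, hc]; push_cast; ring
      rw [Finset.sum_congr rfl (fun t _ => hexp _), Finset.sum_comm]
      refine Finset.sum_congr rfl fun χ _ => ?_
      rw [← Finset.mul_sum, CfsgLib.BlockB.sum_irr_mul_conj χ D.z D.z, hd]
    rw [Finset.sum_eq_zero fun t _ => hF0 t] at hsum
    have h2 : (Nat.card G : ℂ) *
        ((∑ χ, ((c 0 χ - c 1 χ : ℤ) : ℚ) * ((c 0 χ + c 1 χ + c 2 χ : ℤ) : ℚ) ^ 2 / (d χ : ℚ) : ℚ) : ℂ) =
        0 := by
      rw [hsum, Rat.cast_sum, Finset.mul_sum]
      refine Finset.sum_congr rfl fun χ _ => ?_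
      by_cases h0 : c 0 χ - c 1 χ = 0
      · simp [h0]
      · have hχ : χ ∈ principalBlock M G := by
          by_cases h00 : c 0 χ = 0
          · exact hprin 1 χ fun h11 => h0 (by rw [h00, h11, sub_zero])
          · exact hprin 0 χ h00
        rw [hval χ hχ]
        push_cast
        ring
    have := (mul_eq_zero.1 h2).resolve_left CfsgLib.Char.natCard_ne_zero
    exact_mod_cast this
  refine arith_main e (c 0) (c 1) (c 2) d ?_ ?_ ?_ ?_ ?_ ?_ ?_ ?_ ?_ ?_ ?_ ?_ hsec (hdeg 0) (hdeg 1)
    (hdeg 2) hid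
  · intro χ
    refine Nat.pos_of_ne_zero fun h => CfsgLib.Char.irr_apply_one_ne_zero χ.2 ?_
    rw [hd, h, Nat.cast_zero]
  · intro χ h
    exact Subtype.ext (hlin χ (by rw [hd, h, Nat.cast_one]))
  · have h : (1 : ℂ) = (d e : ℂ) := hd e
    exact_mod_cast h.symm
  · have := he 0; simp at this; exact_mod_cast this
  · have := he 1; simp at this; exact_mod_cast this
  · have := he 2; simp at this; exact_mod_cast this
  · have := hgram 0 0; simp at this; exact_mod_cast this
  · have := hgram 1 1; simp at this; exact_mod_cast this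
  · have := hgram 2 2; simp at this; exact_mod_cast this
  · have := hgram 0 1; simp at this; exact_mod_cast this
  · have := hgram 0 2; simp at this; exact_mod_cast this
  · have := hgram 1 2; simp at this; exact_mod_cast this

end Data

end CfsgLib.Invol.Eight
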