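import Cfsg.Agent.Lib.Invol.EssentialSmall
import Cfsg.Agent.Lib.Solvable.Nilpotent
import Cfsg.Agent.Lib.Transfer.PPrimeAut
import Cfsg.Agent.Lib.ClassK.SubgroupCount
import Cfsg.Agent.Lib.Comp.Signalizer
import Mathlib

/-!
# Essential subgroups of order `p ^ 4`
-/

set_option autoImplicit false

namespace CfsgLib.Invol.EssentialFour

open Subgroup CfsgLib.Fusion CfsgLib.Invol.EssentialSmall
open scoped commutatorElement

section Groups

/-- A copy of `Fin n` without algebraic instances. -/
def SmallCopy (n : ℕ) : Type := Fin n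

variable {X : Type*} [Group X] [Finite X] {p : ℕ} [hp : Fact p.Prime]

theorem le_center_of_card_prime (hX : IsPGroup p X) (N : Subgroup X) [N.Normal]
    (hN : Nat.card N = p) : N ≤ center X := by
  haveI : Group.IsNilpotent X := hX.isNilpotent
  have hne : N ≠ ⊥ := fun h => hp.out.ne_one (by rw [← hN, h, card_bot])
  have h1 := CfsgLib.Solvable.normal_inf_center_ne_bot N hne
  have h2 : N ⊓ center X = N := by
    refine eq_of_le_of_card_ge inf_le_left ?_
    rcases (Nat.dvd_prime hp.out).1 (hN ▸ card_dvd_of_le (inf_le_left : N ⊓ center X ≤ N)) with h | h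
    · exact absurd (Subgroup.card_eq_one.1 h) h1
    · rw [h, hN]
  exact inf_eq_left.1 h2

theorem card_lt_of_not_mem {H K : Subgroup X} (hHK : H ≤ K) {x : X} (hx : x ∈ K) (hxH : x ∉ H)
    (hX : IsPGroup p X) : Nat.card H * p ≤ Nat.card K := by
  obtain ⟨i, hi⟩ := IsPGroup.iff_card.1 (hX.to_subgroup H)
  obtain ⟨j, hj⟩ := IsPGroup.iff_card.1 (hX.to_subgroup K)
  have h1 : Nat.card H < Nat.card K := lt_of_le_of_ne (card_le_of_le hHK) fun e =>
    hxH ((eq_of_le_of_card_ge hHK e.ge).ge hx)
  rw [hi, hj, Nat.pow_lt_pow_iff_right hp.out.one_lt] at h1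
  rw [hi, hj, ← pow_succ]
  exact Nat.pow_le_pow_right hp.out.pos h1

theorem cube_center (hX : IsPGroup p X) (hcard : Nat.card X = p ^ 3) {a0 b0 : X} (hab0 : a0 * b0 ≠ b0 * a0) :
    Nat.card (center X) = p ∧ (∀ x y : X, ⁅x, y⁆ ∈ center X) ∧ ∀ x : X, x ^ p ∈ center X := by
  haveI : Nontrivial X := ⟨a0, b0, fun h => hab0 (by rw [h])⟩
  set Z := center X with hZdef
  have hquot : ¬ IsCyclic (X ⧸ Z) := fun h => hab0
    (commutative_of_cyclic_center_quotient (QuotientGroup.mk' Z) (QuotientGroup.ker_mk' Z).le a0 b0)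
  have h1 := card_eq_card_quotient_mul_card_subgroup Z
  obtain ⟨i, hi⟩ := IsPGroup.iff_card.1 (hX.to_subgroup Z)
  have hi0 : i ≠ 0 := fun h => by
    haveI := hX.center_nontrivial
    have := Finite.one_lt_card (α := Z)
    rw [hi, h, pow_zero] at this
    omega
  obtain ⟨j, hj⟩ := IsPGroup.iff_card.1 (hX.to_quotient Z)
  have hij : j + i = 3 := by
    rw [hcard, hj, hi, ← pow_add] at h1
    exact (Nat.pow_right_injective hp.out.two_le h1).symm
  have hj2 : j = 2 := by
    by_contra hne
    refine hquot ?_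
    rcases (show j = 0 ∨ j = 1 by omega) with rfl | rfl
    · haveI : Subsingleton (X ⧸ Z) := Finite.card_le_one_iff_subsingleton.1 (by rw [hj, pow_zero])
      exact isCyclic_of_subsingleton
    · exact isCyclic_of_prime_card (p := p) (by rw [hj, pow_one])
  have hQc : Nat.card (X ⧸ Z) = p ^ 2 := by rw [hj, hj2]
  refine ⟨by rw [hi, show i = 1 by omega, pow_one], fun x y => (QuotientGroup.eq_one_iff _).1 ?_,
    fun x => (QuotientGroup.eq_one_iff _).1 ?_⟩
  · show QuotientGroup.mk' Z ⁅x, y⁆ = 1
    rw [map_commutatorElement, commutatorElement_eq_one_iff_mul_comm]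
    exact (IsPGroup.isMulCommutative_of_card_eq_prime_sq hQc).is_comm.comm _ _
  · show QuotientGroup.mk' Z (x ^ p) = 1
    rw [map_pow]
    by_contra hx
    refine hquot (isCyclic_of_orderOf_eq_card (QuotientGroup.mk' Z x) ?_)
    obtain ⟨k, hk, he⟩ := (Nat.dvd_prime_pow hp.out).1 (hQc ▸ orderOf_dvd_natCard (QuotientGroup.mk' Z x))
    have : k = 2 := by
      by_contra h2
      exact hx (orderOf_dvd_iff_pow_eq_one.1 (he ▸ (pow_dvd_pow p (show k ≤ 1 by omega)).trans (pow_one p).dvd))
    rw [he, this, hQc]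

theorem extraspecial_cube (hcard : Nat.card X = p ^ 3) {a0 b0 : X} (hab0 : a0 * b0 ≠ b0 * a0) :
    Cfsg.IsExtraspecial p X := by
  have hX : IsPGroup p X := IsPGroup.of_card hcard
  obtain ⟨hZc, hcom, hpow⟩ := cube_center hX hcard hab0
  exact CfsgLib.Coprime.isExtraspecial_of_central hX (center X) hZc rfl hcom hpow
    fun h => hab0 (mem_center_iff.1 (h.ge (mem_top b0)) a0)

/-- A nonabelian group of order 8 is quaternion or its elements of order 4 generate a cyclic group. -/
theorem two_cube (hcard : Nat.card X = 2 ^ 3) {a0 b0 : X} (hab0 : a0 * b0 ≠ b0 * a0) :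
    Nonempty (X ≃* QuaternionGroup 2) ∨ ∃ x : X, x ^ 2 ≠ 1 ∧ ∀ w : X, w ^ 2 ≠ 1 → w ∈ zpowers x := by
  classical
  haveI : Fact (Nat.Prime 2) := ⟨Nat.prime_two⟩
  have hX : IsPGroup 2 X := IsPGroup.of_card hcard
  obtain ⟨hZc, hcom, hpow⟩ := cube_center hX hcard hab0
  by_cases huni : ∀ y : X, y ^ 2 = 1 → y ∈ center X
  · left
    obtain hc | ⟨-, n, ⟨e⟩⟩ := CfsgLib.Solvable.isCyclic_or_quaternion_of_unique hX fun H K hH hK => by
      have hEq : ∀ H : Subgroup X, Nat.card H = 2 → H = center X := fun H hH => by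
        refine eq_of_le_of_card_ge (fun y hy => huni y ?_) (by rw [hH, hZc])
        have h3 := pow_card_eq_one' (x := (⟨y, hy⟩ : H))
        rw [hH] at h3
        simpa using congrArg Subtype.val h3
      rw [hEq H hH, hEq K hK]
    · exact absurd ((IsCyclic.commGroup (α := X)).mul_comm a0 b0) hab0
    · have hn : n = 1 := by
        have h := Nat.card_congr e.toEquiv
        haveI : NeZero (2 ^ n) := ⟨by positivity⟩
        rw [hcard, Nat.card_eq_fintype_card, QuaternionGroup.card] at h
        rcases (show n = 0 ∨ n = 1 ∨ 2 ≤ n by omega) with rfl | rfl | hn2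
        · norm_num at h
        · rfl
        · have : 4 ≤ 2 ^ n := le_trans (by norm_num) (Nat.pow_le_pow_right two_pos hn2)
          omega
      subst hn
      exact ⟨e⟩
  push Not at huni
  obtain ⟨y, hy2, hyZ⟩ := huni
  obtain ⟨x, hx2⟩ : ∃ x : X, x ^ 2 ≠ 1 := by
    by_contra h
    push Not at h
    refine hab0 ?_
    have h1 := h (a0 * b0); have h2 := h a0; have h3 := h b0
    rw [sq] at h1 h2 h3
    calc a0 * b0 = a0 * (a0 * b0 * (a0 * b0)) * b0 := by rw [h1, mul_one]
      _ = (a0 * a0) * (b0 * a0) * (b0 * b0) := by group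
      _ = b0 * a0 := by rw [h2, h3, one_mul, mul_one]
  refine Or.inr ⟨x, hx2, ?_⟩
  have hox : orderOf x = 4 := by
    refine orderOf_eq_prime_pow (p := 2) (n := 1) (by simpa using hx2) ?_
    have h3 := pow_card_eq_one' (x := (⟨x ^ 2, hpow x⟩ : center X))
    rw [hZc] at h3
    have := congrArg Subtype.val h3
    simpa [← pow_mul] using this
  have hidx : (zpowers x).index = 2 := by
    have h := card_mul_index (zpowers x)
    rw [Nat.card_zpowers, hox, hcard] at h
    omega
  haveI : (zpowers x).Normal := normal_of_index_eq_two hidx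
  have hyH : y ∉ zpowers x := by
    intro h
    obtain ⟨k, hk⟩ := (isOfFinOrder_of_finite x).mem_powers_iff_mem_zpowers.2 h
    change x ^ k = y at hk
    subst hk
    rw [← pow_mul] at hy2
    have := orderOf_dvd_of_pow_eq_one hy2
    rw [hox] at this
    obtain ⟨l, rfl⟩ : 2 ∣ k := by omega
    exact hyZ (by rw [pow_mul]; exact pow_mem (hpow x) l)
  have hyx : y * x * y⁻¹ = x⁻¹ := by
    obtain ⟨k, hk⟩ := (isOfFinOrder_of_finite x).mem_powers_iff_mem_zpowers.2
      ((inferInstance : (zpowers x).Normal).conj_mem x (mem_zpowers x) y)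
    change x ^ k = y * x * y⁻¹ at hk
    have ho : orderOf (y * x * y⁻¹) = 4 := by
      rw [← hox]; exact (MulAut.conj y).orderOf_eq x
    rw [← hk, pow_mod_orderOf x k |>.symm, hox] at ho ⊢
    have hlt : k % 4 < 4 := Nat.mod_lt _ (by norm_num)
    rcases (show k % 4 = 0 ∨ k % 4 = 1 ∨ k % 4 = 2 ∨ k % 4 = 3 by omega) with h | h | h | h <;> rw [h] at ho ⊢
    · simp at ho
    · exfalso
      rw [← pow_mod_orderOf x k, hox, h, pow_one] at hk
      have hyxc : y * x = x * y := by rw [← mul_inv_eq_iff_eq_mul]; exact hk.symm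
      have hle : zpowers x ≤ centralizer ({x} : Set X) := zpowers_le.2 (mem_centralizer_singleton_iff.2 rfl)
      refine hx2 ?_
      have hxc : x ∈ center X := mem_center_iff.2 fun g => by
        by_cases hg : g ∈ zpowers x
        · exact mem_centralizer_singleton_iff.1 (hle hg)
        · have h1 := hle ((mul_mem_iff_of_index_two hidx).2 (iff_of_false hg hyH))
          have h2 := mul_mem h1 (inv_mem (mem_centralizer_singleton_iff.2 hyxc : y ∈ centralizer ({x} : Set X)))
          rw [mul_inv_cancel_right] at h2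
          exact mem_centralizer_singleton_iff.1 h2
      have h3 := pow_card_eq_one' (x := (⟨x, hxc⟩ : center X))
      rw [hZc] at h3
      simpa using congrArg Subtype.val h3
    · rw [orderOf_pow x, hox] at ho; norm_num at ho
    · exact (eq_inv_of_mul_eq_one_left (by rw [← pow_succ, show (3 + 1 : ℕ) = orderOf x from hox.symm, pow_orderOf_eq_one]))
  intro w hw
  by_contra hwH
  refine hw ?_
  obtain ⟨i, hi⟩ := mem_zpowers_iff.1 ((mul_mem_iff_of_index_two hidx).2 (iff_of_false hwH hyH))
  have hy1 : y⁻¹ = y := inv_eq_of_mul_eq_one_left (by rw [← sq]; exact hy2)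
  have e : w = x ^ i * y := by rw [hi, mul_assoc, ← sq, hy2, mul_one]
  calc w ^ 2 = x ^ i * (y * x ^ i * y⁻¹) * (y * y) := by rw [e, sq]; group
    _ = 1 := by rw [← conj_zpow, hyx, inv_zpow, mul_inv_cancel, one_mul, ← sq, hy2]

end Groups

variable {Ω : Type*} [Group Ω] {S : Subgroup Ω} [Finite S] {p : ℕ} [hp : Fact p.Prime]
  {F : Cfsg.FusionSystem S} {P : Subgroup Ω}

theorem card_four_abelian (hS : IsPGroup p S) (hF : F.IsSaturated p) (hP : F.IsEssential p P)
    (hcard : Nat.card P = p ^ 4) (hab : ∀ a b : P, a * b = b * a) :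
    Cfsg.IsElementaryAbelian p P ∨
      Nonempty (↥P ≃* Multiplicative (ZMod (p ^ 2) × ZMod p × ZMod p)) ∨
      ((p = 2 ∨ p = 3) ∧ Nonempty (↥P ≃* Multiplicative (ZMod (p ^ 2) × ZMod (p ^ 2)))) := by
  classical
  haveI := finite_of_le hP.1.1
  have hPp := isPGroup_P hS hP
  obtain ⟨i, hi⟩ := IsPGroup.iff_card.1 (hPp.to_subgroup (powKer hab p))
  have hi4 : i ≤ 4 := (Nat.pow_le_pow_iff_right hp.out.one_lt).1
    (hi ▸ hcard ▸ Nat.le_of_dvd Nat.card_pos (card_subgroup_dvd_card _))
  rcases (show i ≤ 2 ∨ i = 3 ∨ i = 4 by omega) with h | h | h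
  · rcases abelian_rank_two hS hF hP hab (hi ▸ Nat.pow_le_pow_right hp.out.pos h) with ⟨-, h'⟩ | ⟨hp3, k, -, ⟨e⟩⟩
    · exact absurd (Nat.pow_right_injective hp.out.two_le (hcard.symm.trans h')) (by norm_num)
    · have hk : k = 2 := by
        have h1 : Nat.card P = p ^ k * p ^ k := by
          rw [Nat.card_congr e.toEquiv]
          show Nat.card (ZMod (p ^ k) × ZMod (p ^ k)) = _
          rw [Nat.card_prod, Nat.card_zmod]
        rw [hcard, ← pow_add] at h1
        have := Nat.pow_right_injective hp.out.two_le h1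
        omega
      subst hk
      have := hp.out.two_le
      exact Or.inr (Or.inr ⟨by omega, ⟨e⟩⟩)
  · subst h
    refine Or.inr (Or.inl ?_)
    have h1 := card_powKer_mul_powRange hab p
    rw [hcard, hi, pow_succ] at h1
    have hc : Nat.card (powRange hab p) = p := (Nat.eq_of_mul_eq_mul_left (pow_pos hp.out.pos 3) h1).symm
    obtain ⟨c, hc', hc1⟩ := (powRange hab p).bot_or_exists_ne_one.resolve_left fun e => by
      rw [e, card_bot] at hc; exact hp.out.ne_one hc.symm
    obtain ⟨x, hx⟩ := hc'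
    have hcp : c ^ p = 1 := by
      have h3 := pow_card_eq_one' (x := (⟨c, x, hx⟩ : powRange hab p))
      rw [hc] at h3
      simpa using congrArg Subtype.val h3
    have hxp2 : x ^ p ^ 2 = 1 := by rw [sq, pow_mul, hx, hcp]
    set Om := powKer hab p with hOm
    have hcOm : zpowers c ≤ Om := zpowers_le.2 hcp
    have hcc : Nat.card (zpowers c) = p := by rw [Nat.card_zpowers, orderOf_eq_prime hcp hc1]
    obtain ⟨u, hu, huc⟩ : ∃ u ∈ Om, u ∉ zpowers c := by
      by_contra h
      push Not at h
      have h2 := card_le_of_le (show Om ≤ zpowers c from h)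
      rw [hi, hcc] at h2
      have := Nat.pow_lt_pow_right hp.out.one_lt (show 1 < 3 by norm_num)
      rw [pow_one] at this
      omega
    have hlo : p ^ 2 ≤ Nat.card (zpowers c ⊔ zpowers u : Subgroup P) := by
      have := card_lt_of_not_mem (p := p) (le_sup_left : zpowers c ≤ zpowers c ⊔ zpowers u)
        (mem_sup_right (mem_zpowers u)) huc hPp
      rwa [hcc, ← sq] at this
    haveI hnorm : ∀ H : Subgroup P, H.Normal := fun H => ⟨fun a ha g => by rwa [hab g a, mul_inv_cancel_right]⟩
    have hhi : Nat.card (zpowers c ⊔ zpowers u : Subgroup P) ≤ p ^ 2 := by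
      haveI := hnorm (zpowers c)
      have h2 := CfsgLib.Comp.card_sup_dvd_mul (H := zpowers c) (K := zpowers u)
        (le_trans le_top (normalizer_eq_top_iff.2 (hnorm (zpowers c))).ge)
      refine Nat.le_of_dvd (pow_pos hp.out.pos 2) (h2.trans ?_)
      rw [hcc, Nat.card_zpowers, sq]
      exact mul_dvd_mul_left p (orderOf_dvd_of_pow_eq_one hu)
    obtain ⟨v, hv, hvu⟩ : ∃ v ∈ Om, v ∉ zpowers c ⊔ zpowers u := by
      by_contra h
      push Not at h
      have h2 := card_le_of_le (show Om ≤ zpowers c ⊔ zpowers u from h)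
      rw [hi] at h2
      have := Nat.pow_lt_pow_right hp.out.one_lt (show 2 < 3 by norm_num)
      omega
    haveI : NeZero (p ^ 2) := ⟨pow_ne_zero _ hp.out.ne_zero⟩
    have hpow : ∀ (n : ℕ) [NeZero n] (y : P), y ^ n = 1 → ∀ (s t : ZMod n), y ^ (s + t).val = y ^ s.val * y ^ t.val := by
      intro n _ y hy s t
      rw [← pow_add, pow_eq_pow_iff_modEq, ZMod.val_add]
      exact (Nat.mod_modEq _ _).of_dvd (orderOf_dvd_of_pow_eq_one hy)
    let f : Multiplicative (ZMod (p ^ 2) × ZMod p × ZMod p) →* P :=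
      MonoidHom.mk' (fun w => x ^ w.toAdd.1.val * u ^ w.toAdd.2.1.val * v ^ w.toAdd.2.2.val) fun w w' => by
        simp only [toAdd_mul, Prod.fst_add, Prod.snd_add, hpow _ x hxp2, hpow _ u hu, hpow _ v hv]
        letI : CommGroup P := { (inferInstance : Group P) with mul_comm := hab }
        exact (by ac_rfl)
    have hrange : f.range = ⊤ := by
      have hval1 : ∀ (n : ℕ) [NeZero n] (y : P), y ^ n = 1 → y ^ ((1 : ZMod n)).val = y := by
        intro n _ y hy
        rcases eq_or_ne n 1 with rfl | hn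
        · rw [pow_one] at hy; rw [hy, one_pow]
        · haveI : Fact (1 < n) := ⟨lt_of_le_of_ne (NeZero.pos n) (Ne.symm hn)⟩
          rw [ZMod.val_one, pow_one]
      have hxR : x ∈ f.range := ⟨Multiplicative.ofAdd (1, 0, 0), by simp [f, hval1 _ x hxp2]⟩
      have huR : u ∈ f.range := ⟨Multiplicative.ofAdd (0, 1, 0), by simp [f, hval1 _ u hu]⟩
      have hvR : v ∈ f.range := ⟨Multiplicative.ofAdd (0, 0, 1), by simp [f, hval1 _ v hv]⟩
      have hle : zpowers c ⊔ zpowers u ≤ f.range :=
        sup_le (zpowers_le.2 (hx ▸ pow_mem hxR p)) (zpowers_le.2 huR)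
      have hleO : zpowers c ⊔ zpowers u ⊔ zpowers v ≤ Om :=
        sup_le (sup_le hcOm (zpowers_le.2 hu)) (zpowers_le.2 hv)
      have h3 : p ^ 3 ≤ Nat.card (zpowers c ⊔ zpowers u ⊔ zpowers v : Subgroup P) := by
        have := card_lt_of_not_mem (p := p) (le_sup_left : zpowers c ⊔ zpowers u ≤ zpowers c ⊔ zpowers u ⊔ zpowers v)
          (mem_sup_right (mem_zpowers v)) hvu hPp
        rw [pow_succ]
        exact (Nat.mul_le_mul_right p hlo).trans this
      have hOeq : zpowers c ⊔ zpowers u ⊔ zpowers v = Om := eq_of_le_of_card_ge hleO (by rw [hi]; exact h3)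
      have hOR : Om ≤ f.range := hOeq ▸ sup_le hle (zpowers_le.2 hvR)
      refine eq_top_of_le_card _ ?_
      have := card_lt_of_not_mem (p := p) hOR hxR (fun h => hc1 (hx ▸ (h : x ^ p = 1))) hPp
      rw [hi, ← pow_succ] at this
      rwa [hcard]
    have hbij : Function.Bijective f := by
      rw [Nat.bijective_iff_surjective_and_card]
      refine ⟨MonoidHom.range_eq_top.1 hrange, ?_⟩
      rw [hcard]
      show Nat.card (ZMod (p ^ 2) × ZMod p × ZMod p) = p ^ 4
      rw [Nat.card_prod, Nat.card_prod, Nat.card_zmod, Nat.card_zmod]; ring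
    exact ⟨(MulEquiv.ofBijective f hbij).symm⟩
  · subst h
    have htop : powKer hab p = ⊤ := eq_top_of_card_eq _ (by rw [hi, hcard])
    exact Or.inl ⟨⟨⟨hab⟩⟩, fun a ha => by
      simpa using congrArg Subtype.val (show (⟨a, ha⟩ : P) ^ p = 1 from htop.ge (mem_top _))⟩

theorem card_four_nonabelian (hS : IsPGroup p S) (hF : F.IsSaturated p) (hP : F.IsEssential p P)
    (hcard : Nat.card P = p ^ 4) {a0 b0 : P} (hab0 : a0 * b0 ≠ b0 * a0) :
      (Odd p ∧ ∃ (E : Type) (_ : Group E) (_ : Finite E), Cfsg.IsExtraspecial p E ∧ Nat.card E = p ^ 3 ∧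
        (∀ x : E, x ^ p = 1) ∧ Nonempty (↥P ≃* E × Multiplicative (ZMod p))) ∨
      (p = 2 ∧ Nonempty (↥P ≃* QuaternionGroup 2 × Multiplicative (ZMod 2))) ∨
      (¬ IsMulCommutative ↥P ∧ (∀ x ∈ P, x ^ (p ^ 2) = 1) ∧ IsCyclic ↥(Subgroup.center ↥P) ∧
        Nat.card (Subgroup.center ↥P) = p ^ 2) := by
  classical
  haveI := finite_of_le hP.1.1
  have hPp := isPGroup_P hS hP
  have hne := not_pTrivialAut hS hF hP
  haveI : Nontrivial P := ⟨a0, b0, fun h => hab0 (by rw [h])⟩
  haveI : Group.IsNilpotent P := hPp.isNilpotent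
  set Z := center P with hZdef
  have hnab : ¬ IsMulCommutative ↥P := fun h => hab0 (h.is_comm.comm a0 b0)
  have hquot : ¬ IsCyclic (P ⧸ Z) := fun h => hab0
    (commutative_of_cyclic_center_quotient (QuotientGroup.mk' Z) (QuotientGroup.ker_mk' Z).le a0 b0)
  obtain ⟨i, hi⟩ := IsPGroup.iff_card.1 (hPp.to_subgroup Z)
  obtain ⟨j, hj⟩ := IsPGroup.iff_card.1 (hPp.to_quotient Z)
  have hij : j + i = 4 := by
    have h1 := card_eq_card_quotient_mul_card_subgroup Z
    rw [hcard, hj, hi, ← pow_add] at h1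
    exact (Nat.pow_right_injective hp.out.two_le h1).symm
  have hi0 : i ≠ 0 := fun h => by
    haveI := hPp.center_nontrivial
    have := Finite.one_lt_card (α := Z)
    rw [hi, h, pow_zero] at this
    omega
  have hj2 : 2 ≤ j := by
    by_contra hlt
    refine hquot ?_
    rcases (show j = 0 ∨ j = 1 by omega) with rfl | rfl
    · haveI : Subsingleton (P ⧸ Z) := Finite.card_le_one_iff_subsingleton.1 (by rw [hj, pow_zero])
      exact isCyclic_of_subsingleton
    · exact isCyclic_of_prime_card (p := p) (by rw [hj, pow_one])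
  have hcharC : ∀ (H : Subgroup P) [H.Characteristic], ∀ α : MulAut P, ∀ x ∈ H, α x ∈ H :=
    fun H _ α x hx => (characteristic_iff_map_le.1 inferInstance α) ⟨x, hx, rfl⟩
  -- a series with steps of order `p` is impossible
  have hflag : ∀ A B C : Subgroup P, A ≤ B → B ≤ C → Nat.card A = p → Nat.card B = p ^ 2 → Nat.card C = p ^ 3 →
      (∀ α : MulAut P, (∀ x ∈ A, α x ∈ A) ∧ (∀ x ∈ B, α x ∈ B) ∧ ∀ x ∈ C, α x ∈ C) → False := by
    intro A B C hAB hBC hA hB hC hinv
    refine hne (pTrivialAut_of_series hPp 4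
      (fun n => if n = 0 then ⊥ else if n = 1 then A else if n = 2 then B else if n = 3 then C else ⊤)
      (by simp) (by simp) ?_ ?_ ?_ ?_)
    · intro n hn; interval_cases n <;> simp [hAB, hBC]
    · intro n hn α x hx
      interval_cases n
      · simp at hx ⊢; exact hx
      · exact (hinv α).1 x hx
      · exact (hinv α).2.1 x hx
      · exact (hinv α).2.2 x hx
      · trivial
    · intro n hn x _ y hy
      interval_cases n
      · simp at hy ⊢; exact hy
      · exact (hinv (MulAut.conj x)).1 y hy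
      · exact (hinv (MulAut.conj x)).2.1 y hy
      · exact (hinv (MulAut.conj x)).2.2 y hy
    · intro n hn
      interval_cases n
      · simp [hA]
      · simp [hA, hB, sq]
      · simp [hB, hC, pow_succ]
      · simp [hC, hcard, pow_succ]
  set D := _root_.commutator P with hDdef
  have hD1 : D ≠ ⊥ := fun h => hab0 (commutatorElement_eq_one_iff_mul_comm.1
    (mem_bot.1 (h ▸ commutator_mem_commutator (mem_top a0) (mem_top b0))))
  rcases (show i = 1 ∨ i = 2 by omega) with h | h
  · subst h
    exfalso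
    rw [pow_one] at hi
    -- the derived subgroup is not central
    have hDZ : ¬ D ≤ Z := by
      intro hle
      have hcom : ∀ x y : P, ⁅x, y⁆ ∈ Z := fun x y => hle (commutator_mem_commutator (mem_top x) (mem_top y))
      have hidx : ∀ x : P, x ∉ Z → p ^ 3 ≤ Nat.card (centralizer ({x} : Set P)) := by
        intro x hx
        let f : P →* P := MonoidHom.mk' (fun g => ⁅g, x⁆) fun g g' => by
          have h1 := mem_center_iff.1 (hcom g' x) g
          have h2 := mem_center_iff.1 (hcom g' x) ⁅g, x⁆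
          calc ⁅g * g', x⁆ = g * ⁅g', x⁆ * g⁻¹ * ⁅g, x⁆ := by simp only [commutatorElement_def]; group
            _ = ⁅g, x⁆ * ⁅g', x⁆ := by rw [h1, mul_inv_cancel_right, ← h2]
        have hker : f.ker = centralizer ({x} : Set P) := by
          ext g
          rw [MonoidHom.mem_ker, mem_centralizer_singleton_iff]
          exact commutatorElement_eq_one_iff_mul_comm
        have h1 := card_mul_index f.ker
        rw [index_ker, hker, hcard] at h1
        have h2 : Nat.card f.range ≤ p := hi ▸ card_le_of_le (show f.range ≤ Z from fun _ ⟨g, hg⟩ => hg ▸ hcom g x)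
        by_contra hlt
        have h3 : p ^ 4 < p ^ 3 * p := by
          rw [← h1]
          exact lt_of_le_of_lt (Nat.mul_le_mul_left _ h2) (Nat.mul_lt_mul_of_pos_right (not_le.1 hlt) hp.out.pos)
        rw [← pow_succ] at h3
        exact lt_irrefl _ h3
      obtain ⟨x, hx⟩ : ∃ x, x ∉ Z := ⟨b0, fun h => hab0 (mem_center_iff.1 h a0)⟩
      set A := centralizer ({x} : Set P)
      have hAlt : A ≠ ⊤ := fun h => hx (mem_center_iff.2 fun g =>
        mem_centralizer_singleton_iff.1 (h.ge (mem_top g)))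
      have hAc : Nat.card A = p ^ 3 := by
        obtain ⟨k, hk⟩ := IsPGroup.iff_card.1 (hPp.to_subgroup A)
        have h1 := hidx x hx
        rw [hk, Nat.pow_le_pow_iff_right hp.out.one_lt] at h1
        have h2 : k ≤ 4 := (Nat.pow_le_pow_iff_right hp.out.one_lt).1
          (hk ▸ hcard ▸ Nat.le_of_dvd Nat.card_pos (card_subgroup_dvd_card _))
        rcases (show k = 3 ∨ k = 4 by omega) with rfl | rfl
        · exact hk
        · exact absurd (eq_top_of_card_eq _ (by rw [hk, hcard])) hAlt
      obtain ⟨w, hw⟩ : ∃ w, w ∉ A := by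
        by_contra h
        push Not at h
        exact hAlt (eq_top_iff.2 fun g _ => h g)
      -- `A` is abelian
      have hAab : ∀ u ∈ A, ∀ v ∈ A, u * v = v * u := by
        intro u hu v hv
        haveI hAn : A.Normal := ⟨fun y hy g => by
          have h1 := hle (commutator_mem_commutator (mem_top g) (mem_top y))
          have h2 := mul_mem (mem_centralizer_singleton_iff.2 (mem_center_iff.1 h1 x).symm : ⁅g, y⁆ ∈ A) hy
          rwa [commutatorElement_def, inv_mul_cancel_right] at h2⟩
        have hxZ : zpowers x ⊔ Z ≤ centralizer (A : Set P) := sup_le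
          (zpowers_le.2 (mem_centralizer_iff.2 fun y hy => mem_centralizer_singleton_iff.1 hy))
          (center_le_centralizer _)
        by_cases hvx : v ∈ zpowers x ⊔ Z
        · exact mem_centralizer_iff.1 (hxZ hvx) u hu
        -- `v` centralises a subgroup of index `p` containing `x`, `v`, `Z`
        have hCv : A ≤ centralizer ({v} : Set P) := by
          have hlow : zpowers x ⊔ Z ⊔ zpowers v ≤ centralizer ({v} : Set P) ⊓ A := by
            refine le_inf (sup_le ?_ (zpowers_le.2 (mem_centralizer_singleton_iff.2 rfl)))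
              (sup_le (sup_le (zpowers_le.2 (mem_centralizer_singleton_iff.2 rfl)) (center_le_centralizer _))
                (zpowers_le.2 hv))
            exact sup_le (zpowers_le.2 (mem_centralizer_singleton_iff.2
              (mem_centralizer_singleton_iff.1 hv).symm)) (center_le_centralizer _)
          have h1 : Nat.card Z * p ≤ Nat.card (zpowers x ⊔ Z : Subgroup P) :=
            card_lt_of_not_mem (p := p) le_sup_right (mem_sup_left (mem_zpowers x)) hx hPp
          have h2 := card_lt_of_not_mem (p := p) (le_sup_left : zpowers x ⊔ Z ≤ zpowers x ⊔ Z ⊔ zpowers v)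
            (mem_sup_right (mem_zpowers v)) hvx hPp
          have h3 : p ^ 3 ≤ Nat.card (zpowers x ⊔ Z ⊔ zpowers v : Subgroup P) := by
            rw [hi] at h1
            calc p ^ 3 = p * p * p := by ring
              _ ≤ _ := (Nat.mul_le_mul_right p h1).trans h2
          have h4 : centralizer ({v} : Set P) ⊓ A = A :=
            eq_of_le_of_card_ge inf_le_right (hAc ▸ h3.trans (card_le_of_le hlow))
          exact inf_eq_right.1 h4
        exact mem_centralizer_singleton_iff.1 (hCv hu)
      -- a central element outside `Z`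
      have hwZ : w ∉ Z := fun h => hw (mem_centralizer_singleton_iff.2 (mem_center_iff.1 h x).symm)
      set B := centralizer ({w} : Set P)
      have hBA : p ^ 2 ≤ Nat.card (B ⊓ A : Subgroup P) := by
        obtain ⟨k, hk⟩ := IsPGroup.iff_card.1 (hPp.to_subgroup (B ⊓ A : Subgroup P))
        have h2 := Subgroup.relIndex_mul_relIndex ⊥ (B ⊓ A) A bot_le inf_le_right
        rw [relIndex_bot_left, relIndex_bot_left, hAc, hk, inf_relIndex_right] at h2
        haveI hBn : B.Normal := ⟨fun y hy g => by
          have h1 := hle (commutator_mem_commutator (mem_top g) (mem_top y))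
          have h2 := mul_mem (mem_centralizer_singleton_iff.2 (mem_center_iff.1 h1 w).symm : ⁅g, y⁆ ∈ B) hy
          rwa [commutatorElement_def, inv_mul_cancel_right] at h2⟩
        have h3 : B.relIndex A ∣ B.index := relIndex_dvd_index_of_normal _ _
        have h4 : B.index ≤ p := by
          have h5 := card_mul_index B
          rw [hcard] at h5
          by_contra hlt
          have : p ^ 3 * p < p ^ 4 := h5 ▸ Nat.mul_lt_mul_of_le_of_lt (hidx w hwZ) (not_le.1 hlt) Nat.card_pos
          rw [← pow_succ] at this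
          exact lt_irrefl _ this
        have h6 : B.relIndex A ≤ p := (Nat.le_of_dvd (Nat.pos_of_ne_zero index_ne_zero_of_finite) h3).trans h4
        rw [hk]
        by_contra hlt
        have : p ^ k * B.relIndex A < p ^ 2 * p :=
          lt_of_le_of_lt (Nat.mul_le_mul_left _ h6) (Nat.mul_lt_mul_of_pos_right (not_le.1 hlt) hp.out.pos)
        rw [h2, ← pow_succ] at this
        exact lt_irrefl _ this
      obtain ⟨u, hu, huZ⟩ : ∃ u ∈ B ⊓ A, u ∉ Z := by
        by_contra h
        push Not at h
        have h1 := hBA.trans (card_le_of_le (show B ⊓ A ≤ Z from h))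
        rw [hi] at h1
        have := hp.out.two_le
        nlinarith
      refine huZ (mem_center_iff.2 fun g => ?_)
      have hAmax : A ⊔ zpowers w = ⊤ := by
        refine eq_top_of_le_card _ ?_
        rw [hcard, pow_succ, ← hAc]
        exact card_lt_of_not_mem (p := p) le_sup_left (mem_sup_right (mem_zpowers w)) hw hPp
      have hle' : A ⊔ zpowers w ≤ centralizer ({u} : Set P) :=
        sup_le (fun y hy => mem_centralizer_singleton_iff.2 (hAab y hy u hu.2))
          (zpowers_le.2 (mem_centralizer_singleton_iff.2 (mem_centralizer_singleton_iff.1 hu.1).symm))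
      exact mem_centralizer_singleton_iff.1 (hle' (hAmax.ge (mem_top g)))
    -- class three: a characteristic series
    have hZD : Z ≤ D := by
      have h1 : D ⊓ Z ≠ ⊥ := CfsgLib.Solvable.normal_inf_center_ne_bot D hD1
      have h2 : D ⊓ Z = Z := by
        refine eq_of_le_of_card_ge inf_le_right ?_
        rcases (Nat.dvd_prime hp.out).1 (hi ▸ card_dvd_of_le (inf_le_right : D ⊓ Z ≤ Z)) with h | h
        · exact absurd (Subgroup.card_eq_one.1 h) h1
        · rw [h, hi]
      exact inf_eq_right.1 h2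
    have hDc : Nat.card D = p ^ 2 := by
      obtain ⟨k, hk⟩ := IsPGroup.iff_card.1 (hPp.to_subgroup D)
      have h1 : Nat.card Z < Nat.card D := lt_of_le_of_ne (card_le_of_le hZD) fun e =>
        hDZ (eq_of_le_of_card_ge hZD e.ge).ge
      rw [hi, hk] at h1
      have hk2 : 2 ≤ k := by
        by_contra hlt
        have : p ^ k ≤ p ^ 1 := Nat.pow_le_pow_right hp.out.pos (by omega)
        rw [pow_one] at this
        omega
      rcases (show k = 2 ∨ 3 ≤ k by omega) with rfl | hk3
      · exact hk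
      exfalso
      -- `P / P'` is not cyclic
      have h2 := card_eq_card_quotient_mul_card_subgroup D
      obtain ⟨l, hl⟩ := IsPGroup.iff_card.1 (hPp.to_quotient D)
      rw [hcard, hl, hk, ← pow_add] at h2
      have h3 := Nat.pow_right_injective hp.out.two_le h2
      have hcyc : IsCyclic (P ⧸ D) := by
        rcases (show l = 0 ∨ l = 1 by omega) with rfl | rfl
        · haveI : Subsingleton (P ⧸ D) := Finite.card_le_one_iff_subsingleton.1 (by rw [hl, pow_zero])
          exact isCyclic_of_subsingleton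
        · exact isCyclic_of_prime_card (p := p) (by rw [hl, pow_one])
      obtain ⟨g, hg⟩ := hcyc.exists_generator
      obtain ⟨g0, rfl⟩ := QuotientGroup.mk'_surjective D g
      have hfr : D ≤ frattini P := CfsgLib.Transfer.commutator_le_frattini_pgroup hPp
      have htop : zpowers g0 ⊔ frattini P = ⊤ := by
        refine eq_top_iff.2 fun y _ => ?_
        obtain ⟨n, hn⟩ := mem_zpowers_iff.1 (hg (QuotientGroup.mk' D y))
        rw [← map_zpow] at hn
        have h4 : (g0 ^ n)⁻¹ * y ∈ D := (QuotientGroup.eq).1 hn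
        rw [show y = g0 ^ n * ((g0 ^ n)⁻¹ * y) from (mul_inv_cancel_left _ _).symm]
        exact mul_mem (mem_sup_left (zpow_mem (mem_zpowers g0) n)) (mem_sup_right (hfr h4))
      have h5 := frattini_nongenerating htop
      haveI : IsCyclic P := ⟨g0, fun y => h5.ge (mem_top y)⟩
      exact hab0 ((IsCyclic.commGroup (α := P)).mul_comm a0 b0)
    obtain ⟨t, htD, htZ⟩ : ∃ t ∈ D, t ∉ Z := by
      by_contra h
      push Not at h
      exact hDZ h
    have hDgen : Z ⊔ zpowers t = D := by
      refine eq_of_le_of_card_ge (sup_le hZD (zpowers_le.2 htD)) ?_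
      have := card_lt_of_not_mem (p := p) (le_sup_left : Z ≤ Z ⊔ zpowers t) (mem_sup_right (mem_zpowers t)) htZ hPp
      rw [hi, ← sq] at this
      rw [hDc]; exact this
    have hct : ∀ g : P, ⁅g, t⁆ ∈ Z := by
      intro g
      haveI : (D.map (QuotientGroup.mk' Z)).Normal :=
        (inferInstance : D.Normal).map _ (QuotientGroup.mk'_surjective Z)
      have hc : Nat.card (D.map (QuotientGroup.mk' Z)) = p := by
        have h1 := relIndex_ker (K := D) (QuotientGroup.mk' Z)
        rw [QuotientGroup.ker_mk'] at h1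
        have h2 := relIndex_mul_relIndex ⊥ Z D bot_le hZD
        rw [relIndex_bot_left, relIndex_bot_left, hi, hDc, h1, sq] at h2
        exact Nat.eq_of_mul_eq_mul_left hp.out.pos h2
      have h1 := mem_center_iff.1 (le_center_of_card_prime (hPp.to_quotient Z) _ hc (mem_map_of_mem _ htD))
        (QuotientGroup.mk' Z g)
      refine (QuotientGroup.eq_one_iff _).1 ?_
      show QuotientGroup.mk' Z ⁅g, t⁆ = 1
      rw [map_commutatorElement, commutatorElement_eq_one_iff_mul_comm]
      exact h1
    let f : P →* P := MonoidHom.mk' (fun g => ⁅g, t⁆) fun g g' => by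
      have h1 := mem_center_iff.1 (hct g') g
      have h2 := mem_center_iff.1 (hct g') ⁅g, t⁆
      calc ⁅g * g', t⁆ = g * ⁅g', t⁆ * g⁻¹ * ⁅g, t⁆ := by simp only [commutatorElement_def]; group
        _ = ⁅g, t⁆ * ⁅g', t⁆ := by rw [h1, mul_inv_cancel_right, ← h2]
    set C := centralizer (D : Set P) with hC
    have hker : f.ker = C := by
      ext g
      rw [MonoidHom.mem_ker, hC, mem_centralizer_iff]
      constructor
      · intro hg y hy
        have hle : Z ⊔ zpowers t ≤ centralizer ({g} : Set P) := sup_le (center_le_centralizer _)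
          (zpowers_le.2 (mem_centralizer_singleton_iff.2 (commutatorElement_eq_one_iff_mul_comm.1 hg).symm))
        exact mem_centralizer_singleton_iff.1 (hle (hDgen.ge hy))
      · exact fun hg => commutatorElement_eq_one_iff_mul_comm.2 (hg t htD).symm
    have hrange : f.range = Z := by
      refine eq_of_le_of_card_ge (fun _ ⟨g, hg⟩ => hg ▸ hct g) ?_
      rcases (Nat.dvd_prime hp.out).1 (hi ▸ card_dvd_of_le (show f.range ≤ Z from fun _ ⟨g, hg⟩ => hg ▸ hct g)) with h | h
      · refine absurd (mem_center_iff.2 fun g => ?_) htZ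
        have : f g ∈ f.range := ⟨g, rfl⟩
        rw [Subgroup.card_eq_one.1 h, mem_bot] at this
        exact commutatorElement_eq_one_iff_mul_comm.1 this
      · rw [h, hi]
    have hCc : Nat.card C = p ^ 3 := by
      have h1 := card_mul_index f.ker
      rw [index_ker, hrange, hi, hker, hcard, pow_succ] at h1
      exact Nat.eq_of_mul_eq_mul_right hp.out.pos h1
    have hDC : D ≤ C := by
      rw [← hker]
      intro y hy
      rw [← hDgen] at hy
      obtain ⟨z, hz, _, ⟨n, rfl⟩, rfl⟩ := mem_sup_of_normal_left.1 hy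
      exact mul_mem (MonoidHom.mem_ker.2 (commutatorElement_eq_one_iff_mul_comm.2 (mem_center_iff.1 hz t).symm))
        (zpow_mem (MonoidHom.mem_ker.2 (commutatorElement_self t)) n)
    haveI : C.Characteristic := inferInstance
    exact hflag Z D C hZD hDC hi hDc hCc fun α =>
      ⟨hcharC Z α, hcharC D α, hcharC C α⟩
  subst h
  -- the centre has order `p ^ 2`
  have hQc : Nat.card (P ⧸ Z) = p ^ 2 := by rw [hj, show j = 2 by omega]
  have hQab := (IsPGroup.isMulCommutative_of_card_eq_prime_sq hQc).is_comm.comm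
  have hcom : ∀ x y : P, ⁅x, y⁆ ∈ Z := fun x y => (QuotientGroup.eq_one_iff _).1 (by
    show QuotientGroup.mk' Z ⁅x, y⁆ = 1
    rw [map_commutatorElement, commutatorElement_eq_one_iff_mul_comm]; exact hQab _ _)
  have hpow : ∀ x : P, x ^ p ∈ Z := fun x => (QuotientGroup.eq_one_iff _).1 (by
    show QuotientGroup.mk' Z (x ^ p) = 1
    rw [map_pow]
    by_contra hx
    refine hquot (isCyclic_of_orderOf_eq_card (QuotientGroup.mk' Z x) ?_)
    obtain ⟨k, hk, he⟩ := (Nat.dvd_prime_pow hp.out).1 (hQc ▸ orderOf_dvd_natCard (QuotientGroup.mk' Z x))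
    have : k = 2 := by
      by_contra h2
      exact hx (orderOf_dvd_iff_pow_eq_one.1 (he ▸ (pow_dvd_pow p (show k ≤ 1 by omega)).trans (pow_one p).dvd))
    rw [he, this, hQc])
  have hDZ : D ≤ Z := by
    rw [hDdef, _root_.commutator_def, commutator_le]; exact fun x _ y _ => hcom x y
  have hcentral : ∀ u w g : P, Commute ⁅u, w⁆ g := fun u w g => (mem_center_iff.1 (hcom u w) g).symm
  have hcomp : ∀ u w : P, ⁅u, w⁆ ^ p = 1 := by
    intro u w
    let f : P →* P := MonoidHom.mk' (fun g => ⁅g, w⁆) fun g g' => by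
      calc ⁅g * g', w⁆ = g * ⁅g', w⁆ * g⁻¹ * ⁅g, w⁆ := by simp only [commutatorElement_def]; group
        _ = ⁅g, w⁆ * ⁅g', w⁆ := by
          rw [← (hcentral g' w g).eq, mul_inv_cancel_right, (hcentral g' w ⁅g, w⁆).eq]
    have h1 : f (u ^ p) = 1 := commutatorElement_eq_one_iff_mul_comm.2 (mem_center_iff.1 (hpow u) w).symm
    rwa [map_pow] at h1
  -- the derived subgroup has order `p`
  obtain ⟨c, hcD, hc⟩ : ∃ c, c ∈ D ∧ D = zpowers c ∧ c ^ p = 1 := by
    obtain ⟨x, hx⟩ : ∃ x, x ∉ Z := ⟨b0, fun h => hab0 (mem_center_iff.1 h a0)⟩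
    obtain ⟨y, hy⟩ : ∃ y, y ∉ Z ⊔ zpowers x := by
      by_contra h
      push Not at h
      refine hx (mem_center_iff.2 fun g => ?_)
      have hle : Z ⊔ zpowers x ≤ centralizer ({x} : Set P) := sup_le (center_le_centralizer _)
        (zpowers_le.2 (mem_centralizer_singleton_iff.2 rfl))
      exact mem_centralizer_singleton_iff.1 (hle (h g))
    have hgen : Z ⊔ zpowers x ⊔ zpowers y = ⊤ := by
      refine eq_top_of_le_card _ ?_
      have h1 := card_lt_of_not_mem (p := p) (le_sup_left : Z ≤ Z ⊔ zpowers x) (mem_sup_right (mem_zpowers x)) hx hPp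
      have h2 := card_lt_of_not_mem (p := p) (le_sup_left : Z ⊔ zpowers x ≤ Z ⊔ zpowers x ⊔ zpowers y)
        (mem_sup_right (mem_zpowers y)) hy hPp
      rw [hi] at h1
      calc Nat.card P = p ^ 2 * p * p := by rw [hcard]; ring
        _ ≤ _ := (Nat.mul_le_mul_right p h1).trans h2
    have hcc : ⁅x, y⁆ ∈ D := commutator_mem_commutator (mem_top x) (mem_top y)
    refine ⟨⁅x, y⁆, hcc, le_antisymm ?_ (zpowers_le.2 hcc), hcomp x y⟩
    haveI hn : (zpowers ⁅x, y⁆).Normal := ⟨fun m hm g => by
      obtain ⟨k, rfl⟩ := mem_zpowers_iff.1 hm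
      rw [← ((hcentral x y g).zpow_left k).eq, mul_inv_cancel_right]
      exact zpow_mem (mem_zpowers _) k⟩
    let π := QuotientGroup.mk' (zpowers ⁅x, y⁆)
    have hxy : Commute (π x) (π y) := by
      rw [commute_iff_eq, ← commutatorElement_eq_one_iff_mul_comm, ← map_commutatorElement]
      exact (QuotientGroup.eq_one_iff _).2 (mem_zpowers _)
    have hcomm : ∀ g : P, Commute (π g) (π x) ∧ Commute (π g) (π y) := by
      intro g
      have hle : Z ⊔ zpowers x ⊔ zpowers y ≤
          (centralizer ({π x} : Set _)).comap π ⊓ (centralizer ({π y} : Set _)).comap π := by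
        refine sup_le (sup_le (fun z hz => ?_) (zpowers_le.2 ?_)) (zpowers_le.2 ?_)
        · refine mem_inf.2 ⟨mem_comap.2 (mem_centralizer_singleton_iff.2 ?_),
            mem_comap.2 (mem_centralizer_singleton_iff.2 ?_)⟩
          · rw [← map_mul, ← map_mul, mem_center_iff.1 hz x]
          · rw [← map_mul, ← map_mul, mem_center_iff.1 hz y]
        · exact mem_inf.2 ⟨mem_comap.2 (mem_centralizer_singleton_iff.2 rfl),
            mem_comap.2 (mem_centralizer_singleton_iff.2 hxy.eq)⟩
        · exact mem_inf.2 ⟨mem_comap.2 (mem_centralizer_singleton_iff.2 hxy.symm.eq),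
            mem_comap.2 (mem_centralizer_singleton_iff.2 rfl)⟩
      obtain ⟨h1, h2⟩ := hle (hgen.ge (mem_top g))
      exact ⟨mem_centralizer_singleton_iff.1 h1, mem_centralizer_singleton_iff.1 h2⟩
    rw [hDdef, _root_.commutator_def, commutator_le]
    intro g _ g' _
    refine (QuotientGroup.eq_one_iff _).1 ?_
    show π ⁅g, g'⁆ = 1
    rw [map_commutatorElement, commutatorElement_eq_one_iff_mul_comm]
    have hle : Z ⊔ zpowers x ⊔ zpowers y ≤ (centralizer ({π g'} : Set _)).comap π := by
      refine sup_le (sup_le (fun z hz => ?_) (zpowers_le.2 ?_)) (zpowers_le.2 ?_) <;>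
        simp only [mem_comap, mem_centralizer_singleton_iff]
      · rw [← map_mul, ← map_mul, mem_center_iff.1 hz g']
      · exact (hcomm g').1.symm.eq
      · exact (hcomm g').2.symm.eq
    exact mem_centralizer_singleton_iff.1 (hle (hgen.ge (mem_top g)))
  obtain ⟨hDc', hcp⟩ := hc
  have hc1 : c ≠ 1 := fun h => hD1 (by rw [hDc', h, zpowers_one_eq_bot])
  have hDcard : Nat.card D = p := by rw [hDc', Nat.card_zpowers, orderOf_eq_prime hcp hc1]
  -- the elements with `p`-th power in `P'`
  let π := QuotientGroup.mk' D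
  let g : P →* P ⧸ D := MonoidHom.mk' (fun w => π (w ^ p)) fun u w => by
    have h1 : Commute (π u) (π w) := by
      rw [commute_iff_eq, ← commutatorElement_eq_one_iff_mul_comm, ← map_commutatorElement]
      exact (QuotientGroup.eq_one_iff _).2 (commutator_mem_commutator (mem_top u) (mem_top w))
    rw [map_pow, map_pow, map_pow, map_mul, h1.mul_pow]
  set U := g.ker with hU
  have hUmem : ∀ w, w ∈ U ↔ w ^ p ∈ D := fun w => MonoidHom.mem_ker.trans (QuotientGroup.eq_one_iff _)
  have hUchar : ∀ α : MulAut P, ∀ x ∈ U, α x ∈ U := fun α x hx => by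
    rw [hUmem] at hx ⊢; rw [← map_pow]; exact hcharC D α _ hx
  have hUcase : U ≠ ⊤ → Z ≤ U → False := by
    intro hUt hZU
    have hrange : g.range ≤ Z.map π := fun _ ⟨w, hw⟩ => hw ▸ mem_map_of_mem π (hpow w)
    have hZm : Nat.card (Z.map π) = p := by
      have h1 := relIndex_ker (K := Z) π
      rw [QuotientGroup.ker_mk'] at h1
      have h2 := relIndex_mul_relIndex ⊥ D Z bot_le hDZ
      rw [relIndex_bot_left, relIndex_bot_left, hDcard, hi, h1, sq] at h2
      exact Nat.eq_of_mul_eq_mul_left hp.out.pos h2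
    have hgr : Nat.card g.range = p := by
      rcases (Nat.dvd_prime hp.out).1 (hZm ▸ card_dvd_of_le hrange) with h | h
      · refine absurd (eq_top_iff.2 fun w _ => MonoidHom.mem_ker.2 ?_) hUt
        have : g w ∈ g.range := ⟨w, rfl⟩
        rw [Subgroup.card_eq_one.1 h, mem_bot] at this
        exact this
      · exact h
    have hUc : Nat.card U = p ^ 3 := by
      have h1 := card_mul_index g.ker
      rw [index_ker, hgr, hcard, pow_succ] at h1
      exact Nat.eq_of_mul_eq_mul_right hp.out.pos h1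
    exact hflag D Z U hDZ hZU hDcard hi hUc fun α => ⟨hcharC D α, hcharC Z α, hUchar α⟩
  by_cases hZcyc : IsCyclic Z
  · refine Or.inr (Or.inr ⟨hnab, fun x hx => ?_, hZcyc, hi⟩)
    have hZU : Z ≤ U := by
      intro z hz
      rw [hUmem]
      letI : CommGroup Z := IsCyclic.commGroup
      have hle : D.subgroupOf Z = (powMonoidHom p : Z →* Z).ker := by
        refine eq_of_le_of_card_ge (fun y hy => ?_) ?_
        · rw [MonoidHom.mem_ker, powMonoidHom_apply]
          obtain ⟨k, hk⟩ := mem_zpowers_iff.1 (hDc'.le (mem_subgroupOf.1 hy))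
          refine Subtype.ext ?_
          show (y : P) ^ p = 1
          rw [← hk, ← zpow_natCast, ← zpow_mul, mul_comm, zpow_mul, zpow_natCast, hcp, one_zpow]
        · rw [IsCyclic.card_powMonoidHom_ker, Nat.card_congr (subgroupOfEquivOfLe hDZ).toEquiv, hDcard]
          exact Nat.le_of_dvd hp.out.pos (Nat.gcd_dvd_right _ _)
      have hmem : (⟨z, hz⟩ : Z) ^ p ∈ (powMonoidHom p : Z →* Z).ker := by
        rw [MonoidHom.mem_ker, powMonoidHom_apply, ← pow_mul, ← sq, ← hi]
        exact pow_card_eq_one'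
      rw [← hle] at hmem
      exact mem_subgroupOf.1 hmem
    have hUtop : U = ⊤ := by_contra fun h => hUcase h hZU
    obtain ⟨k, hk⟩ := mem_zpowers_iff.1 (hDc'.le ((hUmem _).1 (hUtop.ge (mem_top (⟨x, hx⟩ : P)))))
    have : (⟨x, hx⟩ : P) ^ p ^ 2 = 1 := by
      rw [sq, pow_mul, ← hk, ← zpow_natCast, ← zpow_mul, mul_comm, zpow_mul, zpow_natCast, hcp, one_zpow]
    simpa using congrArg Subtype.val this
  -- the centre is elementary
  have hZexp : ∀ z ∈ Z, z ^ p = 1 := by
    intro z hz
    by_contra hzp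
    refine hZcyc (isCyclic_of_orderOf_eq_card (⟨z, hz⟩ : Z) ?_)
    obtain ⟨k, hk, he⟩ := (Nat.dvd_prime_pow hp.out).1 (hi ▸ orderOf_dvd_natCard (⟨z, hz⟩ : Z))
    have : k = 2 := by
      by_contra h2
      have h5 : (⟨z, hz⟩ : Z) ^ p = 1 := orderOf_dvd_iff_pow_eq_one.1
        (he ▸ (pow_dvd_pow p (show k ≤ 1 by omega)).trans (pow_one p).dvd)
      exact hzp (by simpa using congrArg Subtype.val h5)
    rw [he, this, hi]
  have hZU : Z ≤ U := fun z hz => by rw [hUmem, hZexp z hz]; exact one_mem _
  have hUtop : U = ⊤ := by_contra fun h => hUcase h hZU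
  have hpD : ∀ w : P, w ^ p ∈ D := fun w => (hUmem w).1 (hUtop.ge (mem_top w))
  -- a complement to a central subgroup
  obtain ⟨z, hzZ, hzD⟩ : ∃ z ∈ Z, z ∉ D := by
    by_contra h
    push Not at h
    have h1 := card_le_of_le (show Z ≤ D from h)
    rw [hi, hDcard] at h1
    nlinarith [hp.out.two_le]
  have hfr : frattini P ≤ D := CfsgLib.Transfer.frattini_le_of_elementary_quotient (p := p) D
    (fun u w => commutator_mem_commutator (mem_top u) (mem_top w)) hpD
  obtain ⟨M, hM, hzM⟩ : ∃ M : Subgroup P, IsCoatom M ∧ z ∉ M := by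
    by_contra h
    push Not at h
    exact hzD (hfr (by
      show z ∈ frattini P
      exact (Subgroup.mem_iInf).2 fun M => (Subgroup.mem_iInf).2 fun hM => h M hM))
  have hMi := CfsgLib.ClassK.SubCount.index_of_isCoatom hPp hM
  have hMc : Nat.card M = p ^ 3 := by
    have h1 := card_mul_index M
    rw [hMi, hcard, pow_succ] at h1
    exact Nat.eq_of_mul_eq_mul_right hp.out.pos h1
  haveI : NeZero p := ⟨hp.out.ne_zero⟩
  have hzp := hZexp z hzZ
  let φ : M × Multiplicative (ZMod p) →* P := MonoidHom.mk' (fun w => (w.1 : P) * z ^ w.2.toAdd.val) fun w w' => by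
    have hzv : z ^ (w.2.toAdd + w'.2.toAdd).val = z ^ w.2.toAdd.val * z ^ w'.2.toAdd.val := by
      rw [← pow_add, pow_eq_pow_iff_modEq, ZMod.val_add]
      exact (Nat.mod_modEq _ _).of_dvd (orderOf_dvd_of_pow_eq_one hzp)
    show ((w.1 * w'.1 : M) : P) * z ^ (w.2 * w'.2).toAdd.val = _
    rw [toAdd_mul, hzv, Subgroup.coe_mul]
    have hc : Commute (w'.1 : P) (z ^ w.2.toAdd.val) :=
      Commute.pow_right (mem_center_iff.1 hzZ (w'.1 : P) : Commute (w'.1 : P) z) _
    calc (w.1 : P) * w'.1 * (z ^ w.2.toAdd.val * z ^ w'.2.toAdd.val)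
          = w.1 * ((w'.1 : P) * z ^ w.2.toAdd.val) * z ^ w'.2.toAdd.val := by simp only [mul_assoc]
      _ = _ := by rw [hc.eq]; simp only [mul_assoc]
  have hφbij : Function.Bijective φ := by
    rw [Nat.bijective_iff_injective_and_card]
    refine ⟨(injective_iff_map_eq_one φ).2 fun w hw => ?_, ?_⟩
    · change (w.1 : P) * z ^ w.2.toAdd.val = 1 at hw
      have hzv : z ^ w.2.toAdd.val ∈ M := by rw [eq_inv_of_mul_eq_one_right hw]; exact inv_mem w.1.2
      have hv0 : w.2.toAdd.val = 0 := by
        by_contra hv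
        refine hzM ?_
        have hcop : Nat.Coprime (orderOf z) w.2.toAdd.val := by
          rw [orderOf_eq_prime hzp (fun h => hzD (h ▸ one_mem D))]
          exact hp.out.coprime_iff_not_dvd.2 fun h => hv (Nat.eq_zero_of_dvd_of_lt h (ZMod.val_lt _))
        obtain ⟨m, hm⟩ := exists_pow_eq_self_of_coprime hcop.symm
        rw [← hm]
        exact pow_mem hzv m
      rw [hv0, pow_zero, mul_one] at hw
      exact Prod.ext (Subtype.ext hw) (Multiplicative.toAdd.injective ((ZMod.val_eq_zero _).1 hv0))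
    · rw [Nat.card_prod, hMc, hcard]
      show p ^ 3 * Nat.card (ZMod p) = p ^ 4
      rw [Nat.card_zmod, ← pow_succ]
  let e := (MulEquiv.ofBijective φ hφbij).symm
  obtain ⟨u0, v0, huv0⟩ : ∃ u v : M, u * v ≠ v * u := by
    by_contra h
    push Not at h
    refine hab0 ?_
    apply e.injective
    rw [map_mul, map_mul]
    exact Prod.ext (h _ _) (mul_comm _ _)
  by_cases h2 : p = 2
  · subst h2
    refine Or.inr (Or.inl ⟨rfl, ?_⟩)
    rcases two_cube hMc huv0 with hq | ⟨x, hx2, hx⟩
    · obtain ⟨e'⟩ := hq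
      exact ⟨e.trans (MulEquiv.prodCongr e' (MulEquiv.refl _))⟩
    exfalso
    set W := Z ⊔ zpowers (x : P) with hW
    have hWmem : ∀ w : P, w ^ 2 ≠ 1 → w ∈ W := by
      intro w hw
      obtain ⟨⟨m, t⟩, rfl⟩ := hφbij.2 w
      have hzt : z ^ t.toAdd.val ∈ Z := pow_mem hzZ _
      have hm2 : m ^ 2 ≠ 1 := fun h => hw (by
        show ((m : P) * z ^ t.toAdd.val) ^ 2 = 1
        rw [(show Commute (m : P) (z ^ t.toAdd.val) from mem_center_iff.1 hzt m).mul_pow, hZexp _ hzt,
          mul_one, ← Subgroup.coe_pow, h]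
        rfl)
      obtain ⟨k, hk⟩ := mem_zpowers_iff.1 (hx m hm2)
      refine mul_mem (mem_sup_right ⟨k, ?_⟩) (mem_sup_left hzt)
      rw [← hk]
      show (x : P) ^ k = _
      rw [Subgroup.coe_zpow]
    have hx2' : (x : P) ^ 2 ≠ 1 := fun h => hx2 (Subtype.ext (by rw [Subgroup.coe_pow, h]; rfl))
    have hWchar : ∀ α : MulAut P, ∀ w ∈ W, α w ∈ W := by
      intro α
      have h1 : W ≤ W.comap α.toMonoidHom :=
        sup_le (fun y hy => mem_sup_left (hcharC Z α y hy)) (zpowers_le.2 (hWmem _ (by
          show (α (x : P)) ^ 2 ≠ 1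
          rw [← map_pow]
          exact fun h => hx2' ((MulEquiv.map_eq_one_iff α).1 h))))
      exact fun w hw => h1 hw
    have hxZ : (x : P) ∉ Z := fun h => hx2' (hZexp _ h)
    have hWc : Nat.card W = 2 ^ 3 := by
      have h1 := card_lt_of_not_mem (p := 2) (le_sup_left : Z ≤ W) (mem_sup_right (mem_zpowers (x : P))) hxZ hPp
      have h2 := CfsgLib.Comp.card_sup_dvd_mul (H := Z) (K := zpowers (x : P))
        (le_trans le_top (normalizer_eq_top_iff.2 (inferInstance : Z.Normal)).ge)
      obtain ⟨k, hk⟩ := IsPGroup.iff_card.1 (hPp.to_subgroup W)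
      rw [hi, hk] at h1
      have hk3 : 3 ≤ k := by rw [← pow_succ] at h1; exact (Nat.pow_le_pow_iff_right (by norm_num)).1 h1
      have hk4 : k ≤ 4 := (Nat.pow_le_pow_iff_right (by norm_num : 1 < 2)).1
        (hk ▸ hcard ▸ Nat.le_of_dvd Nat.card_pos (card_subgroup_dvd_card _))
      rcases (show k = 3 ∨ k = 4 by omega) with rfl | rfl
      · exact hk
      · exfalso
        have htop : W = ⊤ := eq_top_of_card_eq _ (by rw [hk, hcard])
        have hle : W ≤ centralizer ({(x : P)} : Set P) := sup_le (center_le_centralizer _)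
          (zpowers_le.2 (mem_centralizer_singleton_iff.2 rfl))
        exact hxZ (mem_center_iff.2 fun y => mem_centralizer_singleton_iff.1 (hle (htop.ge (mem_top y))))
    exact hflag D Z W hDZ le_sup_left hDcard hi hWc fun α => ⟨hcharC D α, hcharC Z α, hWchar α⟩
  · refine Or.inl ⟨hp.out.odd_of_ne_two h2, ?_⟩
    let f : P →* P := MonoidHom.mk' (fun w => w ^ p) fun u w => by
      rw [CfsgLib.PGroup.mul_pow_of_central_comm u w (hcentral w u)]
      obtain ⟨k, hk⟩ : p ∣ p.choose 2 := hp.out.dvd_choose_self (by norm_num) (by have := hp.out.two_le; omega)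
      rw [hk, pow_mul, hcomp, one_pow, mul_one]
    have hexp : ∀ w : P, w ^ p = 1 := by
      by_contra hcon
      push Not at hcon
      obtain ⟨w, hw⟩ := hcon
      have hfr' : f.range ≤ D := fun _ ⟨y, hy⟩ => hy ▸ hpD y
      have hfc : Nat.card f.range = p := by
        rcases (Nat.dvd_prime hp.out).1 (hDcard ▸ card_dvd_of_le hfr') with h | h
        · refine absurd ?_ hw
          have : f w ∈ f.range := ⟨w, rfl⟩
          rw [Subgroup.card_eq_one.1 h, mem_bot] at this
          exact this
        · exact h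
      have hkc : Nat.card f.ker = p ^ 3 := by
        have h1 := card_mul_index f.ker
        rw [index_ker, hfc, hcard, pow_succ] at h1
        exact Nat.eq_of_mul_eq_mul_right hp.out.pos h1
      exact hflag D Z f.ker hDZ (fun y hy => MonoidHom.mem_ker.2 (hZexp y hy)) hDcard hi hkc fun α =>
        ⟨hcharC D α, hcharC Z α, fun y hy => MonoidHom.mem_ker.2 (by
          show (α y) ^ p = 1
          rw [← map_pow, show y ^ p = 1 from hy, map_one])⟩
    have hMexp : ∀ w : M, w ^ p = 1 := fun w => Subtype.ext (by rw [Subgroup.coe_pow, hexp]; rfl)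
    -- move to a small universe
    obtain ⟨n, ⟨eq⟩⟩ := Finite.exists_equiv_fin M
    let eq' : M ≃ SmallCopy n := eq
    letI : Group (SmallCopy n) := eq'.symm.group
    haveI : Finite (SmallCopy n) := Finite.of_equiv _ eq'
    let eE : M ≃* SmallCopy n := (Equiv.mulEquiv eq'.symm).symm
    have hEc : Nat.card (SmallCopy n) = p ^ 3 := by rw [← Nat.card_congr eq', hMc]
    refine ⟨SmallCopy n, inferInstance, inferInstance,
      extraspecial_cube hEc (a0 := eE u0) (b0 := eE v0) ?_, hEc, fun w => ?_,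
      ⟨e.trans (MulEquiv.prodCongr eE (MulEquiv.refl _))⟩⟩
    · rw [← map_mul, ← map_mul]; exact fun h => huv0 (eE.injective h)
    · obtain ⟨w', rfl⟩ := eE.surjective w
      rw [← map_pow, hMexp, map_one]

end CfsgLib.Invol.EssentialFour
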