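import Cfsg.Agent.Lib.Invol.IndexPSetting
import Cfsg.Agent.Lib.Invol.EssentialFour
import Cfsg.Agent.Lib.Fusion.NormalCriteria

/-!
# Essential subgroups over a unique abelian subgroup of index `p`
-/

set_option autoImplicit false

namespace CfsgLib.Invol.IndexP

open Subgroup CfsgLib.Fusion
open scoped commutatorElement
open Cfsg.FusionSystem (normalizerIn centralizerIn)

variable {Ω : Type*} [Group Ω] {S A P : Subgroup Ω} {p : ℕ} [hp : Fact p.Prime] [Finite S]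
  {F : Cfsg.FusionSystem S} {x a : Ω}

omit hp [Finite S] in
theorem Zc_le_essential (hP : F.IsEssential p P) : Zc S ≤ P := fun _ hz =>
  hP.1.2 P (isConj_refl hP.1.1) ⟨hz.1, fun y hy => hz.2 y (hP.1.1 hy)⟩

omit hp [Finite S] in
theorem mem_normalizer_of_comm [Finite P] (hPS : P ≤ S) (hA : Base p S A) (ha : a ∈ A)
    (hgen : ∀ y ∈ P, ∃ b ∈ A ⊓ P, ∃ i : ℤ, b * x ^ i = y) (hx : x ∈ P) (hax : ⁅a, x⁆ ∈ P) :
    a ∈ normalizer (P : Set Ω) := by
  haveI : Finite (P : Set Ω) := inferInstanceAs (Finite P)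
  refine mem_normalizer_fintype fun y hy => ?_
  obtain ⟨b, hb, i, rfl⟩ := hgen y hy
  have h1 : a * (b * x ^ i) * a⁻¹ = b * (a * x * a⁻¹) ^ i := by
    calc a * (b * x ^ i) * a⁻¹ = (a * b) * x ^ i * a⁻¹ := by simp only [mul_assoc]
      _ = b * (a * x ^ i * a⁻¹) := by rw [(hA.commute ha hb.1).eq]; simp only [mul_assoc]
      _ = _ := by rw [conj_zpow]
  show a * (b * x ^ i) * a⁻¹ ∈ P
  rw [h1]
  refine mul_mem hb.2 (zpow_mem ?_ i)
  rw [show a * x * a⁻¹ = ⁅a, x⁆ * x by rw [commutatorElement_def]; group]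
  exact mul_mem hax hx

namespace Base

theorem le_A_imp_eq (h : Base p S A) (hP : F.IsEssential p P) (hle : P ≤ A) : P = A :=
  le_antisymm hle fun _ ha => hP.1.2 P (isConj_refl hP.1.1)
    ⟨h.le ha, fun _ hy => (h.commute (hle hy) ha).eq⟩

theorem exists_outside (h : Base p S A) (hP : F.IsEssential p P) (hPA : P ≠ A) :
    ∃ x ∈ P, x ∉ A := by
  by_contra hc
  push Not at hc
  exact hPA (h.le_A_imp_eq hP hc)

theorem index_A (h : Base p S A) :
    (A.subgroupOf (normalizerIn S A)).index = p := by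
  have : normalizerIn S A = S := inf_eq_left.2 fun s hs => by
    haveI : Finite (A : Set Ω) := (finite_of_le h.le : Finite A)
    exact mem_normalizer_fintype fun a ha => h.conj_mem hs ha
  rw [this, h.index]

/-- In the abelian case the automorphisms induced by `S` centralise the centre. -/
theorem induced_apply (hPS : P ≤ S) {τ : MulAut P}
    (hτ : τ ∈ Cfsg.autInducedBy S P) :
    (∀ z : P, (z : Ω) ∈ Zc S → τ z = z) ∧ ∀ y : P, ((τ y * y⁻¹ : P) : Ω) ∈ Dc S := by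
  obtain ⟨c, hc, hcx⟩ := mem_autInducedBy_iff.1 hτ
  refine ⟨fun z hz => Subtype.ext ?_, fun y => ?_⟩
  · rw [hcx, (commute_of_mem_Zc hz hc).symm.eq, mul_inv_cancel_right]
  · rw [Subgroup.coe_mul, hcx, Subgroup.coe_inv]
    exact comm_mem_Dc hc (hPS y.2)

end Base

/-- The automorphisms fixing `W` pointwise and trivial modulo `W`. -/
def stab (F : Cfsg.FusionSystem S) (P : Subgroup Ω) (hab : ∀ y z : P, y * z = z * y)
    (W : Subgroup P) : Subgroup (F.autGroup P) where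
  carrier := {α | (∀ w ∈ W, (α : MulAut P) w = w) ∧ ∀ y : P, y⁻¹ * (α : MulAut P) y ∈ W}
  one_mem' := ⟨fun w _ => rfl, fun y => by simp⟩
  mul_mem' := fun {α β} hα hβ => ⟨fun w hw => by
      show (α : MulAut P) ((β : MulAut P) w) = w
      rw [hβ.1 w hw, hα.1 w hw],
    fun y => by
      have h1 := mul_mem (hβ.2 y) (hα.2 ((β : MulAut P) y))
      simpa [MulAut.mul_apply, mul_assoc] using h1⟩
  inv_mem' := fun {α} hα => ⟨fun w hw => by
      conv_lhs => rw [← hα.1 w hw]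
      exact MulAut.inv_apply_self _ _ _,
    fun y => by
      have h1 := inv_mem (hα.2 ((α : MulAut P)⁻¹ y))
      simpa using h1⟩

theorem isPGroup_stab (hP : IsPGroup p P) (hab : ∀ y z : P, y * z = z * y) (W : Subgroup P)
    [Finite P] : IsPGroup p (stab F P hab W) := by
  obtain ⟨e, he⟩ := IsPGroup.iff_card.1 hP
  rintro ⟨α, hα⟩
  refine ⟨e, Subtype.ext (Subtype.ext (MulEquiv.ext fun y => ?_))⟩
  show (((α ^ p ^ e : F.autGroup P) : MulAut P)) y = y
  rw [Subgroup.coe_pow, pow_apply_mul (mul_inv_cancel_left y _).symm (hα.1 _ (hα.2 y)), ← he,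
    pow_card_eq_one', mul_one]

/-- For `W` inside the centre, the stabilizer of `W` consists of induced automorphisms. -/
theorem stab_le_induced (hS : IsPGroup p S) (hF : F.IsSaturated p) (hP : F.IsEssential p P)
    (hab : ∀ y z : P, y * z = z * y) (W : Subgroup P) (hW : W ≤ (Zc S).subgroupOf P) :
    ∀ α ∈ stab F P hab W, (α : MulAut P) ∈ Cfsg.autInducedBy S P := by
  haveI := finite_of_le hP.1.1
  obtain ⟨R, hR⟩ := (fullyAutomized_of_fullyNormalized hS hF hP.2.1).2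
  have hn : (R : Subgroup (F.autGroup P)) ≤ normalizer (stab F P hab W : Set (F.autGroup P)) := by
    intro τ hτ
    rw [hR, mem_subgroupOf] at hτ
    refine mem_normalizer_fintype fun α hα => ?_
    have hfix : ∀ w ∈ W, (τ : MulAut P) w = w := fun w hw =>
      (Base.induced_apply hP.1.1 hτ).1 w (hW hw)
    have hfix' : ∀ w ∈ W, (τ : MulAut P)⁻¹ w = w := fun w hw => by
      conv_lhs => rw [← hfix w hw]
      exact MulAut.inv_apply_self _ _ _
    refine ⟨fun w hw => ?_, fun y => ?_⟩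
    · show (τ : MulAut P) ((α : MulAut P) ((τ : MulAut P)⁻¹ w)) = w
      rw [hfix' w hw, hα.1 w hw, hfix w hw]
    · have h1 := hα.2 ((τ : MulAut P)⁻¹ y)
      show y⁻¹ * (τ : MulAut P) ((α : MulAut P) ((τ : MulAut P)⁻¹ y)) ∈ W
      have h2 := hfix _ h1
      rw [map_mul, map_inv, MulAut.apply_inv_self] at h2
      rw [h2]
      exact h1
  have h1 := R.is_maximal' ((isPGroup_stab (hS.to_le hP.1.1) hab W).to_sup_of_normal_left'
    R.isPGroup' hn) le_sup_right
  intro α hα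
  have h2 : α ∈ (R : Subgroup (F.autGroup P)) := h1.le (mem_sup_left hα)
  rw [hR] at h2
  exact h2

/-- The abelian essential subgroups meeting `A` in the centre. -/
structure AbCase (p : ℕ) (F : Cfsg.FusionSystem S) (A P : Subgroup Ω) (x : Ω) : Prop where
  hA : Base p S A
  hF : F.IsSaturated p
  hP : F.IsEssential p P
  hx : x ∈ P
  hxA : x ∉ A
  hB : A ⊓ P = Zc S

namespace AbCase

variable {g : MulAut P} {τ : MulAut P}

theorem hxS (c : AbCase p F A P x) : x ∈ S := c.hP.1.1 c.hx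

theorem gen (c : AbCase p F A P x) (y : P) : ∃ z ∈ Zc S, ∃ i : ℤ, z * x ^ i = y := by
  obtain ⟨b, hb, i, hbi⟩ := c.hA.decomp c.hxS c.hxA (c.hP.1.1 y.2)
  refine ⟨b, c.hB.le ⟨hb, ?_⟩, i, hbi⟩
  rw [show b = y * x ^ (-i) by rw [← hbi]; group]
  exact mul_mem y.2 (zpow_mem c.hx _)

theorem hab (c : AbCase p F A P x) : ∀ y z : P, y * z = z * y := fun y z => Subtype.ext (by
  obtain ⟨u, hu, i, hui⟩ := c.gen y
  obtain ⟨v, hv, j, hvj⟩ := c.gen z
  rw [Subgroup.coe_mul, Subgroup.coe_mul, ← hui, ← hvj]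
  exact ((Commute.mul_left (commute_of_mem_Zc hu (mul_mem hv.1 (zpow_mem c.hxS j)))
    (Commute.mul_right ((commute_of_mem_Zc hv (zpow_mem c.hxS i)).symm)
      (Commute.zpow_zpow_self x i j)))).eq)

theorem fin (c : AbCase p F A P x) : Finite P := finite_of_le c.hP.1.1

theorem isPGroup (c : AbCase p F A P x) : IsPGroup p P := c.hA.pgroup.to_le c.hP.1.1

theorem index_Z (c : AbCase p F A P x) : ((Zc S).subgroupOf P).index = p := by
  have h1 := c.hA.card_eq_mul_inf c.hP.1.1 c.hx c.hxA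
  rw [c.hB] at h1
  haveI := finite_of_le (inf_le_left : Zc S ≤ S)
  have h2 := card_mul_index ((Zc S).subgroupOf P)
  rw [Nat.card_congr (subgroupOfEquivOfLe (Zc_le_essential c.hP)).toEquiv, h1, mul_comm p] at h2
  exact Nat.eq_of_mul_eq_mul_left Nat.card_pos h2

theorem normal_any (c : AbCase p F A P x) (W : Subgroup P) : W.Normal :=
  ⟨fun w hw y => by rwa [c.hab y w, mul_inv_cancel_right]⟩

theorem inn_one (c : AbCase p F A P x) {α : MulAut P} (h : α ∈ Cfsg.Inn P) : α = 1 :=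
  EssentialSmall.inn_eq_bot_of_comm c.hab h

/-- A fixed point outside the centre forces the identity. -/
theorem induced_eq_one (c : AbCase p F A P x) (hτ : τ ∈ Cfsg.autInducedBy S P) {y : P}
    (hy : y ∉ (Zc S).subgroupOf P) (hfy : τ y = y) : τ = 1 := by
  have hle : (Zc S).subgroupOf P ⊔ zpowers y ≤ τ.toMonoidHom.eqLocus (MonoidHom.id P) :=
    sup_le (fun z hz => (Base.induced_apply c.hP.1.1 hτ).1 z hz) (zpowers_le.2 hfy)
  rw [CfsgLib.Coprime.sup_zpowers_eq_top c.index_Z hy] at hle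
  exact MulEquiv.ext fun w => hle (mem_top w)

theorem exists_induced_ne_one (c : AbCase p F A P x) :
    ∃ τ ∈ Cfsg.autInducedBy S P, τ ≠ 1 := by
  obtain ⟨u, hu, huP⟩ := SetLike.exists_of_lt
    (lt_normalizerIn c.hA.pgroup (lt_of_essential c.hA.pgroup c.hF c.hP))
  refine ⟨P.normalizerMonoidHom ⟨u, hu.2⟩, mem_autInducedBy_iff.2 ⟨u, hu.1, fun w => rfl⟩,
    fun h => huP (mem_of_normalizerMonoidHom_mem_inn c.hP.1 hu (h ▸ one_mem _))⟩

/-- Some automorphism moves the centre. -/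
theorem exists_move (c : AbCase p F A P x) :
    ∃ g ∈ F.autGroup P, ∃ z : P, (z : Ω) ∈ Zc S ∧ (g z : Ω) ∉ Zc S := by
  by_contra hc
  push Not at hc
  haveI := c.fin
  haveI : (stab F P c.hab ((Zc S).subgroupOf P)).Normal := ⟨fun α hα γ => ⟨fun w hw => by
      have h0 : (γ : MulAut P)⁻¹ w ∈ (Zc S).subgroupOf P := hc _ (inv_mem γ.2) w hw
      show (γ : MulAut P) ((α : MulAut P) ((γ : MulAut P)⁻¹ w)) = w
      rw [hα.1 _ h0, MulAut.apply_inv_self],
    fun y => by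
      have h1 : (γ : MulAut P) (((γ : MulAut P)⁻¹ y)⁻¹ * (α : MulAut P) ((γ : MulAut P)⁻¹ y)) ∈
          (Zc S).subgroupOf P :=
        mem_subgroupOf.2 (hc _ γ.2 _ (mem_subgroupOf.1 (hα.2 ((γ : MulAut P)⁻¹ y))))
      rw [map_mul, map_inv, MulAut.apply_inv_self] at h1
      exact h1⟩⟩
  obtain ⟨τ, hτ, hτ1⟩ := c.exists_induced_ne_one
  refine hτ1 (c.inn_one ((EssentialSmall.exists_pElement c.hA.pgroup c.hF c.hP).1
    (stab F P c.hab ((Zc S).subgroupOf P)) inferInstance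
    (isPGroup_stab c.isPGroup c.hab _) ⟨τ, autInducedBy_le_autGroup c.hP.1.1 hτ⟩
    ⟨fun w hw => (Base.induced_apply c.hP.1.1 hτ).1 w hw, fun y => mem_subgroupOf.2 ?_⟩))
  have h1 := (Base.induced_apply c.hP.1.1 hτ).2 y
  show ((y⁻¹ * τ y : P) : Ω) ∈ Zc S
  rw [c.hab y⁻¹ (τ y)]
  exact c.hB.le ⟨c.hA.Dc_le_A h1, (τ y * y⁻¹).2⟩

/-- The part of the centre also lying in its image. -/
abbrev meet (S : Subgroup Ω) (g : MulAut P) : Subgroup P :=
  (Zc S).subgroupOf P ⊓ ((Zc S).subgroupOf P).map g.toMonoidHom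

theorem exists_out (c : AbCase p F A P x) (hg : ∃ z : P, (z : Ω) ∈ Zc S ∧ (g z : Ω) ∉ Zc S) :
    ∃ z : P, (z : Ω) ∈ Zc S ∧ (g⁻¹ z : Ω) ∉ Zc S := by
  by_contra hc
  push Not at hc
  haveI := c.fin
  obtain ⟨z, hz, hgz⟩ := hg
  have hle : ((Zc S).subgroupOf P).map g⁻¹.toMonoidHom = (Zc S).subgroupOf P := by
    refine eq_of_le_of_card_ge ?_ (card_map_of_injective g⁻¹.injective).ge
    rintro _ ⟨w, hw, rfl⟩
    exact hc w hw
  obtain ⟨w, hw, hwz⟩ := hle.ge (show z ∈ (Zc S).subgroupOf P from hz)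
  refine hgz ?_
  rw [← hwz]
  show ((g (g⁻¹ w) : P) : Ω) ∈ Zc S
  rwa [MulAut.apply_inv_self]

/-- Induced automorphisms trivial modulo `meet` are trivial. -/
theorem key (c : AbCase p F A P x) (hgA : g ∈ F.autGroup P)
    (hg : ∃ z : P, (z : Ω) ∈ Zc S ∧ (g z : Ω) ∉ Zc S) (hτ : τ ∈ Cfsg.autInducedBy S P)
    (hτW : ∀ y : P, y⁻¹ * τ y ∈ meet S g) : τ = 1 := by
  let β : F.autGroup P := ⟨g⁻¹ * τ * g,
    mul_mem (mul_mem (inv_mem hgA) (autInducedBy_le_autGroup c.hP.1.1 hτ)) hgA⟩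
  have hβ : β ∈ stab F P c.hab (meet S g⁻¹) := by
    refine ⟨fun w hw => ?_, fun y => ?_⟩
    · show g⁻¹ (τ (g w)) = w
      obtain ⟨v, hv, rfl⟩ := hw.2
      show g⁻¹ (τ (g (g⁻¹ v))) = g⁻¹ v
      rw [MulAut.apply_inv_self, (Base.induced_apply c.hP.1.1 hτ).1 v hv]
    · have h1 := hτW (g y)
      have h2 : g⁻¹ ((g y)⁻¹ * τ (g y)) = y⁻¹ * g⁻¹ (τ (g y)) := by
        rw [map_mul, map_inv, MulAut.inv_apply_self]
      show y⁻¹ * g⁻¹ (τ (g y)) ∈ meet S g⁻¹
      rw [← h2]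
      obtain ⟨hz, v, hv, hvz⟩ := h1
      refine ⟨?_, mem_map_of_mem _ hz⟩
      rw [← hvz]
      show g⁻¹ (g v) ∈ (Zc S).subgroupOf P
      rwa [MulAut.inv_apply_self]
  have h3 := stab_le_induced c.hA.pgroup c.hF c.hP c.hab _ inf_le_left β hβ
  obtain ⟨z, hz, hgz⟩ := hg
  refine c.induced_eq_one hτ (y := g z) (fun h => hgz h) ?_
  have h4 := (Base.induced_apply c.hP.1.1 h3).1 z hz
  show τ (g z) = g z
  conv_rhs => rw [← h4]
  show τ (g z) = g (g⁻¹ (τ (g z)))
  rw [MulAut.apply_inv_self]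

theorem inf_meet (c : AbCase p F A P x) (hgA : g ∈ F.autGroup P)
    (hg : ∃ z : P, (z : Ω) ∈ Zc S ∧ (g z : Ω) ∉ Zc S) {u : P} (huD : (u : Ω) ∈ Dc S)
    (hu : u ∈ meet S g) : u = 1 := by
  haveI := c.fin
  obtain ⟨b, hb, hbu⟩ := c.hA.exists_comm c.hxS c.hxA huD
  have hbN : b ∈ normalizer (P : Set Ω) := by
    refine mem_normalizer_of_comm c.hP.1.1 c.hA hb (fun y hy => ?_) c.hx (hbu ▸ u.2)
    obtain ⟨z, hz, i, hzi⟩ := c.gen ⟨y, hy⟩
    exact ⟨z, c.hB.ge hz, i, hzi⟩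
  set τ := P.normalizerMonoidHom ⟨b, hbN⟩ with hτdef
  have hτ : τ ∈ Cfsg.autInducedBy S P := mem_autInducedBy_iff.2 ⟨b, c.hA.le hb, fun w => rfl⟩
  have hτW : ∀ y : P, y⁻¹ * τ y ∈ meet S g := by
    intro y
    obtain ⟨z, hz, i, hzi⟩ := c.gen y
    have h1 : y⁻¹ * τ y = u ^ i := Subtype.ext (by
      rw [c.hab y⁻¹ (τ y), Subgroup.coe_mul, Subgroup.coe_inv, Subgroup.coe_zpow, ← hbu]
      show b * y * b⁻¹ * (y : Ω)⁻¹ = _
      rw [← commutatorElement_def, ← hzi, ← comm_zpow (commute_of_mem_Zc (hbu ▸ hu.1) c.hxS) i]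
      rw [commutatorElement_def, commutatorElement_def]
      calc b * (z * x ^ i) * b⁻¹ * (z * x ^ i)⁻¹
            = (b * z) * x ^ i * b⁻¹ * (x ^ i)⁻¹ * z⁻¹ := by simp only [mul_inv_rev, mul_assoc]
        _ = z * (b * x ^ i * b⁻¹ * (x ^ i)⁻¹) * z⁻¹ := by
            rw [(commute_of_mem_Zc hz (c.hA.le hb)).symm.eq]; simp only [mul_assoc]
        _ = _ := by
            rw [(commute_of_mem_Zc hz (mul_mem (mul_mem (mul_mem (c.hA.le hb) (zpow_mem c.hxS i))
              (inv_mem (c.hA.le hb))) (inv_mem (zpow_mem c.hxS i)))).eq, mul_inv_cancel_right])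
    rw [h1]
    exact zpow_mem hu i
  have h2 := congrArg (fun σ : MulAut P => ((σ ⟨x, c.hx⟩ : P) : Ω)) (c.key hgA hg hτ hτW)
  refine Subtype.ext ?_
  rw [← hbu]
  exact commutatorElement_eq_one_iff_commute.2 (mul_inv_eq_iff_eq_mul.1 h2)

/-- The part of the centre in the derived subgroup. -/
abbrev ZD (S : Subgroup Ω) (P : Subgroup Ω) : Subgroup P := (Zc S ⊓ Dc S).subgroupOf P

theorem relIndex_meet (c : AbCase p F A P x) (g : MulAut P) :
    (meet S g).relIndex ((Zc S).subgroupOf P) ∣ p := by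
  haveI := c.fin
  haveI := c.normal_any (((Zc S).subgroupOf P).map g.toMonoidHom)
  have h1 := relIndex_dvd_index_of_normal (H := ((Zc S).subgroupOf P).map g.toMonoidHom)
    (K := (Zc S).subgroupOf P)
  rw [← inf_relIndex_left] at h1
  have h2 : (((Zc S).subgroupOf P).map g.toMonoidHom).index = p := by
    have h3 := card_mul_index (((Zc S).subgroupOf P).map g.toMonoidHom)
    rw [card_map_of_injective g.injective, ← card_mul_index ((Zc S).subgroupOf P), c.index_Z] at h3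
    exact Nat.eq_of_mul_eq_mul_left Nat.card_pos h3
  rwa [h2] at h1

theorem card_ZD (c : AbCase p F A P x) : Nat.card (Zc S ⊓ Dc S : Subgroup Ω) = p := by
  haveI := c.fin
  have hle : Zc S ⊓ Dc S ≤ P := inf_le_left.trans (Zc_le_essential c.hP)
  rw [← Nat.card_congr (subgroupOfEquivOfLe hle).toEquiv]
  change Nat.card (ZD S P) = p
  obtain ⟨g, hgA, hg⟩ := c.exists_move
  have hinf : meet S g ⊓ ZD S P = ⊥ :=
    (eq_bot_iff_forall _).2 fun u hu => c.inf_meet hgA hg hu.2.2 hu.1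
  have h1 : Nat.card (ZD S P) = (meet S g).relIndex (ZD S P) := by
    have := relIndex_mul_relIndex ⊥ (meet S g ⊓ ZD S P) (ZD S P) bot_le inf_le_right
    rw [relIndex_bot_left, relIndex_bot_left, inf_relIndex_right, hinf, card_bot, one_mul] at this
    exact this.symm
  have hne0 : (meet S g).relIndex ((Zc S).subgroupOf P) ≠ 0 := fun h => by
    have := c.relIndex_meet g
    rw [h, zero_dvd_iff] at this
    exact hp.out.ne_zero this
  have h2 : Nat.card (ZD S P) ≤ p := h1 ▸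
    (relIndex_le_of_le_right (fun u hu => mem_subgroupOf.2 (mem_inf.1 (mem_subgroupOf.1 hu)).1) hne0).trans
      (Nat.le_of_dvd hp.out.pos (c.relIndex_meet g))
  have h3 : ZD S P ≠ ⊥ := by
    intro hbot
    obtain ⟨τ, hτ, hτ1⟩ := c.exists_induced_ne_one
    refine hτ1 (MulEquiv.ext fun y => ?_)
    have hmem : τ y * y⁻¹ ∈ ZD S P :=
      ⟨c.hB.le ⟨c.hA.Dc_le_A ((Base.induced_apply c.hP.1.1 hτ).2 y), (τ y * y⁻¹).2⟩,
        (Base.induced_apply c.hP.1.1 hτ).2 y⟩
    rw [hbot, mem_bot, mul_inv_eq_one] at hmem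
    exact hmem
  obtain ⟨k, hk⟩ := IsPGroup.iff_card.1 (c.isPGroup.to_subgroup (ZD S P))
  rcases k with _ | k
  · exact absurd (card_eq_one.1 (by simpa using hk)) h3
  · refine le_antisymm h2 ?_
    rw [hk, pow_succ]
    exact Nat.le_mul_of_pos_left _ (pow_pos hp.out.pos k)

/-- The centre splits over `meet`. -/
theorem sup_meet (c : AbCase p F A P x) (hgA : g ∈ F.autGroup P)
    (hg : ∃ z : P, (z : Ω) ∈ Zc S ∧ (g z : Ω) ∉ Zc S) :
    meet S g ⊔ ZD S P = (Zc S).subgroupOf P := by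
  haveI := c.fin
  have hle : meet S g ⊔ ZD S P ≤ (Zc S).subgroupOf P := sup_le inf_le_left fun u hu => hu.1
  refine le_antisymm hle (relIndex_eq_one.1 ?_)
  have h1 := relIndex_mul_relIndex (meet S g) _ _ le_sup_left hle
  rcases (Nat.dvd_prime hp.out).1 ((dvd_mul_right _ _).trans (h1 ▸ c.relIndex_meet g) :
    (meet S g).relIndex (meet S g ⊔ ZD S P) ∣ p) with h | h
  · exfalso
    have hZ : ZD S P ≤ meet S g := le_sup_right.trans (relIndex_eq_one.1 h)
    have : ZD S P = ⊥ :=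
      (eq_bot_iff_forall _).2 fun u hu => c.inf_meet hgA hg hu.2 (hZ hu)
    have hcard := c.card_ZD
    rw [← Nat.card_congr (subgroupOfEquivOfLe
      (inf_le_left.trans (Zc_le_essential c.hP) : Zc S ⊓ Dc S ≤ P)).toEquiv] at hcard
    change Nat.card (ZD S P) = p at hcard
    rw [this, card_bot] at hcard
    exact hp.out.ne_one hcard.symm
  · have h2 := c.relIndex_meet g
    rw [← h1, h] at h2
    have h3 := Nat.le_of_dvd hp.out.pos h2
    have hpos : (meet S g ⊔ ZD S P).relIndex ((Zc S).subgroupOf P) ≠ 0 := fun h0 => by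
      rw [h0, mul_zero, zero_dvd_iff] at h2
      exact hp.out.ne_zero h2
    have h4 : p * (meet S g ⊔ ZD S P).relIndex ((Zc S).subgroupOf P) ≤ p * 1 := by rwa [mul_one]
    have := Nat.le_of_mul_le_mul_left h4 hp.out.pos
    omega

/-- An induced automorphism moving `v` by `u`. -/
theorem exists_shear (c : AbCase p F A P x) {u v : P} (hu : u ∈ ZD S P)
    (hv : v ∉ (Zc S).subgroupOf P) :
    ∃ τ ∈ Cfsg.autInducedBy S P, τ v = v * u := by
  haveI := c.fin
  obtain ⟨τ, hτ, hτ1⟩ := c.exists_induced_ne_one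
  set w := v⁻¹ * τ v with hw
  have hwZ : w ∈ ZD S P := by
    rw [hw, c.hab v⁻¹ (τ v)]
    exact ⟨c.hB.le ⟨c.hA.Dc_le_A ((Base.induced_apply c.hP.1.1 hτ).2 v), (τ v * v⁻¹).2⟩,
      (Base.induced_apply c.hP.1.1 hτ).2 v⟩
  have hw1 : w ≠ 1 := fun h => hτ1 (c.induced_eq_one hτ hv (inv_mul_eq_one.1 h).symm)
  have hc : Nat.card (ZD S P) = p :=
    (Nat.card_congr (subgroupOfEquivOfLe
      (inf_le_left.trans (Zc_le_essential c.hP) : Zc S ⊓ Dc S ≤ P)).toEquiv).trans c.card_ZD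
  have hgen := zpowers_eq_top_of_prime_card (p := p) (G := ZD S P) hc
    (g := ⟨w, hwZ⟩) (fun h => hw1 (congrArg Subtype.val h))
  obtain ⟨m, hm⟩ := (isOfFinOrder_of_finite (⟨w, hwZ⟩ : ZD S P)).mem_powers_iff_mem_zpowers.2
    (hgen.ge (mem_top ⟨u, hu⟩))
  refine ⟨τ ^ m, pow_mem hτ m, ?_⟩
  rw [pow_apply_mul (mul_inv_cancel_left v _).symm
    ((Base.induced_apply c.hP.1.1 hτ).1 w hwZ.1) m]
  exact congrArg (v * ·) (congrArg Subtype.val hm)

/-- An automorphism fixing `meet` and squaring the central commutators. -/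
theorem exists_square (c : AbCase p F A P x) (hp2 : p ≠ 2) (hgA : g ∈ F.autGroup P)
    (hg : ∃ z : P, (z : Ω) ∈ Zc S ∧ (g z : Ω) ∉ Zc S) :
    ∃ h ∈ F.autGroup P, (∀ w ∈ meet S g, h w = w) ∧ ∀ u ∈ ZD S P, h u = u ^ 2 := by
  haveI := c.fin
  have hc : Nat.card (ZD S P) = p :=
    (Nat.card_congr (subgroupOfEquivOfLe
      (inf_le_left.trans (Zc_le_essential c.hP) : Zc S ⊓ Dc S ≤ P)).toEquiv).trans c.card_ZD
  obtain ⟨u, hu, hu1⟩ := (ZD S P).bot_or_exists_ne_one.resolve_left fun h =>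
    hp.out.ne_one (by rw [← hc, h, card_bot])
  have hginv : g⁻¹ ∈ F.autGroup P := inv_mem hgA
  have hout : ∀ g' : MulAut P, g' ∈ F.autGroup P →
      (∃ z : P, (z : Ω) ∈ Zc S ∧ (g' z : Ω) ∉ Zc S) → g' u ∉ (Zc S).subgroupOf P := by
    intro g' hg'A hg' hmem
    refine hu1 (c.inf_meet (inv_mem hg'A) (c.exists_out hg') hu.2 ⟨hu.1, g' u, hmem, ?_⟩)
    exact MulAut.inv_apply_self _ _ _
  set v := g u with hv
  obtain ⟨τ, hτ, hτv⟩ := c.exists_shear hu (hout g hgA hg)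
  obtain ⟨σ, hσ, hσv⟩ := c.exists_shear hu (hout g⁻¹ hginv (c.exists_out hg))
  have hτA := autInducedBy_le_autGroup (F := F) c.hP.1.1 hτ
  have hσA := autInducedBy_le_autGroup (F := F) c.hP.1.1 hσ
  set b := g * σ * g⁻¹ with hb
  have hbu : b u = u * v := by
    show g (σ (g⁻¹ u)) = u * v
    rw [hσv, map_mul, MulAut.apply_inv_self]
  have hbv : b v = v := by
    show g (σ (g⁻¹ (g u))) = g u
    rw [MulAut.inv_apply_self, (Base.induced_apply c.hP.1.1 hσ).1 u hu.1]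
  have hvp : v ^ p = 1 := by
    rw [hv, ← map_pow, show u ^ p = 1 by
      have := pow_card_eq_one' (G := ZD S P) (x := ⟨u, hu⟩)
      rw [hc] at this
      exact congrArg Subtype.val this, map_one]
  refine ⟨b ^ ((p - 1) / 2) * τ * b, mul_mem (mul_mem (pow_mem
    (mul_mem (mul_mem hgA hσA) hginv) _) hτA) (mul_mem (mul_mem hgA hσA) hginv), ?_, ?_⟩
  · intro w hw
    have hbw : b w = w := by
      obtain ⟨z, hz, rfl⟩ := hw.2
      show g (σ (g⁻¹ (g z))) = g z
      rw [MulAut.inv_apply_self, (Base.induced_apply c.hP.1.1 hσ).1 z hz]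
    have hτw : τ w = w := (Base.induced_apply c.hP.1.1 hτ).1 w hw.1
    show (b ^ _) (τ (b w)) = w
    rw [hbw, hτw]
    have := pow_apply_mul (β := b) (x := w) (z := 1) (by rw [mul_one, hbw]) (map_one b) ((p - 1) / 2)
    simpa using this
  · intro u' hu'
    have hgen := zpowers_eq_top_of_prime_card (p := p) (G := ZD S P) hc
      (g := ⟨u, hu⟩) (fun h => hu1 (congrArg Subtype.val h))
    obtain ⟨j, hj⟩ := mem_zpowers_iff.1 (hgen.ge (mem_top ⟨u', hu'⟩))
    have hj' : u ^ j = u' := congrArg Subtype.val hj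
    have hu2 : (b ^ ((p - 1) / 2) * τ * b) u = u ^ 2 := by
      show (b ^ ((p - 1) / 2)) (τ (b u)) = u ^ 2
      have hk := pow_apply_mul (β := b) hbu hbv ((p - 1) / 2)
      have hkv : (b ^ ((p - 1) / 2)) v = v := by
        have := pow_apply_mul (β := b) (x := v) (z := 1) (by rw [mul_one, hbv]) (map_one b)
          ((p - 1) / 2)
        simpa using this
      rw [hbu, map_mul, (Base.induced_apply c.hP.1.1 hτ).1 u hu.1, hτv, c.hab v u,
        ← mul_assoc, map_mul, map_mul, hk, hkv,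
        show ∀ a q : P, a * q * (a * q) = a ^ 2 * q ^ 2 from fun a q => by
          rw [← sq, (show Commute a q from c.hab a q).mul_pow],
        ← pow_mul, mul_assoc, ← pow_succ]
      have hodd : (p - 1) / 2 * 2 + 1 = p := by
        obtain ⟨k, hk⟩ := hp.out.odd_of_ne_two hp2
        omega
      rw [hodd, hvp, mul_one]
    rw [← hj', map_zpow, hu2, ← zpow_natCast, ← zpow_mul, ← zpow_natCast (u ^ j), ← zpow_mul,
      mul_comm]

end AbCase

end CfsgLib.Invol.IndexP
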