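import Cfsg.Agent.Lib.Invol.EssentialIndexP

/-!
# The list of essential subgroups over a unique abelian subgroup of index `p`
-/

set_option autoImplicit false

namespace CfsgLib.Invol.IndexP

open Subgroup CfsgLib.Fusion
open scoped commutatorElement
open Cfsg.FusionSystem (normalizerIn centralizerIn)

variable {Ω : Type*} [Group Ω] {S A P : Subgroup Ω} {p : ℕ} [hp : Fact p.Prime] [Finite S]
  {F : Cfsg.FusionSystem S} {x : Ω}

/-- What is known about an essential subgroup other than `A`. -/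
theorem Setting.classify (h : Setting p S A) (hF : F.IsSaturated p) (hP : F.IsEssential p P)
    (hPA : P ≠ A) :
    ∃ x ∈ P, x ∉ A ∧ Nat.card (Zc S ⊓ Dc S : Subgroup Ω) = p ∧ Z2c S ≤ A ∧
      (P.subgroupOf (normalizerIn S P)).index = p ∧ P = (A ⊓ P) ⊔ zpowers x ∧
      (A ⊓ P = Zc S ∨
        (A ⊓ P = Z2c S ∧ ∀ α : MulAut P, ∀ z : P, (z : Ω) ∈ Zc S → (α z : Ω) ∈ Zc S)) := by
  obtain ⟨x, hx, hxA⟩ := h.exists_outside hP hPA
  have hPS := hP.1.1
  have hxS := hPS hx
  haveI := finite_of_le hPS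
  have hPp : IsPGroup p P := h.pgroup.to_le hPS
  haveI := finite_of_le (inf_le_left : Zc S ≤ S)
  haveI := finite_normalizerIn (S := S) (P := P)
  have hgen : ∀ y ∈ P, ∃ b ∈ A ⊓ P, ∃ i : ℤ, b * x ^ i = y := fun y hy => by
    obtain ⟨b, hb, i, hbi⟩ := h.decomp hxS hxA (hPS hy)
    refine ⟨b, ⟨hb, ?_⟩, i, hbi⟩
    rw [show b = y * x ^ (-i) by rw [← hbi]; group]
    exact mul_mem hy (zpow_mem hx _)
  have hPeq : P = (A ⊓ P) ⊔ zpowers x := by
    refine le_antisymm (fun y hy => ?_) (sup_le inf_le_right (zpowers_le.2 hx))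
    obtain ⟨b, hb, i, rfl⟩ := hgen y hy
    exact mul_mem (mem_sup_left hb) (mem_sup_right (zpow_mem (mem_zpowers x) i))
  have hZP := Zc_le_essential hP
  have hlt := lt_normalizerIn h.pgroup (lt_of_essential h.pgroup hF hP)
  have hNA : ∀ b, b ∈ A ⊓ normalizerIn S P ↔ b ∈ A ∧ ⁅b, x⁆ ∈ Dc S ⊓ P := by
    refine fun b => ⟨fun hb => ⟨hb.1, comm_mem_Dc (h.le hb.1) hxS, ?_⟩,
      fun hb => ⟨hb.1, h.le hb.1, mem_normalizer_of_comm hPS h.toBase hb.1 hgen hx hb.2.2⟩⟩
    exact P.mul_mem ((mem_normalizer_iff.1 hb.2.2 x).1 hx) (P.inv_mem hx)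
  have hcN : Nat.card (normalizerIn S P) =
      p * (Nat.card (Zc S) * Nat.card (Dc S ⊓ P : Subgroup Ω)) := by
    rw [h.card_eq_mul_inf (K := normalizerIn S P) inf_le_left (le_normalizerIn hPS hx) hxA,
      h.card_comm_mem hxS hxA inf_le_left hNA]
  have hcP := h.card_eq_mul_inf hPS hx hxA
  have hidx : Nat.card (Zc S) * Nat.card (Dc S ⊓ P : Subgroup Ω) =
      p * Nat.card (A ⊓ P : Subgroup Ω) → (P.subgroupOf (normalizerIn S P)).index = p := by
    intro he
    have h1 := card_mul_index (P.subgroupOf (normalizerIn S P))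
    rw [Nat.card_congr (subgroupOfEquivOfLe (le_normalizerIn hPS)).toEquiv, hcN, he, ← hcP,
      mul_comm p (Nat.card P)] at h1
    exact Nat.eq_of_mul_eq_mul_left Nat.card_pos h1
  by_cases hB : A ⊓ P = Zc S
  · have hZD := AbCase.card_ZD ⟨h.toBase, hF, hP, hx, hxA, hB⟩
    refine ⟨x, hx, hxA, hZD, h.Z2c_le hZD, hidx ?_, hPeq, Or.inl hB⟩
    have : Dc S ⊓ P = Zc S ⊓ Dc S := le_antisymm
      (fun d hd => ⟨hB.le ⟨h.Dc_le_A hd.1, hd.2⟩, hd.1⟩) fun d hd => ⟨hd.2, hZP hd.1⟩
    rw [this, hZD, hB, mul_comm]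
  -- the nonabelian case
  have hZB : Zc S ≤ A ⊓ P := le_inf h.Zc_le hZP
  obtain ⟨b0, hb0, hb0Z⟩ := SetLike.exists_of_lt (lt_of_le_of_ne hZB (Ne.symm hB))
  have hnaP : ¬ IsMulCommutative P := fun hc => hb0Z (h.mem_Zc_of_commute hxS hxA hb0.1
    (congrArg Subtype.val (hc.is_comm.comm ⟨b0, hb0.2⟩ ⟨x, hx⟩)))
  have hcen : ∀ z : P, z ∈ center P ↔ (z : Ω) ∈ Zc S := by
    refine fun z => ⟨fun hz => ?_, fun hz => mem_center_iff.2 fun y => Subtype.ext (hz.2 y (hPS y.2))⟩
    have hzA : (z : Ω) ∈ A := by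
      by_contra hzA
      exact hb0Z (h.mem_Zc_of_commute (hPS z.2) hzA hb0.1
        (congrArg Subtype.val (mem_center_iff.1 hz ⟨b0, hb0.2⟩)))
    exact h.mem_Zc_of_commute hxS hxA hzA
      (congrArg Subtype.val (mem_center_iff.1 hz ⟨x, hx⟩)).symm
  have hBab : IsMulCommutative (A.subgroupOf P) :=
    ⟨⟨fun u v => Subtype.ext (Subtype.ext (h.commute u.2 v.2).eq)⟩⟩
  have hcB : Nat.card (A.subgroupOf P) = Nat.card (A ⊓ P : Subgroup Ω) := by
    rw [← subgroupOf_map_subtype, card_map_of_injective P.subtype_injective]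
  have hBi : (A.subgroupOf P).index = p := by
    have h1 := card_mul_index (A.subgroupOf P)
    rw [hcB, hcP, mul_comm p] at h1
    haveI := finite_of_le (inf_le_right.trans hPS : A ⊓ P ≤ S)
    exact Nat.eq_of_mul_eq_mul_left Nat.card_pos h1
  have hformula := (CfsgLib.Coprime.card_eq_center_mul_commutator hPp hnaP hBab hBi).2
  have hrad := essential_isRadical h.pgroup hF hP
  -- `|P'| = p`
  have hcomm : Nat.card (commutator P) = p := by
    rcases (Cfsg.Agent.S3807.result p hPp hnaP (A.subgroupOf P) hBab hBi).2 with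
      ⟨h1, -⟩ | ⟨-, huniq⟩
    · exact h1
    exfalso
    have hchar : ∀ α : MulAut P, ∀ y : P, (y : Ω) ∈ A → (α y : Ω) ∈ A := by
      intro α y hy
      have he : (A.subgroupOf P).map α.toMonoidHom = A.subgroupOf P := by
        refine huniq _ ⟨⟨?_⟩⟩ ?_
        · rintro ⟨_, u, hu, rfl⟩ ⟨_, v, hv, rfl⟩
          refine Subtype.ext ?_
          show α u * α v = α v * α u
          rw [← map_mul, ← map_mul]
          exact congrArg α (congrArg Subtype.val (hBab.is_comm.comm ⟨u, hu⟩ ⟨v, hv⟩))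
        · have h1 := card_mul_index ((A.subgroupOf P).map α.toMonoidHom)
          rw [card_map_of_injective α.injective, ← card_mul_index (A.subgroupOf P), hBi] at h1
          exact Nat.eq_of_mul_eq_mul_left Nat.card_pos h1
      exact mem_subgroupOf.1 (he.le (mem_map_of_mem α.toMonoidHom (mem_subgroupOf.2 hy)))
    refine hlt.not_ge fun s hs => ?_
    obtain ⟨a, ha, i, hai⟩ := h.decomp hxS hxA hs.1
    have haN : a ∈ normalizerIn S P := by
      rw [show a = s * x ^ (-i) by rw [← hai]; group]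
      exact mul_mem hs (zpow_mem (le_normalizerIn hPS hx) _)
    suffices a ∈ P by rw [← hai]; exact mul_mem this (zpow_mem hx i)
    let C : ℕ → Subgroup Ω := fun n => if n = 0 then ⊥ else if n = 1 then A ⊓ P else P
    refine mem_of_stabilizes h.pgroup hP.1 hrad ⊤ 2 C
      (monotone_nat_of_le_succ fun n => ?_) (fun n α _ y hy => ?_) le_rfl
      (fun α _ => ⟨0, fun y hy => ?_⟩) haN (fun _ _ => mem_top _) fun n hn y hy hyC => ?_
    · rcases n with _ | _ | n
      · exact bot_le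
      · exact inf_le_right
      · exact le_rfl
    · rcases n with _ | _ | n
      · have : y = 1 := Subtype.ext (mem_bot.1 hy)
        subst this
        rw [map_one]
        exact one_mem _
      · exact ⟨hchar α y hy.1, SetLike.coe_mem _⟩
      · exact SetLike.coe_mem _
    · have : y = 1 := Subtype.ext (mem_bot.1 hy)
      rw [this, map_one]
    · rcases n with _ | n
      · change y ∈ A ⊓ P at hyC
        show y⁻¹ * (a * y * a⁻¹) ∈ (⊥ : Subgroup Ω)
        rw [(h.commute ha hyC.1).eq, mul_inv_cancel_right, inv_mul_cancel]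
        exact one_mem _
      · obtain rfl : n = 0 := by omega
        refine ⟨h.Dc_le_A ?_, P.mul_mem (P.inv_mem hy) ((mem_normalizer_iff.1 haN.2 y).1 hy)⟩
        rw [show y⁻¹ * (a * y * a⁻¹) = ⁅y⁻¹, a⁆ by rw [commutatorElement_def]; group]
        exact comm_mem_Dc (inv_mem (hPS hy)) haN.1
  -- `B = Z₂ ∩ A`
  have hcard : Nat.card (A ⊓ P : Subgroup Ω) = Nat.card (Zc S) * p := by
    rw [← hcB, hformula, hcomm]
    congr 1
    have : center P = (Zc S).subgroupOf P := by ext z; rw [mem_subgroupOf]; exact hcen z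
    rw [this, Nat.card_congr (subgroupOfEquivOfLe hZP).toEquiv]
  have hB2 : A ⊓ P = Z2c S ⊓ A := by
    apply le_antisymm
    · intro b hb
      refine Subgroup.mem_inf.2 ⟨?_, hb.1⟩
      rw [h.mem_Z2c_iff hxS hxA hb.1]
      have h1 := EssentialFour.le_center_of_card_prime hPp (commutator P) hcomm
        (commutator_mem_commutator (mem_top (⟨b, hb.2⟩ : P)) (mem_top ⟨x, hx⟩))
      exact (hcen _).1 h1
    · intro a ha
      have hax := (h.mem_Z2c_iff hxS hxA ha.2).1 ha.1
      have haN : a ∈ normalizerIn S P :=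
        ⟨h.le ha.2, mem_normalizer_of_comm hPS h.toBase ha.2 hgen hx (hZP hax)⟩
      let C : ℕ → Subgroup Ω := fun n => if n = 0 then ⊥ else if n = 1 then Zc S else P
      refine ⟨ha.2, mem_of_stabilizes h.pgroup hP.1 hrad ⊤ 2 C
        (monotone_nat_of_le_succ fun n => ?_) (fun n α _ y hy => ?_) le_rfl
        (fun α _ => ⟨0, fun y hy => ?_⟩) haN (fun _ _ => mem_top _) fun n hn y hy hyC => ?_⟩
      · rcases n with _ | _ | n
        · exact bot_le
        · exact hZP
        · exact le_rfl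
      · rcases n with _ | _ | n
        · have : y = 1 := Subtype.ext (mem_bot.1 hy)
          subst this
          rw [map_one]
          exact one_mem _
        · show ((α y : P) : Ω) ∈ Zc S
          refine (hcen _).1 (mem_center_iff.2 fun w => ?_)
          obtain ⟨w', rfl⟩ := α.surjective w
          rw [← map_mul, ← map_mul, mem_center_iff.1 ((hcen y).2 hy) w']
        · exact SetLike.coe_mem _
      · have : y = 1 := Subtype.ext (mem_bot.1 hy)
        rw [this, map_one]
      · rcases n with _ | n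
        · change y ∈ Zc S at hyC
          show y⁻¹ * (a * y * a⁻¹) ∈ (⊥ : Subgroup Ω)
          rw [(commute_of_mem_Zc hyC (h.le ha.2)).symm.eq, mul_inv_cancel_right, inv_mul_cancel]
          exact one_mem _
        · obtain rfl : n = 0 := by omega
          show y⁻¹ * (a * y * a⁻¹) ∈ Zc S
          rw [show y⁻¹ * (a * y * a⁻¹) = ⁅y⁻¹, a⁆ by rw [commutatorElement_def]; group,
            ← commutatorElement_inv]
          exact inv_mem ((mem_Z2c.1 ha.1).2 _ (inv_mem (hPS hy)))
  have hZD : Nat.card (Zc S ⊓ Dc S : Subgroup Ω) = p := by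
    rw [hB2, h.card_Z2c_inf hxS hxA] at hcard
    exact Nat.eq_of_mul_eq_mul_left Nat.card_pos hcard
  have hZ2 := h.Z2c_le hZD
  rw [inf_eq_left.2 hZ2] at hB2
  refine ⟨x, hx, hxA, hZD, hZ2, hidx ?_, hPeq, Or.inr ⟨hB2, fun α z hz => ?_⟩⟩
  · haveI := finite_of_le (inf_le_right.trans hPS : A ⊓ P ≤ S)
    haveI := finite_of_le (inf_le_right.trans hPS : Dc S ⊓ P ≤ S)
    have hr := relIndex_mul_relIndex ⊥ (Zc S ⊓ (Dc S ⊓ P)) (Dc S ⊓ P) bot_le inf_le_right
    rw [relIndex_bot_left, relIndex_bot_left, inf_relIndex_right, ← inf_assoc,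
      inf_eq_left.2 (inf_le_left.trans hZP : Zc S ⊓ Dc S ≤ P), hZD] at hr
    have hz := relIndex_mul_relIndex ⊥ (Zc S) (A ⊓ P) bot_le hZB
    rw [relIndex_bot_left, relIndex_bot_left, hcard] at hz
    have hz' := Nat.eq_of_mul_eq_mul_left Nat.card_pos hz
    have hle : Nat.card (Dc S ⊓ P : Subgroup Ω) ≤ p ^ 2 := by
      rw [← hr, sq]
      refine Nat.mul_le_mul_left _ (hz' ▸ relIndex_le_of_le_right
        (le_inf (inf_le_left.trans h.Dc_le_A) inf_le_right) (by rw [hz']; exact hp.out.ne_zero))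
    have hgt : p < Nat.card (Dc S ⊓ P : Subgroup Ω) := by
      have h1 : Nat.card P < Nat.card (normalizerIn S P) :=
        lt_of_not_ge fun hc => hlt.ne (eq_of_le_of_card_le hlt.le hc)
      rw [hcP, hcN, hcard] at h1
      exact Nat.lt_of_mul_lt_mul_left (Nat.lt_of_mul_lt_mul_left h1)
    obtain ⟨i, hi⟩ := IsPGroup.iff_card.1 (h.pgroup.to_le (inf_le_right.trans hPS : Dc S ⊓ P ≤ S))
    rw [hi] at hle hgt
    have hi2 := (Nat.pow_le_pow_iff_right hp.out.one_lt).1 hle
    have hi1 : 1 < i := by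
      by_contra hi1
      exact absurd hgt (not_lt.2 ((Nat.pow_le_pow_right hp.out.pos (not_lt.1 hi1)).trans (pow_one p).le))
    rw [hi, show i = 2 by omega, hcard, sq]
    ring
  · refine (hcen _).1 (mem_center_iff.2 fun w => ?_)
    obtain ⟨w', rfl⟩ := α.surjective w
    rw [← map_mul, ← map_mul, mem_center_iff.1 ((hcen z).2 hz) w']

end CfsgLib.Invol.IndexP
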