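import Cfsg.Agent.Lib.Invol.EssentialIndexPClass

/-!
# Core-free systems over a group with a unique abelian subgroup of index `p`
-/

set_option autoImplicit false

namespace CfsgLib.Invol.IndexP

open Subgroup CfsgLib.Fusion
open scoped commutatorElement
open Cfsg.FusionSystem (normalizerIn centralizerIn)

variable {Ω : Type*} [Group Ω] {S A P : Subgroup Ω} {p : ℕ} [hp : Fact p.Prime] [Finite S]
  {F : Cfsg.FusionSystem S} {x : Ω}

theorem aut_center {X : Type*} [Group X] (α : MulAut X) {z : X} (hz : z ∈ center X) :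
    α z ∈ center X := mem_center_iff.2 fun w => by
  obtain ⟨w', rfl⟩ := α.surjective w
  rw [← map_mul, ← map_mul, mem_center_iff.1 hz w']

theorem aut_commutator {X : Type*} [Group X] (α : MulAut X) {z : X} (hz : z ∈ commutator X) :
    α z ∈ commutator X := by
  have h1 : commutator X ≤ (commutator X).comap α.toMonoidHom := by
    rw [_root_.commutator_def, commutator_le]
    intro a _ b _
    rw [mem_comap, map_commutatorElement]
    exact commutator_mem_commutator (mem_top _) (mem_top _)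
  exact h1 hz

theorem inn_normal {X : Type*} [Group X] : (MulAut.conj : X →* MulAut X).range.Normal := by
  refine ⟨?_⟩
  rintro _ ⟨a, rfl⟩ γ
  refine ⟨γ a, MulEquiv.ext fun w => ?_⟩
  simp [map_mul, map_inv]

/-- A map of the system on the centre extends to `S`. -/
theorem exists_extend_center (hS : IsPGroup p S) (hF : F.IsSaturated p) (hPS : P ≤ S)
    (hZP : Zc S ≤ P) {α : MulAut P} (hα : α ∈ F.autGroup P)
    (hinv : ∀ z : P, (z : Ω) ∈ Zc S → (α z : Ω) ∈ Zc S) :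
    ∃ γ ∈ F.autGroup S, ∀ z : P, ∀ hz : (z : Ω) ∈ Zc S, (γ ⟨z, hz.1⟩ : Ω) = α z := by
  have hm := (isMap_of_autGroup hPS hα).mono hZP
  haveI := finite_of_le (inf_le_left : Zc S ≤ S)
  have hi : img (Zc S) (toFun (P.subtype.comp α.toMonoidHom)) = Zc S := by
    refine eq_of_le_of_card_le (fun y hy => ?_) hm.card_img.ge
    obtain ⟨z, hz, rfl⟩ := hm.mem_img.1 hy
    rw [toFun_aut_apply α (hZP hz)]
    exact hinv ⟨z, hZP hz⟩ hz
  have hN : normalizerIn S (Zc S) = S := inf_eq_left.2 fun s hs => by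
    haveI : Finite (Zc S : Set Ω) := (finite_of_le (inf_le_left : Zc S ≤ S) : Finite (Zc S))
    refine mem_normalizer_fintype fun z hz => ?_
    rwa [(commute_of_mem_Zc hz hs).symm.eq, mul_inv_cancel_right]
  have hfn : F.IsFullyNormalized (Zc S) :=
    ⟨inf_le_left, fun Q _ => by rw [hN]; exact card_le_of_le inf_le_left⟩
  obtain ⟨g, hg, hgx⟩ := receptive_extend_centralizer (receptive_of_fullyNormalized hS hF hfn) hm hi
  have hsup : Zc S ⊔ centralizerIn S (Zc S) = S :=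
    le_antisymm (sup_le inf_le_left inf_le_left) fun s hs => mem_sup_right
      ⟨hs, fun z hz => (commute_of_mem_Zc hz hs).eq⟩
  rw [hsup] at hg
  have hgi : img S g = S := eq_of_le_of_card_le hg.img_le hg.card_img.ge
  refine ⟨hg.toAut hgi, hg.toAut_mem hgi, fun z hz => ?_⟩
  rw [IsMap.toAut_apply, hgx _ hz, toFun_aut_apply α z.2]

/-- Automorphisms trivial modulo the derived subgroup on the centre and squaring the central
commutators. -/
def SquaresZD (F : Cfsg.FusionSystem S) (γ : MulAut S) : Prop :=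
  γ ∈ F.autGroup S ∧ (∀ z ∈ center S, z⁻¹ * γ z ∈ commutator S) ∧
    ∀ u ∈ center S, u ∈ commutator S → γ u = u ^ 2

theorem card_ZD_S (hZD : Nat.card (Zc S ⊓ Dc S : Subgroup Ω) = p) :
    Nat.card (center S ⊓ commutator S : Subgroup S) = p := by
  rw [← hZD, ← card_map_of_injective (K := center S ⊓ commutator S) S.subtype_injective,
    Subgroup.map_inf _ _ _ S.subtype_injective, map_center]

theorem SquaresZD.unique (hS : IsPGroup p S) (hF : F.IsSaturated p)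
    (hZD : Nat.card (Zc S ⊓ Dc S : Subgroup Ω) = p) {γ δ : MulAut S} (hγ : SquaresZD F γ)
    (hδ : SquaresZD F δ) {z : S} (hz : z ∈ center S) : γ z = δ z := by
  set ε := γ⁻¹ * δ with hε
  have hεA : ε ∈ F.autGroup S := mul_mem (inv_mem hγ.1) hδ.1
  have hεu : ∀ u ∈ center S, u ∈ commutator S → ε u = u := by
    intro u hu hu'
    rw [hε, MulAut.mul_apply, hδ.2.2 u hu hu', ← hγ.2.2 u hu hu', MulAut.inv_apply_self]
  set w := z⁻¹ * ε z with hw
  have hw1 : w ∈ center S := mul_mem (inv_mem hz) (aut_center ε hz)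
  have hw2 : w ∈ commutator S := by
    have h1 : (γ z)⁻¹ * δ z ∈ commutator S := by
      rw [show (γ z)⁻¹ * δ z = (z⁻¹ * γ z)⁻¹ * (z⁻¹ * δ z) by group]
      exact mul_mem (inv_mem (hγ.2.1 z hz)) (hδ.2.1 z hz)
    have h2 := aut_commutator γ⁻¹ h1
    rw [map_mul, map_inv, MulAut.inv_apply_self] at h2
    exact h2
  have hwp : w ^ p = 1 := by
    have h1 := pow_card_eq_one' (G := (center S ⊓ commutator S : Subgroup S)) (x := ⟨w, hw1, hw2⟩)
    rw [card_ZD_S hZD] at h1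
    exact congrArg Subtype.val h1
  have hεp : (ε ^ p) z = z := by
    rw [pow_apply_mul (mul_inv_cancel_left z _).symm (hεu w hw1 hw2) p, hwp, mul_one]
  -- the outer automorphism group has order prime to `p`
  set I := (Cfsg.Inn S).subgroupOf (F.autGroup S) with hI
  haveI : I.Normal := by
    haveI : (Cfsg.Inn S).Normal := inn_normal
    exact Subgroup.normal_subgroupOf
  obtain ⟨T, hT⟩ := (fullyAutomized_of_fullyNormalized hS hF (fullyNormalized_top F)).2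
  have hinn : Cfsg.autInducedBy S S = Cfsg.Inn S := by
    refine le_antisymm (fun α hα => ?_) (inn_le_autInducedBy le_rfl)
    obtain ⟨a, ha, hax⟩ := mem_autInducedBy_iff.1 hα
    exact ⟨⟨a, ha⟩, MulEquiv.ext fun y => Subtype.ext (hax y).symm⟩
  rw [hinn] at hT
  have hn : ¬ p ∣ I.index := by
    have := T.not_dvd_index
    rwa [hT] at this
  have hεn : (ε ^ I.index) z = z := by
    obtain ⟨a, ha⟩ := mem_subgroupOf.1 (I.pow_index_mem ⟨ε, hεA⟩)
    rw [Subgroup.coe_pow] at ha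
    change MulAut.conj a = ε ^ I.index at ha
    rw [← ha, MulAut.conj_apply, mem_center_iff.1 hz a, mul_inv_cancel_right]
  let K : Subgroup (MulAut S) :=
    { carrier := {β | β z = z}
      one_mem' := rfl
      mul_mem' := fun {a b} (ha : a z = z) (hb : b z = z) => show a (b z) = z by rw [hb, ha]
      inv_mem' := fun {a} (ha : a z = z) => show a⁻¹ z = z by
        conv_lhs => rw [← ha]
        exact MulAut.inv_apply_self _ _ _ }
  have hcop : Int.gcd (p : ℤ) (I.index : ℤ) = 1 := by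
    rw [Int.gcd_natCast_natCast]
    exact hp.out.coprime_iff_not_dvd.2 hn
  have hεK : ε ∈ K := by
    obtain ⟨u, v, huv⟩ : ∃ u v : ℤ, (p : ℤ) * u + (I.index : ℤ) * v = 1 :=
      ⟨_, _, by rw [← Int.gcd_eq_gcd_ab, hcop]; rfl⟩
    rw [← zpow_one ε, ← huv, zpow_add, zpow_mul, zpow_mul, zpow_natCast, zpow_natCast]
    exact mul_mem (zpow_mem (show ε ^ p ∈ K from hεp) u) (zpow_mem (show ε ^ I.index ∈ K from hεn) v)
  have h3 : γ (ε z) = γ z := congrArg γ (show ε z = z from hεK)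
  rw [hε, MulAut.mul_apply, MulAut.apply_inv_self] at h3
  exact h3.symm

/-- The squaring automorphism of `S` attached to an automorphism moving the centre. -/
theorem AbCase.exists_squaresZD (c : AbCase p F A P x) (hp2 : p ≠ 2) {g : MulAut P}
    (hgA : g ∈ F.autGroup P) (hg : ∃ z : P, (z : Ω) ∈ Zc S ∧ (g z : Ω) ∉ Zc S) :
    ∃ γ, SquaresZD F γ ∧ ∀ z : P, ∀ hz : (z : Ω) ∈ Zc S,
      (γ ⟨z, hz.1⟩ = ⟨z, hz.1⟩ ↔ z ∈ AbCase.meet S g) := by
  haveI := c.fin
  obtain ⟨h, hhA, hfix, hsq⟩ := c.exists_square hp2 hgA hg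
  have hdec : ∀ z : P, (z : Ω) ∈ Zc S →
      ∃ w ∈ AbCase.meet S g, ∃ u ∈ AbCase.ZD S P, w * u = z ∧ h z = w * u ^ 2 := by
    intro z hz
    haveI := c.normal_any (AbCase.meet S g)
    obtain ⟨w, hw, u, hu, rfl⟩ := mem_sup_of_normal_left.1
      ((c.sup_meet hgA hg).ge (mem_subgroupOf.2 hz))
    exact ⟨w, hw, u, hu, rfl, by rw [map_mul, hfix w hw, hsq u hu]⟩
  have hZinv : ∀ z : P, (z : Ω) ∈ Zc S → (h z : Ω) ∈ Zc S := by
    intro z hz
    obtain ⟨w, hw, u, hu, rfl, hh⟩ := hdec z hz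
    rw [hh]
    exact mul_mem (mem_subgroupOf.1 hw.1) (pow_mem (mem_inf.1 (mem_subgroupOf.1 hu)).1 2)
  obtain ⟨γ, hγA, hγ⟩ := exists_extend_center c.hA.pgroup c.hF c.hP.1.1 (Zc_le_essential c.hP)
    hhA hZinv
  have hcoe : ∀ z : S, z ∈ center S → (z : Ω) ∈ P := fun z hz =>
    Zc_le_essential c.hP (mem_center_iff_Zc.1 hz)
  refine ⟨γ, ⟨hγA, fun z hz => ?_, fun u hu hu' => ?_⟩, fun z hz => ?_⟩
  · obtain ⟨w, -, u, hu, hwu, hh⟩ := hdec ⟨z, hcoe z hz⟩ (mem_center_iff_Zc.1 hz)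
    rw [← mem_map_iff_mem S.subtype_injective]
    show ((z⁻¹ * γ z : S) : Ω) ∈ Dc S
    have hγz : (γ z : Ω) = h ⟨z, hcoe z hz⟩ := hγ ⟨z, hcoe z hz⟩ (mem_center_iff_Zc.1 hz)
    rw [Subgroup.coe_mul, Subgroup.coe_inv, hγz, hh,
      show (z : Ω) = ((w * u : P) : Ω) by rw [hwu]]
    have : ((w * u : P) : Ω)⁻¹ * ((w * u ^ 2 : P) : Ω) = (u : Ω) := by
      simp only [Subgroup.coe_mul, Subgroup.coe_pow, sq]; group
    rw [this]
    exact (mem_inf.1 (mem_subgroupOf.1 hu)).2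
  · have hmem : (⟨u, hcoe u hu⟩ : P) ∈ AbCase.ZD S P :=
      mem_subgroupOf.2 ⟨mem_center_iff_Zc.1 hu, mem_map_of_mem S.subtype hu'⟩
    refine Subtype.ext ?_
    rw [show (γ u : Ω) = h ⟨u, hcoe u hu⟩ from hγ ⟨u, hcoe u hu⟩ (mem_center_iff_Zc.1 hu),
      hsq _ hmem]
    rfl
  · rw [Subtype.ext_iff, hγ z hz]
    refine ⟨fun he => ?_, fun hm => congrArg Subtype.val (hfix z hm)⟩
    obtain ⟨w, hw, u, -, rfl, hh⟩ := hdec z hz
    have h1 : w * u ^ 2 = w * u := by rw [← hh]; exact Subtype.ext he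
    have hu1 : u = 1 := by simpa [sq] using h1
    rwa [hu1, mul_one]

/-- In a core-free system some essential subgroup moves the centre. -/
theorem exists_abCase (hS : IsPGroup p S) (hF : F.IsSaturated p) (hna : ¬ IsMulCommutative S)
    (hcore : F.core = ⊥)
    (hess : ∀ P : Subgroup Ω, F.IsEssential p P →
      (∃ A x, AbCase p F A P x) ∨ ∀ α : MulAut P, ∀ z : P, (z : Ω) ∈ Zc S → (α z : Ω) ∈ Zc S) :
    ∃ A P x, AbCase p F A P x := by
  have hZS : Zc S ≤ S := inf_le_left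
  by_contra hc
  push Not at hc
  have hN : F.IsNormal (Zc S) := by
    refine isNormal_of_alperin hS hF hZS fun P hP => ?_
    rcases hP with rfl | hP
    · exact ⟨hZS, fun α _ z hz => mem_center_iff_Zc.1 (aut_center α (mem_center_iff_Zc.2 hz))⟩
    · refine ⟨Zc_le_essential hP, ?_⟩
      rcases hess P hP with ⟨A, x, c⟩ | hinv
      · exact absurd c (hc A P x)
      · exact fun α _ z hz => hinv α z hz
  have h0 : Zc S = ⊥ := eq_bot_iff.2 (hcore ▸ le_sSup (show Zc S ∈ {Q | F.IsNormal Q} from hN))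
  haveI : Nontrivial S := by
    rcases subsingleton_or_nontrivial S with hs | hn
    · exact absurd ⟨⟨fun a b => Subsingleton.elim _ _⟩⟩ hna
    · exact hn
  haveI := hS.center_nontrivial
  obtain ⟨z, hz⟩ := exists_ne (1 : center S)
  exact hz (Subtype.ext (Subtype.ext (mem_bot.1 (h0 ▸ mem_center_iff_Zc.1 z.2))))

/-- In a core-free system with `p` odd the centre lies in the derived subgroup. -/
theorem Zc_le_Dc_of_core_free (hS : IsPGroup p S) (hF : F.IsSaturated p) (hp2 : p ≠ 2)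
    (hcore : F.core = ⊥)
    (hess : ∀ P : Subgroup Ω, F.IsEssential p P →
      (∃ A x, AbCase p F A P x) ∨ ∀ α : MulAut P, ∀ z : P, (z : Ω) ∈ Zc S → (α z : Ω) ∈ Zc S)
    {A₀ P₀ : Subgroup Ω} {x₀ : Ω} (c₀ : AbCase p F A₀ P₀ x₀) : Zc S ≤ Dc S := by
  have hZS : Zc S ≤ S := inf_le_left
  have hnormal : ∀ Q : Subgroup Ω, F.IsNormal Q → Q = ⊥ := fun Q hQ =>
    eq_bot_iff.2 (hcore ▸ le_sSup (show Q ∈ {Q | F.IsNormal Q} from hQ))
  have hZD := c₀.card_ZD
  obtain ⟨g₀, hg₀A, hg₀⟩ := c₀.exists_move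
  obtain ⟨γ₁, hγ₁, -⟩ := c₀.exists_squaresZD hp2 hg₀A hg₀
  -- the fixed points
  let R : Subgroup Ω := (center S ⊓ γ₁.toMonoidHom.eqLocus (MonoidHom.id S)).map S.subtype
  have hRmem : ∀ y : Ω, y ∈ R ↔ ∃ hy : y ∈ Zc S, γ₁ ⟨y, hy.1⟩ = ⟨y, hy.1⟩ := by
    refine fun y => ⟨?_, fun ⟨hy, he⟩ => ⟨⟨y, hy.1⟩, ⟨mem_center_iff_Zc.2 hy, he⟩, rfl⟩⟩
    rintro ⟨w, ⟨hw, hwe⟩, rfl⟩
    exact ⟨mem_center_iff_Zc.1 hw, hwe⟩
  have hγR : ∀ γ ∈ F.autGroup S, ∀ y : S, y ∈ center S → γ₁ y = y → γ₁ (γ y) = γ y := by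
    intro γ hγ y hy hfy
    have hsq : SquaresZD F (γ * γ₁ * γ⁻¹) := by
      refine ⟨mul_mem (mul_mem hγ hγ₁.1) (inv_mem hγ), fun z hz => ?_, fun u hu hu' => ?_⟩
      · have h1 := aut_commutator γ (hγ₁.2.1 _ (aut_center γ⁻¹ hz))
        rw [map_mul, map_inv, MulAut.apply_inv_self] at h1
        exact h1
      · rw [MulAut.mul_apply, MulAut.mul_apply,
          hγ₁.2.2 _ (aut_center γ⁻¹ hu) (aut_commutator γ⁻¹ hu'), map_pow, MulAut.apply_inv_self]
    rw [SquaresZD.unique hS hF hZD hγ₁ hsq (aut_center γ hy), MulAut.mul_apply,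
      MulAut.mul_apply, MulAut.inv_apply_self, hfy]
  have hRN : F.IsNormal R := by
    refine isNormal_of_alperin hS hF (map_subtype_le _) fun P hP => ?_
    have hPS : P ≤ S := hP.elim (fun e => e.le) fun e => e.1.1
    have hZP : Zc S ≤ P := hP.elim (fun e => e ▸ hZS) Zc_le_essential
    refine ⟨fun y hy => hZP ((hRmem y).1 hy).1, fun α hα y hy => ?_⟩
    obtain ⟨hyZ, hye⟩ := (hRmem _).1 hy
    by_cases hinv : ∀ z : P, (z : Ω) ∈ Zc S → (α z : Ω) ∈ Zc S
    · obtain ⟨γ, hγ, hγα⟩ := exists_extend_center hS hF hPS hZP hα hinv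
      refine (hRmem _).2 ⟨hinv y hyZ, ?_⟩
      have he : (⟨(α y : Ω), (hinv y hyZ).1⟩ : S) = γ ⟨y, hyZ.1⟩ := Subtype.ext (hγα y hyZ).symm
      rw [he]
      exact hγR γ hγ _ (mem_center_iff_Zc.2 hyZ) hye
    · push Not at hinv
      have hPess : F.IsEssential p P := hP.resolve_left fun e => by
        obtain ⟨z, hz, hz'⟩ := hinv
        subst e
        exact hz' (mem_center_iff_Zc.1 (aut_center α (mem_center_iff_Zc.2 hz)))
      obtain ⟨A, x, c⟩ := (hess P hPess).resolve_right fun hcl => by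
        obtain ⟨z, hz, hz'⟩ := hinv
        exact hz' (hcl α z hz)
      obtain ⟨γ', hγ', hfix'⟩ := c.exists_squaresZD hp2 hα hinv
      obtain ⟨γ'', hγ'', hfix''⟩ := c.exists_squaresZD hp2 (inv_mem hα) (c.exists_out hinv)
      have hyc : (⟨(y : Ω), hyZ.1⟩ : S) ∈ center S := mem_center_iff_Zc.2 hyZ
      obtain ⟨-, v, hv, hvy⟩ := (hfix'' y hyZ).1
        (by rw [SquaresZD.unique hS hF hZD hγ'' hγ₁ hyc]; exact hye)
      have hαy : α y = v := by rw [← hvy]; exact MulAut.apply_inv_self _ _ _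
      have hmem : α y ∈ AbCase.meet S α :=
        ⟨hαy ▸ hv, mem_map_of_mem α.toMonoidHom (mem_subgroupOf.2 hyZ)⟩
      have hαZ : (α y : Ω) ∈ Zc S := mem_subgroupOf.1 hmem.1
      refine (hRmem _).2 ⟨hαZ, ?_⟩
      rw [SquaresZD.unique hS hF hZD hγ₁ hγ' ((mem_center_iff_Zc (z := (⟨_, hαZ.1⟩ : S))).2 hαZ)]
      exact (hfix' (α y) hαZ).2 hmem
  have hR := hnormal R hRN
  -- the centre has order `p`
  haveI := finite_of_le hZS
  have hcZ : Nat.card (center S) ≤ p := by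
    rw [← card_ZD_S hZD]
    refine Nat.card_le_card_of_injective (fun z : center S => (⟨(z : S)⁻¹ * γ₁ z,
      (center S).mul_mem ((center S).inv_mem z.2) (aut_center γ₁ z.2), hγ₁.2.1 z z.2⟩ :
        (center S ⊓ commutator S : Subgroup S))) fun z w hzw => ?_
    have h1 : (z : S)⁻¹ * γ₁ z = (w : S)⁻¹ * γ₁ w := congrArg Subtype.val hzw
    have hf : γ₁ ((z : S) * (w : S)⁻¹) = (z : S) * (w : S)⁻¹ := by
      rw [map_mul, map_inv,
        show γ₁ z = (z : S) * ((w : S)⁻¹ * γ₁ w) by rw [← h1, mul_inv_cancel_left]]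
      group
    have hm : ((z : S) * (w : S)⁻¹ : S) ∈ center S := mul_mem z.2 (inv_mem w.2)
    have h2 : (((z : S) * (w : S)⁻¹ : S) : Ω) ∈ R :=
      (hRmem _).2 ⟨mem_center_iff_Zc.1 hm, hf⟩
    rw [hR, mem_bot] at h2
    exact Subtype.ext (mul_inv_eq_one.1 (Subtype.ext h2))
  have hle : Zc S ≤ Dc S := by
    have he : center S ⊓ commutator S = center S :=
      eq_of_le_of_card_ge inf_le_left (hcZ.trans (card_ZD_S hZD).ge)
    intro z hz
    exact ⟨⟨z, hz.1⟩, (he.ge (mem_center_iff_Zc.2 hz)).2, rfl⟩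
  exact hle

theorem Setting.core_free (h : Setting p S A) (hF : F.IsSaturated p) (hp2 : p ≠ 2)
    (hcore : F.core = ⊥) (hAe : ¬ F.IsEssential p A) :
    (∃ x ∈ S, x ∉ A ∧ F.IsEssential p (Zc S ⊔ zpowers x)) ∧ Zc S ≤ Dc S ∧
      ∀ n : ℕ, Nat.card S = p ^ n → 3 ≤ n → Subgroup.lowerCentralSeries S (n - 2) ≠ ⊥ := by
  have hne : ∀ {P : Subgroup Ω}, F.IsEssential p P → P ≠ A := fun hP he => hAe (he ▸ hP)
  -- an essential subgroup meeting `A` in the centre
  obtain ⟨P₀, x₀, hP₀, c₀⟩ : ∃ P₀ x₀, F.IsEssential p P₀ ∧ AbCase p F A P₀ x₀ := by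
    by_contra hc
    push Not at hc
    obtain ⟨A', P, x, c⟩ := exists_abCase h.pgroup hF h.na hcore fun P hP => Or.inr fun α z hz => by
      obtain ⟨x, hx, hxA, -, -, -, -, hB | ⟨-, hinv⟩⟩ := h.classify hF hP (hne hP)
      · exact absurd ⟨h.toBase, hF, hP, hx, hxA, hB⟩ (hc P x hP)
      · exact hinv α z hz
    obtain ⟨y, hy, hyA, -, -, -, -, hB | ⟨-, hinv⟩⟩ := h.classify hF c.hP (hne c.hP)
    · exact hc P y c.hP ⟨h.toBase, hF, c.hP, hy, hyA, hB⟩
    · obtain ⟨g, -, z, hz, hgz⟩ := c.exists_move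
      exact hgz (hinv g z hz)
  have hess : ∀ P : Subgroup Ω, F.IsEssential p P →
      (∃ A x, AbCase p F A P x) ∨ ∀ α : MulAut P, ∀ z : P, (z : Ω) ∈ Zc S → (α z : Ω) ∈ Zc S :=
    fun P hP => by
      obtain ⟨x, hx, hxA, -, -, -, -, hB | ⟨-, hcl⟩⟩ := h.classify hF hP (hne hP)
      · exact Or.inl ⟨A, x, h.toBase, hF, hP, hx, hxA, hB⟩
      · exact Or.inr hcl
  have hZD := c₀.card_ZD
  have hPeq₀ : P₀ = Zc S ⊔ zpowers x₀ := by
    refine le_antisymm (fun y hy => ?_) (sup_le (Zc_le_essential hP₀) (zpowers_le.2 c₀.hx))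
    obtain ⟨z, hz, i, hzi⟩ := c₀.gen ⟨y, hy⟩
    have hzi' : z * x₀ ^ i = y := hzi
    rw [← hzi']
    exact mul_mem (mem_sup_left hz) (mem_sup_right (zpow_mem (mem_zpowers x₀) i))
  refine ⟨⟨x₀, c₀.hxS, c₀.hxA, hPeq₀ ▸ hP₀⟩, ?_⟩
  have hle := Zc_le_Dc_of_core_free h.pgroup hF hp2 hcore hess c₀
  refine ⟨hle, fun n hn hn3 hL => ?_⟩
  have hZ : Nat.card (Zc S) = p := by rw [← inf_eq_left.2 hle]; exact hZD
  have hD : Nat.card (Dc S) = p ^ (n - 2) := by
    have h1 := h.card_S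
    rw [hn, hZ, show p ^ n = p * (p * p ^ (n - 2)) by
      rw [← pow_succ', ← pow_succ']; congr 1; omega] at h1
    exact (Nat.eq_of_mul_eq_mul_left hp.out.pos (Nat.eq_of_mul_eq_mul_left hp.out.pos h1)).symm
  have h2 := h.card_Dc_le_lcs hZD (n - 3)
  rw [show n - 3 + 1 = n - 2 by omega, hL, card_bot, mul_one, hD] at h2
  have := (Nat.pow_le_pow_iff_right hp.out.one_lt).1 h2
  omega

end CfsgLib.Invol.IndexP
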