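import Cfsg.Agent.Lib.Invol.MetacyclicClosed
import Cfsg.Agent.Lib.PGroup.MetacyclicTwoAut
import Mathlib

/-!
Strongly closed subgroups with derived and Frattini subgroup of order `p`: either the derived
subgroup is weakly closed (and then the subgroup is normal) or the shape is `E × A`.
-/

set_option autoImplicit false
set_option linter.style.haveILetI false
set_option linter.unusedSectionVars false
set_option linter.unusedVariables false

namespace CfsgLib.Invol.ExtraspecialClosed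

open Cfsg Cfsg.FusionSystem Subgroup CfsgLib.Fusion
open scoped commutatorElement

variable {Ω : Type*} [Group Ω] {S : Subgroup Ω} [Finite S] {F : FusionSystem S} {p : ℕ}
  [hp : Fact p.Prime] {P : Subgroup Ω}

/-- The commutator and power facts for a `P` with `Z = P'= Φ(P)` of order `p`. -/
structure Setting (S P Z : Subgroup Ω) (p : ℕ) : Prop where
  le : Z ≤ P
  card : Nat.card Z = p
  comm : ∀ u ∈ P, ∀ v ∈ P, ⁅u, v⁆ ∈ Z
  pow : ∀ u ∈ P, u ^ p ∈ Z
  central : ∀ s ∈ S, ∀ x ∈ Z, s * x = x * s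
  nonabelian : ∃ u ∈ P, ∃ v ∈ P, ⁅u, v⁆ ≠ 1

theorem setting_of_extraspecial (hS : IsPGroup p S) (hP : F.StronglyClosed P)
    (hge : frattini P = commutator P ∧ Nat.card (commutator P) = p) :
    Setting S P ((commutator P).map P.subtype) p := by
  haveI := finite_of_le hP.1
  have hPp : IsPGroup p P := hS.to_le hP.1
  set Z := (commutator P).map P.subtype with hZ
  have hle : Z ≤ P := map_subtype_le _
  refine ⟨hle, ?_, fun u hu v hv => ?_, fun u hu => ?_, ?_, ?_⟩
  · rw [hZ, card_map_of_injective P.subtype_injective, hge.2]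
  · exact ⟨⁅(⟨u, hu⟩ : P), ⟨v, hv⟩⁆, commutator_mem_commutator (mem_top _) (mem_top _), rfl⟩
  · exact ⟨(⟨u, hu⟩ : P) ^ p, hge.1 ▸ CfsgLib.StructC.pow_mem_frattini hPp _, rfl⟩
  · -- a normal subgroup of order `p` is central
    haveI := finite_of_le (hle.trans hP.1)
    haveI := hS.isNilpotent
    have hnorm : ∀ s ∈ S, ∀ x ∈ Z, s * x * s⁻¹ ∈ Z := by
      rintro s hs _ ⟨w, hw, rfl⟩
      let φ : MulAut P :=
        P.normalizerMonoidHom ⟨s, (StronglyClosed.le_normalizer hP) hs⟩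
      exact ⟨φ w, (characteristic_iff_map_eq.1 (inferInstance : (commutator P).Characteristic) φ).le
        (mem_map_of_mem φ.toMonoidHom hw), rfl⟩
    haveI hn : (Z.subgroupOf S).Normal := ⟨fun x hx s => mem_subgroupOf.2 (by
      simpa using hnorm s s.2 x (mem_subgroupOf.1 hx))⟩
    have hcard : Nat.card (Z.subgroupOf S) = p := by
      rw [Nat.card_congr (Subgroup.subgroupOfEquivOfLe (hle.trans hP.1)).toEquiv, hZ,
        card_map_of_injective P.subtype_injective, hge.2]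
    intro s hs x hx
    have h2 := CfsgLib.Invol.MetacyclicClosed.commutator_two_eq_bot hS (Z.subgroupOf S)
      (by rw [hcard]; exact Nat.le_self_pow two_ne_zero p)
    by_contra hne
    have hxs : ⁅(⟨x, hP.1 (hle hx)⟩ : S), (⟨s, hs⟩ : S)⁆ ∈ ⁅Z.subgroupOf S, (⊤ : Subgroup S)⁆ :=
      commutator_mem_commutator (mem_subgroupOf.2 hx) (mem_top _)
    have hc1 : ⁅(⟨x, hP.1 (hle hx)⟩ : S), (⟨s, hs⟩ : S)⁆ ≠ 1 := fun h => hne (by
      have h' := commutatorElement_eq_one_iff_mul_comm.1 h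
      exact (congrArg Subtype.val h').symm)
    have hMZ : ⁅Z.subgroupOf S, (⊤ : Subgroup S)⁆ ≤ Z.subgroupOf S := commutator_le_left _ _
    have hM : ⁅Z.subgroupOf S, (⊤ : Subgroup S)⁆ = Z.subgroupOf S := by
      refine eq_of_le_of_card_ge hMZ ?_
      rcases (Nat.dvd_prime hp.out).1 (hcard ▸ card_dvd_of_le hMZ) with h | h
      · exact absurd (by rw [Subgroup.card_eq_one.1 h] at hxs; exact mem_bot.1 hxs) hc1
      · rw [h, hcard]
    rw [hM, hM] at h2
    rw [h2, card_bot] at hcard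
    exact hp.out.ne_one hcard.symm
  · by_contra hab
    push Not at hab
    have h1 : commutator P = ⊥ := by
      rw [_root_.commutator_def, eq_bot_iff, commutator_le]
      intro u _ v _
      rw [mem_bot]
      exact Subtype.ext (hab u u.2 v v.2)
    rw [h1, card_bot] at hge
    exact hp.out.ne_one hge.2.symm

variable {Z : Subgroup Ω}

/-- A conjugate of a generator of `Z` outside `Z` has elementary abelian centralizer in `P`. -/
theorem centralizer_elementary (hS : IsPGroup p S) (hF : F.IsSaturated p) (hP : F.StronglyClosed P)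
    (h : Setting S P Z p) {y z : Ω} {f : Ω → Ω} (hy : y ∈ P) (hyZ : y ∉ Z) (hz : z ∈ Z)
    (hz1 : z ≠ 1) (hf : IsMap F (zpowers y) f) (hfy : f y = z) :
    ∃ g, IsMap F (zpowers y ⊔ centralizerIn S (zpowers y)) g ∧ g y = z ∧
      ∀ u ∈ P, Commute u y → ∀ v ∈ P, Commute v y → Commute u v ∧ u ^ p = 1 := by
  haveI := finite_of_le hP.1
  have hzS : z ∈ S := hP.1 (h.le hz)
  have hzle : zpowers z ≤ S := zpowers_le.2 hzS
  have hyS : y ∈ S := hP.1 hy
  haveI := finite_of_le (zpowers_le.2 hyS)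
  haveI := finite_of_le hzle
  have hFN : F.IsFullyNormalized (zpowers z) := by
    refine ⟨hzle, fun R _ => ?_⟩
    haveI := finite_normalizerIn (S := S) (P := zpowers z)
    refine Subgroup.card_le_of_le (inf_le_left.trans (le_inf le_rfl fun s hs => ?_))
    refine mem_normalizer_iff_map_conj_eq.2 ?_
    rw [MonoidHom.map_zpowers]
    show zpowers (s * z * s⁻¹) = zpowers z
    rw [h.central s hs z hz, mul_inv_cancel_right]
  have hi : img (zpowers y) f = zpowers z := by
    have hzm : z ∈ img (zpowers y) f := hfy ▸ hf.apply_mem_img (mem_zpowers y)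
    refine le_antisymm (fun w hw => ?_) (zpowers_le.2 hzm)
    obtain ⟨v, hv, rfl⟩ := hf.mem_img.1 hw
    obtain ⟨k, rfl⟩ := mem_zpowers_iff.1 hv
    have h1 := map_zpow hf.toHom ⟨y, mem_zpowers y⟩ k
    have h2 : f (y ^ k) = f y ^ k := by
      simpa [IsMap.toHom] using h1
    rw [h2, hfy]
    exact zpow_mem (mem_zpowers z) k
  obtain ⟨g, hg, hgx⟩ := receptive_extend_centralizer (receptive_of_fullyNormalized hS hF hFN) hf hi
  refine ⟨g, hg, (hgx y (mem_zpowers y)).trans hfy, fun u hu huy v hv hvy => ?_⟩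
  set D := zpowers y ⊔ centralizerIn S (zpowers y)
  have hCD : ∀ w ∈ P, Commute w y → w ∈ D := fun w hw hwy => mem_sup_right ⟨hP.1 hw, fun x hx => by
    obtain ⟨k, rfl⟩ := mem_zpowers_iff.1 hx
    exact (hwy.symm.zpow_left k).eq⟩
  have hgP : ∀ w ∈ P, Commute w y → g w ∈ P := fun w hw hwy =>
    StronglyClosed.apply_mem hP hg (hCD w hw hwy) hw
  -- an element of `Z` whose image lies in `Z` is trivial
  have key : ∀ c ∈ Z, g c ∈ Z → c = 1 := by
    intro c hc hgc
    by_contra hc1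
    have hzc : ∀ w ∈ Z, ∀ d ∈ Z, d ≠ 1 → w ∈ zpowers d := by
      intro w hw d hd hd1
      haveI := finite_of_le (h.le.trans hP.1)
      have hle : zpowers d ≤ Z := zpowers_le.2 hd
      rcases (Nat.dvd_prime hp.out).1 (h.card ▸ card_dvd_of_le hle) with h' | h'
      · rw [Subgroup.card_eq_one, zpowers_eq_bot] at h'
        exact absurd h' hd1
      · exact (eq_of_le_of_card_ge hle (by rw [h', h.card])).ge hw
    obtain ⟨i, hi'⟩ := mem_zpowers_iff.1 (hzc _ hgc z hz hz1)
    have hcy : Commute c y := (h.central y hyS c hc).symm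
    have hcD := hCD c (h.le hc) hcy
    have hyD : y ∈ D := mem_sup_left (mem_zpowers y)
    have hzp := map_zpow hg.toHom ⟨y, hyD⟩ i
    have h2 : g (y ^ i) = g y ^ i := by simpa [IsMap.toHom] using hzp
    have heq : c = y ^ i := congrArg Subtype.val (F.injective_of_mem hg.toHom_mem (show hg.toHom ⟨c, hcD⟩ =
      hg.toHom ⟨y ^ i, zpow_mem hyD i⟩ by
        simp only [IsMap.toHom_apply]
        rw [h2, (hgx y (mem_zpowers y)).trans hfy, hi']))
    -- `y` lies in `Z`
    refine hyZ ?_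
    have hci : y ∈ zpowers c := by
      have hd : ¬ (p : ℤ) ∣ i := by
        rintro ⟨j, rfl⟩
        have hyp : (y ^ (p : ℤ)) ∈ Z := by rw [zpow_natCast]; exact h.pow y hy
        have hgyp : g (y ^ (p : ℤ)) = 1 := by
          have hzp' := map_zpow hg.toHom ⟨y, hyD⟩ (p : ℤ)
          have h3 : g (y ^ (p : ℤ)) = g y ^ (p : ℤ) := by simpa [IsMap.toHom] using hzp'
          rw [h3, (hgx y (mem_zpowers y)).trans hfy, zpow_natCast, ← h.card]
          exact congrArg Subtype.val (pow_card_eq_one' (x := (⟨z, hz⟩ : Z)))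
        have hy1 : y ^ (p : ℤ) = 1 := congrArg Subtype.val (F.injective_of_mem hg.toHom_mem
          (show hg.toHom ⟨y ^ (p : ℤ), zpow_mem hyD _⟩ = hg.toHom ⟨1, D.one_mem⟩ by
            simp only [IsMap.toHom_apply]
            rw [hgyp]
            exact (map_one hg.toHom).symm.trans (IsMap.toHom_apply _ _)))
        rw [zpow_mul, hy1, one_zpow] at heq
        exact hc1 heq
      obtain ⟨a, b, hab⟩ := ((Nat.prime_iff_prime_int.1 hp.out).coprime_iff_not_dvd.2 hd).symm
      refine mem_zpowers_iff.2 ⟨a, ?_⟩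
      have hy1 : y ^ (p : ℤ) = 1 := by
        have hc' : c ^ p = 1 := by
          rw [← h.card]; exact congrArg Subtype.val (pow_card_eq_one' (x := (⟨c, hc⟩ : Z)))
        obtain ⟨k, hk⟩ := mem_zpowers_iff.1 (hzc (y ^ (p : ℤ)) (by rw [zpow_natCast]; exact h.pow y hy)
          c hc hc1)
        have hz' : z ^ p = 1 := by
          rw [← h.card]; exact congrArg Subtype.val (pow_card_eq_one' (x := (⟨z, hz⟩ : Z)))
        refine congrArg Subtype.val (F.injective_of_mem hg.toHom_mem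
          (show hg.toHom ⟨y ^ (p : ℤ), zpow_mem hyD _⟩ = hg.toHom ⟨1, D.one_mem⟩ from ?_))
        simp only [IsMap.toHom_apply]
        have hzp' := map_zpow hg.toHom ⟨y, hyD⟩ (p : ℤ)
        have h3 : g (y ^ (p : ℤ)) = g y ^ (p : ℤ) := by simpa [IsMap.toHom] using hzp'
        rw [h3, (hgx y (mem_zpowers y)).trans hfy, zpow_natCast, hz']
        exact ((IsMap.toHom_apply _ _).symm.trans (map_one hg.toHom)).symm
      calc c ^ a = y ^ (a * i + b * (p : ℤ)) := by
            rw [heq, ← zpow_mul, zpow_add, mul_comm b, zpow_mul y (p : ℤ), hy1, one_zpow, mul_one,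
              mul_comm a]
        _ = y := by rw [hab, zpow_one]
    exact zpowers_le.2 hc hci
  have hgu := hCD u hu huy
  have hgv := hCD v hv hvy
  constructor
  · refine commutatorElement_eq_one_iff_commute.1 (key _ (h.comm u hu v hv) ?_)
    have hmap : g ⁅u, v⁆ = ⁅g u, g v⁆ := by
      have h1 := map_commutatorElement hg.toHom ⟨u, hgu⟩ ⟨v, hgv⟩
      simp only [IsMap.toHom_apply] at h1
      exact h1
    rw [hmap]
    exact h.comm _ (hgP u hu huy) _ (hgP v hv hvy)
  · refine key _ (h.pow u hu) ?_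
    have hmap : g (u ^ p) = g u ^ p := by
      have h1 := map_pow hg.toHom ⟨u, hgu⟩ p
      simp only [IsMap.toHom_apply] at h1
      exact h1
    rw [hmap]
    exact h.pow _ (hgP u hu huy)

/-- If the derived subgroup is not invariant in some radical subgroup, `P` has an elementary abelian
maximal subgroup centralizing an outside conjugate `y` of a generator of `Z`. -/
theorem normal_or_moved (hS : IsPGroup p S) (hF : F.IsSaturated p) (hP : F.StronglyClosed P)
    (h : Setting S P Z p) :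
    F.IsNormal P ∨ ∃ y ∈ P, y ∉ Z ∧ ∃ z ∈ Z, z ≠ 1 ∧ ∃ f, IsMap F (zpowers y) f ∧ f y = z := by
  by_contra hcon
  push Not at hcon
  obtain ⟨hn, hno⟩ := hcon
  apply hn
  refine isNormal_of_le_centricRadical hS hF hP fun R hc hr => ?_
  let C : ℕ → Subgroup Ω := fun k => if k = 0 then ⊥ else if k = 1 then Z else P
  refine CfsgLib.Invol.MetacyclicClosed.le_centricRadical_of_invariant hS hP 2 C rfl rfl ?_ ?_ ?_ hc hr ?_
  · intro i hi
    interval_cases i
    · exact bot_le
    · exact h.le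
  · intro i hi
    interval_cases i
    · show ⁅Z, P⁆ ≤ ⊥
      rw [commutator_le]
      exact fun x hx s hs => commutatorElement_eq_one_iff_mul_comm.2 (h.central s (hP.1 hs) x hx).symm
    · show ⁅P, P⁆ ≤ Z
      exact commutator_le.2 h.comm
  · intro i hi s hs
    interval_cases i
    · intro x
      simp [C]
    · show s ∈ normalizer (Z : Set Ω)
      intro x
      refine ⟨fun hx => ?_, fun hx => ?_⟩
      · rw [h.central s hs x hx, mul_inv_cancel_right]; exact hx
      · have h1 := h.central s hs _ hx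
        rw [inv_mul_cancel_right] at h1
        have h2 : s * (s * x * s⁻¹) = s * x := h1
        rw [mul_left_cancel h2] at hx
        exact hx
  intro i hi hiR α hα x hx
  interval_cases i
  · rw [show C 0 = ⊥ from rfl, mem_bot] at hx ⊢
    have : x = 1 := Subtype.ext hx
    rw [this, map_one]
    rfl
  show ((α x : R) : Ω) ∈ Z
  by_contra hy
  have hx' : (x : Ω) ∈ Z := hx
  have hx1 : (x : Ω) ≠ 1 := fun he => hy (by
    rw [show x = 1 from Subtype.ext he, map_one]
    exact Z.one_mem)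
  have hyP : ((α x : R) : Ω) ∈ P := by
    have := StronglyClosed.apply_mem hP (isMap_of_autGroup hc.1 hα) x.2 (h.le hx')
    rwa [toFun_aut_apply _ x.2] at this
  have hm := (isMap_of_autGroup hc.1 (F.autGroup R |>.inv_mem hα)).mono
    (zpowers_le.2 (α x).2 : zpowers ((α x : R) : Ω) ≤ R)
  refine hno _ hyP hy _ hx' hx1 _ hm ?_
  rw [toFun_aut_apply _ (α x).2]
  exact congrArg Subtype.val (MulAut.inv_apply_self _ α x)

/-- For odd `p` some element outside the elementary maximal subgroup has order `p`; for `p = 2`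
an involution does. -/
theorem exists_order_p (hS : IsPGroup p S) (hF : F.IsSaturated p) (hP : F.StronglyClosed P)
    (h : Setting S P Z p) {y z : Ω} {f : Ω → Ω} (hy : y ∈ P) (hyZ : y ∉ Z) (hz : z ∈ Z)
    (hz1 : z ≠ 1) (hf : IsMap F (zpowers y) f) (hfy : f y = z) :
    ∃ a ∈ P, ¬ Commute a y ∧ a ^ p = 1 := by
  classical
  haveI := finite_of_le hP.1
  haveI := finite_of_le (h.le.trans hP.1)
  obtain ⟨g, hg, hgy, hel⟩ := centralizer_elementary hS hF hP h hy hyZ hz hz1 hf hfy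
  have hPS := hP.1
  have hZp : ∀ c ∈ Z, c ^ p = 1 := fun c hc => by
    rw [← h.card]; exact congrArg Subtype.val (pow_card_eq_one' (x := (⟨c, hc⟩ : Z)))
  have hzc : ∀ w ∈ Z, ∀ d ∈ Z, d ≠ 1 → w ∈ zpowers d := by
    intro w hw d hd hd1
    have hle : zpowers d ≤ Z := zpowers_le.2 hd
    rcases (Nat.dvd_prime hp.out).1 (h.card ▸ card_dvd_of_le hle) with h' | h'
    · rw [Subgroup.card_eq_one, zpowers_eq_bot] at h'
      exact absurd h' hd1
    · exact (eq_of_le_of_card_ge hle (by rw [h', h.card])).ge hw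
  obtain ⟨a₀, ha₀, hay₀⟩ : ∃ a ∈ P, ¬ Commute a y := by
    by_contra hall
    push Not at hall
    obtain ⟨u, hu, v, hv, huv⟩ := h.nonabelian
    exact huv (commutatorElement_eq_one_iff_commute.2 (hel u hu (hall u hu) v hv (hall v hv)).1)
  have hyp : y ^ p = 1 := (hel y hy (Commute.refl y) y hy (Commute.refl y)).2
  set c₀ := ⁅a₀, y⁆
  have hc₀ : c₀ ∈ Z := h.comm a₀ ha₀ y hy
  have hc₀1 : c₀ ≠ 1 := fun e => hay₀ (commutatorElement_eq_one_iff_commute.1 e)
  have hcen : ∀ u ∈ P, ∀ c ∈ Z, Commute u c := fun u hu c hc => h.central u (hPS hu) c hc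
  rcases eq_or_ne p 2 with hp2 | hp2
  · subst hp2
    by_cases ha2 : a₀ ^ 2 = 1
    · exact ⟨a₀, ha₀, hay₀, ha2⟩
    refine ⟨a₀ * y, P.mul_mem ha₀ hy, fun hcm => hay₀ ?_, ?_⟩
    · have := hcm.mul_left ((Commute.refl y).inv_left)
      rwa [mul_inv_cancel_right] at this
    · have h2 : a₀ * y = c₀ * (y * a₀) := by
        simp only [c₀, commutatorElement_def]; group
      have hy2 : y * y = 1 := by rw [← sq, hyp]
      have e : (a₀ * y) ^ 2 = c₀ * (a₀ * a₀) := by
        calc (a₀ * y) ^ 2 = (a₀ * y) * (a₀ * y) := sq _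
          _ = a₀ * (y * a₀) * y := by group
          _ = a₀ * (c₀⁻¹ * (a₀ * y)) * y := by rw [h2]; group
          _ = c₀⁻¹ * (a₀ * a₀ * (y * y)) := by
            rw [← mul_assoc a₀, (hcen a₀ ha₀ _ (Z.inv_mem hc₀)).eq]; group
          _ = c₀ * (a₀ * a₀) := by
            rw [hy2, mul_one, inv_eq_of_mul_eq_one_right (show c₀ * c₀ = 1 by rw [← sq, hZp c₀ hc₀])]
      have hmem := h.pow a₀ ha₀
      obtain ⟨k, hk⟩ := mem_zpowers_iff.1 (hzc _ hmem c₀ hc₀ hc₀1)
      have hk' : a₀ * a₀ = c₀ := by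
        rw [sq] at hk ha2
        rcases Int.even_or_odd k with ⟨j, rfl⟩ | ⟨j, rfl⟩
        · rw [← two_mul, zpow_mul, show c₀ ^ (2 : ℤ) = 1 by
            rw [show (2 : ℤ) = ((2 : ℕ) : ℤ) from rfl, zpow_natCast, hZp c₀ hc₀], one_zpow] at hk
          exact absurd hk.symm ha2
        · rw [zpow_add, zpow_mul, show c₀ ^ (2 : ℤ) = 1 by
            rw [show (2 : ℤ) = ((2 : ℕ) : ℤ) from rfl, zpow_natCast, hZp c₀ hc₀], one_zpow, one_mul,
            zpow_one] at hk
          exact hk.symm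
      rw [e, hk', ← sq, hZp c₀ hc₀]
  by_contra hno
  push Not at hno
  have hodd : Odd p := hp.out.odd_of_ne_two hp2
  -- the elementary maximal subgroup
  let M : Subgroup Ω := P ⊓ centralizer ({y} : Set Ω)
  have hMmem : ∀ u, u ∈ M ↔ u ∈ P ∧ Commute u y := fun u => by
    refine ⟨fun hu => ⟨hu.1, (mem_centralizer_singleton_iff.1 hu.2)⟩, fun hu => ⟨hu.1, ?_⟩⟩
    exact mem_centralizer_singleton_iff.2 hu.2
  have hMP : M ≤ P := inf_le_left
  have hMS : M ≤ S := hMP.trans hPS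
  haveI := finite_of_le hMS
  have hMΩ : ∀ u, u ∈ M ↔ u ∈ P ∧ u ^ p = 1 := by
    intro u
    refine ⟨fun hu => ⟨((hMmem u).1 hu).1, (hel u ((hMmem u).1 hu).1 ((hMmem u).1 hu).2 u
      ((hMmem u).1 hu).1 ((hMmem u).1 hu).2).2⟩, fun hu => (hMmem u).2 ⟨hu.1, ?_⟩⟩
    by_contra hne
    exact hno u hu.1 hne hu.2
  have hMab : ∀ u ∈ M, ∀ v ∈ M, Commute u v := fun u hu v hv =>
    (hel u ((hMmem u).1 hu).1 ((hMmem u).1 hu).2 v ((hMmem v).1 hv).1 ((hMmem v).1 hv).2).1
  have hyM : y ∈ M := (hMmem y).2 ⟨hy, Commute.refl y⟩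
  have hZM : ∀ c ∈ Z, c ∈ M := fun c hc => (hMmem c).2 ⟨h.le hc, (hcen y hy c hc).symm⟩
  have hMnorm : ∀ s ∈ S, s ∈ normalizer (M : Set Ω) := by
    have hk : ∀ s ∈ S, ∀ u ∈ M, s * u * s⁻¹ ∈ M := fun s hs u hu => (hMΩ _).2
      ⟨StronglyClosed.conj_mem hP hs ((hMΩ u).1 hu).1, by
        rw [conj_pow, ((hMΩ u).1 hu).2, mul_one, mul_inv_cancel]⟩
    intro s hs u
    refine ⟨hk s hs u, fun hu => ?_⟩
    have := hk s⁻¹ (S.inv_mem hs) _ hu
    simpa [mul_assoc] using this
  have hFN : F.IsFullyNormalized M := by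
    refine ⟨hMS, fun R _ => ?_⟩
    haveI := finite_normalizerIn (S := S) (P := M)
    exact Subgroup.card_le_of_le (inf_le_left.trans (le_inf le_rfl hMnorm))
  -- `y ↦ z` inside `Aut_F(M)`
  have hMD : M ≤ zpowers y ⊔ centralizerIn S (zpowers y) := fun u hu => mem_sup_right
    ⟨hMS hu, fun x hx => by
      obtain ⟨k, rfl⟩ := mem_zpowers_iff.1 hx
      exact (((hMmem u).1 hu).2.symm.zpow_left k).eq⟩
  have hgM := hg.mono hMD
  have hgi : img M g = M := by
    refine eq_of_le_of_card_le (fun w hw => ?_) hgM.card_img.ge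
    obtain ⟨u, hu, rfl⟩ := hgM.mem_img.1 hw
    refine (hMΩ _).2 ⟨StronglyClosed.apply_mem hP hgM hu (hMP hu), ?_⟩
    have h1 := map_pow hgM.toHom ⟨u, hu⟩ p
    simp only [IsMap.toHom_apply] at h1
    rw [← h1, show (⟨u, hu⟩ : M) ^ p = 1 from Subtype.ext ((hMΩ u).1 hu).2]
    exact (IsMap.toHom_apply hgM 1).symm.trans (map_one hgM.toHom)
  set γ : MulAut M := hgM.toAut hgi with hγdef
  have hγA : γ ∈ F.autGroup M := hgM.toAut_mem hgi
  set y' : M := ⟨y, hyM⟩
  set z' : M := ⟨z, hZM z hz⟩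
  have hγy : γ y' = z' := Subtype.ext (by rw [hγdef, IsMap.toAut_apply]; exact hgy)
  -- conjugation by a normalized outside element
  obtain ⟨k, hk⟩ := mem_zpowers_iff.1 (hzc z hz c₀ hc₀ hc₀1)
  have hconj : ∀ n : ℕ, a₀ ^ n * y * (a₀ ^ n)⁻¹ = c₀ ^ n * y := by
    intro n
    induction n with
    | zero => simp
    | succ n ih =>
      calc a₀ ^ (n + 1) * y * (a₀ ^ (n + 1))⁻¹ = a₀ * (a₀ ^ n * y * (a₀ ^ n)⁻¹) * a₀⁻¹ := by
            rw [pow_succ']; group
        _ = a₀ * c₀ ^ n * y * a₀⁻¹ := by rw [ih]; group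
        _ = c₀ ^ n * (a₀ * y * a₀⁻¹) := by
            rw [((hcen a₀ ha₀ c₀ hc₀).pow_right n).eq]; group
        _ = c₀ ^ n * (c₀ * y) := by simp only [c₀, commutatorElement_def]; group
        _ = c₀ ^ (n + 1) * y := by rw [pow_succ]; group
  obtain ⟨n, hn⟩ : ∃ n : ℕ, c₀ ^ n = z := by
    refine ⟨(k % p).toNat, ?_⟩
    rw [← zpow_natCast, Int.toNat_of_nonneg (Int.emod_nonneg _ (by exact_mod_cast hp.out.ne_zero)),
      ← zpow_eq_zpow_emod' k (hZp c₀ hc₀), hk]
  set a := a₀ ^ n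
  have haP : a ∈ P := P.pow_mem ha₀ n
  have haN : a ∈ normalizer (M : Set Ω) := hMnorm a (hPS haP)
  set τ : MulAut M := M.normalizerMonoidHom ⟨a, haN⟩
  have hτA : τ ∈ F.autGroup M := autInducedBy_le_autGroup hMS
    (mem_autInducedBy_iff.2 ⟨a, hPS haP, fun _ => rfl⟩)
  have hτv : ∀ u : M, ((τ u : M) : Ω) = a * (u : Ω) * a⁻¹ := fun _ => rfl
  have hMc : ∀ u v : M, u * v = v * u := fun u v => Subtype.ext (hMab u u.2 v v.2).eq
  letI : CommGroup M := { (inferInstance : Group M) with mul_comm := hMc }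
  have hτy : τ y' = y' * z' := Subtype.ext (by
    rw [hτv]
    show a₀ ^ n * y * (a₀ ^ n)⁻¹ = y * z
    rw [hconj, hn]
    exact ((hcen y hy z hz).eq).symm)
  have hτz : τ z' = z' := Subtype.ext (by
    rw [hτv]
    show a * z * a⁻¹ = z
    rw [(hcen a haP z hz).eq, mul_inv_cancel_right])
  -- every commutator with `a` is a power of `z`
  have hT : ∀ u : M, ∃ i : ℤ, τ u = u * z' ^ i := by
    intro u
    have h1 : ⁅a, (u : Ω)⁆ ∈ Z := h.comm a haP u (hMP u.2)
    obtain ⟨i, hi⟩ := mem_zpowers_iff.1 (hzc _ h1 z hz hz1)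
    refine ⟨i, Subtype.ext ?_⟩
    rw [hτv, Subgroup.coe_mul, Subgroup.coe_zpow]
    show a * u * a⁻¹ = u * z ^ i
    rw [hi, (hcen u (hMP u.2) _ h1).eq]
    simp [commutatorElement_def, mul_assoc]
  obtain ⟨σ, hσdef⟩ : ∃ σ : MulAut M, σ = γ⁻¹ * τ * γ := ⟨_, rfl⟩
  have hσy : σ y' = y' := by
    rw [hσdef, MulAut.mul_apply, MulAut.mul_apply, hγy, hτz, ← hγy, MulAut.inv_apply_self]
  have hσT : ∀ u : M, ∃ i : ℤ, σ u = u * y' ^ i := by
    intro u
    obtain ⟨i, hi⟩ := hT (γ u)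
    refine ⟨i, ?_⟩
    rw [hσdef, MulAut.mul_apply, MulAut.mul_apply, hi, map_mul, map_zpow, MulAut.inv_apply_self, ← hγy,
      MulAut.inv_apply_self]
  have hy'p : y' ^ (p : ℤ) = 1 := Subtype.ext (by rw [Subgroup.coe_zpow, zpow_natCast]; exact hyp)
  have hz'p : z' ^ (p : ℤ) = 1 := Subtype.ext (by rw [Subgroup.coe_zpow, zpow_natCast]; exact hZp z hz)
  obtain ⟨j, hj⟩ := hσT z'
  have hjd : ¬ (p : ℤ) ∣ j := by
    intro hd
    obtain ⟨l, rfl⟩ := hd
    rw [zpow_mul, hy'p, one_zpow, mul_one] at hj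
    -- then `γ z` is central in `P`
    have hfix : τ (γ z') = γ z' := by
      have := congrArg γ hj
      rw [hσdef] at this
      rwa [MulAut.mul_apply, MulAut.mul_apply, MulAut.apply_inv_self] at this
    set w := γ z'
    have hwa : Commute (w : Ω) a := by
      have := congrArg Subtype.val hfix
      rw [hτv, mul_inv_eq_iff_eq_mul] at this
      exact this.symm
    have hwnot : (w : Ω) ∉ Z := by
      intro hwZ
      obtain ⟨i, hi⟩ := mem_zpowers_iff.1 (hzc _ hwZ z hz hz1)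
      have h1 : z' = y' ^ i := γ.injective (by
        rw [map_zpow, hγy]; exact Subtype.ext (by rw [Subgroup.coe_zpow]; exact hi.symm))
      have hdi : ¬ (p : ℤ) ∣ i := by
        rintro ⟨q, rfl⟩
        rw [zpow_mul, hy'p, one_zpow] at h1
        exact hz1 (congrArg Subtype.val h1)
      obtain ⟨b, d, hbd⟩ := ((Nat.prime_iff_prime_int.1 hp.out).coprime_iff_not_dvd.2 hdi).symm
      have h2 : y' = z' ^ b := by
        rw [h1, ← zpow_mul]
        calc y' = y' ^ (b * i + d * (p : ℤ)) := by rw [hbd, zpow_one]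
          _ = y' ^ (i * b) := by
            rw [zpow_add, mul_comm d, zpow_mul y' (p : ℤ), hy'p, one_zpow, mul_one, mul_comm]
      refine hyZ ?_
      have := congrArg Subtype.val h2
      rw [Subgroup.coe_zpow] at this
      exact (show y = z ^ b from this) ▸ Z.zpow_mem hz b
    obtain ⟨-, -, -, hel'⟩ := centralizer_elementary hS hF hP h (hMP w.2) hwnot hz hz1
      ((isMap_of_autGroup hMS (F.autGroup M |>.inv_mem hγA)).mono (zpowers_le.2 w.2)) (by
        rw [toFun_aut_apply _ w.2]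
        exact congrArg Subtype.val (MulAut.inv_apply_self _ γ z'))
    have hy2 := (hel' a haP hwa.symm y hy (hMab y hyM w w.2)).1
    refine hz1 ?_
    rw [← hn]
    have := hconj n
    rw [show a₀ ^ n * y = y * a₀ ^ n from hy2.eq, mul_inv_cancel_right] at this
    exact mul_eq_right.1 this.symm
  obtain ⟨b, d, hbd⟩ := ((Nat.prime_iff_prime_int.1 hp.out).coprime_iff_not_dvd.2 hjd).symm
  have hσA : σ ∈ F.autGroup M := hσdef ▸
    (F.autGroup M).mul_mem ((F.autGroup M).mul_mem ((F.autGroup M).inv_mem hγA) hτA) hγA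
  have hσpow : ∀ i : ℤ, (σ ^ i) z' = z' * y' ^ (j * i) ∧ (σ ^ i) y' = y' := by
    intro i
    induction i with
    | zero => simp
    | succ m ih =>
      rw [zpow_add, zpow_one, MulAut.mul_apply, MulAut.mul_apply, hj, hσy, map_mul, map_zpow, ih.1, ih.2,
        mul_assoc, ← zpow_add]
      exact ⟨by rw [show j * (m : ℤ) + j = j * ((m : ℤ) + 1) by ring], rfl⟩
    | pred m ih =>
      have hinvy : σ⁻¹ y' = y' := by
        conv_lhs => rw [← hσy]
        exact MulAut.inv_apply_self _ σ y'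
      have hinvz : σ⁻¹ z' = z' * y' ^ (-j) := by
        apply σ.injective
        rw [MulAut.apply_inv_self, map_mul, map_zpow, hj, hσy, mul_assoc, ← zpow_add, add_neg_cancel,
          zpow_zero, mul_one]
      rw [zpow_sub, zpow_one, MulAut.mul_apply, MulAut.mul_apply, hinvz, hinvy, map_mul, map_zpow,
        ih.1, ih.2, mul_assoc, ← zpow_add]
      exact ⟨by rw [show j * -(m : ℤ) + -j = j * (-(m : ℤ) - 1) by ring], rfl⟩
  set σ₁ := σ ^ (-b)
  have hσ₁ : σ₁ z' = z' * y'⁻¹ ∧ σ₁ y' = y' := by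
    refine ⟨?_, (hσpow (-b)).2⟩
    rw [(hσpow (-b)).1, show j * -b = -1 + (p : ℤ) * d by linear_combination -hbd, zpow_add,
      zpow_mul y' (p : ℤ), hy'p, one_zpow, mul_one, zpow_neg_one]
  set u₀ := τ * σ₁ * τ
  have huy : u₀ y' = z' := by
    rw [MulAut.mul_apply, MulAut.mul_apply, hτy, map_mul, hσ₁.2, hσ₁.1, mul_left_comm, mul_inv_cancel,
      mul_one, hτz]
  have huz : u₀ z' = y'⁻¹ := by
    simp only [u₀, MulAut.mul_apply, hτz, hσ₁.1, map_mul, map_inv, hτy, mul_inv_rev]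
    rw [← mul_assoc, mul_inv_cancel, one_mul]
  set β := u₀ * u₀
  have hβy : β y' = y'⁻¹ := by rw [MulAut.mul_apply, huy, huz]
  have hβz : β z' = z'⁻¹ := by rw [MulAut.mul_apply, huz, map_inv, huy]
  have hβA : β ∈ F.autGroup M := by
    have h1 : u₀ ∈ F.autGroup M :=
      (F.autGroup M).mul_mem ((F.autGroup M).mul_mem hτA ((F.autGroup M).zpow_mem hσA _)) hτA
    exact (F.autGroup M).mul_mem h1 h1
  -- `β` commutes with `τ`
  have hcommτ : ∀ u : M, β (τ u) = τ (β u) := by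
    intro u
    obtain ⟨i, hi⟩ := hT u
    set u₁ := u * y' ^ (-i)
    have h1 : τ u₁ = u₁ := by
      rw [map_mul, map_zpow, hi, hτy, mul_zpow, zpow_neg, zpow_neg]
      simp [u₁, mul_comm, mul_left_comm, mul_assoc]
    obtain ⟨l, hl⟩ := hσT u₁
    set u₂ := u₁ * z' ^ (-(l * b))
    have h2 : τ u₂ = u₂ := by rw [map_mul, map_zpow, h1, hτz]
    have h3 : σ u₂ = u₂ := by
      rw [map_mul, map_zpow, hl, hj, mul_zpow, ← zpow_mul, show j * -(l * b) = -l + (p : ℤ) * (d * l) by
        linear_combination -l * hbd, zpow_add, zpow_mul y' (p : ℤ), hy'p, one_zpow, mul_one,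
        zpow_neg y' l]
      simp [u₂, mul_comm, mul_left_comm, mul_assoc]
      rw [mul_left_comm (y' ^ l), mul_inv_cancel_left]
    have h4 : σ₁ u₂ = u₂ := zpow_mem (show σ ∈ MulAction.stabilizer (MulAut M) u₂ from h3) (-b)
    have h5 : β u₂ = u₂ := by
      simp only [β, u₀, MulAut.mul_apply, h2, h4]
    have hu : u = u₂ * z' ^ (l * b) * y' ^ i := by
      simp only [u₂, u₁, zpow_neg]
      simp [mul_assoc]
    rw [hu]
    simp only [map_mul, map_zpow, map_inv, hτy, hτz, hβy, hβz, h5, h2]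
    simp [mul_zpow, mul_comm, mul_left_comm, mul_assoc]
  -- all of `P` acts through powers of `τ`
  have hcommP : ∀ v ∈ P, ∀ u : M, ∀ hu : v * (u : Ω) * v⁻¹ ∈ M,
      ((β ⟨_, hu⟩ : M) : Ω) = v * ((β u : M) : Ω) * v⁻¹ := by
    intro v hv u hu
    obtain ⟨m, hm⟩ := mem_zpowers_iff.1 (hzc _ (h.comm v hv y hy) z hz hz1)
    -- `v a^(-m)` centralizes `y`
    set t := v * a ^ (-m) with ht
    have htM : t ∈ M := by
      refine (hMmem t).2 ⟨P.mul_mem hv (P.zpow_mem haP _), ?_⟩
      have e1 : a ^ (-m) * y * (a ^ (-m))⁻¹ = z ^ (-m) * y := by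
        have hb : ∀ q : ℤ, (τ ^ q) y' = y' * z' ^ q := by
          intro q
          induction q with
          | zero => simp
          | succ q ih =>
            rw [zpow_add, zpow_one, MulAut.mul_apply, hτy, map_mul, ih,
              show (τ ^ (q : ℤ)) z' = z' from
                zpow_mem (show τ ∈ MulAction.stabilizer (MulAut M) z' from hτz) _,
              mul_assoc, ← zpow_add_one]
          | pred q ih =>
            have hi : τ⁻¹ y' = y' * z'⁻¹ := by
              apply τ.injective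
              rw [MulAut.apply_inv_self, map_mul, map_inv, hτy, hτz, mul_inv_cancel_right]
            rw [zpow_sub, zpow_one, MulAut.mul_apply, hi, map_mul, ih, map_inv,
              show (τ ^ (-(q : ℤ))) z' = z' from
                zpow_mem (show τ ∈ MulAction.stabilizer (MulAut M) z' from hτz) _,
              mul_assoc, ← zpow_sub_one]
        have := congrArg Subtype.val (hb (-m))
        have e' : (((τ ^ (-m)) y' : M) : Ω) = a ^ (-m) * y * (a ^ (-m))⁻¹ := by
          rw [show τ ^ (-m) = M.normalizerMonoidHom (⟨a, haN⟩ ^ (-m)) from (map_zpow _ _ _).symm]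
          rfl
        rw [← e', this, Subgroup.coe_mul, Subgroup.coe_zpow]
        exact (hcen y hy _ (Z.zpow_mem hz _)).eq
      rw [commute_iff_eq, ← mul_inv_eq_iff_eq_mul]
      calc t * y * t⁻¹ = v * (a ^ (-m) * y * (a ^ (-m))⁻¹) * v⁻¹ := by rw [ht]; group
        _ = v * (z ^ (-m) * y) * v⁻¹ := by rw [e1]
        _ = z ^ (-m) * (v * y * v⁻¹) := by
            rw [← mul_assoc, (hcen v hv _ (Z.zpow_mem hz (-m))).eq]; group
        _ = z ^ (-m) * (z ^ m * y) := by rw [hm]; simp [commutatorElement_def, mul_assoc]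
        _ = y := by rw [← mul_assoc, ← zpow_add, neg_add_cancel, zpow_zero, one_mul]
    have hvt : ∀ w : M, v * (w : Ω) * v⁻¹ = (((τ ^ m) w : M) : Ω) := by
      intro w
      rw [← map_zpow]
      show v * (w : Ω) * v⁻¹ = a ^ m * (w : Ω) * (a ^ m)⁻¹
      calc v * (w : Ω) * v⁻¹ = t * (a ^ m * w * (a ^ m)⁻¹) * t⁻¹ := by rw [ht]; group
        _ = a ^ m * (w : Ω) * (a ^ m)⁻¹ := by
          have hw : a ^ m * (w : Ω) * (a ^ m)⁻¹ ∈ M :=
            ((zpow_mem haN m : a ^ m ∈ normalizer (M : Set Ω)) w).1 w.2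
          rw [(hMab t htM _ hw).eq, mul_inv_cancel_right]
    rw [show (⟨_, hu⟩ : M) = (τ ^ m) u from Subtype.ext (hvt u), hvt]
    have hcm : Commute β (τ ^ m) := (show Commute β τ from MulEquiv.ext hcommτ).zpow_right m
    exact congrArg Subtype.val (DFunLike.congr_fun hcm.eq u)
  -- extend `β` to `P`
  obtain ⟨ψ, hψ, hψx⟩ := receptive_extend (receptive_of_fullyNormalized hS hF hFN)
    (isMap_of_autGroup hMS hβA) (img_toFun_aut β) hMP fun v hv => by
      refine ⟨hPS hv, hMnorm v (hPS hv), v, hPS hv, fun x hx => ?_⟩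
      have hvx : v * x * v⁻¹ ∈ M := (hMnorm v (hPS hv) x).1 hx
      rw [toFun_aut_apply β hvx, toFun_aut_apply β hx]
      exact hcommP v hv ⟨x, hx⟩ hvx
  have hψa : ψ a ∈ P := StronglyClosed.apply_mem hP hψ haP haP
  have hψM : ∀ u : M, ψ (u : Ω) = ((β u : M) : Ω) := fun u =>
    (hψx _ u.2).trans (toFun_aut_apply β u.2)
  -- `a⁻¹ ψ(a)` centralizes `y`
  set t := a⁻¹ * ψ a with ht
  have htM : t ∈ M := by
    refine (hMmem t).2 ⟨P.mul_mem (P.inv_mem haP) hψa, ?_⟩
    have hay : a * y * a⁻¹ ∈ P := P.mul_mem (P.mul_mem haP hy) (P.inv_mem haP)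
    have h2 : ψ (a * y * a⁻¹) = ψ a * ψ y * (ψ a)⁻¹ := hψ.map_conj haP hy
    have h3 : a * y * a⁻¹ = ((τ y' : M) : Ω) := (hτv y').symm
    rw [h3, hψM, hcommτ, hτv, hψM y', hβy] at h2
    have h4 : Commute t ((y'⁻¹ : M) : Ω) := by
      rw [commute_iff_eq, ← mul_inv_eq_iff_eq_mul, ht]
      calc a⁻¹ * ψ a * ((y'⁻¹ : M) : Ω) * (a⁻¹ * ψ a)⁻¹
          = a⁻¹ * (ψ a * ((y'⁻¹ : M) : Ω) * (ψ a)⁻¹) * a := by group
        _ = ((y'⁻¹ : M) : Ω) := by rw [← h2]; group
    simpa using h4.inv_right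
  -- compare `p`th powers
  have hap : a ^ p ≠ 1 := fun e => hno a haP (fun hcm => by
    have hh : a * y * a⁻¹ = y := by rw [hcm.eq, mul_inv_cancel_right]
    have hty := congrArg Subtype.val hτy
    rw [hτv, Subgroup.coe_mul] at hty
    exact hz1 (mul_eq_left.1 ((hty.symm.trans hh) : (y : Ω) * z = y))) e
  set e₀ : M := ⟨a ^ p, hZM _ (h.pow a haP)⟩
  have hβe : β e₀ = e₀⁻¹ := by
    obtain ⟨i, hi⟩ := mem_zpowers_iff.1 (hzc _ (h.pow a haP) z hz hz1)
    have : e₀ = z' ^ i := Subtype.ext (by rw [Subgroup.coe_zpow]; exact hi.symm)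
    rw [this, map_zpow, hβz, inv_zpow]
  have hψp : ψ (a ^ p) = a ^ p := by
    have h1 := map_pow hψ.toHom ⟨a, haP⟩ p
    simp only [IsMap.toHom_apply] at h1
    have h2 : ψ (a ^ p) = ψ a ^ p := h1
    rw [h2, show ψ a = a * t by rw [ht]; group]
    have hc : ∀ v : P, Commute ⁅(⟨t, hMP htM⟩ : P), ⟨a, haP⟩⁆ v := fun v =>
      Subtype.ext (hcen v v.2 _ (h.comm t (hMP htM) a haP)).symm.eq
    have h3 := congrArg Subtype.val
      (CfsgLib.PGroup.mul_pow_of_central_comm (⟨a, haP⟩ : P) ⟨t, hMP htM⟩ hc p)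
    simp only [Subgroup.coe_pow, Subgroup.coe_mul] at h3
    rw [h3, ((hMΩ t).1 htM).2, mul_one]
    obtain ⟨q, hq⟩ := hodd
    rw [show p.choose 2 = p * q by
      rw [Nat.choose_two_right, show p * (p - 1) = p * q * 2 by rw [hq]; simp; ring,
        Nat.mul_div_cancel _ two_pos], pow_mul,
      show ((⁅(⟨t, hMP htM⟩ : P), ⟨a, haP⟩⁆ : P) : Ω) ^ p = 1 from hZp _ (h.comm t (hMP htM) a haP),
      one_pow, mul_one]
  have h5 : β e₀ = e₀ := Subtype.ext ((hψM e₀).symm.trans hψp)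
  rw [hβe, inv_eq_iff_mul_eq_one] at h5
  obtain ⟨q, hq⟩ := hodd
  refine hap ?_
  have h6 : e₀ ^ p = 1 := Subtype.ext (by
    rw [Subgroup.coe_pow]; exact hZp _ (h.pow a haP))
  rw [hq, pow_succ, pow_mul, sq, h5, one_pow, one_mul] at h6
  exact congrArg Subtype.val h6

end CfsgLib.Invol.ExtraspecialClosed
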