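import Cfsg.Agent.S3357
import Cfsg.Agent.Lib.Recog.FpfLift
import Cfsg.Agent.Lib.Solvable.FrobeniusComplement
import Cfsg.Agent.Lib.StructC.FrobSemi
import Cfsg.Agent.Lib.StructC.FrobComplement

/-!
Frobenius complements and rational fixed-point-free representations; direct products of
Frobenius complements of coprime orders.
-/

set_option autoImplicit false
set_option linter.style.haveILetI false

open scoped Kronecker

namespace CfsgLib.Invol

/-- `G` occurs as a Frobenius complement. -/
def OccursFC (G : Type*) [Group G] : Prop :=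
  ∃ (L : Type) (_ : Group L) (_ : Finite L) (H : Subgroup L),
    Cfsg.IsFrobeniusComplement H ∧ Nonempty (G ≃* H)

/-- The sum of the matrices of the powers of `g`. -/
noncomputable def powSum {G : Type*} [Group G] {ι R : Type*} [Fintype ι] [DecidableEq ι] [Semiring R]
    (τ : G →* Matrix ι ι R) (g : G) : Matrix ι ι R :=
  ∑ j ∈ Finset.range (orderOf g), τ (g ^ j)

theorem powSum_eq_zero_of_fpf {G : Type*} [Group G] {ι R : Type*} [Fintype ι] [DecidableEq ι]
    [CommRing R] (τ : G →* Matrix ι ι R) (g : G)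
    (hfpf : ∀ v : ι → R, (τ g).mulVec v = v → v = 0) : powSum τ g = 0 := by
  have hS : τ g * powSum τ g = powSum τ g := by
    have h2 : τ g * powSum τ g = ∑ j ∈ Finset.range (orderOf g), τ (g ^ (j + 1)) := by
      rw [powSum, Finset.mul_sum]
      exact Finset.sum_congr rfl fun j _ => by rw [pow_succ', map_mul]
    have h3 := Finset.sum_range_succ' (fun j => τ (g ^ j)) (orderOf g)
    rw [Finset.sum_range_succ] at h3
    simp only [pow_orderOf_eq_one, pow_zero] at h3
    rw [h2]
    exact (add_right_cancel h3).symm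
  ext a b
  exact congrFun (hfpf (fun a => powSum τ g a b) (funext fun a => congrFun (congrFun hS a) b)) a

theorem eq_zero_of_powSum {G : Type*} [Group G] {ι K : Type*} [Fintype ι] [DecidableEq ι]
    [Field K] (τ : G →* Matrix ι ι K) (g : G) (hs : powSum τ g = 0)
    (ho : (orderOf g : K) ≠ 0) {v : ι → K} (hv : (τ g).mulVec v = v) : v = 0 := by
  have hj : ∀ j : ℕ, (τ (g ^ j)).mulVec v = v := by
    intro j
    induction j with
    | zero => rw [pow_zero, map_one, Matrix.one_mulVec]
    | succ j ih => rw [pow_succ, map_mul, ← Matrix.mulVec_mulVec, hv, ih]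
  have h : (powSum τ g).mulVec v = (orderOf g : K) • v := by
    rw [powSum, Matrix.sum_mulVec, Finset.sum_congr rfl (fun j _ => hj j), Finset.sum_const,
      Finset.card_range, Nat.cast_smul_eq_nsmul]
  rw [hs, Matrix.zero_mulVec] at h
  exact (smul_eq_zero.1 h.symm).resolve_left ho

theorem exists_rat_fpf {G : Type*} [Group G] [Finite G] (h : OccursFC G) :
    ∃ (m : ℕ) (τ : G →* Matrix (Fin m) (Fin m) ℚ), 0 < m ∧
      ∀ g : G, g ≠ 1 → powSum τ g = 0 := by
  classical
  obtain ⟨L, _, _, H, hH, ⟨e⟩⟩ := h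
  obtain ⟨V, φ, hVc, hVne, hco, hfpf⟩ := CfsgLib.Solvable.exists_fpf_abelian hH
  letI : CommGroup V := { (inferInstance : Group V) with mul_comm := hVc.is_comm.comm }
  haveI : Nontrivial V := V.nontrivial_iff_ne_bot.mpr hVne
  obtain ⟨p, hp, n, hn, ρ, hρ, hpG⟩ := Cfsg.Agent.S3357.fpf_matrices (G := G)
    (φ.comp e.toMonoidHom)
    (fun g hg => hfpf (e g) (fun h => hg (e.injective (h.trans (map_one e).symm))))
    (by rw [Nat.card_congr e.toEquiv]; exact hco)
  obtain ⟨m, τ, hm, -, hτ⟩ := CfsgLib.Recog.exists_irreducible_fpf ℚ hpG hn ρ hρ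
  refine ⟨m, (Units.coeHom _).comp τ, hm, fun g hg => ?_⟩
  exact powSum_eq_zero_of_fpf _ g (hτ g hg)

/-- A rational representation in which the power sums of all elements of prime order vanish
makes the group a Frobenius complement (reduce an invariant lattice modulo a large prime). -/
theorem occursFC_of_rat {G : Type*} [Group G] [Finite G] [Nontrivial G] {ι : Type*} [Fintype ι]
    [DecidableEq ι] [Nonempty ι] (τ : G →* Matrix ι ι ℚ)
    (h0 : ∀ g : G, (orderOf g).Prime → powSum τ g = 0) : OccursFC G := by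
  classical
  letI : Fintype G := Fintype.ofFinite G
  let S : Set (ι → ℚ) := Set.range fun gi : G × ι => (τ gi.1).mulVec (Pi.single gi.2 1)
  let L : Submodule ℤ (ι → ℚ) := Submodule.span ℤ S
  have hL : ∀ g, ∀ v ∈ L, (τ g).mulVec v ∈ L := by
    intro g v hv
    induction hv using Submodule.span_induction with
    | mem x hx =>
      obtain ⟨⟨a, i⟩, rfl⟩ := hx
      exact Submodule.subset_span ⟨(g * a, i), by rw [Matrix.mulVec_mulVec, ← map_mul]⟩
    | zero => rw [Matrix.mulVec_zero]; exact Submodule.zero_mem _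
    | add x y _ _ hx hy => rw [Matrix.mulVec_add]; exact Submodule.add_mem _ hx hy
    | smul c x _ hx => rw [Matrix.mulVec_smul]; exact Submodule.smul_mem _ c hx
  haveI : Module.Finite ℤ L := Module.Finite.span_of_finite ℤ (Set.finite_range _)
  haveI : Module.Free ℤ L := inferInstance
  let b := Module.finBasis ℤ L
  set d := Module.finrank ℤ L
  have hd : 0 < d := by
    obtain ⟨i⟩ := (inferInstance : Nonempty ι)
    haveI : Nontrivial L := ⟨⟨⟨_, Submodule.subset_span ⟨(1, i), rfl⟩⟩, 0, fun h => by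
      have h1 := congrFun (congrArg Subtype.val h) i
      simp at h1⟩⟩
    exact Module.finrank_pos
  let A : G → (L →ₗ[ℤ] L) := fun g =>
    ((τ g).mulVecLin.restrictScalars ℤ).restrict (p := L) (q := L) (hL g)
  have hA : ∀ g (v : L), (A g v : ι → ℚ) = (τ g).mulVec v := fun g v => rfl
  let M : G →* Matrix (Fin d) (Fin d) ℤ :=
    { toFun := fun g => LinearMap.toMatrix b b (A g)
      map_one' := by
        rw [show A 1 = LinearMap.id from LinearMap.ext fun v => Subtype.ext (by
          rw [hA, map_one, Matrix.one_mulVec]; rfl), LinearMap.toMatrix_id]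
      map_mul' := fun g h => by
        rw [← LinearMap.toMatrix_comp, show (A g).comp (A h) = A (g * h) from
          LinearMap.ext fun v => Subtype.ext (by
            rw [LinearMap.comp_apply, hA, hA, hA, map_mul, Matrix.mulVec_mulVec])] }
  obtain ⟨q, hqG, hq⟩ := Nat.exists_infinite_primes (Nat.card G + 1)
  haveI := Fact.mk hq
  haveI : NeZero q := ⟨hq.ne_zero⟩
  let B : G →* Matrix (Fin d) (Fin d) (ZMod q) :=
    ((Int.castRingHom (ZMod q)).mapMatrix : Matrix (Fin d) (Fin d) ℤ →+* _).toMonoidHom.comp M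
  have hB : ∀ g : G, (orderOf g).Prime → powSum B g = 0 := by
    intro g hg
    have hM : powSum M g = 0 := by
      have : (∑ j ∈ Finset.range (orderOf g), A (g ^ j)) = 0 := LinearMap.ext fun v => Subtype.ext (by
        rw [LinearMap.sum_apply, AddSubmonoidClass.coe_finset_sum]
        simp only [hA]
        rw [← Matrix.sum_mulVec]
        have := h0 g hg
        unfold powSum at this
        rw [this, Matrix.zero_mulVec]; rfl)
      unfold powSum
      show ∑ j ∈ Finset.range (orderOf g), LinearMap.toMatrix b b (A (g ^ j)) = 0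
      rw [← map_sum, this, map_zero]
    have h2 := congrArg ((Int.castRingHom (ZMod q)).mapMatrix) hM
    rw [map_zero, powSum, map_sum] at h2
    exact h2
  have hfpf : ∀ g : G, g ≠ 1 → ∀ v : Fin d → ZMod q, (B g).mulVec v = v → v = 0 := by
    intro g hg v hv
    obtain ⟨r, hr, hrd⟩ := Nat.exists_prime_and_dvd (mt orderOf_eq_one_iff.1 hg)
    have ho : orderOf (g ^ (orderOf g / r)) = r :=
      orderOf_pow_orderOf_div (orderOf_pos g).ne' hrd
    refine eq_zero_of_powSum B _ (hB _ (by rw [ho]; exact hr)) ?_ ?_ (v := v)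
    · rw [ho, Ne, ZMod.natCast_eq_zero_iff]
      intro hqr
      have h1 := Nat.le_of_dvd hr.pos hqr
      have h2 := Nat.le_of_dvd Nat.card_pos (hrd.trans (orderOf_dvd_natCard g))
      omega
    · generalize orderOf g / r = k
      induction k with
      | zero => rw [pow_zero, map_one, Matrix.one_mulVec]
      | succ k ih => rw [pow_succ, map_mul, ← Matrix.mulVec_mulVec, hv, ih]
  haveI : Nonempty (Fin d) := ⟨⟨0, hd⟩⟩
  obtain ⟨L', iG, iF, C, hC, he, -⟩ := CfsgLib.StructC.exists_frobenius_of_fpf_add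
    (H := G) (V := Fin d → ZMod q) (fun g v => (B g).mulVec v)
    (fun v => by simp only [map_one, Matrix.one_mulVec])
    (fun a c v => by simp only [map_mul, Matrix.mulVec_mulVec])
    (fun a v w => Matrix.mulVec_add _ v w) hfpf
  exact ⟨L', iG, iF, C, hC, he⟩

theorem occursFC_prod {A B : Type*} [Group A] [Finite A] [Group B] [Finite B]
    [Nontrivial A] (hA : OccursFC A) (hB : OccursFC B)
    (hco : (Nat.card A).Coprime (Nat.card B)) : OccursFC (A × B) := by
  classical
  obtain ⟨m, σ, hm, hσ⟩ := exists_rat_fpf hA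
  obtain ⟨n, ρ, hn, hρ⟩ := exists_rat_fpf hB
  haveI : Nonempty (Fin m × Fin n) := ⟨(⟨0, hm⟩, ⟨0, hn⟩)⟩
  let τ : A × B →* Matrix (Fin m × Fin n) (Fin m × Fin n) ℚ :=
    { toFun := fun x => σ x.1 ⊗ₖ ρ x.2
      map_one' := by rw [Prod.fst_one, Prod.snd_one, map_one, map_one, Matrix.one_kronecker_one]
      map_mul' := fun x y => by
        rw [Prod.fst_mul, Prod.snd_mul, map_mul, map_mul, Matrix.mul_kronecker_mul] }
  refine occursFC_of_rat τ fun ⟨a, b⟩ hg => ?_
  have hab : a = 1 ∨ b = 1 := by
    rw [Prod.orderOf] at hg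
    rcases hg.eq_one_or_self_of_dvd _ (Nat.dvd_lcm_left (orderOf a) (orderOf b)) with h | h
    · exact Or.inl (orderOf_eq_one_iff.1 h)
    rcases hg.eq_one_or_self_of_dvd _ (Nat.dvd_lcm_right (orderOf a) (orderOf b)) with h' | h'
    · exact Or.inr (orderOf_eq_one_iff.1 h')
    exfalso
    simp only at h h'
    exact hg.ne_one (Nat.eq_one_of_dvd_coprimes hco (h ▸ orderOf_dvd_natCard a)
      (h' ▸ orderOf_dvd_natCard b))
  have hne : (a, b) ≠ 1 := fun h => hg.ne_one (orderOf_eq_one_iff.2 h)
  unfold powSum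
  rcases hab with rfl | rfl
  · have hb : b ≠ 1 := fun h => hne (by rw [h]; rfl)
    have ho : orderOf ((1 : A), b) = orderOf b := by
      rw [Prod.orderOf]; simp
    have h0 := hρ b hb
    unfold powSum at h0
    rw [ho]
    ext i j
    rw [Matrix.sum_apply, Matrix.zero_apply]
    have h1 := congrFun (congrFun h0 i.2) j.2
    rw [Matrix.sum_apply, Matrix.zero_apply] at h1
    simp only [τ, MonoidHom.coe_mk, OneHom.coe_mk, Prod.pow_mk, one_pow,
      Matrix.kroneckerMap_apply, ← Finset.mul_sum, h1, mul_zero]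
  · have ha : a ≠ 1 := fun h => hne (by rw [h]; rfl)
    have ho : orderOf (a, (1 : B)) = orderOf a := by
      rw [Prod.orderOf]; simp
    have h0 := hσ a ha
    unfold powSum at h0
    rw [ho]
    ext i j
    rw [Matrix.sum_apply, Matrix.zero_apply]
    have h1 := congrFun (congrFun h0 i.1) j.1
    rw [Matrix.sum_apply, Matrix.zero_apply] at h1
    simp only [τ, MonoidHom.coe_mk, OneHom.coe_mk, Prod.pow_mk, one_pow,
      Matrix.kroneckerMap_apply, ← Finset.sum_mul, h1, zero_mul]

theorem occursFC_of_injective {A G : Type*} [Group A] [Finite A] [Nontrivial A] [Group G] [Finite G]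
    (f : A →* G) (hf : Function.Injective f) (h : OccursFC G) : OccursFC A := by
  classical
  obtain ⟨m, τ, hm, hτ⟩ := exists_rat_fpf h
  haveI : Nonempty (Fin m) := ⟨⟨0, hm⟩⟩
  refine occursFC_of_rat (τ.comp f) fun a ha => ?_
  have h1 : a ≠ 1 := fun h => ha.ne_one (orderOf_eq_one_iff.2 h)
  have h0 := hτ (f a) (fun h => h1 (hf (h.trans (map_one f).symm)))
  unfold powSum at h0 ⊢
  rw [orderOf_injective f hf a] at h0
  simpa [map_pow] using h0

theorem coprime_of_occursFC_prod {A B : Type*} [Group A] [Finite A] [Group B] [Finite B]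
    (h : OccursFC (A × B)) : (Nat.card A).Coprime (Nat.card B) := by
  classical
  obtain ⟨L, _, _, H, hH, ⟨e⟩⟩ := h
  by_contra hn
  obtain ⟨r, hr, hrA, hrB⟩ := Nat.Prime.not_coprime_iff_dvd.1 hn
  haveI := Fact.mk hr
  obtain ⟨a, ha⟩ := exists_prime_orderOf_dvd_card' r hrA
  obtain ⟨b, hb⟩ := exists_prime_orderOf_dvd_card' r hrB
  let f : Subgroup.zpowers a × Subgroup.zpowers b →* L :=
    H.subtype.comp (e.toMonoidHom.comp ((Subgroup.zpowers a).subtype.prodMap (Subgroup.zpowers b).subtype))
  have hf : Function.Injective f :=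
    (H.subtype_injective.comp e.injective).comp
      (Prod.map_injective.2 ⟨Subtype.val_injective, Subtype.val_injective⟩)
  have hcyc : IsCyclic f.range := CfsgLib.StructC.frob_isCyclic_of_comm hH
    (by rintro _ ⟨x, rfl⟩; exact (e _).2)
    (by
      refine ⟨⟨?_⟩⟩
      rintro ⟨_, x, rfl⟩ ⟨_, y, rfl⟩
      refine Subtype.ext ?_
      show f x * f y = f y * f x
      rw [← map_mul, ← map_mul]
      congr 1
      exact Prod.ext (mul_comm' x.1 y.1) (mul_comm' x.2 y.2))
  haveI : IsCyclic (Subgroup.zpowers a × Subgroup.zpowers b) :=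
    (MonoidHom.ofInjective hf).isCyclic.2 hcyc
  have := coprime_card_of_isCyclic_prod (Subgroup.zpowers a) (Subgroup.zpowers b)
  rw [Nat.card_zpowers, Nat.card_zpowers, ha, hb] at this
  exact hr.ne_one ((Nat.coprime_self r).1 this)

end CfsgLib.Invol
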