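import Cfsg.Agent.Lib.Invol.CocycleTransfer
import Cfsg.Agent.Lib.Fusion.TransferControl

/-!
Thompson transfer for saturated fusion systems.
-/

set_option autoImplicit false
set_option linter.style.haveILetI false

open Subgroup MulAction

namespace CfsgLib.Invol

open CfsgLib.Fusion Cfsg Cfsg.FusionSystem

universe v

variable {Ω : Type v} [Group Ω] {S : Subgroup Ω} [Finite S]

omit [Finite S] in
/-- The normalizer of a subgroup of order two generated by an element is its centralizer. -/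
theorem mem_normalizerIn_zpowers_iff {j x : Ω} (hj : orderOf j = 2) :
    x ∈ normalizerIn S (zpowers j) ↔ x ∈ S ∧ x * j * x⁻¹ = j := by
  have hmem : ∀ y : Ω, y ∈ zpowers j → y = 1 ∨ y = j := by
    intro y hy
    obtain ⟨k, rfl⟩ := mem_zpowers_iff.1 hy
    rw [← zpow_mod_orderOf, hj]
    rcases Int.emod_two_eq_zero_or_one k with h | h <;> simp [h]
  constructor
  · rintro ⟨hxS, hx⟩
    refine ⟨hxS, ?_⟩
    rcases hmem _ ((mem_normalizer_iff.1 hx j).1 (mem_zpowers j)) with h | h
    · rw [conj_eq_one_iff] at h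
      rw [h, orderOf_one] at hj
      exact absurd hj (by decide)
    · exact h
  · rintro ⟨hxS, hx⟩
    refine ⟨hxS, mem_normalizer_iff.2 fun h => ?_⟩
    constructor
    · intro hh
      obtain ⟨k, rfl⟩ := mem_zpowers_iff.1 hh
      rw [← conj_zpow, hx]
      exact zpow_mem (mem_zpowers j) k
    · intro hh
      obtain ⟨k, hk⟩ := mem_zpowers_iff.1 hh
      refine mem_zpowers_iff.2 ⟨k, ?_⟩
      rw [← hx, conj_zpow] at hk
      exact mul_left_cancel (mul_right_cancel hk)

/-- Thompson transfer: an involution all whose fully normalized conjugates avoid a subgroup of index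
two is outside the hyperfocal subgroup. -/
theorem fusion_thompson_transfer (hS : IsPGroup 2 S) {F : FusionSystem S} (hF : F.IsSaturated 2)
    (T : Subgroup Ω) (hT : T.relIndex S = 2) (i : Ω) (hi : i ∈ S) (hi2 : orderOf i = 2)
    (h : ∀ j : Ω, F.IsConjElt i j → F.IsFullyNormalized (zpowers j) → j ∉ T) :
    i ∉ F.hyperfocalSubgroup 2 := by
  classical
  haveI : Fact (Nat.Prime 2) := ⟨Nat.prime_two⟩
  intro hyp
  have hiS : zpowers i ≤ S := zpowers_le.2 hi
  -- a fully normalized conjugate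
  let C : Set S := {j | ∃ f, IsMap F (zpowers i) f ∧ (j : Ω) = f i}
  have hCne : C.Nonempty := ⟨⟨i, hi⟩, id, isMap_id F hiS, rfl⟩
  obtain ⟨j, ⟨f, hf, hfj⟩, hjmax⟩ := Set.Finite.exists_maximalFor
    (fun j : S => Nat.card (normalizerIn S (zpowers (j : Ω)))) C (Set.toFinite C) hCne
  have hjmax' : ∀ a ∈ C, Nat.card (normalizerIn S (zpowers (a : Ω))) ≤
      Nat.card (normalizerIn S (zpowers (j : Ω))) := fun a ha => by
    rcases le_total (Nat.card (normalizerIn S (zpowers (a : Ω))))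
      (Nat.card (normalizerIn S (zpowers (j : Ω)))) with h1 | h1
    · exact h1
    · exact hjmax ha h1
  -- conjugates of an image generate conjugate subgroups
  have hFN : ∀ a ∈ C, Nat.card (normalizerIn S (zpowers (j : Ω))) ≤
      Nat.card (normalizerIn S (zpowers (a : Ω))) → F.IsFullyNormalized (zpowers (a : Ω)) := by
    rintro a ⟨g, hg, hga⟩ hle
    refine ⟨zpowers_le.2 a.2, fun Q hQ => le_trans ?_ hle⟩
    obtain ⟨q, hq, rfl⟩ := isConj_iff.1 hQ
    have hgq : ∀ y ∈ zpowers i, g y ∈ zpowers (a : Ω) := by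
      intro y hy
      obtain ⟨k, rfl⟩ := mem_zpowers_iff.1 hy
      rw [show g (i ^ k) = g i ^ k from by
        rw [← hg.toHom_apply ⟨i ^ k, hy⟩, show (⟨i ^ k, hy⟩ : zpowers i) =
          (⟨i, mem_zpowers i⟩ : zpowers i) ^ k from Subtype.ext (by simp), map_zpow,
          hg.toHom_apply], ← hga]
      exact zpow_mem (mem_zpowers _) k
    have hqa : img (zpowers (a : Ω)) q = zpowers (q a) := by
      refine le_antisymm ?_ (zpowers_le.2 (hq.apply_mem_img (mem_zpowers _)))
      intro y hy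
      obtain ⟨x, hx, rfl⟩ := hq.mem_img.1 hy
      obtain ⟨k, rfl⟩ := mem_zpowers_iff.1 hx
      rw [← hq.toHom_apply ⟨(a : Ω) ^ k, hx⟩, show (⟨(a : Ω) ^ k, hx⟩ : zpowers (a : Ω)) =
        (⟨(a : Ω), mem_zpowers _⟩ : zpowers (a : Ω)) ^ k from Subtype.ext (by simp), map_zpow,
        hq.toHom_apply]
      exact zpow_mem (mem_zpowers _) k
    rw [hqa]
    exact hjmax' ⟨q a, hq.mem (mem_zpowers _)⟩ ⟨_, hg.comp hq hgq, by simp [hga]⟩
  set T' : Subgroup S := T.subgroupOf S with hT'def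
  have hT'i : T'.index = 2 := hT
  haveI : T'.Normal := normal_of_index_eq_two hT'i
  letI : CommGroup (S ⧸ T') :=
    { (inferInstance : Group (S ⧸ T')) with
      mul_comm := fun a b => by
        haveI : IsCyclic (S ⧸ T') := isCyclic_of_prime_card (p := 2) (by rw [← index_eq_card, hT'i])
        exact IsCyclic.commGroup.mul_comm a b }
  let χ : S →* S ⧸ T' := QuotientGroup.mk' T'
  obtain ⟨c, hsupp, hst, hm⟩ := exists_charBiset hS hF
  rw [← card_rightOrb hsupp] at hm
  haveI : Fintype (RightOrb c) := Fintype.ofFinite _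
  choose sec hsec using fun ω => toOrb_surjective (c := c) ω
  let s : S → RightOrb c → S := shift sec
  have hcoc : ∀ (b a : S) (w : RightOrb c), s (b * a) w = s b (a • w) * s a w :=
    shift_mul hsupp hsec
  have hs1 : ∀ w, s 1 w = 1 := fun w => by
    have h1 := hcoc 1 1 w
    rw [one_mul, one_smul] at h1
    exact left_eq_mul.1 h1
  let V : S →* S ⧸ T' := MonoidHom.mk' (fun x => ∏ w, χ (s x w)) fun b a => by
    simp only [hcoc, map_mul, Finset.prod_mul_distrib]
    congr 1
    exact Equiv.prod_comp (MulAction.toPerm a) fun w => χ (s b w)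
  have hVinv : ∀ (P : Subgroup Ω) (f : Ω → Ω) (a b : S), IsMap F P f → (a : Ω) ∈ P →
      (b : Ω) = f a → V b = V a := fun P f a b hf ha hb =>
    prod_shift_stable hsupp hst (T := (⊤ : Subgroup S)) (fun a _ b _ => map_mul χ a b)
      (fun g t _ => by rw [map_mul, map_mul, map_inv, mul_inv_cancel_comm]) hsec
      (fun _ _ _ => mem_top _) hf ha hb (mem_top _) (mem_top _)
  have hVhyp : F.hyperfocalSubgroup 2 ≤ V.ker.map S.subtype := by
    refine (hyperfocal_le_focal F 2).trans (focal_le_of fun P f hf x hx => ?_)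
    refine ⟨(⟨x, hf.le hx⟩ : S)⁻¹ * ⟨f x, hf.mem hx⟩, ?_, rfl⟩
    rw [SetLike.mem_coe, MonoidHom.mem_ker, map_mul, map_inv,
      hVinv P f ⟨x, hf.le hx⟩ ⟨f x, hf.mem hx⟩ hf hx rfl, inv_mul_cancel]
  have hVj : V j = 1 := by
    obtain ⟨v, hv, hvi⟩ := hVhyp hyp
    rw [hVinv _ f v j hf (by rw [show (v : Ω) = i from hvi]; exact mem_zpowers i)
      (by rw [show (v : Ω) = i from hvi]; exact hfj)]
    exact hv
  -- the orbits of the centralizer of `j`
  have hj2 : orderOf (j : Ω) = 2 := by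
    rw [hfj, ← hi2, ← hf.toHom_apply ⟨i, mem_zpowers i⟩,
      orderOf_injective hf.toHom (F.injective_of_mem hf.toHom_mem), Subgroup.orderOf_mk]
  have hjj : j * j = 1 := by
    rw [← sq, ← hj2, Subgroup.orderOf_coe, pow_orderOf_eq_one]
  let Cj : Subgroup S := centralizer {j}
  have hmap : ∀ w : RightOrb c, ∃ (P : Subgroup Ω) (g : Ω → Ω), IsMap F P g ∧
      ∀ r : S, r • w = w → (r : Ω) ∈ P ∧ (s r w : Ω) = g r := by
    intro w
    obtain ⟨g, hg, hgx⟩ := isGraph_stabilizer hsupp (sec w)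
    refine ⟨_, g, hg, fun r hr => ?_⟩
    have h1 := shift_spec hsec r w
    rw [hr] at h1
    exact ⟨mem_pr₁.2 ⟨(r, shift sec r w), h1, rfl⟩, hgx (r, shift sec r w) h1⟩
  set bad := Finset.univ.filter fun w : RightOrb c => j • w = w ∧ χ (s j w) ≠ 1 with hbad
  have hinv : ∀ (a : S), a ∈ Cj → ∀ w ∈ bad, a • w ∈ bad := by
    intro a ha w hw
    obtain ⟨-, hjw, hχ⟩ := Finset.mem_filter.1 hw
    have hc : j * a = a * j := (mem_centralizer_iff.1 ha j rfl)
    refine Finset.mem_filter.2 ⟨Finset.mem_univ _, ?_, ?_⟩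
    · rw [← mul_smul, hc, mul_smul, hjw]
    · have h1 := congrArg χ (hcoc a j w)
      have h2 := congrArg χ (hcoc j a w)
      rw [hjw, map_mul, ← hc] at h1
      rw [map_mul, h1, mul_comm] at h2
      rwa [mul_right_cancel h2] at hχ
  have hfixed : ∀ w : RightOrb c, (∀ a ∈ Cj, a • w = w) → w ∈ bad := by
    intro w hw
    have hjC : j ∈ Cj := mem_centralizer_iff.2 fun x hx => by rw [Set.mem_singleton_iff.1 hx]
    obtain ⟨P, g, hg, hgr⟩ := hmap w
    obtain ⟨hjP, hgj⟩ := hgr j (hw j hjC)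
    refine Finset.mem_filter.2 ⟨Finset.mem_univ _, hw j hjC, fun h1 => ?_⟩
    have h2 : (s j w : Ω) ∈ T := mem_subgroupOf.1 ((QuotientGroup.eq_one_iff _).1 h1)
    have hP : zpowers i ≤ zpowers i := le_rfl
    have hfjP : ∀ y ∈ zpowers i, f y ∈ P := by
      intro y hy
      obtain ⟨k, rfl⟩ := mem_zpowers_iff.1 hy
      rw [← hf.toHom_apply ⟨i ^ k, hy⟩, show (⟨i ^ k, hy⟩ : zpowers i) =
          (⟨i, mem_zpowers i⟩ : zpowers i) ^ k from Subtype.ext (by simp), map_zpow,
          hf.toHom_apply, ← hfj]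
      exact zpow_mem hjP k
    have hCe : (s j w : S) ∈ C := ⟨_, hf.comp hg hfjP, by simp [hgj, hfj]⟩
    refine h _ ⟨(hf.comp hg hfjP).toHom, (hf.comp hg hfjP).toHom_mem, ?_⟩ (hFN _ hCe ?_) h2
    · show g (f i) = (s j w : Ω)
      rw [hgj, hfj]
    have hgj2 : orderOf (s j w : Ω) = 2 := by
      rw [hgj, ← hg.toHom_apply ⟨(j : Ω), hjP⟩,
        orderOf_injective hg.toHom (F.injective_of_mem hg.toHom_mem), Subgroup.orderOf_mk, hj2]
    haveI : Finite (normalizerIn S (zpowers ((s j w : S) : Ω))) := finite_of_le inf_le_left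
    have hcm : ∀ x : normalizerIn S (zpowers (j : Ω)), (x : Ω) ∈ P ∧
        g x ∈ normalizerIn S (zpowers ((s j w : S) : Ω)) := by
      intro x
      obtain ⟨hxS, hxj⟩ := (mem_normalizerIn_zpowers_iff hj2).1 x.2
      have hxC : (⟨x, hxS⟩ : S) ∈ Cj := mem_centralizer_iff.2 fun y hy => by
        rw [Set.mem_singleton_iff.1 hy]
        exact Subtype.ext (show (j : Ω) * x = x * j by rw [← mul_inv_eq_iff_eq_mul.1 hxj])
      have hxP := (hgr ⟨x, hxS⟩ (hw _ hxC)).1
      refine ⟨hxP, (mem_normalizerIn_zpowers_iff hgj2).2 ⟨hg.mem hxP, ?_⟩⟩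
      rw [hgj, ← hg.map_conj hxP hjP, hxj]
    exact Nat.card_le_card_of_injective (fun x => (⟨g x, (hcm x).2⟩ : _))
      fun x y hxy => Subtype.ext (hg.inj (hcm x).1 (hcm y).1 (congrArg Subtype.val hxy))
  -- moved points cancel
  have hprod : ∏ w, χ (s j w) = ∏ w ∈ bad, χ (s j w) := by
    rw [hbad, Finset.prod_filter]
    have hmoved : ∏ w ∈ Finset.univ.filter (fun w : RightOrb c => ¬ j • w = w), χ (s j w) = 1 := by
      refine Finset.prod_involution (fun w _ => j • w) (fun w _ => ?_) (fun w hw _ => ?_)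
        (fun w hw => ?_) (fun w _ => ?_)
      · rw [mul_comm, ← map_mul, ← hcoc, hjj, hs1, map_one]
      · exact (Finset.mem_filter.1 hw).2
      · refine Finset.mem_filter.2 ⟨Finset.mem_univ _, fun h1 => (Finset.mem_filter.1 hw).2 ?_⟩
        exact smul_left_cancel j h1
      · show j • j • w = w
        rw [← mul_smul, hjj, one_smul]
    rw [← Finset.prod_filter_mul_prod_filter_not Finset.univ (fun w : RightOrb c => j • w = w)
      (fun w => χ (s j w)), hmoved, mul_one, Finset.prod_filter]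
    refine Finset.prod_congr rfl fun w _ => ?_
    by_cases h1 : j • w = w <;> by_cases h2 : χ (s j w) = 1 <;> simp [h1, h2]
  -- the number of bad points is odd
  let sub : SubMulAction Cj (RightOrb c) :=
    { carrier := (bad : Set (RightOrb c))
      smul_mem' := fun a w hw => hinv a.1 a.2 w hw }
  have hfix : Nat.card (fixedPoints Cj sub) = Nat.card (fixedPoints Cj (RightOrb c)) :=
    Nat.card_congr
      { toFun := fun w => ⟨(w.1 : RightOrb c), fun a => congrArg Subtype.val (w.2 a)⟩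
        invFun := fun w => ⟨⟨w.1, hfixed w.1 fun a ha => w.2 ⟨a, ha⟩⟩, fun a => Subtype.ext (w.2 a)⟩
        left_inv := fun w => rfl
        right_inv := fun w => rfl }
  have hcount : Nat.card bad ≡ Nat.card (RightOrb c) [MOD 2] := by
    have hC2 : IsPGroup 2 Cj := hS.to_subgroup Cj
    have h1 := hC2.card_modEq_card_fixedPoints sub
    have h2 := hC2.card_modEq_card_fixedPoints (RightOrb c)
    rw [hfix] at h1
    exact h1.trans h2.symm
  have hodd : Odd bad.card := by
    have h0 : Nat.card (bad : Finset (RightOrb c)) = bad.card := Nat.card_eq_finsetCard bad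
    rw [Nat.odd_iff, ← h0]
    have : Nat.card (RightOrb c) % 2 = 1 := by omega
    rw [← this]
    exact hcount
  obtain ⟨a₀, ha₀⟩ : ∃ a : S ⧸ T', ∀ b, b ≠ 1 → b = a := by
    have hc2 : Nat.card (S ⧸ T') = 2 := by rw [← index_eq_card, hT'i]
    obtain ⟨a, ha⟩ : ∃ a : S ⧸ T', a ≠ 1 := by
      by_contra hno
      push Not at hno
      haveI : Subsingleton (S ⧸ T') := ⟨fun a b => (hno a).trans (hno b).symm⟩
      rw [Nat.card_of_subsingleton (1 : S ⧸ T')] at hc2
      omega
    refine ⟨a, fun b hb => ?_⟩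
    by_contra hne
    haveI := Fintype.ofFinite (S ⧸ T')
    have := (Fintype.two_lt_card_iff (α := S ⧸ T')).2 ⟨1, a, b, Ne.symm ha, Ne.symm hb, Ne.symm hne⟩
    rw [Nat.card_eq_fintype_card] at hc2
    omega
  have hval : ∀ w ∈ bad, χ (s j w) = a₀ := fun w hw => ha₀ _ (Finset.mem_filter.1 hw).2.2
  have hV : V j = a₀ ^ bad.card := by
    show ∏ w, χ (s j w) = _
    rw [hprod, Finset.prod_congr rfl hval, Finset.prod_const]
  obtain ⟨w₀, hw₀⟩ : bad.Nonempty := Finset.card_pos.1 hodd.pos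
  have ha₀2 : a₀ ^ 2 = 1 := by
    have hc2 : Nat.card (S ⧸ T') = 2 := by rw [← index_eq_card, hT'i]
    rw [← hc2]
    exact pow_card_eq_one'
  obtain ⟨n, hn⟩ := hodd
  rw [hVj, hn, pow_succ, pow_mul, ha₀2, one_pow, one_mul] at hV
  exact (Finset.mem_filter.1 hw₀).2.2 ((hval w₀ hw₀).trans hV.symm)

end CfsgLib.Invol
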