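import Cfsg.Agent.Lib.Invol.YoshidaWreath
import Cfsg.Agent.Lib.Invol.CocycleTransfer
import Cfsg.Agent.Lib.Fusion.TransferControl

/-!
Yoshida's theorem for saturated fusion systems, through the transfer of the characteristic biset.
-/

set_option autoImplicit false
set_option linter.style.haveILetI false

open Subgroup MulAction

namespace CfsgLib.Invol

open CfsgLib.Fusion Cfsg

universe v

variable {Ω : Type v} [Group Ω] {S : Subgroup Ω} [Finite S] {p : ℕ} [Fact p.Prime]

omit [Fact p.Prime] in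
/-- A finite abelian group with a `p`-power exponent and a nontrivial element has a nontrivial
homomorphism to a group of exponent `p`. -/
theorem exists_exponent_quotient {B : Type v} [CommGroup B] [Finite B] {k : ℕ}
    (hB : ∀ a : B, a ^ p ^ k = 1) (hne : Nontrivial B) :
    ∃ (A : Type v) (_ : CommGroup A) (π : B →* A), (∀ a : A, a ^ p = 1) ∧ ∃ b, π b ≠ 1 := by
  let N : Subgroup B := (powMonoidHom p : B →* B).range
  have hN : N ≠ ⊤ := by
    intro htop
    have hsurj : Function.Surjective (powMonoidHom p : B →* B) := fun a =>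
      (htop.ge (mem_top a) : a ∈ N)
    have hinj := Finite.injective_iff_surjective.2 hsurj
    have hA1 : ∀ a : B, a = 1 := by
      intro a
      have : ∀ j, a ^ p ^ j = 1 → a = 1 := by
        intro j
        induction j with
        | zero => intro h; simpa using h
        | succ j ih =>
          intro h
          refine ih (hinj ?_)
          show (a ^ p ^ j) ^ p = (1 : B) ^ p
          rw [one_pow, ← pow_mul, ← pow_succ, h]
      exact this k (hB a)
    obtain ⟨a, b, hab⟩ := hne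
    exact hab ((hA1 a).trans (hA1 b).symm)
  refine ⟨B ⧸ N, inferInstance, QuotientGroup.mk' N, fun a => ?_, ?_⟩
  · obtain ⟨a, rfl⟩ := QuotientGroup.mk'_surjective N a
    rw [← map_pow]
    exact (QuotientGroup.eq_one_iff _).2 ⟨a, rfl⟩
  · by_contra hall
    push Not at hall
    exact hN (top_le_iff.1 fun b _ => (QuotientGroup.eq_one_iff b).1 (hall b))

/-- Yoshida: if the focal subgroup is not generated by the automorphisms of `S`, then `Z_p ≀ Z_p` is
a quotient of `S`. -/
theorem fusion_wreath_quotient (hS : IsPGroup p S) {F : FusionSystem S} (hF : F.IsSaturated p)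
    (L : Subgroup Ω) (hL : ⁅S, S⁆ ≤ L)
    (hLα : ∀ f : Ω → Ω, IsMap F S f → ∀ x ∈ S, x⁻¹ * f x ∈ L)
    (hne : ¬ F.focalSubgroup ≤ L) :
    ∃ (Q : Sylow p (Equiv.Perm (Fin (p ^ 2))))
      (f : S →* ↥(Q : Subgroup (Equiv.Perm (Fin (p ^ 2))))), Function.Surjective f := by
  classical
  have hp := (Fact.out : p.Prime)
  obtain ⟨P₀, f₀, hf₀, x₀, hx₀, hbad⟩ : ∃ (P : Subgroup Ω) (f : Ω → Ω), IsMap F P f ∧
      ∃ x ∈ P, x⁻¹ * f x ∉ L := by
    by_contra hno
    push Not at hno
    exact hne (focal_le_of fun P f hf x hx => hno P f hf x hx)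
  set L' : Subgroup S := L.subgroupOf S with hL'
  haveI hL'n : L'.Normal := ⟨fun a ha g => by
    rw [hL', mem_subgroupOf] at ha ⊢
    exact conj_mem_of_commutator_le hL g.2 a.2 ha⟩
  letI : CommGroup (S ⧸ L') :=
    { (inferInstance : Group (S ⧸ L')) with
      mul_comm := fun a b => by
        obtain ⟨a, rfl⟩ := QuotientGroup.mk'_surjective L' a
        obtain ⟨b, rfl⟩ := QuotientGroup.mk'_surjective L' b
        rw [← map_mul, ← map_mul]
        refine QuotientGroup.eq.2 ?_
        rw [hL', mem_subgroupOf]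
        have h1 := hL (commutator_mem_commutator (inv_mem b.2) (inv_mem a.2))
        simpa [commutatorElement_def, mul_assoc] using h1 }
  obtain ⟨k, hk⟩ := (hS.to_quotient L').exists_card_eq
  have hexp : ∀ a : S ⧸ L', a ^ p ^ k = 1 := fun a => by rw [← hk]; exact pow_card_eq_one'
  let η : S →* S ⧸ L' := QuotientGroup.mk' L'
  -- the biset
  obtain ⟨c, hsupp, hst, hm⟩ := exists_charBiset hS hF
  rw [← card_rightOrb hsupp] at hm
  haveI : Fintype (RightOrb c) := Fintype.ofFinite _
  haveI : Fintype (Quotient (orbitRel S (RightOrb c))) := Fintype.ofFinite _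
  choose sec hsec using fun ω => toOrb_surjective (c := c) ω
  let s : S → RightOrb c → S := shift sec
  have hcoc : ∀ (b a : S) (w : RightOrb c), s (b * a) w = s b (a • w) * s a w :=
    shift_mul hsupp hsec
  have hmap : ∀ w : RightOrb c, ∃ (P : Subgroup Ω) (f : Ω → Ω), IsMap F P f ∧
      ∀ r : S, r • w = w → (r : Ω) ∈ P ∧ (s r w : Ω) = f r := by
    intro w
    obtain ⟨f, hf, hfx⟩ := isGraph_stabilizer hsupp (sec w)
    refine ⟨_, f, hf, fun r hr => ?_⟩
    have h1 := shift_spec hsec r w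
    rw [hr] at h1
    exact ⟨mem_pr₁.2 ⟨(r, shift sec r w), h1, rfl⟩, hfx (r, shift sec r w) h1⟩
  -- homomorphisms into commutative groups along the cocycle
  have hTinv : ∀ {A : Type v} [CommGroup A] (W : S →* A),
      (∀ (P : Subgroup Ω) (f : Ω → Ω) (a b : S), IsMap F P f → (a : Ω) ∈ P → (b : Ω) = f a →
        W b = W a) → ∀ x : S, ∏ w, W (s x w) = W x ^ Nat.card (RightOrb c) := by
    intro A _ W hW x
    have hu : ∀ (b a : S) (w : RightOrb c),
        W (s (b * a) w) = W (s b (a • w)) * W (s a w) := fun b a w => by rw [hcoc, map_mul]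
    rw [cocycle_prod_eq (u := fun a w => W (s a w)) hu x, card_eq_sum_index (S := S),
      ← Finset.prod_pow_eq_pow_sum]
    refine Finset.prod_congr rfl fun ω _ => ?_
    rw [← transfer_restrict W x (R := stabilizer S ω.out)]
    congr 2
    refine MonoidHom.ext fun r => ?_
    obtain ⟨P, f, hf, hfr⟩ := hmap ω.out
    exact hW P f r _ hf (hfr r r.2).1 (hfr r r.2).2
  let V : S →* S ⧸ L' := MonoidHom.mk' (fun x => ∏ w, η (s x w)) fun b a => by
    simp only [hcoc, map_mul, Finset.prod_mul_distrib]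
    congr 1
    exact Equiv.prod_comp (MulAction.toPerm a) fun w => η (s b w)
  have hVinv : ∀ (P : Subgroup Ω) (f : Ω → Ω) (a b : S), IsMap F P f → (a : Ω) ∈ P →
      (b : Ω) = f a → V b = V a := fun P f a b hf ha hb =>
    prod_shift_stable hsupp hst (T := (⊤ : Subgroup S)) (fun a _ b _ => map_mul η a b)
      (fun g t _ => by rw [map_mul, map_mul, map_inv, mul_inv_cancel_comm]) hsec
      (fun _ _ _ => mem_top _) hf ha hb (mem_top _) (mem_top _)
  set m := Nat.card (RightOrb c) with hm'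
  obtain ⟨cc, d, hcd⟩ : ∃ cc d : ℤ, (m : ℤ) * cc + (p ^ k : ℕ) * d = 1 := by
    refine ⟨Nat.gcdA m (p ^ k), Nat.gcdB m (p ^ k), ?_⟩
    rw [← Nat.gcd_eq_gcd_ab, ((hp.coprime_iff_not_dvd.2 hm).symm.pow_right k).gcd_eq_one,
      Nat.cast_one]
  let V' : S →* S ⧸ L' := (zpowGroupHom cc).comp V
  have hV'm : ∀ x, V' x ^ m = V x := by
    intro x
    show (V x ^ cc) ^ m = V x
    rw [← zpow_natCast, ← zpow_mul, mul_comm cc, eq_sub_of_add_eq hcd, zpow_sub, zpow_one,
      zpow_mul, zpow_natCast, hexp, one_zpow, inv_one, mul_one]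
  let θ₀ : S →* S ⧸ L' := η / V'
  have hθ₀T : ∀ x, ∏ w, θ₀ (s x w) = 1 := by
    intro x
    show ∏ w, η (s x w) / V' (s x w) = 1
    rw [Finset.prod_div_distrib, hTinv V' (fun P f a b hf ha hb => by
      show V b ^ cc = V a ^ cc
      rw [hVinv P f a b hf ha hb]) x, hV'm]
    exact div_self' (V x)
  let y₀ : S := ⟨f₀ x₀, hf₀.mem hx₀⟩
  let g₀ : S := (⟨x₀, hf₀.le hx₀⟩ : S)⁻¹ * y₀
  have hθ₀g : θ₀ g₀ ≠ 1 := by
    have hVg : V g₀ = 1 := by
      show V (_⁻¹ * y₀) = 1
      rw [map_mul, map_inv, hVinv P₀ f₀ ⟨x₀, hf₀.le hx₀⟩ y₀ hf₀ hx₀ rfl, inv_mul_cancel]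
    show η g₀ / V g₀ ^ cc ≠ 1
    rw [hVg, one_zpow, div_one]
    intro h1
    exact hbad (mem_subgroupOf.1 ((QuotientGroup.eq_one_iff g₀).1 h1))
  have hθ₀α : ∀ f, IsMap F S f → ∀ a b : S, (b : Ω) = f a → θ₀ b = θ₀ a := by
    intro f hf a b hb
    have h1 : η b = η a := by
      refine (QuotientGroup.eq.2 ?_).symm
      rw [hL', mem_subgroupOf]
      show (a : Ω)⁻¹ * (b : Ω) ∈ L
      rw [hb]
      exact hLα f hf a a.2
    show η b / V b ^ cc = η a / V a ^ cc
    rw [h1, hVinv S f a b hf a.2 hb]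
  obtain ⟨A, _, π, hA, a₀, ha₀⟩ := exists_exponent_quotient (B := θ₀.range) (k := k)
    (fun a => Subtype.ext (hexp _)) ⟨⟨θ₀ g₀, g₀, rfl⟩, 1, fun h => hθ₀g (congrArg Subtype.val h)⟩
  let θ : S →* A := π.comp θ₀.rangeRestrict
  have hθT : ∀ x, ∏ w, θ (s x w) = 1 := by
    intro x
    show ∏ w, π (θ₀.rangeRestrict (s x w)) = 1
    rw [← map_prod, show ∏ w, θ₀.rangeRestrict (s x w) = 1 from Subtype.ext (by
      rw [SubmonoidClass.coe_finsetProd]; exact hθ₀T x), map_one]
  have hex : ∃ n, ∃ x : S, θ x ≠ 1 ∧ orderOf x = n := by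
    obtain ⟨x, rfl⟩ := θ₀.rangeRestrict_surjective a₀
    exact ⟨_, x, ha₀, rfl⟩
  obtain ⟨x, hxθ, hxn⟩ := Nat.find_spec hex
  have hmin : ∀ y : S, orderOf y < orderOf x → θ y = 1 := fun y hy => by
    by_contra hne'
    exact Nat.find_min hex (hxn ▸ hy) ⟨y, hne', rfl⟩
  have hu : ∀ (b a : S) (w : RightOrb c),
      θ (s (b * a) w) = θ (s b (a • w)) * θ (s a w) := fun b a w => by rw [hcoc, map_mul]
  have hsum := hθT x
  rw [cocycle_prod_eq (u := fun a w => θ (s a w)) hu x] at hsum
  -- some orbit of length divisible by `p` contributes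
  obtain ⟨ω, hω, hωne⟩ : ∃ ω : Quotient (orbitRel S (RightOrb c)), stabilizer S ω.out ≠ ⊤ ∧
      MonoidHom.transfer (stabCocycle (u := fun a w => θ (s a w)) hu ω.out) x ≠ 1 := by
    by_contra hno
    push Not at hno
    set Fx := Finset.univ.filter
      fun ω : Quotient (orbitRel S (RightOrb c)) => stabilizer S ω.out = ⊤ with hFx
    have hval : ∀ ω ∈ Fx, MonoidHom.transfer (stabCocycle (u := fun a w => θ (s a w)) hu ω.out) x = θ x := by
      intro ω hω
      have htop : stabilizer S ω.out = ⊤ := (Finset.mem_filter.1 hω).2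
      haveI : Subsingleton (S ⧸ stabilizer S ω.out) := by
        rw [htop]; exact QuotientGroup.subsingleton_quotient_top
      haveI := Fintype.ofFinite (S ⧸ stabilizer S ω.out)
      rw [transfer_eq_prod_sect _ (fun _ => 1) (fun q => Subsingleton.elim _ _),
        Fintype.prod_subsingleton _ (QuotientGroup.mk 1)]
      obtain ⟨P, f, hf, hfr⟩ := hmap ω.out
      have hSP : S ≤ P := fun r hr => (hfr ⟨r, hr⟩ (htop.ge (mem_top (⟨r, hr⟩ : S)))).1
      show θ (s ((1 : S)⁻¹ * x * 1) ω.out) = θ x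
      rw [inv_one, one_mul, mul_one]
      show π _ = π _
      congr 1
      exact Subtype.ext (hθ₀α f (hf.mono hSP) x _ (hfr x (htop.ge (mem_top x))).2)
    have h1 : θ x ^ Fx.card = 1 := by
      rw [← hsum, ← Finset.prod_const, ← Finset.prod_congr rfl hval]
      refine Finset.prod_subset (Finset.subset_univ _) fun ω _ hω => hno ω ?_
      exact fun h => hω (Finset.mem_filter.2 ⟨Finset.mem_univ _, h⟩)
    have h2 : ((Nat.card (RightOrb c) : ℕ) : ZMod p) = (Fx.card : ZMod p) := by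
      rw [card_eq_sum_index (S := S), Nat.cast_sum, hFx, Finset.card_filter, Nat.cast_sum]
      refine Finset.sum_congr rfl fun ω _ => ?_
      by_cases h : stabilizer S ω.out = ⊤
      · rw [if_pos h, h, index_top]
      · rw [if_neg h, Nat.cast_zero, ZMod.natCast_eq_zero_iff]
        obtain ⟨n, hn⟩ := hS.index (stabilizer S ω.out)
        rw [hn]
        refine dvd_pow_self p fun h0 => h ?_
        rw [h0, pow_zero] at hn
        exact index_eq_one.1 hn
    apply hxθ
    have h3 : ¬ p ∣ Fx.card := by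
      rwa [← ZMod.natCast_eq_zero_iff, ← h2, ZMod.natCast_eq_zero_iff]
    exact orderOf_eq_one_iff.1 (Nat.eq_one_of_dvd_coprimes (hp.coprime_iff_not_dvd.2 h3)
      (orderOf_dvd_of_pow_eq_one (hA (θ x))) (orderOf_dvd_of_pow_eq_one h1))
  have hR : ¬ (⊤ : Subgroup S) ≤ stabilizer S ω.out := fun h => hω (top_le_iff.1 h)
  obtain ⟨U, M, hMn, z, y, χ, hU, hMi, -, hzM, hprod⟩ := engel_transfer_core hS ⊤
    (stabilizer S ω.out) hR (stabCocycle (u := fun a w => θ (s a w)) hu ω.out) x hωne (fun σ hσ => by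
      obtain ⟨P, f, hf, hfr⟩ := hmap ω.out
      obtain ⟨hσP, hσf⟩ := hfr (σ : S) σ.2
      refine hmin (s σ ω.out) (lt_of_le_of_lt (le_of_eq ?_) hσ)
      rw [← Subgroup.orderOf_coe, hσf, ← hf.toHom_apply ⟨_, hσP⟩,
        orderOf_injective hf.toHom (F.injective_of_mem hf.toHom_mem), Subgroup.orderOf_mk,
        Subgroup.orderOf_coe])
  exact exists_wreath_quotient_of_norm hS hA U (top_le_iff.1 hU) M hMn hMi z y χ hzM hprod

end CfsgLib.Invol
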