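import Cfsg.Agent.Lib.Fusion.Alperin
import Cfsg.Agent.Lib.Invol.PlanePairs
import Cfsg.Agent.Lib.OddLocal.RankTwoSmall
import Cfsg.Agent.Lib.OddLocal.RankTwoStructure
import Cfsg.Agent.Lib.Transfer.UniqueOrderP
import Cfsg.Agent.Lib.Solvable.UniqueSubgroup
import Mathlib

/-!
# Extraspecial subgroups of order p³ in fusion systems of rank two

In a saturated fusion system over a `p`-group without elementary abelian subgroups of order `p³`,
no subgroup of order `p³` and exponent `p` has an automiser with a transvection on the Frattini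
quotient together with a torus element normalising its line with eigenvalues `t, s`, `t ≠ s`,
`s² ≠ 1`.
-/

set_option autoImplicit false

namespace CfsgLib.Invol.Heisenberg

open Subgroup Cfsg Cfsg.FusionSystem CfsgLib.Fusion CfsgLib.Invol.PlanePairs
open scoped commutatorElement

section Group

variable {G : Type*} [Group G] [Finite G] {p : ℕ} [hp : Fact p.Prime]

/-- `G` has order `p³` and exponent `p`, and `l, w` do not commute. -/
structure IsHeis (p : ℕ) (G : Type*) [Group G] (l w : G) : Prop where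
  card : Nat.card G = p ^ 3
  exp : ∀ x : G, x ^ p = 1
  ne : ⁅l, w⁆ ≠ 1

variable {l w : G}

theorem IsHeis.isPGroup (h : IsHeis p G l w) : IsPGroup p G := IsPGroup.of_card h.card

theorem IsHeis.center_data (h : IsHeis p G l w) :
    commutator G = center G ∧ center G = zpowers ⁅l, w⁆ ∧ Nat.card (Abelianization G) = p ^ 2 := by
  have hcm : commutator G ≤ center G := by
    rw [commutator_def, commutator_le]
    exact fun a _ b _ => CfsgLib.OddLocal.commutator_mem_center_of_card_cube h.isPGroup h.card.le a b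
  have hc : ⁅l, w⁆ ∈ commutator G := by
    rw [commutator_def]; exact commutator_mem_commutator (mem_top _) (mem_top _)
  have ho : orderOf ⁅l, w⁆ = p := orderOf_eq_prime (h.exp _) h.ne
  obtain ⟨e, he, hec⟩ := (Nat.dvd_prime_pow hp.out).1 (h.card ▸ card_subgroup_dvd_card (center G))
  have he1 : e = 1 := by
    have h1 : e ≠ 0 := by
      rintro rfl
      have h2 := hcm hc
      have hb : center G = ⊥ := Subgroup.card_eq_one.1 (by simpa using hec)
      rw [hb] at h2
      exact h.ne (by simpa using h2)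
    have h2 : e < 2 := by
      by_contra hlt
      have h3 := card_eq_card_quotient_mul_card_subgroup (center G)
      rw [h.card, hec] at h3
      have h4 : Nat.card (G ⧸ center G) ∣ p := by
        refine ⟨p ^ e / p ^ 2, ?_⟩
        rw [Nat.pow_div (by omega) hp.out.pos]
        apply Nat.eq_of_mul_eq_mul_right (pow_pos hp.out.pos 2)
        rw [mul_assoc, ← pow_add, show e - 2 + 2 = e by omega, ← h3, ← pow_succ']
      haveI : IsCyclic (G ⧸ center G) := by
        rcases (Nat.dvd_prime hp.out).1 h4 with h5 | h5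
        · haveI : Subsingleton (G ⧸ center G) := (Nat.card_eq_one_iff_unique.1 h5).1
          infer_instance
        · exact isCyclic_of_prime_card h5
      exact h.ne (commutatorElement_eq_one_iff_mul_comm.2
        (commutative_of_cyclic_center_quotient (QuotientGroup.mk' (center G)) (by simp) l w))
    omega
  rw [he1, pow_one] at hec
  have hz : zpowers ⁅l, w⁆ = center G :=
    eq_of_le_of_card_ge (zpowers_le.2 (hcm hc)) (by rw [hec, Nat.card_zpowers, ho])
  have heq : commutator G = center G := le_antisymm hcm (hz ▸ zpowers_le.2 hc)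
  refine ⟨heq, hz.symm, ?_⟩
  have h3 := card_eq_card_quotient_mul_card_subgroup (commutator G)
  rw [h.card, heq, hec, pow_succ] at h3
  rw [← heq] at h3
  exact (Nat.eq_of_mul_eq_mul_right hp.out.pos h3).symm

theorem IsHeis.ab_exp (h : IsHeis p G l w) (x : Abelianization G) : x ^ p = 1 := by
  obtain ⟨y, rfl⟩ := QuotientGroup.mk_surjective x
  show (Abelianization.of y) ^ p = 1
  rw [← map_pow, h.exp, map_one]

theorem IsHeis.of_eq_one (h : IsHeis p G l w) {x : G} :
    Abelianization.of x = 1 ↔ x ∈ center G := by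
  rw [← MonoidHom.mem_ker, Abelianization.ker_of, h.center_data.1]

theorem IsHeis.of_left_ne (h : IsHeis p G l w) : Abelianization.of l ≠ 1 := fun hl =>
  h.ne (commutatorElement_eq_one_iff_mul_comm.2 (mem_center_iff.1 (h.of_eq_one.1 hl) w).symm)

theorem IsHeis.of_right_not_mem (h : IsHeis p G l w) :
    Abelianization.of w ∉ zpowers (Abelianization.of l) := by
  intro hw
  obtain ⟨i, hi⟩ := mem_zpowers_iff.1 hw
  have hz : w * (l ^ i)⁻¹ ∈ center G :=
    h.of_eq_one.1 (by rw [map_mul, map_inv, map_zpow, hi, mul_inv_cancel])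
  refine h.ne (commutatorElement_eq_one_iff_mul_comm.2 ?_)
  have hcw : Commute l w := by
    have h2 : Commute l (w * (l ^ i)⁻¹ * l ^ i) :=
      (show Commute l (w * (l ^ i)⁻¹) from mem_center_iff.1 hz l).mul_right (Commute.self_zpow l i)
    rwa [inv_mul_cancel_right] at h2
  exact hcw.eq

theorem IsHeis.decomp (h : IsHeis p G l w) (x : G) :
    ∃ i j k : ℤ, x = l ^ i * w ^ j * ⁅l, w⁆ ^ k := by
  obtain ⟨i, j, hij⟩ := exists_coords h.ab_exp h.center_data.2.2 h.of_left_ne h.of_right_not_mem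
    (Abelianization.of x)
  have hz : (l ^ i * w ^ j)⁻¹ * x ∈ center G := h.of_eq_one.1 (by
    rw [map_mul, map_inv, map_mul, map_zpow, map_zpow, ← hij, inv_mul_cancel])
  rw [h.center_data.2.1] at hz
  obtain ⟨k, hk⟩ := mem_zpowers_iff.1 hz
  exact ⟨i, j, k, by rw [hk]; group⟩

omit [Finite G] in
theorem comm_zpow {a b : G} (hc : ⁅a, b⁆ ∈ center G) (m n : ℤ) :
    ⁅a ^ m, b ^ n⁆ = ⁅a, b⁆ ^ (m * n) :=
  CfsgLib.OddLocal.comm_zpow_of_central (fun u => (mem_center_iff.1 hc u).symm) m n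

theorem IsHeis.c_mem (h : IsHeis p G l w) : ⁅l, w⁆ ∈ center G :=
  h.center_data.2.1.symm ▸ mem_zpowers _

theorem IsHeis.dvd_of_zpow (h : IsHeis p G l w) {n : ℤ} (hn : ⁅l, w⁆ ^ n = 1) : (p : ℤ) ∣ n := by
  rw [← orderOf_eq_prime (h.exp _) h.ne]
  exact orderOf_dvd_iff_zpow_eq_one.2 hn

/-- An element commuting with a power of `l` prime to `p`. -/
theorem IsHeis.decomp_of_commute (h : IsHeis p G l w) {x : G} {n : ℤ} (hn : ¬ (p : ℤ) ∣ n)
    (hx : Commute x (l ^ n)) : ∃ i k : ℤ, x = l ^ i * ⁅l, w⁆ ^ k := by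
  obtain ⟨i, j, k, rfl⟩ := h.decomp x
  refine ⟨i, k, ?_⟩
  have hcz : Commute (⁅l, w⁆ ^ k) (l ^ n) := (mem_center_iff.1 (zpow_mem h.c_mem k) (l ^ n)).symm
  have h1 : Commute (l ^ i * w ^ j) (l ^ n) := by
    have h2 := hx.mul_left hcz.inv_left
    rwa [mul_inv_cancel_right] at h2
  have h2 : Commute (w ^ j) (l ^ n) := by
    have h3 := ((Commute.zpow_zpow_self l i n).inv_left).mul_left h1
    rwa [inv_mul_cancel_left] at h3
  have h4 := h.dvd_of_zpow ((comm_zpow h.c_mem n j).symm.trans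
    (commutatorElement_eq_one_iff_mul_comm.2 h2.symm.eq))
  have hj : (p : ℤ) ∣ j := ((Nat.prime_iff_prime_int.1 hp.out).dvd_mul.1 h4).resolve_left hn
  obtain ⟨d, rfl⟩ := hj
  rw [zpow_mul, zpow_natCast, h.exp, one_zpow, mul_one]

/-- An automorphism trivial on the Frattini quotient is inner. -/
theorem IsHeis.inner (h : IsHeis p G l w) {β : MulAut G} (hβ : abAut G β = 1) :
    β ∈ Cfsg.Inn G := by
  have key : ∀ x, ∃ i : ℤ, β x = ⁅l, w⁆ ^ i * x := by
    intro x
    have hz : β x * x⁻¹ ∈ center G := h.of_eq_one.1 (by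
      rw [map_mul, map_inv, ← abAut_of β x, hβ, MulAut.one_apply, mul_inv_cancel])
    rw [h.center_data.2.1] at hz
    obtain ⟨i, hi⟩ := mem_zpowers_iff.1 hz
    exact ⟨i, by rw [hi, inv_mul_cancel_right]⟩
  obtain ⟨i, hi⟩ := key l
  obtain ⟨a, ha⟩ := key w
  refine ⟨l ^ a * w ^ (-i), MulEquiv.ext fun x => ?_⟩
  have hcc : ∀ n : ℤ, ∀ y, y * ⁅l, w⁆ ^ n = ⁅l, w⁆ ^ n * y := fun n y =>
    mem_center_iff.1 (zpow_mem h.c_mem n) y
  have hl : l ^ a * w ^ (-i) * l * (l ^ a * w ^ (-i))⁻¹ = β l := by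
    have h1 : w ^ (-i) * l * (w ^ (-i))⁻¹ = ⁅l, w⁆ ^ i * l := by
      have h2 : ⁅w ^ (-i), l⁆ = ⁅l, w⁆ ^ i := by
        have h3 := comm_zpow h.c_mem 1 (-i)
        rw [zpow_one, one_mul] at h3
        rw [← commutatorElement_inv, h3, ← zpow_neg, neg_neg]
      rw [← h2, commutatorElement_def, inv_mul_cancel_right]
    calc l ^ a * w ^ (-i) * l * (l ^ a * w ^ (-i))⁻¹
        = l ^ a * (w ^ (-i) * l * (w ^ (-i))⁻¹) * (l ^ a)⁻¹ := by group
      _ = β l := by
        rw [h1, ← mul_assoc, hcc, mul_assoc, mul_assoc, ← mul_assoc (l ^ a),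
          ← (Commute.self_zpow l a).eq, mul_inv_cancel_right, hi]
  have hw : l ^ a * w ^ (-i) * w * (l ^ a * w ^ (-i))⁻¹ = β w := by
    have h2 : ⁅l ^ a, w⁆ = ⁅l, w⁆ ^ a := by
      have h3 := comm_zpow h.c_mem a 1
      rwa [zpow_one, mul_one] at h3
    rw [ha, ← h2, commutatorElement_def]
    group
  obtain ⟨i', j, k, rfl⟩ := h.decomp x
  rw [MulAut.conj_apply, map_mul, map_mul, map_zpow, map_zpow, map_zpow, map_commutatorElement,
    ← hl, ← hw]
  simp only [← MulAut.conj_apply, map_mul, map_zpow, map_commutatorElement]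

end Group

section Fusion

variable {Ω : Type*} [Group Ω] {S : Subgroup Ω} [Finite S] {p : ℕ} [hp : Fact p.Prime]
  {F : Cfsg.FusionSystem S}

/-- Three commuting elements of order `p` contradict rank two. -/
theorem rank_three_false
    (hrank : ∀ E : Subgroup Ω, E ≤ S → Cfsg.IsElementaryAbelian p E → Nat.card E ≤ p ^ 2)
    {x y z : Ω} (hx : x ∈ S) (hy : y ∈ S) (hz : z ∈ S) (hxy : Commute x y) (hxz : Commute x z)
    (hyz : Commute y z) (hxp : x ^ p = 1) (hyp : y ^ p = 1) (hzp : z ^ p = 1) (hx1 : x ≠ 1)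
    (hy1 : y ∉ zpowers x) (hz1 : z ∉ closure ({x, y} : Set Ω)) : False := by
  have hle : closure ({x, y, z} : Set Ω) ≤ S := by
    rw [closure_le]
    rintro a (rfl | rfl | rfl) <;> assumption
  have hcomm : IsMulCommutative (closure ({x, y, z} : Set Ω)) := by
    refine isMulCommutative_closure ?_
    rintro a (rfl | rfl | rfl) b (rfl | rfl | rfl)
    exacts [rfl, hxy, hxz, hxy.symm, rfl, hyz, hxz.symm, hyz.symm, rfl]
  haveI := finite_of_le hle
  have hel : Cfsg.IsElementaryAbelian p (closure ({x, y, z} : Set Ω)) := by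
    refine ⟨hcomm, fun a ha => ?_⟩
    refine closure_induction (p := fun a _ => a ^ p = 1) ?_ (one_pow p) ?_ ?_ ha
    · rintro a (rfl | rfl | rfl) <;> assumption
    · intro a b ha hb h1 h2
      rw [Commute.mul_pow (congrArg Subtype.val (hcomm.is_comm.comm ⟨a, ha⟩ ⟨b, hb⟩)), h1, h2,
        mul_one]
    · intro a _ h1
      rw [inv_pow, h1, inv_one]
  have h3 := hrank _ hle hel
  have l1 : zpowers x < closure ({x, y} : Set Ω) :=
    lt_of_le_of_ne (zpowers_le.2 (subset_closure (by simp)))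
      fun h => hy1 (h ▸ subset_closure (by simp))
  have l2 : closure ({x, y} : Set Ω) < closure ({x, y, z} : Set Ω) :=
    lt_of_le_of_ne (closure_mono (by intro a; simp; tauto))
      fun h => hz1 (h ▸ subset_closure (by simp))
  haveI := finite_of_le (l2.le.trans hle)
  have hpg : IsPGroup p (closure ({x, y, z} : Set Ω)) := fun a =>
    ⟨1, Subtype.ext (by rw [pow_one]; exact hel.2 a a.2)⟩
  obtain ⟨e3, he3⟩ := IsPGroup.iff_card.1 hpg
  obtain ⟨e2, he2⟩ := IsPGroup.iff_card.1 (hpg.to_le l2.le)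
  have h1 : Nat.card (zpowers x) = p ^ 1 := by
    rw [Nat.card_zpowers, pow_one, orderOf_eq_prime hxp hx1]
  have c1 : p ^ 1 < p ^ e2 := by
    rw [← he2, ← h1]
    by_contra hc
    exact l1.ne (eq_of_le_of_card_ge l1.le (not_lt.1 hc))
  have c2 : p ^ e2 < p ^ e3 := by
    rw [← he2, ← he3]
    by_contra hc
    exact l2.ne (eq_of_le_of_card_ge l2.le (not_lt.1 hc))
  rw [he3] at h3
  have a1 := (Nat.pow_lt_pow_iff_right hp.out.one_lt).1 c1
  have a2 := (Nat.pow_lt_pow_iff_right hp.out.one_lt).1 c2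
  have a3 := (Nat.pow_le_pow_iff_right hp.out.one_lt).1 h3
  omega

variable (hS : IsPGroup p S) (hF : F.IsSaturated p) (hp2 : p ≠ 2)
  (hrank : ∀ E : Subgroup Ω, E ≤ S → Cfsg.IsElementaryAbelian p E → Nat.card E ≤ p ^ 2)

include hS hp2 hrank in
/-- The centralizer in `S` of a subgroup of order `p³` and exponent `p` is cyclic. -/
theorem isCyclic_centralizerIn {Q : Subgroup Ω} (hQS : Q ≤ S) {l w : Q} (h : IsHeis p Q l w) :
    IsCyclic (centralizerIn S Q) := by
  haveI := finite_of_le hQS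
  haveI := finite_centralizerIn (S := S) (P := Q)
  have hcQ : ((⁅l, w⁆ : Q) : Ω) ≠ 1 := fun e => h.ne (Subtype.ext e)
  have hone : ∀ y ∈ centralizerIn S Q, y ^ p = 1 → y ∈ zpowers ((⁅l, w⁆ : Q) : Ω) := by
    intro y hy hyp
    by_contra hyn
    refine rank_three_false hrank (hQS (⁅l, w⁆ : Q).2) hy.1 (hQS l.2)
      (hy.2 _ (⁅l, w⁆ : Q).2)
      ((congrArg Subtype.val (mem_center_iff.1 h.c_mem l)).symm)
      (hy.2 _ l.2).symm (congrArg Subtype.val (h.exp _)) hyp (congrArg Subtype.val (h.exp _))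
      hcQ hyn ?_
    intro hl
    have hle : closure ({((⁅l, w⁆ : Q) : Ω), y} : Set Ω) ≤ centralizer {(w : Ω)} := by
      rw [closure_le]
      rintro a (rfl | rfl) <;> rw [SetLike.mem_coe, mem_centralizer_singleton_iff]
      · exact (congrArg Subtype.val (mem_center_iff.1 h.c_mem w)).symm
      · exact (hy.2 _ w.2).symm
    exact h.ne (commutatorElement_eq_one_iff_mul_comm.2
      (Subtype.ext (mem_centralizer_singleton_iff.1 (hle hl))))
  refine ((CfsgLib.Solvable.isCyclic_or_quaternion_of_unique (hS.to_le inf_le_left : IsPGroup p (centralizerIn S Q)) ?_).resolve_right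
    fun hq => hp2 hq.1)
  intro H K hH hK
  have key : ∀ H : Subgroup (centralizerIn S Q), Nat.card H = p →
      H.map (centralizerIn S Q).subtype = zpowers ((⁅l, w⁆ : Q) : Ω) := by
    intro H hH
    haveI : Finite (zpowers ((⁅l, w⁆ : Q) : Ω)) := finite_of_le (zpowers_le.2 (hQS (⁅l, w⁆ : Q).2))
    refine eq_of_le_of_card_ge ?_ ?_
    · rintro _ ⟨y, hy, rfl⟩
      refine hone _ y.2 ?_
      have h1 : (⟨y, hy⟩ : H) ^ Nat.card H = 1 := pow_card_eq_one'
      rw [hH] at h1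
      exact congrArg (fun a => ((a : H) : centralizerIn S Q).1) h1
    · rw [card_map_of_injective (centralizerIn S Q).subtype_injective, hH, Nat.card_zpowers,
        orderOf_eq_prime (congrArg Subtype.val (h.exp _)) hcQ]
  exact map_injective (centralizerIn S Q).subtype_injective ((key H hH).trans (key K hK).symm)

include hS hF hp2 hrank in
/-- The fully normalized case, with the transvection induced by `S`. -/
theorem core {Q : Subgroup Ω} (hQ : F.IsFullyNormalized Q) {l w : Q} (h : IsHeis p Q l w)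
    {u τ : MulAut Q} (hu : u ∈ autInducedBy S Q) (hτ : τ ∈ F.autGroup Q)
    (hul : abAut Q u (Abelianization.of l) = Abelianization.of l)
    (huw : abAut Q u (Abelianization.of w) ≠ Abelianization.of w) {t s : ℤ}
    (hτl : abAut Q τ (Abelianization.of l) = Abelianization.of l ^ t)
    (hτw : abAut Q τ (Abelianization.of w) = Abelianization.of w ^ s)
    (hts : ¬ (p : ℤ) ∣ t - s) (hs2 : ¬ (p : ℤ) ∣ s * s - 1) : False := by
  have hQS := hQ.1
  haveI := finite_of_le hQS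
  have hP := Nat.prime_iff_prime_int.1 hp.out
  have hL := h.of_left_ne
  have hW := h.of_right_not_mem
  have hV := h.ab_exp
  have hC := h.center_data.2.2
  have hAS := isPGroup_autInducedBy hS Q
  have hu1 : abAut Q u ≠ 1 := fun e => huw (by rw [e]; rfl)
  have hupow : ∃ k : ℕ, abAut Q u ^ p ^ k = 1 := by
    obtain ⟨k, hk⟩ := hAS ⟨u, hu⟩
    exact ⟨k, by rw [← map_pow]; exact (congrArg (fun a => abAut Q (Subtype.val a)) hk).trans (map_one _)⟩
  have hfix : ∀ α ∈ autInducedBy S Q, abAut Q α (Abelianization.of l) = Abelianization.of l :=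
    fun α hα => pgroup_fixes hV hC hp2 (hAS.map (abAut Q)) (mem_map_of_mem _ hu)
      (mem_map_of_mem _ hα) hu1 hL hul
  obtain ⟨a, ha, hua⟩ := transvection hV hC hupow hu1 hL hul hW
  obtain ⟨m₀, hm₀S, hm₀⟩ := mem_autInducedBy_iff.1 hu
  -- adjust the inducing element so that it centralizes `l`
  obtain ⟨i₀, hi₀⟩ : ∃ i : ℤ, u l = ⁅l, w⁆ ^ i * l := by
    have hz : u l * l⁻¹ ∈ center Q := h.of_eq_one.1 (by
      rw [map_mul, map_inv, ← abAut_of u l, hul, mul_inv_cancel])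
    rw [h.center_data.2.1] at hz
    obtain ⟨i, hi⟩ := mem_zpowers_iff.1 hz
    exact ⟨i, by rw [hi, inv_mul_cancel_right]⟩
  let v : MulAut Q := MulAut.conj (w ^ i₀) * u
  obtain ⟨m, hm_def⟩ : ∃ m : Ω, m = ((w ^ i₀ : Q) : Ω) * m₀ := ⟨_, rfl⟩
  have hmS : m ∈ S := hm_def ▸ S.mul_mem (hQS (w ^ i₀ : Q).2) hm₀S
  have hm : ∀ x : Q, ((v x : Q) : Ω) = m * (x : Ω) * m⁻¹ := by
    intro x
    simp only [v, MulAut.mul_apply, MulAut.conj_apply, Subgroup.coe_mul, Subgroup.coe_inv, hm₀, hm_def]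
    group
  have hmN : m ∈ normalizerIn S Q := ⟨hmS, mem_normalizer_of_aut hm⟩
  have hvV : abAut Q v = abAut Q u := by
    rw [show v = MulAut.conj (w ^ i₀) * u from rfl, map_mul]
    have : abAut Q (MulAut.conj (w ^ i₀)) = 1 := MulEquiv.ext fun x => by
      obtain ⟨y, rfl⟩ := QuotientGroup.mk_surjective x
      show abAut Q _ (Abelianization.of y) = Abelianization.of y
      rw [abAut_of, MulAut.conj_apply, map_mul, map_mul, map_inv, mul_comm (Abelianization.of (w ^ i₀)),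
        mul_inv_cancel_right]
    rw [this, one_mul]
  have hvA : v ∈ autInducedBy S Q := mem_autInducedBy_iff.2 ⟨m, hmS, hm⟩
  have hvl : v l = l := by
    rw [show v l = MulAut.conj (w ^ i₀) (u l) from rfl, hi₀, map_mul, map_zpow,
      map_commutatorElement]
    simp only [MulAut.conj_apply]
    have h1 : ⁅w ^ i₀ * l * (w ^ i₀)⁻¹, w ^ i₀ * w * (w ^ i₀)⁻¹⁆ = ⁅l, w⁆ := by
      have h2 := map_commutatorElement (MulAut.conj (w ^ i₀) : MulAut Q) l w
      simp only [MulAut.conj_apply] at h2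
      rw [← h2, mem_center_iff.1 h.c_mem (w ^ i₀), mul_inv_cancel_right]
    have h3 : ⁅w ^ i₀, l⁆ = (⁅l, w⁆ ^ i₀)⁻¹ := by
      have h4 := comm_zpow h.c_mem 1 i₀
      rw [zpow_one, one_mul] at h4
      rw [← commutatorElement_inv, h4]
    rw [h1, show w ^ i₀ * l * (w ^ i₀)⁻¹ = ⁅w ^ i₀, l⁆ * l by
      rw [commutatorElement_def, inv_mul_cancel_right], h3, mul_inv_cancel_left]
  -- every element of `N_S(Q)` is a power of `m` up to `Q C_S(Q)`
  have hdec : ∀ (x : Ω) (xS : x ∈ S) (α : MulAut Q) (n : ℤ),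
      (∀ y : Q, ((α y : Q) : Ω) = x * (y : Ω) * x⁻¹) →
      abAut Q α (Abelianization.of l) = Abelianization.of l →
      abAut Q α (Abelianization.of w) = Abelianization.of w * Abelianization.of l ^ (a * n) →
      ∃ q : Q, ∃ y ∈ centralizerIn S Q, x = (q : Ω) * y * m ^ n := by
    intro x xS α n hx h1 h2
    have hpow : ∀ n : ℤ, (abAut Q v ^ n) (Abelianization.of l) = Abelianization.of l ∧
        (abAut Q v ^ n) (Abelianization.of w) = Abelianization.of w * Abelianization.of l ^ (a * n) := by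
      intro n
      rw [hvV]
      induction n with
      | zero => simp
      | succ n ih =>
        rw [zpow_add_one, MulAut.mul_apply, MulAut.mul_apply, hul, hua, map_mul, map_zpow, ih.1, ih.2,
          mul_assoc, ← zpow_add, mul_add, mul_one]
        simp
      | pred n ih =>
        have e : abAut Q u ^ (-(n : ℤ) - 1) = abAut Q u ^ (-(n : ℤ)) * (abAut Q u)⁻¹ := by
          rw [zpow_sub_one]
        have e1 : (abAut Q u)⁻¹ (Abelianization.of l) = Abelianization.of l := by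
          conv_lhs => rw [← hul]
          rw [MulAut.inv_apply_self]
        have e2 : (abAut Q u)⁻¹ (Abelianization.of w) =
            Abelianization.of w * Abelianization.of l ^ (-a) := by
          apply (abAut Q u).injective
          rw [MulAut.apply_inv_self, map_mul, map_zpow, hul, hua, mul_assoc, ← zpow_add]
          simp
        rw [e, MulAut.mul_apply, MulAut.mul_apply, e1, e2, map_mul, map_zpow, ih.1, ih.2,
          mul_assoc, ← zpow_add]
        refine ⟨rfl, ?_⟩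
        congr 2
        ring
    have hab : abAut Q (α * (v ^ n)⁻¹) = 1 := by
      rw [map_mul, map_inv, map_zpow, mul_inv_eq_one]
      exact aut_ext hV hC hL hW (h1.trans (hpow n).1.symm) (h2.trans (hpow n).2.symm)
    obtain ⟨q, hq⟩ := h.inner hab
    have hnat : ∀ (n : ℕ) (y : Q), (((v ^ n) y : Q) : Ω) = m ^ n * (y : Ω) * (m ^ n)⁻¹ := by
      intro n
      induction n with
      | zero => simp
      | succ n ih =>
        intro y
        rw [pow_succ', MulAut.mul_apply, hm, ih, pow_succ']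
        group
    have hzp : ∀ (n : ℤ) (y : Q), (((v ^ n) y : Q) : Ω) = m ^ n * (y : Ω) * (m ^ n)⁻¹ := by
      intro n y
      cases n with
      | ofNat k => simpa using hnat k y
      | negSucc k =>
        rw [zpow_negSucc, zpow_negSucc]
        have h5 := hnat (k + 1) ((v ^ (k + 1))⁻¹ y)
        rw [MulAut.apply_inv_self] at h5
        rw [h5]
        group
    refine ⟨q, (q : Ω)⁻¹ * x * (m ^ n)⁻¹, ⟨S.mul_mem (S.mul_mem (S.inv_mem (hQS q.2)) xS)
      (S.inv_mem (S.zpow_mem hmS n)), ?_⟩, by group⟩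
    intro y hy
    have h6 : α ((v ^ n)⁻¹ ⟨y, hy⟩) = q * ⟨y, hy⟩ * q⁻¹ := by
      rw [← MulAut.mul_apply, ← hq, MulAut.conj_apply]
    have h7 := congrArg Subtype.val h6
    rw [hx, ← zpow_neg, hzp] at h7
    simp only [Subgroup.coe_mul, Subgroup.coe_inv, zpow_neg, inv_inv] at h7
    calc y * ((q : Ω)⁻¹ * x * (m ^ n)⁻¹)
        = (q : Ω)⁻¹ * ((q : Ω) * y * (q : Ω)⁻¹) * x * (m ^ n)⁻¹ := by group
      _ = (q : Ω)⁻¹ * (x * ((m ^ n)⁻¹ * y * m ^ n) * x⁻¹) * x * (m ^ n)⁻¹ := by rw [h7]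
      _ = (q : Ω)⁻¹ * x * (m ^ n)⁻¹ * y := by group
  -- eigenvalues are units
  have ht0 : ¬ (p : ℤ) ∣ t := fun hd => hL ((abAut Q τ).injective (by
    rw [hτl, zpow_congr hV _ (j := 0) (by simpa using hd), zpow_zero, map_one]))
  have hs0 : ¬ (p : ℤ) ∣ s := fun hd => hW (by
    have : Abelianization.of w = 1 := (abAut Q τ).injective (by
      rw [hτw, zpow_congr hV _ (j := 0) (by simpa using hd), zpow_zero, map_one])
    rw [this]; exact one_mem _)
  obtain ⟨c₁, s', hs'⟩ := hP.coprime_iff_not_dvd.2 hs0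
  obtain ⟨k, hk⟩ : ∃ k : ℤ, (p : ℤ) ∣ s * k - t :=
    ⟨t * s', ⟨-t * c₁, by linear_combination t * hs'⟩⟩
  -- `τ` normalises `Aut_S(Q)`
  have hline : ∀ α : MulAut Q, ∀ n : ℤ, abAut Q α (Abelianization.of l) = Abelianization.of l →
      abAut Q α (Abelianization.of w) = Abelianization.of w * Abelianization.of l ^ (a * n) →
      abAut Q (τ * α * τ⁻¹) (Abelianization.of l) = Abelianization.of l ∧
      abAut Q (τ * α * τ⁻¹) (Abelianization.of w) =
        Abelianization.of w * Abelianization.of l ^ (a * (k * n)) := by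
    intro α n h1 h2
    rw [map_mul, map_mul, map_inv]
    constructor
    · refine (mem_of_zpow_mem hV (i := t) ht0 (w := Abelianization.of l)
        (H := MonoidHom.eqLocus (abAut Q τ * abAut Q α * (abAut Q τ)⁻¹).toMonoidHom (MonoidHom.id _))
        ?_ :)
      show (abAut Q τ * abAut Q α * (abAut Q τ)⁻¹) (Abelianization.of l ^ t) = Abelianization.of l ^ t
      rw [← hτl, MulAut.mul_apply, MulAut.mul_apply, MulAut.inv_apply_self, h1]
    · have h3 : (abAut Q τ * abAut Q α * (abAut Q τ)⁻¹) (Abelianization.of w ^ s) =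
          (Abelianization.of w * Abelianization.of l ^ (a * (k * n))) ^ s := by
        rw [← hτw, MulAut.mul_apply, MulAut.mul_apply, MulAut.inv_apply_self, h2, map_mul, map_zpow,
          hτl, hτw, mul_zpow, ← zpow_mul, ← zpow_mul]
        congr 1
        refine zpow_congr hV _ ?_
        obtain ⟨d, hd⟩ := hk
        exact ⟨-(a * n * d), by linear_combination -(a * n) * hd⟩
      rw [map_zpow] at h3
      refine mul_inv_eq_one.1 ?_
      by_contra hne
      refine hs0 (zpow_eq_one_imp hV hne ?_)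
      rw [mul_zpow, h3, ← mul_zpow, mul_inv_cancel, one_zpow]
  have hY : IsCyclic (centralizerIn S Q) := isCyclic_centralizerIn hS hp2 hrank hQS h
  haveI := finite_centralizerIn (S := S) (P := Q)
  have hτi := isMap_of_autGroup hQS hτ
  obtain ⟨ψ, hψ, hψx⟩ := receptive_extend (receptive_of_fullyNormalized hS hF hQ) hτi
    (img_toFun_aut τ) (le_normalizerIn hQS) fun x hx => by
      obtain ⟨b, hb, hb'⟩ : ∃ b ∈ S, ∀ y : Q,
          (((τ * Q.normalizerMonoidHom ⟨x, hx.2⟩ * τ⁻¹ : MulAut Q) y : Q) : Ω) =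
            b * (y : Ω) * b⁻¹ := by
        have hxA : Q.normalizerMonoidHom ⟨x, hx.2⟩ ∈ autInducedBy S Q :=
          mem_autInducedBy_iff.2 ⟨x, hx.1, fun y => rfl⟩
        set α := Q.normalizerMonoidHom ⟨x, hx.2⟩
        have hal := hfix α hxA
        obtain ⟨n, hn⟩ : ∃ n : ℤ, abAut Q α (Abelianization.of w) =
            Abelianization.of w * Abelianization.of l ^ (a * n) := by
          by_cases hα1 : abAut Q α = 1
          · exact ⟨0, by simp [hα1]⟩
          obtain ⟨k', hk'⟩ := hAS ⟨α, hxA⟩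
          obtain ⟨b, -, hb⟩ := transvection hV hC ⟨k', by
            rw [← map_pow]; exact (congrArg (fun a => abAut Q (Subtype.val a)) hk').trans (map_one _)⟩
            hα1 hL hal hW
          obtain ⟨c₂, a', ha'⟩ := hP.coprime_iff_not_dvd.2 ha
          refine ⟨a' * b, ?_⟩
          rw [hb]
          congr 1
          exact zpow_congr hV _ ⟨b * c₂, by linear_combination -b * ha'⟩
        obtain ⟨hl', hw'⟩ := hline α n hal hn
        have hab : abAut Q (τ * α * τ⁻¹ * (v ^ (k * n))⁻¹) = 1 := by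
          have hpow : ∀ n : ℕ, (abAut Q u ^ n) (Abelianization.of w) =
              Abelianization.of w * Abelianization.of l ^ (a * n) := by
            intro n
            induction n with
            | zero => simp
            | succ n ih =>
              rw [aut_pow_succ, ih, map_mul, map_zpow, hul, hua, mul_assoc, ← zpow_add]
              congr 2
              push_cast
              ring
          have hnn : ∀ n : ℤ, (abAut Q u ^ n) (Abelianization.of l) = Abelianization.of l ∧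
              (abAut Q u ^ n) (Abelianization.of w) =
                Abelianization.of w * Abelianization.of l ^ (a * n) := by
            intro n
            cases n with
            | ofNat j => exact ⟨by simpa using aut_fix_pow hul j, by simpa using hpow j⟩
            | negSucc j =>
              rw [zpow_negSucc]
              constructor
              · apply (abAut Q u ^ (j + 1)).injective
                rw [MulAut.apply_inv_self, aut_fix_pow hul]
              · apply (abAut Q u ^ (j + 1)).injective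
                rw [MulAut.apply_inv_self, map_mul, map_zpow, aut_fix_pow hul, hpow, mul_assoc,
                  ← zpow_add, Int.negSucc_eq]
                simp [mul_add]
          rw [map_mul _ _ (v ^ (k * n))⁻¹, map_inv _ (v ^ (k * n)), map_zpow, hvV, mul_inv_eq_one]
          exact aut_ext hV hC hL hW (hl'.trans (hnn _).1.symm) (hw'.trans (hnn _).2.symm)
        obtain ⟨q, hq⟩ := h.inner hab
        obtain ⟨b, hb, hb'⟩ := mem_autInducedBy_iff.1
          (mul_mem (inn_le_autInducedBy hQS ⟨q, rfl⟩) (zpow_mem hvA (k * n)) :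
            MulAut.conj q * v ^ (k * n) ∈ autInducedBy S Q)
        refine ⟨b, hb, fun y => ?_⟩
        rw [hq, inv_mul_cancel_right] at hb'
        exact hb' y
      refine ⟨hx.1, hx.2, b, hb, fun y hy => ?_⟩
      rw [toFun_aut_apply τ ((hx.2 y).1 hy), toFun_aut_apply τ hy, ← hb' (τ ⟨y, hy⟩)]
      simp only [MulAut.mul_apply, MulAut.inv_apply_self]
      rfl
  have hψQ : img Q ψ = Q := by
    rw [img_congr hψx, img_toFun_aut]
  have hψτ : ∀ x : Q, ψ (x : Ω) = ((τ x : Q) : Ω) := fun x => by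
    rw [hψx x x.2, toFun_aut_apply τ x.2]
  have hYN : centralizerIn S Q ≤ normalizerIn S Q := centralizerIn_le_normalizerIn
  have hQN : Q ≤ normalizerIn S Q := le_normalizerIn hQS
  have hψY : ∀ y ∈ centralizerIn S Q, ψ y ∈ centralizerIn S Q := fun y hy => by
    have := hψ.apply_mem_centralizerIn hQN (hYN hy) hy.2
    rwa [hψQ] at this
  -- the centralizer is cyclic, generated by `y₀`
  obtain ⟨y₀, hy₀⟩ := hY.exists_generator
  have hgen : ∀ y ∈ centralizerIn S Q, ∃ n : ℤ, y = (y₀ : Ω) ^ n := fun y hy => by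
    obtain ⟨n, hn⟩ := hy₀ ⟨y, hy⟩
    exact ⟨n, (congrArg Subtype.val hn).symm⟩
  obtain ⟨k', hk'⟩ := hgen _ (hψY _ y₀.2)
  let ψh := hψ.toHom
  have hψz : ∀ (x : Ω), x ∈ normalizerIn S Q → ∀ n : ℤ, ψ (x ^ n) = ψ x ^ n := fun x hx n =>
    map_zpow hψ.toHom ⟨x, hx⟩ n
  have hcY : ((⁅l, w⁆ : Q) : Ω) ∈ centralizerIn S Q :=
    ⟨hQS (⁅l, w⁆ : Q).2, fun x hx => congrArg Subtype.val (mem_center_iff.1 h.c_mem ⟨x, hx⟩)⟩
  have hτc : τ ⁅l, w⁆ = ⁅l, w⁆ ^ (t * s) := by
    have key : ∀ (x : Q) (n : ℤ) (g : Q), abAut Q τ (Abelianization.of g) = Abelianization.of x ^ n →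
        ∃ z ∈ center Q, τ g = x ^ n * z := by
      intro x n g hg
      refine ⟨(x ^ n)⁻¹ * τ g, h.of_eq_one.1 ?_, by group⟩
      rw [map_mul, map_inv, map_zpow, ← abAut_of τ g, hg, inv_mul_cancel]
    obtain ⟨z1, hz1, e1⟩ := key l t l hτl
    obtain ⟨z2, hz2, e2⟩ := key w s w hτw
    rw [map_commutatorElement, e1, e2, CfsgLib.OddLocal.comm_mul_central_left _
      (fun g => mem_center_iff.1 hz1 g), CfsgLib.OddLocal.comm_mul_central_right _
      (fun g => mem_center_iff.1 hz2 g), comm_zpow h.c_mem]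
  have hk'ts : (p : ℤ) ∣ k' - t * s := by
    obtain ⟨d, hd⟩ := hgen _ hcY
    have h1 : ((⁅l, w⁆ : Q) : Ω) ^ (t * s) = ((⁅l, w⁆ : Q) : Ω) ^ k' := by
      calc ((⁅l, w⁆ : Q) : Ω) ^ (t * s) = ψ ((⁅l, w⁆ : Q) : Ω) := by
            rw [hψτ, hτc, Subgroup.coe_zpow]
        _ = ((⁅l, w⁆ : Q) : Ω) ^ k' := by
            rw [hd, hψz _ (hYN y₀.2), hk', ← zpow_mul, ← zpow_mul, mul_comm]
    refine h.dvd_of_zpow (Subtype.ext ?_)
    rw [Subgroup.coe_zpow, zpow_sub, h1, mul_inv_cancel]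
    rfl
  -- the image of `m`
  obtain ⟨q₁, y₁, hy₁, hψm⟩ : ∃ q : Q, ∃ y ∈ centralizerIn S Q, ψ m = (q : Ω) * y * m ^ k := by
    have hva : abAut Q v (Abelianization.of w) = Abelianization.of w * Abelianization.of l ^ (a * 1) := by
      rw [hvV, mul_one]; exact hua
    obtain ⟨hl', hw'⟩ := hline v 1 (hvV ▸ hul) hva
    refine hdec (ψ m) (hψ.mem hmN) (τ * v * τ⁻¹) k (fun y => ?_) hl' (by rwa [mul_one] at hw')
    have h1 : τ (τ⁻¹ y) = y := MulAut.apply_inv_self Q τ y
    conv_rhs => rw [← h1, ← hψτ, ← hψ.map_conj hmN (hQN (τ⁻¹ y).2), ← hm, hψτ]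
    rfl
  obtain ⟨qp, yp, hyp, hmp⟩ : ∃ q : Q, ∃ y ∈ centralizerIn S Q, m ^ (p : ℕ) = (q : Ω) * y := by
    have hnat : ∀ n : ℕ, (∀ y : Q, (((v ^ n) y : Q) : Ω) = m ^ n * (y : Ω) * (m ^ n)⁻¹) ∧
        (abAut Q u ^ n) (Abelianization.of w) =
          Abelianization.of w * Abelianization.of l ^ (a * n) := by
      intro n
      induction n with
      | zero => simp
      | succ n ih =>
        refine ⟨fun y => ?_, ?_⟩
        · rw [pow_succ', MulAut.mul_apply, hm, ih.1, pow_succ']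
          group
        · rw [aut_pow_succ, ih.2, map_mul, map_zpow, hul, hua, mul_assoc, ← zpow_add]
          congr 2
          push_cast
          ring
    obtain ⟨q, y, hy, he⟩ := hdec (m ^ p) (S.pow_mem hmS p) (v ^ p) 0 (hnat p).1
      (by rw [map_pow, hvV, aut_fix_pow hul])
      (by rw [map_pow, hvV, (hnat p).2]; congr 1; exact zpow_congr hV _ ⟨a, by ring⟩)
    exact ⟨q, y, hy, by rw [he, zpow_zero, mul_one]⟩
  -- `m` centralises `C_S(Q)`
  have hYc : ∀ y ∈ centralizerIn S Q, ∀ y' ∈ centralizerIn S Q, Commute y y' := fun y hy y' hy' => by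
    obtain ⟨i, rfl⟩ := hgen y hy
    obtain ⟨j, rfl⟩ := hgen y' hy'
    exact Commute.zpow_zpow_self _ i j
  have hmY : ∀ y ∈ centralizerIn S Q, Commute m y := by
    have hconjY : m * (y₀ : Ω) * m⁻¹ ∈ centralizerIn S Q := by
      refine ⟨S.mul_mem (S.mul_mem hmS y₀.2.1) (S.inv_mem hmS), fun x hx => ?_⟩
      have hx' : m⁻¹ * x * m ∈ Q := (Subgroup.mem_normalizer_iff''.1 hmN.2 x).1 hx
      calc x * (m * (y₀ : Ω) * m⁻¹) = m * ((m⁻¹ * x * m) * (y₀ : Ω)) * m⁻¹ := by group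
        _ = m * ((y₀ : Ω) * (m⁻¹ * x * m)) * m⁻¹ := by rw [y₀.2.2 _ hx']
        _ = m * (y₀ : Ω) * m⁻¹ * x := by group
    obtain ⟨i, hi⟩ := hgen _ hconjY
    have h1 : ψ m * (y₀ : Ω) ^ k' * (ψ m)⁻¹ = (y₀ : Ω) ^ (k' * i) := by
      rw [← hk', ← hψ.map_conj hmN (hYN y₀.2), hi, hψz _ (hYN y₀.2), hk', ← zpow_mul]
    have h2 : ∀ n j : ℤ, m ^ n * (y₀ : Ω) ^ j * (m ^ n)⁻¹ ∈ centralizerIn S Q := by
      intro n j
      refine ⟨S.mul_mem (S.mul_mem (S.zpow_mem hmS n) (S.zpow_mem y₀.2.1 j))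
        (S.inv_mem (S.zpow_mem hmS n)), fun x hx => ?_⟩
      have hx' : (m ^ n)⁻¹ * x * m ^ n ∈ Q :=
        (Subgroup.mem_normalizer_iff''.1 ((Subgroup.normalizer (Q : Set Ω)).zpow_mem hmN.2 n) x).1 hx
      calc x * (m ^ n * (y₀ : Ω) ^ j * (m ^ n)⁻¹)
          = m ^ n * (((m ^ n)⁻¹ * x * m ^ n) * (y₀ : Ω) ^ j) * (m ^ n)⁻¹ := by group
        _ = m ^ n * ((y₀ : Ω) ^ j * ((m ^ n)⁻¹ * x * m ^ n)) * (m ^ n)⁻¹ := by
              rw [(zpow_mem y₀.2 j : (y₀ : Ω) ^ j ∈ centralizerIn S Q).2 _ hx']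
        _ = m ^ n * (y₀ : Ω) ^ j * (m ^ n)⁻¹ * x := by group
    have h3 : Commute (m ^ (k - 1)) ((y₀ : Ω) ^ k') := by
      have h4 : m ^ k * (y₀ : Ω) ^ k' * (m ^ k)⁻¹ = (y₀ : Ω) ^ (k' * i) := by
        rw [← h1, hψm]
        have e1 : Commute y₁ (m ^ k * (y₀ : Ω) ^ k' * (m ^ k)⁻¹) := hYc _ hy₁ _ (h2 k k')
        have e2 : Commute (q₁ : Ω) (m ^ k * (y₀ : Ω) ^ k' * (m ^ k)⁻¹) := (h2 k k').2 _ q₁.2
        calc m ^ k * (y₀ : Ω) ^ k' * (m ^ k)⁻¹
            = ((q₁ : Ω) * y₁) * (m ^ k * (y₀ : Ω) ^ k' * (m ^ k)⁻¹) * ((q₁ : Ω) * y₁)⁻¹ := by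
              rw [(e2.mul_left e1).eq, mul_inv_cancel_right]
          _ = _ := by group
      have h5 : m * (y₀ : Ω) ^ k' * m⁻¹ = (y₀ : Ω) ^ (k' * i) := by
        rw [← conj_zpow, hi, ← zpow_mul, mul_comm]
      have h6 := h4.trans h5.symm
      show m ^ (k - 1) * (y₀ : Ω) ^ k' = (y₀ : Ω) ^ k' * m ^ (k - 1)
      calc m ^ (k - 1) * (y₀ : Ω) ^ k'
          = m⁻¹ * (m ^ k * (y₀ : Ω) ^ k' * (m ^ k)⁻¹) * m ^ k := by group
        _ = m⁻¹ * (m * (y₀ : Ω) ^ k' * m⁻¹) * m ^ k := by rw [h6]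
        _ = (y₀ : Ω) ^ k' * m ^ (k - 1) := by group
    have h7 : Commute (m ^ (p : ℕ)) ((y₀ : Ω) ^ k') := by
      rw [hmp]
      exact Commute.mul_left ((zpow_mem y₀.2 k' : (y₀ : Ω) ^ k' ∈ centralizerIn S Q).2 _ qp.2)
        (hYc _ hyp _ (zpow_mem y₀.2 k'))
    have hk1 : ¬ (p : ℤ) ∣ k - 1 := fun hd => hts (by
      have := dvd_sub (dvd_mul_of_dvd_right hd s) hk
      rwa [show s * (k - 1) - (s * k - t) = t - s by ring] at this)
    obtain ⟨c₃, d₃, h8⟩ := hP.coprime_iff_not_dvd.2 hk1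
    have h9 : Commute m ((y₀ : Ω) ^ k') := by
      have := (h7.zpow_left c₃).mul_left (h3.zpow_left d₃)
      rwa [← zpow_natCast, ← zpow_mul, ← zpow_mul, ← zpow_add, mul_comm (p : ℤ), mul_comm (k - 1), h8,
        zpow_one] at this
    have hk'0 : ¬ (p : ℤ) ∣ k' := fun hd => by
      have := dvd_sub hd hk'ts
      rw [sub_sub_cancel] at this
      exact (hP.dvd_mul.1 this).elim ht0 hs0
    obtain ⟨e, he⟩ : ∃ e, orderOf y₀ = p ^ e :=
      (IsPGroup.iff_orderOf.1 (hS.to_le inf_le_left : IsPGroup p (centralizerIn S Q))) y₀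
    obtain ⟨c₄, d₄, h10⟩ : IsCoprime ((p : ℤ) ^ e) k' :=
      IsCoprime.pow_left (hP.coprime_iff_not_dvd.2 hk'0)
    intro y hy
    obtain ⟨j, rfl⟩ := hgen y hy
    have h11 : Commute m (y₀ : Ω) := by
      have := h9.zpow_right d₄
      rwa [← zpow_mul, mul_comm k', show d₄ * k' = 1 + ((p : ℤ) ^ e) * (-c₄) by
        linear_combination h10, zpow_add, zpow_one, zpow_mul, show ((y₀ : Ω) ^ ((p : ℤ) ^ e)) = 1 by
        rw [← Nat.cast_pow, zpow_natCast, ← he]
        exact congrArg Subtype.val (pow_orderOf_eq_one y₀), one_zpow, mul_one] at this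
    exact h11.zpow_right j
  -- the power `m ^ p`
  have hml : Commute m (l : Ω) := by
    have h1 := hm l
    rw [hvl] at h1
    show m * (l : Ω) = l * m
    conv_rhs => rw [h1]
    group
  obtain ⟨i₁, y₂, hy₂, hmp'⟩ : ∃ i : ℤ, ∃ y ∈ centralizerIn S Q, m ^ (p : ℕ) = (l : Ω) ^ i * y := by
    have hcl : Commute (qp : Ω) (l : Ω) := by
      have hcy : Commute yp (l : Ω) := (hyp.2 _ l.2).symm
      have := (hml.pow_left p).mul_left hcy.inv_left
      rwa [hmp, mul_inv_cancel_right] at this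
    obtain ⟨i, j, rfl⟩ := h.decomp_of_commute (n := 1) hP.not_dvd_one
      (by rw [zpow_one]; exact Subtype.ext hcl.eq)
    exact ⟨i, ((⁅l, w⁆ : Q) : Ω) ^ j * yp, mul_mem (zpow_mem hcY j) hyp, by
      rw [hmp, Subgroup.coe_mul, Subgroup.coe_zpow, Subgroup.coe_zpow, mul_assoc]⟩
  obtain ⟨z, hz, hτl'⟩ : ∃ z ∈ centralizerIn S Q, ψ (l : Ω) = (l : Ω) ^ t * z := by
    have hz' : (l ^ t)⁻¹ * τ l ∈ center Q := h.of_eq_one.1 (by
      rw [map_mul, map_inv, map_zpow, ← abAut_of τ l, hτl, inv_mul_cancel])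
    refine ⟨(((l ^ t)⁻¹ * τ l : Q) : Ω), ⟨hQS ((l ^ t)⁻¹ * τ l).2,
      fun x hx => congrArg Subtype.val (mem_center_iff.1 hz' ⟨x, hx⟩)⟩, ?_⟩
    rw [hψτ, ← Subgroup.coe_zpow, ← Subgroup.coe_mul, mul_inv_cancel_left]
  obtain ⟨i₂, hq₁⟩ : ∃ i : ℤ, ∃ y ∈ centralizerIn S Q, (q₁ : Ω) = (l : Ω) ^ i * y := by
    have hcomm : Commute (ψ m) (ψ (l : Ω)) := by
      show ψ m * ψ _ = ψ _ * ψ m
      rw [← hψ.map_mul hmN (hQN l.2), ← hψ.map_mul (hQN l.2) hmN, hml.eq]
    have hlY : ∀ y ∈ centralizerIn S Q, Commute y (l : Ω) := fun y hy => (hy.2 _ l.2).symm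
    have c1 : Commute (y₁ * m ^ k) ((l : Ω) ^ t * z) :=
      (((hlY _ hy₁).zpow_right t).mul_right (hYc _ hy₁ _ hz)).mul_left
        ((hml.zpow_zpow k t).mul_right ((hmY z hz).zpow_left k))
    rw [hψm, hτl', mul_assoc] at hcomm
    have c2 := hcomm.mul_left c1.inv_left
    rw [mul_inv_cancel_right] at c2
    have c3 := c2.mul_right ((show Commute (q₁ : Ω) z from hz.2 _ q₁.2).inv_right)
    rw [mul_inv_cancel_right] at c3
    obtain ⟨i, j, hij⟩ := h.decomp_of_commute ht0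
      (x := q₁) (Subtype.ext (by rw [Subgroup.coe_mul, Subgroup.coe_mul, Subgroup.coe_zpow]; exact c3.eq))
    exact ⟨i, ((⁅l, w⁆ : Q) : Ω) ^ j, zpow_mem hcY j, by
      rw [hij, Subgroup.coe_mul, Subgroup.coe_zpow, Subgroup.coe_zpow]⟩
  obtain ⟨y₃, hy₃, hq₁⟩ := hq₁
  have hkt : ¬ (p : ℤ) ∣ k - t := fun hd => by
    have h1 := dvd_sub (dvd_mul_of_dvd_right hd s) hk
    rw [show s * (k - t) - (s * k - t) = t * (1 - s) by ring] at h1
    rcases hP.dvd_mul.1 h1 with h2 | h2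
    · exact ht0 h2
    · exact hs2 (by rw [show s * s - 1 = (1 - s) * (-s - 1) by ring]; exact dvd_mul_of_dvd_left h2 _)
  have hψmp : ψ m ^ (p : ℕ) = (y₃ * y₁) ^ p * ((l : Ω) ^ (i₁ * k) * y₂ ^ k) := by
    have e : ψ m = (y₃ * y₁) * ((l : Ω) ^ i₂ * m ^ k) := by
      rw [hψm, hq₁, mul_assoc ((l : Ω) ^ i₂) y₃ y₁,
        show (l : Ω) ^ i₂ * (y₃ * y₁) = y₃ * y₁ * (l : Ω) ^ i₂ from
          ((show Commute (l : Ω) (y₃ * y₁) from (mul_mem hy₃ hy₁ : y₃ * y₁ ∈ centralizerIn S Q).2 _ l.2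
            ).zpow_left i₂).eq, mul_assoc]
    have c1 : Commute (y₃ * y₁) ((l : Ω) ^ i₂ * m ^ k) :=
      ((show Commute (l : Ω) (y₃ * y₁) from (mul_mem hy₃ hy₁ : y₃ * y₁ ∈ centralizerIn S Q).2 _ l.2
        ).symm.zpow_right i₂).mul_right ((hmY _ (mul_mem hy₃ hy₁)).symm.zpow_right k)
    rw [e, c1.mul_pow, (hml.symm.zpow_zpow i₂ k).mul_pow]
    congr 1
    have hlp : ((l : Ω) ^ i₂) ^ p = 1 := by
      rw [← zpow_natCast, ← zpow_mul, mul_comm, zpow_mul, zpow_natCast]
      rw [show (l : Ω) ^ p = 1 from congrArg Subtype.val (h.exp l), one_zpow]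
    rw [hlp, one_mul, ← zpow_natCast, ← zpow_mul, mul_comm, zpow_mul, zpow_natCast, hmp',
      ((show Commute (l : Ω) y₂ from hy₂.2 _ l.2).zpow_left i₁).mul_zpow, ← zpow_mul]
  have hψmp2 : ψ m ^ (p : ℕ) = (l : Ω) ^ (i₁ * t) * (z ^ i₁ * ψ y₂) := by
    rw [← hψ.map_pow hmN, hmp', hψ.map_mul (hQN (Q.zpow_mem l.2 i₁)) (hYN hy₂), hψz _ (hQN l.2),
      hτl', ((show Commute (l : Ω) z from hz.2 _ l.2).zpow_left t).mul_zpow, ← zpow_mul,
      mul_comm t, mul_assoc]
  have hi₁ : (p : ℤ) ∣ i₁ := by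
    have hmem : (l : Ω) ^ (i₁ * (k - t)) ∈ centralizerIn S Q := by
      have h1 := hψmp.symm.trans hψmp2
      have hA : (y₃ * y₁) ^ p ∈ centralizerIn S Q := pow_mem (mul_mem hy₃ hy₁) p
      have h2 : (y₃ * y₁) ^ p * (l : Ω) ^ (i₁ * k) = (l : Ω) ^ (i₁ * k) * (y₃ * y₁) ^ p :=
        (((show Commute (l : Ω) ((y₃ * y₁) ^ p) from hA.2 _ l.2)).zpow_left _).symm.eq
      rw [← mul_assoc, h2] at h1
      have h3 : (l : Ω) ^ (i₁ * (k - t)) =
          z ^ i₁ * ψ y₂ * ((y₃ * y₁) ^ p * y₂ ^ k)⁻¹ := by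
        rw [mul_sub, zpow_sub]
        have h4 : (l : Ω) ^ (i₁ * k) =
            (l : Ω) ^ (i₁ * t) * (z ^ i₁ * ψ y₂ * ((y₃ * y₁) ^ p * y₂ ^ k)⁻¹) := by
          rw [← mul_assoc ((l : Ω) ^ (i₁ * t)), ← h1]; group
        have h5 : Commute ((l : Ω) ^ (i₁ * t)) (z ^ i₁ * ψ y₂ * ((y₃ * y₁) ^ p * y₂ ^ k)⁻¹) :=
          ((show Commute (l : Ω) _ from
            (mul_mem (mul_mem (zpow_mem hz i₁) (hψY _ hy₂))
              (inv_mem (mul_mem hA (zpow_mem hy₂ k))) :
              z ^ i₁ * ψ y₂ * ((y₃ * y₁) ^ p * y₂ ^ k)⁻¹ ∈ centralizerIn S Q).2 _ l.2)).zpow_left _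
        rw [h4, h5.eq, mul_inv_cancel_right]
      rw [h3]
      exact mul_mem (mul_mem (zpow_mem hz i₁) (hψY _ hy₂)) (inv_mem (mul_mem hA (zpow_mem hy₂ k)))
    have h1 : ⁅l ^ (i₁ * (k - t)), w ^ (1 : ℤ)⁆ = 1 := by
      rw [zpow_one]
      refine commutatorElement_eq_one_iff_mul_comm.2 (Subtype.ext ?_)
      rw [Subgroup.coe_mul, Subgroup.coe_mul, Subgroup.coe_zpow]
      exact (hmem.2 _ w.2).symm
    rw [comm_zpow h.c_mem, mul_one] at h1
    exact (hP.dvd_mul.1 (h.dvd_of_zpow h1)).resolve_right hkt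
  have hl1 : (l : Ω) ^ i₁ = 1 := by
    obtain ⟨d, rfl⟩ := hi₁
    rw [zpow_mul, zpow_natCast, show (l : Ω) ^ p = 1 from congrArg Subtype.val (h.exp l), one_zpow]
  rw [hl1, one_mul] at hmp'
  obtain ⟨n₂, hn₂⟩ := hgen _ hy₂
  by_cases hdn : (p : ℤ) ∣ n₂
  · obtain ⟨d, rfl⟩ := hdn
    have hy' : (y₀ : Ω) ^ (-d) ∈ centralizerIn S Q := zpow_mem y₀.2 _
    let b := m * (y₀ : Ω) ^ (-d)
    have hb : b ^ p = 1 := by
      rw [(hmY _ hy').mul_pow, hmp', hn₂, ← zpow_natCast ((y₀ : Ω) ^ (-d)), ← zpow_mul, ← zpow_add]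
      simp [mul_comm]
    refine rank_three_false hrank (hQS (⁅l, w⁆ : Q).2) (hQS l.2) (S.mul_mem hmS hy'.1)
      ((congrArg Subtype.val (mem_center_iff.1 h.c_mem l)).symm)
      ((hmY _ hcY).symm.mul_right (hYc _ hcY _ hy')) (hml.symm.mul_right (hy'.2 _ l.2))
      (congrArg Subtype.val (h.exp _)) (congrArg Subtype.val (h.exp _)) hb
      (fun e => h.ne (Subtype.ext e)) ?_ ?_
    · intro hl
      obtain ⟨n, hn⟩ := mem_zpowers_iff.1 hl
      refine hL (h.of_eq_one.2 ?_)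
      have e : l = ⁅l, w⁆ ^ n := Subtype.ext (by rw [Subgroup.coe_zpow]; exact hn.symm)
      rw [e]
      exact zpow_mem h.c_mem n
    · intro hbm
      have hbQ : b ∈ Q := (closure_le Q).2 (by rintro x (rfl | rfl) <;> exact SetLike.coe_mem _) hbm
      have e : v = MulAut.conj ⟨b, hbQ⟩ := MulEquiv.ext fun x => Subtype.ext (by
        rw [hm, MulAut.conj_apply, Subgroup.coe_mul, Subgroup.coe_mul, Subgroup.coe_inv]
        show m * (x : Ω) * m⁻¹ = b * (x : Ω) * b⁻¹
        simp only [b]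
        have hc' : Commute (x : Ω) ((y₀ : Ω) ^ (-d)) := hy'.2 _ x.2
        rw [mul_assoc m ((y₀ : Ω) ^ (-d)), ← hc'.eq]
        group)
      refine hu1 (hvV ▸ ?_)
      rw [e]
      refine MulEquiv.ext fun x => ?_
      obtain ⟨y, rfl⟩ := QuotientGroup.mk_surjective x
      show abAut Q _ (Abelianization.of y) = Abelianization.of y
      rw [abAut_of, MulAut.conj_apply, map_mul, map_mul, map_inv, mul_comm (Abelianization.of _),
        mul_inv_cancel_right]
  · obtain ⟨n₃, hn₃⟩ := hgen _ (mul_mem hy₃ hy₁)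
    have h1 := hψmp.symm.trans hψmp2
    have hz1 : (l : Ω) ^ (i₁ * k) = 1 ∧ (l : Ω) ^ (i₁ * t) = 1 := by
      constructor <;> rw [zpow_mul, hl1, one_zpow]
    obtain ⟨d₁, hd₁⟩ := hi₁
    have hzp : z ^ i₁ = 1 := by
      have hzQ : z ∈ Q := by
        have e : z = ((l : Ω) ^ t)⁻¹ * ψ (l : Ω) := by rw [hτl', inv_mul_cancel_left]
        rw [e]
        exact mul_mem (inv_mem (zpow_mem l.2 t)) (by rw [hψτ]; exact SetLike.coe_mem _)
      rw [hd₁, zpow_mul, zpow_natCast,
        show z ^ p = 1 from congrArg Subtype.val (h.exp ⟨z, hzQ⟩), one_zpow]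
    rw [hz1.1, hz1.2, one_mul, one_mul, hzp, one_mul, hn₃, hn₂, hψz _ (hYN y₀.2), hk', ← zpow_natCast,
      ← zpow_mul, ← zpow_mul, ← zpow_mul, ← zpow_add] at h1
    have hy₀o : (p : ℤ) ∣ orderOf (y₀ : Ω) := by
      have h2 : orderOf ((⁅l, w⁆ : Q) : Ω) ∣ orderOf (y₀ : Ω) := by
        obtain ⟨d, hd⟩ := hgen _ hcY
        rw [hd]
        exact orderOf_dvd_of_mem_zpowers (zpow_mem (mem_zpowers _) d)
      rw [orderOf_eq_prime (congrArg Subtype.val (h.exp _)) (fun e => h.ne (Subtype.ext e))] at h2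
      exact_mod_cast h2
    have h2 : (p : ℤ) ∣ n₃ * p + n₂ * k - k' * n₂ := hy₀o.trans
      (orderOf_dvd_iff_zpow_eq_one.2 (by rw [zpow_sub, h1, mul_inv_cancel]))
    have h3 : (p : ℤ) ∣ n₂ * (k - k') := by
      have := dvd_sub h2 (dvd_mul_left (p : ℤ) n₃)
      rwa [show n₃ * (p : ℤ) + n₂ * k - k' * n₂ - n₃ * p = n₂ * (k - k') by ring] at this
    have h4 : (p : ℤ) ∣ k - t * s := by
      have := dvd_add ((hP.dvd_mul.1 h3).resolve_left hdn) hk'ts
      rwa [show k - k' + (k' - t * s) = k - t * s by ring] at this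
    have h5 := dvd_sub hk (dvd_mul_of_dvd_right h4 s)
    rw [show s * k - t - s * (k - t * s) = t * (s * s - 1) by ring] at h5
    exact (hP.dvd_mul.1 h5).elim ht0 hs2

include hS hF hp2 hrank in
/-- **The obstruction**: no subgroup of order `p³` and exponent `p` admits a transvection together
with a torus element of the given kind in its automiser. -/
theorem no_heisenberg {Q : Subgroup Ω} (hQS : Q ≤ S) {l w : Q} (h : IsHeis p Q l w)
    {u τ : MulAut Q} (hu : u ∈ F.autGroup Q) (hup : ∃ k : ℕ, u ^ p ^ k = 1) (hτ : τ ∈ F.autGroup Q)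
    (hul : abAut Q u (Abelianization.of l) = Abelianization.of l)
    (huw : abAut Q u (Abelianization.of w) ≠ Abelianization.of w) {t s : ℤ}
    (hτl : abAut Q τ (Abelianization.of l) = Abelianization.of l ^ t)
    (hτw : abAut Q τ (Abelianization.of w) = Abelianization.of w ^ s)
    (hts : ¬ (p : ℤ) ∣ t - s) (hs2 : ¬ (p : ℤ) ∣ s * s - 1) : False := by
  haveI := finite_of_le hQS
  obtain ⟨R, hQR, hR⟩ := exists_fullyNormalized_conj F hQS
  obtain ⟨f, hf, rfl⟩ := isConj_iff.1 hQR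
  haveI := finite_of_le hf.img_le
  let e := hf.equivImg
  let u₁ : MulAut (img Q f) := MulAut.congr e u
  obtain ⟨n, hn⟩ := hup
  have hpg : IsPGroup p (zpowers u₁) := by
    rintro ⟨y, hy⟩
    obtain ⟨j, rfl⟩ := mem_zpowers_iff.1 hy
    refine ⟨n, Subtype.ext ?_⟩
    show (u₁ ^ j) ^ p ^ n = 1
    rw [← zpow_natCast, ← zpow_mul, mul_comm, zpow_mul, zpow_natCast, ← map_pow, hn, map_one,
      one_zpow]
  obtain ⟨β, hβ, hβu⟩ := exists_conj_le_autInducedBy (fullyAutomized_of_fullyNormalized hS hF hR)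
    (zpowers u₁) hpg (zpowers_le.2 (hf.congr_mem_autGroup hu))
  let g : Q ≃* img Q f := e.trans β
  have key : ∀ (α : MulAut Q) (x : Q),
      abAut (img Q f) (β * MulAut.congr e α * β⁻¹) (Abelianization.of (g x)) =
        (MulEquiv.abelianizationCongr g) (abAut Q α (Abelianization.of x)) := by
    intro α x
    rw [abAut_of, abAut_of, abelianizationCongr_of]
    simp only [g, MulAut.mul_apply, MulEquiv.trans_apply, MulAut.inv_apply_self]
    congr 2
    show e (α (e.symm (e x))) = e (α x)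
    rw [e.symm_apply_apply]
  have hz : ∀ x : Q, (MulEquiv.abelianizationCongr g) (Abelianization.of x) = Abelianization.of (g x) :=
    fun x => abelianizationCongr_of g x
  refine core hS hF hp2 hrank hR (l := g l) (w := g w) ⟨?_, fun x => ?_, fun hc => h.ne ?_⟩
    (hβu u₁ (mem_zpowers u₁)) (mul_mem (mul_mem hβ (hf.congr_mem_autGroup hτ)) (inv_mem hβ))
    (by rw [key, hul, hz]) (fun hc => ?_) (t := t) (s := s) (by rw [key, hτl, map_zpow, hz])
    (by rw [key, hτw, map_zpow, hz]) hts hs2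
  · rw [hf.card_img]; exact h.card
  · obtain ⟨y, rfl⟩ := g.surjective x
    rw [← map_pow, h.exp, map_one]
  · apply g.injective
    rw [map_commutatorElement, hc, map_one]
  · rw [key, ← hz] at hc
    exact huw ((MulEquiv.abelianizationCongr g).injective hc)

end Fusion

end CfsgLib.Invol.Heisenberg
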