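import Cfsg.Agent.Lib.Invol.HomocyclicSection

/-!
Brauer's argument for an abelian Sylow 2-subgroup of order at least 16 with automizer of order
three: some non-trivial linear character of the group is trivial on the Sylow subgroup.
-/

set_option autoImplicit false
set_option linter.unusedSectionVars false

namespace CfsgLib.Invol.Homocyclic

open Cfsg
open scoped ComplexConjugate

universe u

/-- The diophantine equation. -/
theorem arith {A B X : ℤ} (hA : A % 16 = 1) (hB : B % 16 = 1) (h1 : 1 + A + B + X = 0)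
    (h2 : A * B * X + B * X + A * X + 9 * (A * B) = 0) : A = 1 := by
  obtain ⟨d, hd⟩ : ∃ d, A + B = d + 8 := ⟨A + B - 8, by ring⟩
  have hX : X = -(d + 9) := by linarith
  have h3 : A * B * d + (d + 8) * (d + 9) = 0 := by
    have e : (A * B + (A + B)) * X + 9 * (A * B) = 0 := by linear_combination h2
    rw [hX, hd] at e
    linear_combination -e
  have hdvd : d ∣ 72 := ⟨-(A * B + d + 17), by linear_combination h3⟩
  have hd16 : d % 16 = 10 := by omega
  have hle : d ≤ 72 := Int.le_of_dvd (by norm_num) hdvd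
  have hge : -72 ≤ d := by
    have := Int.le_of_dvd (by norm_num) (neg_dvd.2 hdvd)
    omega
  have hd6 : d = -6 := by
    by_contra hne
    interval_cases d <;> first | omega | norm_num at hdvd
  subst hd6
  have hp : A * B = 1 := by linarith
  nlinarith [mul_self_nonneg (A - 1)]

variable {G : Type u} [Group G] [Finite G]

theorem twoPart_inv (g : G) : twoPart g⁻¹ = (twoPart g)⁻¹ := by
  have hodd := odd_orderOf_twoPart_inv_mul g
  obtain ⟨k, hk⟩ := exists_orderOf_twoPart g
  have hc := twoPart_commute_self g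
  have e : g⁻¹ = (twoPart g)⁻¹ * ((twoPart g)⁻¹ * g)⁻¹ := by
    rw [mul_inv_rev, inv_inv, ← mul_assoc, ← (hc.inv_inv).eq.symm, mul_assoc, inv_mul_cancel,
      mul_one]
  conv_lhs => rw [e]
  refine twoPart_mul ?_ ⟨k, by rw [orderOf_inv, hk]⟩ (by rw [orderOf_inv]; exact hodd)
  exact ((Commute.refl _).inv_right.mul_right hc).inv_inv

namespace Data

variable (D : Data G)

theorem sq_of_isConj_inv {x : (D.P : Subgroup G)} (h : IsConj (x : G) (x : G)⁻¹) : x * x = 1 := by
  have h' : IsConj (x : G) ((x⁻¹ : (D.P : Subgroup G)) : G) := by simpa using h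
  rcases D.fusion h' with e | e | e
  · nth_rewrite 1 [← e]
    exact inv_mul_cancel x
  · have e2 : D.τ (D.τ x) = x := by rw [← e, map_inv, ← e, inv_inv]
    have := (D.tau_two_ne (x := x))
    by_cases hx : x = 1
    · simp [hx]
    · exact absurd e2 (this hx).2.1
  · by_cases hx : x = 1
    · simp [hx]
    have e1 : D.τ x⁻¹ = x := by rw [e, D.h3]
    have e2 : D.τ x = x⁻¹ := by rw [← inv_inv (D.τ x), ← map_inv, e1]
    rw [e2] at e
    rw [e1] at e
    nth_rewrite 1 [← e]
    exact inv_mul_cancel x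

theorem product_section {a b : G} (ha : orderOf a = 2) (hb : orderOf b = 2)
    {x : (D.P : Subgroup G)} (h : IsConj (twoPart (a * b)) (x : G)) : x * x = 1 := by
  refine D.sq_of_isConj_inv ?_
  have e : a * (a * b) * a⁻¹ = (a * b)⁻¹ := by
    rw [invol_inv ha, mul_inv_rev, invol_inv hb, invol_inv ha, ← mul_assoc, invol_mul_self ha, one_mul]
  have h1 : IsConj (twoPart (a * b)) (twoPart (a * b))⁻¹ := by
    rw [← twoPart_inv, ← e, twoPart_conj]
    exact isConj_iff.2 ⟨a, rfl⟩
  have h2 : IsConj (twoPart (a * b))⁻¹ (x : G)⁻¹ := by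
    obtain ⟨c, hc⟩ := isConj_iff.1 h
    exact isConj_iff.2 ⟨c, by rw [← hc]; group⟩
  exact h.symm.trans (h1.trans h2)

variable [Fintype G]

/-- The isometry image of `3 - ψ`. -/
noncomputable def Phi (l : (D.P : Subgroup G) →* ℂˣ) : G → ℂ := D.theta (phi D.τ l)

theorem Phi_gen (l : (D.P : Subgroup G) →* ℂˣ) : IsGeneralizedCharacter G (D.Phi l) := by
  have := Fintype.ofFinite (D.P : Subgroup G)
  exact D.theta_isGeneralized (phi_tau D.τ D.h3 l) (phi_isGeneralized D.τ l)

theorem Phi_section (l : (D.P : Subgroup G) →* ℂˣ) (x : (D.P : Subgroup G)) (g : G)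
    (hg : twoPart g = (x : G)) : D.Phi l g = phi D.τ l x := by
  have := Fintype.ofFinite (D.P : Subgroup G)
  show D.wfn _ (twoPart g) = _
  rw [hg]
  exact D.wfn_eq (phi_tau D.τ D.h3 l) (IsConj.refl _)

open Classical in
theorem Phi_pair [Fintype (D.P : Subgroup G)] (l m : (D.P : Subgroup G) →* ℂˣ) :
    classInner (D.Phi l) (D.Phi m) = (3 : ℂ)⁻¹ * classInner (phi D.τ l) (phi D.τ m) := by
  have h := D.theta_inner (phi_tau D.τ D.h3 l) (phi_one D.τ l) (F := D.Phi m)
    (CfsgLib.Char.isGeneralized_isClassFunction (D.Phi_gen m))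
    (fun x g _ hg => by
      rw [D.Phi_section m x g hg, D.Phi_section m x x (D.twoPart_coe_P x)])
  rw [show (fun x : (D.P : Subgroup G) => D.Phi m x) = phi D.τ m from
    funext fun x => D.Phi_section m x x (D.twoPart_coe_P x)] at h
  exact h

end Data

open Classical in
/-- Brauer: a proper normal subgroup contains the Sylow 2-subgroup. -/
theorem exists_normal (D : Data G) (h16 : 16 ≤ Nat.card (D.P : Subgroup G))
    (hl : ∃ l : (D.P : Subgroup G) →* ℂˣ, l ≠ 1 ∧ ∀ x, x * x = 1 → l x = 1) :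
    ∃ K : Subgroup G, K.Normal ∧ K ≠ ⊤ ∧ (D.P : Subgroup G) ≤ K := by
  have := Fintype.ofFinite G
  have := Fintype.ofFinite (D.P : Subgroup G)
  have := Fintype.ofFinite (IrrCharacter G)
  obtain ⟨M, hM⟩ := CfsgLib.BlockB.exists_isPModular Nat.prime_two
  obtain ⟨l0, hl0, hl0z⟩ := hl
  -- coefficients
  choose c hc using fun (l : (D.P : Subgroup G) →* ℂˣ) (χ : IrrCharacter G) =>
    CfsgLib.Char.classInner_isGeneralized_int (D.Phi_gen l)
      (CfsgLib.Char.isGeneralized_of_isCharacter (CfsgLib.Char.irr_isCharacter χ.2))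
  have hlf1 : lf (1 : (D.P : Subgroup G) →* ℂˣ) = fun _ => (1 : ℂ) := by funext x; simp [lf]
  have hpp := fun l => phi_norm D.hab D.τ D.h3 D.hfix (l := l)
  have hgram : ∀ l m, (∑ χ : IrrCharacter G, c l χ * c m χ : ℤ) =
      classInner (D.Phi l) (D.Phi m) := by
    intro l m
    rw [CfsgLib.Char.classInner_eq_sum_mul
      (CfsgLib.Char.isGeneralized_isClassFunction (D.Phi_gen l)) (D.Phi m)]
    simp only [hc, map_intCast]
    push_cast
    rfl
  set tr : IrrCharacter G := CfsgLib.Block.trivIrr with htr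
  -- restriction to the Sylow subgroup
  have hmult : ∀ χ : IrrCharacter G, χ ∈ principalBlock M G → ∃ m : ℤ,
      (∀ l, c (tw D.τ l) χ = c l χ) ∧ c 1 χ = 0 ∧ ∀ x : (D.P : Subgroup G),
        (χ : G → ℂ) x = (m : ℂ) * (if x = 1 then (Nat.card (D.P : Subgroup G) : ℂ) else 0) -
          ∑ l, (c l χ : ℂ) * (l x : ℂ) := by
    intro χ hχ
    set f : ↥(D.P : Subgroup G) → ℂ := fun x => (χ : G → ℂ) x
    have hfg : IsGeneralizedCharacter (D.P : Subgroup G) f :=
      CfsgLib.Char.isGeneralized_of_isCharacter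
        (CfsgLib.Char.isCharacter_restrict (CfsgLib.Char.irr_isCharacter χ.2) _)
    choose m hm using fun l : (D.P : Subgroup G) →* ℂˣ =>
      CfsgLib.Char.classInner_isGeneralized_int hfg (η := lf l)
        (CfsgLib.Char.isGeneralized_of_isCharacter
          (CfsgLib.Char.irr_isCharacter (CfsgLib.Char.isIrrCharacter_linear l)))
    have htw : ∀ l, m (tw D.τ l) = m l := by
      intro l
      have : classInner f (lf (tw D.τ l)) = classInner f (lf l) := by
        rw [CfsgLib.Char.classInner_def, CfsgLib.Char.classInner_def]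
        congr 1
        refine Fintype.sum_equiv D.τ.toEquiv _ _ fun v => ?_
        simp only [MulEquiv.toEquiv_eq_coe, MulEquiv.coe_toEquiv, f, lf, tw_apply]
        rw [CfsgLib.Char.isClassFunction_isConj (CfsgLib.Char.irr_isClassFunction χ.2)
          (D.isConj_tau v)]
      rw [hm, hm] at this
      exact_mod_cast this
    have hcm : ∀ l, c l χ = m 1 - m l := by
      intro l
      have h := D.theta_inner (phi_tau D.τ D.h3 l) (phi_one D.τ l) (F := (χ : G → ℂ))
        (CfsgLib.Char.irr_isClassFunction χ.2)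
        (fun x g hx hg => D.principal_const hM hχ x g hx hg)
      rw [← CfsgLib.Char.classInner_conj_symm f (phi D.τ l), phi_inner_right] at h
      simp only [hm, htw, map_sub, map_add, map_mul, map_ofNat, map_intCast] at h
      have h' : (c l χ : ℂ) = (m 1 : ℂ) - m l := by
        rw [← hc]
        show classInner (D.theta (phi D.τ l)) (χ : G → ℂ) = _
        rw [h]; ring
      exact_mod_cast h'
    refine ⟨m 1, fun l => by rw [hcm, hcm, htw], by rw [hcm, sub_self], fun x => ?_⟩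
    rw [show (χ : G → ℂ) x = f x from rfl, fourier D.hab f x, ← sum_chars D.hab x, Finset.mul_sum,
      ← Finset.sum_sub_distrib]
    refine Finset.sum_congr rfl fun l _ => ?_
    rw [hm, hcm]
    push_cast
    ring
  have hprin : ∀ l χ, c l χ ≠ 0 → χ ∈ principalBlock M G := by
    intro l χ h
    by_contra hχ
    apply h
    have := D.theta_nonprincipal (phi_tau D.τ D.h3 l) hM (phi_one D.τ l) hχ
    rw [show classInner (D.theta (phi D.τ l)) (χ : G → ℂ) = c l χ from hc l χ] at this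
    exact_mod_cast this
  have htriv : ∀ l, l ≠ 1 → c l tr = 1 := by
    intro l hl
    have h := D.theta_inner (phi_tau D.τ D.h3 l) (phi_one D.τ l) (F := fun _ => (1 : ℂ))
      (fun g h => rfl) (fun x g _ _ => rfl)
    rw [← CfsgLib.Char.classInner_conj_symm (fun _ : (D.P : Subgroup G) => (1 : ℂ)) (phi D.τ l),
      ← hlf1, phi_inner_right] at h
    have b1 : tw D.τ l ≠ 1 := fun e => hl (tw_inj D.τ D.h3 (e.trans (tw_one D.τ D.h3).symm))
    have b2 : tw D.τ (tw D.τ l) ≠ 1 := fun e => b1 (tw_inj D.τ D.h3 (e.trans (tw_one D.τ D.h3).symm))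
    simp only [lf_inner, if_true, if_neg hl.symm, if_neg b1.symm, if_neg b2.symm] at h
    have h' : (c l tr : ℂ) = 1 := by
      rw [← hc, show classInner (D.Phi l) (tr : G → ℂ) = classInner (D.theta (phi D.τ l))
        (fun _ => (1 : ℂ)) from rfl, h]
      simp [map_ofNat]
    exact_mod_cast h'
  -- vectors of norm three
  let w : ((D.P : Subgroup G) →* ℂˣ) → IrrCharacter G → ℤ := fun l χ => if χ = tr then 0 else c l χ
  have hw : ∀ l m, l ≠ 1 → m ≠ 1 →
      ∑ χ, w l χ * w m χ = (∑ χ, c l χ * c m χ) - 1 := by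
    intro l m hl hm
    rw [← Finset.add_sum_erase _ _ (Finset.mem_univ tr), ← Finset.add_sum_erase (Finset.univ)
      (fun χ => c l χ * c m χ) (Finset.mem_univ tr), htriv l hl, htriv m hm]
    simp only [w, if_true, zero_mul, zero_add, one_mul, add_sub_cancel_left]
    exact Finset.sum_congr rfl fun χ hχ => by simp [Finset.ne_of_mem_erase hχ]
  have hwn : ∀ l, l ≠ 1 → ∑ χ, w l χ * w l χ = 3 := by
    intro l hl
    have : ((∑ χ, c l χ * c l χ : ℤ) : ℂ) = 4 := by
      rw [hgram, D.Phi_pair, hpp l hl]; norm_num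
    rw [hw l l hl hl]
    have : (∑ χ, c l χ * c l χ : ℤ) = 4 := by exact_mod_cast this
    omega
  have hwc : ∀ l m, l ≠ 1 → m ≠ 1 → ¬ InOrb D.τ l m → ∑ χ, w l χ * w m χ = 2 := by
    intro l m hl hm h
    have : ((∑ χ, c l χ * c m χ : ℤ) : ℂ) = 3 := by
      rw [hgram, D.Phi_pair, phi_cross D.hab D.τ D.h3 D.hfix hl hm h]; norm_num
    rw [hw l m hl hm]
    have : (∑ χ, c l χ * c m χ : ℤ) = 3 := by exact_mod_cast this
    omega
  have hfive : ∀ a b d, a ≠ 1 → b ≠ 1 → d ≠ 1 → ¬ InOrb D.τ a b → ¬ InOrb D.τ a d →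
      ¬ InOrb D.τ b d → ∀ χ, w a χ ≠ 0 → w b χ ≠ 0 → w d χ = w a χ := by
    intro a b d ha hb hd hab' had hbd χ h0 h1
    obtain ⟨e, he, heS⟩ := exists_new D.hab D.τ D.h3 h16 {a, b, d}
      ((Finset.card_le_three).trans (by norm_num))
    obtain ⟨f, hf, hfS⟩ := exists_new D.hab D.τ D.h3 h16 {a, b, d, e} Finset.card_le_four
    simp only [Finset.mem_insert, Finset.mem_singleton, forall_eq_or_imp, forall_eq] at heS hfS
    have sy : ∀ {p q}, ¬ InOrb D.τ p q → ¬ InOrb D.τ q p := fun h h' => h (inOrb_symm D.τ D.h3 h')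
    refine five_vectors (fun k : Fin 5 => w (![a, b, d, e, f] k)) (fun k => hwn _ ?_)
      (fun k k' hk => hwc _ _ ?_ ?_ ?_) h0 h1
    · fin_cases k <;> simp [ha, hb, hd, he, hf]
    · fin_cases k <;> simp [ha, hb, hd, he, hf]
    · fin_cases k' <;> simp [ha, hb, hd, he, hf]
    · fin_cases k <;> fin_cases k' <;>
        first
        | exact absurd rfl hk
        | simp [hab', had, hbd, heS, hfS, sy hab', sy had, sy hbd, sy heS.1, sy heS.2.1, sy heS.2.2,
            sy hfS.1, sy hfS.2.1, sy hfS.2.2.1, sy hfS.2.2.2]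
  -- the three constituents
  obtain ⟨l1, hl1, hl1S⟩ := exists_new D.hab D.τ D.h3 h16 {l0} (by simp)
  have h01 : ¬ InOrb D.τ l0 l1 := hl1S l0 (Finset.mem_singleton_self _)
  obtain ⟨hT, hX, hagree⟩ := two_vectors (hwn l0 hl0) (hwn l1 hl1) (hwc l0 l1 hl0 hl1 h01)
  set T := Finset.univ.filter fun χ => w l0 χ ≠ 0
  set X := Finset.univ.filter fun χ => w l0 χ ≠ 0 ∧ w l1 χ ≠ 0
  obtain ⟨a, b, hab', hXab⟩ := Finset.card_eq_two.1 hX
  have hXT : X ⊆ T := fun χ h => Finset.mem_filter.2 ⟨Finset.mem_univ _, (Finset.mem_filter.1 h).2.1⟩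
  obtain ⟨x, hx⟩ : ∃ x, T \ X = {x} := Finset.card_eq_one.1 (by
    rw [Finset.card_sdiff_of_subset hXT, hT, hX])
  have hxT : x ∈ T ∧ x ∉ X := Finset.mem_sdiff.1 (hx ▸ Finset.mem_singleton_self x)
  have hwin : ∀ {l χ}, w l χ ≠ 0 → χ ≠ tr ∧ c l χ = w l χ := by
    intro l χ h
    by_cases he : χ = tr
    · simp [w, he] at h
    · exact ⟨he, by simp [w, he]⟩
  have horb : ∀ {χ}, χ ∈ principalBlock M G → ∀ {p q}, InOrb D.τ p q → c q χ = c p χ := by
    intro χ hχ p q h
    obtain ⟨m, htw, -, -⟩ := hmult χ hχ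
    rcases h with rfl | rfl | rfl
    · rfl
    · exact htw p
    · rw [htw, htw]
  -- common constituents
  have hcommon : ∀ χ ∈ X, ∀ l, l ≠ 1 → c l χ = c l0 χ := by
    intro χ hχ l hl
    obtain ⟨h0, h1⟩ := (Finset.mem_filter.1 hχ).2
    obtain ⟨hne, e0⟩ := hwin h0
    obtain ⟨-, e1⟩ := hwin h1
    have hB := hprin l0 χ (by rw [e0]; exact h0)
    by_cases i0 : InOrb D.τ l0 l
    · exact horb hB i0
    by_cases i1 : InOrb D.τ l1 l
    · rw [horb hB i1, e0, e1, hagree χ h0 h1]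
    have := hfive l0 l1 l hl0 hl1 hl h01 i0 i1 χ h0 h1
    rw [e0, ← this]
    simp [w, hne]
  have hprivate : ∀ l, l ≠ 1 → ¬ InOrb D.τ l0 l → c l x = 0 := by
    intro l hl i0
    obtain ⟨hx0, hx1⟩ := hxT
    have h0 := (Finset.mem_filter.1 hx0).2
    obtain ⟨hne, e0⟩ := hwin h0
    have hB := hprin l0 x (by rw [e0]; exact h0)
    have h1 : w l1 x = 0 := by
      by_contra h1
      exact hx1 (Finset.mem_filter.2 ⟨Finset.mem_univ _, h0, h1⟩)
    have h1' : c l1 x = 0 := by simpa [w, hne] using h1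
    by_cases i1 : InOrb D.τ l1 l
    · rw [horb hB i1, h1']
    by_contra hne0
    have hwl : w l x ≠ 0 := by simpa [w, hne] using hne0
    have := hfive l0 l l1 hl0 hl hl1 i0 h01 (fun h => i1 (inOrb_symm D.τ D.h3 h)) x h0 hwl
    rw [h1] at this
    exact h0 this.symm
  -- signs
  have hsign : ∀ χ ∈ T, w l0 χ * w l0 χ = 1 := by
    intro χ hχ
    have h : ∑ ψ ∈ T, w l0 ψ * w l0 ψ = 3 := by
      rw [← hwn l0 hl0]
      refine Finset.sum_subset (Finset.subset_univ _) fun ψ _ hψ => ?_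
      simp only [T, Finset.mem_filter, Finset.mem_univ, true_and, not_not] at hψ
      rw [hψ, zero_mul]
    have hge : ∀ ψ ∈ T, 1 ≤ w l0 ψ * w l0 ψ := fun ψ hψ => by
      have := (Finset.mem_filter.1 hψ).2
      have := mul_self_pos.2 this
      omega
    have h2 : ∑ ψ ∈ T.erase χ, w l0 ψ * w l0 ψ ≥ 2 := by
      refine le_trans (le_of_eq ?_) (Finset.sum_le_sum fun ψ hψ => hge ψ (Finset.mem_of_mem_erase hψ))
      simp [Finset.card_erase_of_mem hχ, hT]
    rw [← Finset.add_sum_erase _ _ hχ] at h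
    have := hge χ hχ
    omega
  have haX : a ∈ X := hXab ▸ Finset.mem_insert_self a {b}
  have hbX : b ∈ X := hXab ▸ Finset.mem_insert_of_mem (Finset.mem_singleton_self b)
  -- data of a common constituent
  have hval : ∀ χ ∈ X, ∃ m : ℤ,
      (c l0 χ : ℂ) * (χ : G → ℂ) 1 = m * Nat.card (D.P : Subgroup G) + 1 ∧
      (∀ u : (D.P : Subgroup G), u ≠ 1 → (χ : G → ℂ) u = c l0 χ) := by
    intro χ hχ
    have hχT := hXT hχ
    have h0 := (Finset.mem_filter.1 hχT).2
    obtain ⟨hne, e0⟩ := hwin h0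
    have hB := hprin l0 χ (by rw [e0]; exact h0)
    obtain ⟨m, -, hc1, hx⟩ := hmult χ hB
    have hs : ∀ u : (D.P : Subgroup G), (χ : G → ℂ) u =
        ((m : ℂ) - c l0 χ) * (if u = 1 then (Nat.card (D.P : Subgroup G) : ℂ) else 0) + c l0 χ := by
      intro u
      rw [hx u]
      have e : ∑ l, (c l χ : ℂ) * (l u : ℂ) =
          ∑ l : (D.P : Subgroup G) →* ℂˣ, (c l0 χ : ℂ) * (l u : ℂ) - c l0 χ := by
        rw [← Finset.add_sum_erase _ _ (Finset.mem_univ (1 : (D.P : Subgroup G) →* ℂˣ)),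
          ← Finset.add_sum_erase (Finset.univ) (fun l : (D.P : Subgroup G) →* ℂˣ =>
            (c l0 χ : ℂ) * (l u : ℂ)) (Finset.mem_univ (1 : (D.P : Subgroup G) →* ℂˣ)), hc1,
          Finset.sum_congr rfl (fun l hl => by
            rw [hcommon χ hχ l (Finset.ne_of_mem_erase hl)])]
        simp
      rw [e, ← Finset.mul_sum, sum_chars D.hab]
      ring
    refine ⟨c l0 χ * m - 1, ?_, fun u hu => by rw [hs u, if_neg hu]; ring⟩
    have hsq : (c l0 χ : ℂ) * c l0 χ = 1 := by
      rw [e0]; exact_mod_cast hsign χ hχT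
    have := hs 1
    rw [if_pos rfl, OneMemClass.coe_one] at this
    rw [this]
    push_cast
    linear_combination (1 - (Nat.card (D.P : Subgroup G) : ℂ)) * hsq
  obtain ⟨za, hza⟩ : ∃ z : (D.P : Subgroup G), orderOf z = 2 := by
    refine exists_prime_orderOf_dvd_card' 2 ?_
    obtain ⟨k, hk⟩ := D.P.2.exists_card_eq
    rw [hk]
    exact dvd_pow_self 2 fun h => by rw [hk, h] at h16; norm_num at h16
  have hza1 : za ≠ 1 := fun h => by rw [h, orderOf_one] at hza; norm_num at hza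
  have hz2 : za * za = 1 := by rw [← pow_two]; exact (orderOf_eq_prime_iff.1 hza).1
  have hzG : orderOf (za : G) = 2 := by rw [Subgroup.orderOf_coe, hza]
  obtain ⟨ma, hA1, hAu⟩ := hval a haX
  obtain ⟨mb, hB1, hBu⟩ := hval b hbX
  -- the private constituent
  have hxs := (Finset.mem_filter.1 hxT.1).2
  obtain ⟨hxne, ex0⟩ := hwin hxs
  obtain ⟨mx, hxtw, hx1c, hxv⟩ := hmult x (hprin l0 x (by rw [ex0]; exact hxs))
  have hxu : ∀ u : (D.P : Subgroup G), u ≠ 1 → (x : G → ℂ) u = -(c l0 x : ℂ) * psi D.τ l0 u := by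
    intro u hu
    rw [hxv u, if_neg hu, mul_zero, zero_sub, neg_mul]
    congr 1
    have a1 : tw D.τ l0 ≠ l0 := fun e => hl0 (eq_one_of_tw D.hab D.τ D.hfix e)
    have a2 : tw D.τ (tw D.τ l0) ≠ l0 := fun e => a1 (by
      have := congrArg (tw D.τ) e
      rw [tw3 D.τ D.h3] at this
      exact this.symm)
    have a3 : tw D.τ (tw D.τ l0) ≠ tw D.τ l0 := fun e => a1 (tw_inj D.τ D.h3 e)
    rw [← Finset.sum_subset (Finset.subset_univ {l0, tw D.τ l0, tw D.τ (tw D.τ l0)}) fun l _ hl => ?_,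
      Finset.sum_insert (by simp [a1.symm, a2.symm]), Finset.sum_pair a3.symm]
    · simp only [psi, tw_apply, hxtw]; ring
    · simp only [Finset.mem_insert, Finset.mem_singleton, not_or] at hl
      by_cases h1 : l = 1
      · simp [h1, hx1c]
      rw [hprivate l h1 (by rintro (e | e | e); exacts [hl.1 e, hl.2.1 e, hl.2.2 e]), Int.cast_zero,
        zero_mul]
  have hxz : (x : G → ℂ) za = -3 * (c l0 x : ℂ) := by
    rw [hxu za hza1]
    have e1 : D.τ za * D.τ za = 1 := by rw [← map_mul, hz2, map_one]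
    have e2 : D.τ (D.τ za) * D.τ (D.τ za) = 1 := by rw [← map_mul, e1, map_one]
    simp only [psi, hl0z za hz2, hl0z _ e1, hl0z _ e2, Units.val_one]
    ring
  -- the two equations
  have hsupp : ∀ χ, χ ∉ ({tr, a, b, x} : Finset (IrrCharacter G)) → c l0 χ = 0 := by
    intro χ hχ
    simp only [Finset.mem_insert, Finset.mem_singleton, not_or] at hχ
    by_contra h
    have hwχ : χ ∈ T := Finset.mem_filter.2 ⟨Finset.mem_univ _, by simpa [w, hχ.1] using h⟩
    by_cases hX' : χ ∈ X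
    · rw [hXab] at hX'
      simp only [Finset.mem_insert, Finset.mem_singleton] at hX'
      exact hX'.elim hχ.2.1 hχ.2.2.1
    · exact hχ.2.2.2 (Finset.mem_singleton.1 (hx ▸ Finset.mem_sdiff.2 ⟨hwχ, hX'⟩))
  have hane : a ≠ tr := (hwin (Finset.mem_filter.1 haX).2.1).1
  have hbne : b ≠ tr := (hwin (Finset.mem_filter.1 hbX).2.1).1
  have hax : a ≠ x := fun e => hxT.2 (e ▸ haX)
  have hbx : b ≠ x := fun e => hxT.2 (e ▸ hbX)
  have hsum4 : ∀ F : IrrCharacter G → ℂ, (∀ χ, c l0 χ = 0 → F χ = 0) →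
      ∑ χ, F χ = F tr + F a + F b + F x := by
    intro F hF
    rw [← Finset.sum_subset (Finset.subset_univ {tr, a, b, x}) fun χ _ hχ => hF χ (hsupp χ hχ),
      Finset.sum_insert (by simp [hane.symm, hbne.symm, hxne.symm]),
      Finset.sum_insert (by simp [hab', hax]), Finset.sum_pair hbx]
    ring
  have hcls0 := CfsgLib.Char.isGeneralized_isClassFunction (D.Phi_gen l0)
  have hdeg : 1 + (c l0 a : ℂ) * (a : G → ℂ) 1 + (c l0 b : ℂ) * (b : G → ℂ) 1 +
      (c l0 x : ℂ) * (x : G → ℂ) 1 = 0 := by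
    have h := CfsgLib.Char.classFunction_apply_eq_sum hcls0 1
    rw [hsum4 _ fun χ hχ => by rw [hc, hχ, Int.cast_zero, zero_mul],
      hc, hc, hc, hc, htriv l0 hl0] at h
    rw [D.Phi_section l0 1 1 (by simp [twoPart_of_odd])] at h
    rw [phi_one] at h
    simpa [tr, CfsgLib.Block.trivIrr] using h.symm
  have hcount := CfsgLib.BlockB.sum_classFun_mul_conj hcls0 (za : G) (za : G)
  rw [Finset.sum_eq_zero (fun t _ => ?_)] at hcount
  swap
  · by_cases hex : ∃ u : (D.P : Subgroup G), u ≠ 1 ∧ IsConj (twoPart ((za : G) * (t * za * t⁻¹))) (u : G)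
    · obtain ⟨u, -, hu⟩ := hex
      have hu2 : u * u = 1 := D.product_section hzG (by rw [orderOf_conj_eq, hzG]) hu
      show D.wfn _ _ = 0
      rw [D.wfn_eq (phi_tau D.τ D.h3 l0) hu]
      have e1 : D.τ u * D.τ u = 1 := by rw [← map_mul, hu2, map_one]
      have e2 : D.τ (D.τ u) * D.τ (D.τ u) = 1 := by rw [← map_mul, e1, map_one]
      simp only [phi, psi, hl0z u hu2, hl0z _ e1, hl0z _ e2, Units.val_one]
      norm_num
    · push Not at hex
      exact D.theta_eq_zero (phi_one D.τ l0) hex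
  have hcnt := (mul_eq_zero.1 hcount.symm).resolve_left CfsgLib.Char.natCard_ne_zero
  rw [hsum4 _ fun χ hχ => by rw [hc, hχ, Int.cast_zero, zero_mul, zero_mul, zero_div]] at hcnt
  simp only [hc, htriv l0 hl0, hAu za hza1, hBu za hza1, hxz] at hcnt
  simp only [tr, CfsgLib.Block.trivIrr, Int.cast_one, mul_one, div_one] at hcnt
  -- integers
  have fa := CfsgLib.Char.irr_apply_one_ne_zero a.2
  have fb := CfsgLib.Char.irr_apply_one_ne_zero b.2
  have fx := CfsgLib.Char.irr_apply_one_ne_zero x.2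
  have sa : (c l0 a : ℂ) * c l0 a = 1 := by
    rw [(hwin (Finset.mem_filter.1 haX).2.1).2]; exact_mod_cast hsign a (hXT haX)
  have sb : (c l0 b : ℂ) * c l0 b = 1 := by
    rw [(hwin (Finset.mem_filter.1 hbX).2.1).2]; exact_mod_cast hsign b (hXT hbX)
  have sx : (c l0 x : ℂ) * c l0 x = 1 := by rw [ex0]; exact_mod_cast hsign x hxT.1
  obtain ⟨da, hda⟩ := CfsgLib.Char.char_apply_one_eq_nat (CfsgLib.Char.irr_isCharacter a.2)
  obtain ⟨db, hdb⟩ := CfsgLib.Char.char_apply_one_eq_nat (CfsgLib.Char.irr_isCharacter b.2)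
  obtain ⟨dx, hdx⟩ := CfsgLib.Char.char_apply_one_eq_nat (CfsgLib.Char.irr_isCharacter x.2)
  have hAeq : c l0 a * da = ma * Nat.card (D.P : Subgroup G) + 1 := by
    rw [hda] at hA1; exact_mod_cast hA1
  have hBeq : c l0 b * db = mb * Nat.card (D.P : Subgroup G) + 1 := by
    rw [hdb] at hB1; exact_mod_cast hB1
  have h16d : (16 : ℤ) ∣ Nat.card (D.P : Subgroup G) := by
    obtain ⟨k, hk⟩ := D.P.2.exists_card_eq
    rw [hk] at h16 ⊢
    have hk4 : 4 ≤ k := by
      by_contra h
      have : k ≤ 3 := by omega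
      have := Nat.pow_le_pow_right (show 1 ≤ 2 by norm_num) this
      omega
    exact_mod_cast (show (16 : ℕ) ∣ 2 ^ k from pow_dvd_pow 2 hk4)
  rw [hda, hdb, hdx] at hdeg
  have E1 : 1 + c l0 a * da + c l0 b * db + c l0 x * dx = 0 := by exact_mod_cast hdeg
  rw [hda, hdb, hdx] at hcnt
  rw [hda] at fa
  rw [hdb] at fb
  rw [hdx] at fx
  field_simp at hcnt
  have E2 : (c l0 a * da) * (c l0 b * db) * (c l0 x * dx) + (c l0 b * db) * (c l0 x * dx) +
      (c l0 a * da) * (c l0 x * dx) + 9 * ((c l0 a * da) * (c l0 b * db)) = 0 := by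
    have hA : (c l0 a : ℂ) * c l0 a * c l0 a = c l0 a := by rw [sa, one_mul]
    have hB : (c l0 b : ℂ) * c l0 b * c l0 b = c l0 b := by rw [sb, one_mul]
    have hX : (c l0 x : ℂ) * c l0 x * c l0 x = c l0 x := by rw [sx, one_mul]
    have key : ((c l0 a : ℂ) * da) * (c l0 b * db) * (c l0 x * dx) +
        (c l0 b * db) * (c l0 x * dx) + (c l0 a * da) * (c l0 x * dx) +
        9 * ((c l0 a * da) * (c l0 b * db)) = 0 := by
      linear_combination ((c l0 a : ℂ) * c l0 b * c l0 x) * hcnt -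
        (c l0 b : ℂ) * c l0 x * db * dx * sa * (c l0 a * c l0 a + 1) -
        (c l0 a : ℂ) * c l0 x * da * dx * sb * (c l0 b * c l0 b + 1) -
        9 * (c l0 a : ℂ) * c l0 b * da * db * sx * (c l0 x * c l0 x + 1)
    exact_mod_cast key
  obtain ⟨q, hq⟩ := h16d
  have hA1' : c l0 a * da = 1 :=
    arith (by rw [hAeq, hq, mul_left_comm]; omega) (by rw [hBeq, hq, mul_left_comm]; omega) E1 E2
  have hca : c l0 a = 1 ∧ (da : ℤ) = 1 := by
    rcases Int.eq_one_or_neg_one_of_mul_eq_one hA1' with h | h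
    · rw [h, one_mul] at hA1'; exact ⟨h, hA1'⟩
    · rw [h] at hA1'; omega
  obtain ⟨lam, hlam⟩ := CfsgLib.Char.exists_hom_of_degree_one (CfsgLib.Char.irr_isCharacter a.2)
    (by rw [hda]; exact_mod_cast hca.2)
  refine ⟨lam.ker, inferInstance, fun h => hane (Subtype.ext ?_), fun u hu => ?_⟩
  · show (a : G → ℂ) = fun _ => 1
    funext g
    rw [hlam]
    simp [MonoidHom.mem_ker.1 (h ▸ Subgroup.mem_top g : g ∈ lam.ker)]
  · rw [MonoidHom.mem_ker]
    by_cases h1 : u = 1
    · simp [h1]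
    refine Units.ext ?_
    have := hAu ⟨u, hu⟩ fun h => h1 (congrArg Subtype.val h)
    rw [hca.1, hlam] at this
    simpa using this

end CfsgLib.Invol.Homocyclic
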