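import Cfsg.Agent.Lib.Char.Inner
import Cfsg.Agent.Lib.Char.Linear

/-!
Linear characters of an abelian group under an automorphism of order three without fixed points,
and a combinatorial lemma on five integral vectors of norm three.
-/

set_option autoImplicit false
set_option linter.unusedSectionVars false

namespace CfsgLib.Invol.Homocyclic

open Cfsg
open scoped ComplexConjugate

universe u

variable {P : Type u} [Group P] [Fintype P]

/-- A linear character as a function. -/
def lf (l : P →* ℂˣ) : P → ℂ := fun x => (l x : ℂ)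

noncomputable scoped instance charsFintype : Fintype (P →* ℂˣ) := by
  have : Finite (P →* ℂˣ) :=
    Finite.of_equiv _ (CfsgLib.Char.linearIrrEquiv (G := P)).symm
  exact Fintype.ofFinite _

theorem lf_inner [DecidableEq (P →* ℂˣ)] (l m : P →* ℂˣ) :
    classInner (lf l) (lf m) = if l = m then 1 else 0 := by
  by_cases h : l = m
  · rw [if_pos h, h]
    exact CfsgLib.Char.irr_classInner_self (CfsgLib.Char.isIrrCharacter_linear m)
  · rw [if_neg h]
    refine CfsgLib.Char.irr_classInner_ne (CfsgLib.Char.isIrrCharacter_linear l)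
      (CfsgLib.Char.isIrrCharacter_linear m) fun e => h ?_
    exact MonoidHom.ext fun x => Units.ext (congr_fun e x)

variable (hab : ∀ a b : P, a * b = b * a)

include hab in
theorem card_chars : Fintype.card (P →* ℂˣ) = Fintype.card P := by
  rw [← Nat.card_eq_fintype_card, CfsgLib.Char.natCard_linear, ← Nat.card_eq_fintype_card]
  have h : commutator P = ⊥ := by
    rw [commutator_def, Subgroup.commutator_eq_bot_iff_le_centralizer]
    exact fun a _ => Subgroup.mem_centralizer_iff.2 fun b _ => hab b a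
  rw [h, Subgroup.index_bot]

include hab in
theorem sum_chars [DecidableEq P] (u : P) :
    ∑ l : P →* ℂˣ, (l u : ℂ) = if u = 1 then (Nat.card P : ℂ) else 0 := by
  by_cases h : u = 1
  · subst h
    simp [card_chars hab, Nat.card_eq_fintype_card]
  rw [if_neg h]
  obtain ⟨m, hm⟩ := CfsgLib.Char.exists_linear_ne_one hab h
  have e : ∑ l : P →* ℂˣ, (l u : ℂ) = (m u : ℂ) * ∑ l : P →* ℂˣ, (l u : ℂ) := by
    rw [Finset.mul_sum]
    refine (Fintype.sum_equiv (Equiv.mulLeft m) _ _ fun l => ?_).symm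
    simp
  by_contra hne
  exact hm (Units.ext (mul_right_cancel₀ hne (e.symm.trans (one_mul _).symm)))

include hab in
/-- Fourier inversion. -/
theorem fourier (f : P → ℂ) (u : P) :
    f u = ∑ l : P →* ℂˣ, classInner f (lf l) * (l u : ℂ) := by
  classical
  have e : ∀ l : P →* ℂˣ, classInner f (lf l) * (l u : ℂ) =
      (Nat.card P : ℂ)⁻¹ * ∑ v : P, f v * (l (v⁻¹ * u) : ℂ) := by
    intro l
    rw [CfsgLib.Char.classInner_def, mul_assoc, Finset.sum_mul]
    congr 1
    refine Finset.sum_congr rfl fun v _ => ?_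
    have hc := CfsgLib.Char.char_inv
      (CfsgLib.Char.irr_isCharacter (CfsgLib.Char.isIrrCharacter_linear l)) v
    simp only [lf]
    rw [← hc, map_mul, Units.val_mul, mul_assoc]
  rw [Finset.sum_congr rfl fun l _ => e l, ← Finset.mul_sum, Finset.sum_comm]
  simp only [← Finset.mul_sum, sum_chars hab, inv_mul_eq_one]
  rw [Finset.sum_eq_single u (fun v _ hv => by simp [hv]) (by simp)]
  rw [if_pos rfl, mul_left_comm, inv_mul_cancel₀ CfsgLib.Char.natCard_ne_zero, mul_one]

variable (τ : P ≃* P) (h3 : ∀ u, τ (τ (τ u)) = u) (hfix : ∀ u, τ u = u → u = 1)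

/-- The twist of a linear character. -/
def tw (l : P →* ℂˣ) : P →* ℂˣ := l.comp τ.toMonoidHom

theorem tw_apply (l : P →* ℂˣ) (u : P) : tw τ l u = l (τ u) := rfl

include h3 in
theorem tw3 (l : P →* ℂˣ) : tw τ (tw τ (tw τ l)) = l :=
  MonoidHom.ext fun u => by simp [tw_apply, h3]

include h3 in
theorem tw_inj {l m : P →* ℂˣ} (h : tw τ l = tw τ m) : l = m := by
  rw [← tw3 τ h3 l, h, tw3 τ h3]

include hab hfix in
theorem eq_one_of_tw {l : P →* ℂˣ} (h : tw τ l = l) : l = 1 := by
  let φ : P →* P :=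
    { toFun := fun u => u⁻¹ * τ u
      map_one' := by simp
      map_mul' := fun a b => by
        rw [map_mul, mul_inv_rev, hab b⁻¹ a⁻¹]
        calc a⁻¹ * b⁻¹ * (τ a * τ b) = a⁻¹ * (b⁻¹ * τ a) * τ b := by group
          _ = a⁻¹ * (τ a * b⁻¹) * τ b := by rw [hab b⁻¹]
          _ = _ := by group }
  have hinj : Function.Injective φ := by
    rw [injective_iff_map_eq_one]
    intro u hu
    exact hfix u (inv_mul_eq_one.1 hu).symm
  refine MonoidHom.ext fun u => ?_
  obtain ⟨v, rfl⟩ := Finite.surjective_of_injective hinj u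
  show l (v⁻¹ * τ v) = 1
  rw [map_mul, ← tw_apply τ l v, h, map_inv, inv_mul_cancel]

include h3 in
theorem tw_one : tw τ (1 : P →* ℂˣ) = 1 := MonoidHom.ext fun _ => rfl

/-- The orbit sum. -/
def psi (l : P →* ℂˣ) : P → ℂ := fun u => (l u : ℂ) + l (τ u) + l (τ (τ u))

/-- The virtual character `3 - ψ`. -/
def phi (l : P →* ℂˣ) : P → ℂ := fun u => 3 - psi τ l u

theorem phi_one (l : P →* ℂˣ) : phi τ l 1 = 0 := by
  simp only [phi, psi, map_one, Units.val_one]; norm_num

include h3 in
theorem phi_tau (l : P →* ℂˣ) (u : P) : phi τ l (τ u) = phi τ l u := by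
  simp only [phi, psi, h3]; ring

theorem phi_eq (l : P →* ℂˣ) :
    phi τ l = (3 : ℂ) • lf (1 : P →* ℂˣ) - (lf l + lf (tw τ l) + lf (tw τ (tw τ l))) := by
  funext u
  simp [phi, psi, lf, tw_apply]

theorem phi_isGeneralized (l : P →* ℂˣ) : IsGeneralizedCharacter P (phi τ l) := by
  have g : ∀ m : P →* ℂˣ, IsGeneralizedCharacter P (lf m) := fun m =>
    CfsgLib.Char.isGeneralized_of_isCharacter
      (CfsgLib.Char.irr_isCharacter (CfsgLib.Char.isIrrCharacter_linear m))
  rw [phi_eq]
  refine CfsgLib.Char.isGeneralized_sub ?_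
    (CfsgLib.Char.isGeneralized_add (CfsgLib.Char.isGeneralized_add (g _) (g _)) (g _))
  have := CfsgLib.Char.isGeneralized_zsmul (g (1 : P →* ℂˣ)) 3
  simpa using this

theorem phi_inner_right (f : P → ℂ) (l : P →* ℂˣ) :
    classInner f (phi τ l) = 3 * classInner f (lf (1 : P →* ℂˣ)) -
      (classInner f (lf l) + classInner f (lf (tw τ l)) + classInner f (lf (tw τ (tw τ l)))) := by
  simp only [CfsgLib.Char.classInner_def, phi, psi, lf, tw_apply, map_sub, map_add, map_ofNat,
    MonoidHom.one_apply, Units.val_one, map_one, mul_sub, mul_add, Finset.sum_sub_distrib,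
    Finset.sum_add_distrib, mul_one, ← Finset.sum_mul]
  ring

/-- `m` lies in the orbit of `l`. -/
def InOrb (l m : P →* ℂˣ) : Prop := m = l ∨ m = tw τ l ∨ m = tw τ (tw τ l)

include h3 in
theorem inOrb_symm {l m : P →* ℂˣ} (h : InOrb τ l m) : InOrb τ m l := by
  rcases h with rfl | rfl | rfl
  · exact Or.inl rfl
  · exact Or.inr (Or.inr (tw3 τ h3 l).symm)
  · exact Or.inr (Or.inl (tw3 τ h3 l).symm)

include hab h3 hfix in
theorem phi_norm {l : P →* ℂˣ} (hl : l ≠ 1) :
    classInner (phi τ l) (phi τ l) = 12 := by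
  classical
  have a1 : tw τ l ≠ l := fun e => hl (eq_one_of_tw hab τ hfix e)
  have a2 : tw τ (tw τ l) ≠ l := fun e => a1 (by
    have := congrArg (tw τ) e
    rw [tw3 τ h3] at this
    exact this.symm)
  have a3 : tw τ (tw τ l) ≠ tw τ l := fun e => a1 (tw_inj τ h3 e)
  have b1 : tw τ l ≠ 1 := fun e => hl (tw_inj τ h3 (e.trans (tw_one τ h3).symm))
  have b2 : tw τ (tw τ l) ≠ 1 := fun e => b1 (tw_inj τ h3 (e.trans (tw_one τ h3).symm))
  have e : ∀ m : P →* ℂˣ, classInner (phi τ l) (lf m) =
      3 * (if (1 : P →* ℂˣ) = m then 1 else 0) -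
      ((if l = m then 1 else 0) + (if tw τ l = m then 1 else 0) +
        if tw τ (tw τ l) = m then 1 else 0) := fun m => by
    rw [← CfsgLib.Char.classInner_conj_symm (lf m) (phi τ l), phi_inner_right]
    simp only [lf_inner, map_sub, map_add, map_mul, map_ofNat, apply_ite (starRingEnd ℂ),
      map_one, map_zero, eq_comm (a := m)]
  rw [phi_inner_right, e, e, e, e]
  simp only [if_true, if_neg hl, if_neg hl.symm, if_neg a1, if_neg a1.symm, if_neg a2,
    if_neg a2.symm, if_neg a3, if_neg a3.symm, if_neg b1, if_neg b1.symm, if_neg b2, if_neg b2.symm]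
  norm_num

include hab h3 hfix in
theorem phi_cross {l m : P →* ℂˣ} (hl : l ≠ 1) (hm : m ≠ 1) (h : ¬ InOrb τ l m) :
    classInner (phi τ l) (phi τ m) = 9 := by
  classical
  have b1 : tw τ l ≠ 1 := fun e => hl (tw_inj τ h3 (e.trans (tw_one τ h3).symm))
  have b2 : tw τ (tw τ l) ≠ 1 := fun e => b1 (tw_inj τ h3 (e.trans (tw_one τ h3).symm))
  have c1 : tw τ m ≠ 1 := fun e => hm (tw_inj τ h3 (e.trans (tw_one τ h3).symm))
  have c2 : tw τ (tw τ m) ≠ 1 := fun e => c1 (tw_inj τ h3 (e.trans (tw_one τ h3).symm))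
  have hh : ∀ n, InOrb τ m n → n ≠ l ∧ n ≠ tw τ l ∧ n ≠ tw τ (tw τ l) := by
    intro n hn
    have : ¬ InOrb τ l n := by
      rintro (rfl | rfl | rfl) <;> refine h ?_
      · exact inOrb_symm τ h3 hn
      · rcases hn with e | e | e
        · exact Or.inr (Or.inl e.symm)
        · exact Or.inl (tw_inj τ h3 e).symm
        · exact Or.inr (Or.inr (by rw [tw_inj τ h3 e, tw3 τ h3]))
      · rcases hn with e | e | e
        · exact Or.inr (Or.inr e.symm)
        · exact Or.inr (Or.inl (tw_inj τ h3 e).symm)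
        · exact Or.inl (tw_inj τ h3 (tw_inj τ h3 e)).symm
    exact ⟨fun e => this (Or.inl e), fun e => this (Or.inr (Or.inl e)),
      fun e => this (Or.inr (Or.inr e))⟩
  obtain ⟨x1, x2, x3⟩ := hh m (Or.inl rfl)
  obtain ⟨y1, y2, y3⟩ := hh (tw τ m) (Or.inr (Or.inl rfl))
  obtain ⟨z1, z2, z3⟩ := hh (tw τ (tw τ m)) (Or.inr (Or.inr rfl))
  have e : ∀ n : P →* ℂˣ, classInner (phi τ l) (lf n) =
      3 * (if (1 : P →* ℂˣ) = n then 1 else 0) -
      ((if l = n then 1 else 0) + (if tw τ l = n then 1 else 0) +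
        if tw τ (tw τ l) = n then 1 else 0) := fun n => by
    rw [← CfsgLib.Char.classInner_conj_symm (lf n) (phi τ l), phi_inner_right]
    simp only [lf_inner, map_sub, map_add, map_mul, map_ofNat, apply_ite (starRingEnd ℂ),
      map_one, map_zero, eq_comm (a := n)]
  rw [phi_inner_right, e, e, e, e]
  simp only [if_true, if_neg hl, if_neg b1, if_neg b2, if_neg hm.symm, if_neg c1.symm,
    if_neg c2.symm, if_neg x1.symm, if_neg x2.symm, if_neg x3.symm, if_neg y1.symm, if_neg y2.symm,
    if_neg y3.symm, if_neg z1.symm, if_neg z2.symm, if_neg z3.symm]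
  norm_num

include hab h3 in
/-- At least five orbits when there are at least sixteen elements. -/
theorem exists_new (h16 : 16 ≤ Nat.card P) (S : Finset (P →* ℂˣ)) (hS : S.card ≤ 4) :
    ∃ n : P →* ℂˣ, n ≠ 1 ∧ ∀ s ∈ S, ¬ InOrb τ s n := by
  classical
  let bad : Finset (P →* ℂˣ) :=
    insert 1 (S.biUnion fun s => {s, tw τ s, tw τ (tw τ s)})
  have hb : bad.card ≤ 13 := by
    refine (Finset.card_insert_le _ _).trans ?_
    have := Finset.card_biUnion_le_card_mul S (fun s => ({s, tw τ s, tw τ (tw τ s)} : Finset _)) 3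
      (fun s _ => Finset.card_le_three)
    omega
  obtain ⟨n, -, hn⟩ := Finset.exists_mem_notMem_of_card_lt_card
    (show bad.card < (Finset.univ : Finset (P →* ℂˣ)).card by
      rw [Finset.card_univ, card_chars hab, ← Nat.card_eq_fintype_card]; omega)
  simp only [bad, Finset.mem_insert, Finset.mem_biUnion, Finset.mem_singleton, not_or, not_exists,
    not_and] at hn
  exact ⟨n, hn.1, fun s hs h => by
    have := hn.2 s hs
    rcases h with e | e | e
    · exact this.1 e
    · exact this.2.1 e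
    · exact this.2.2 e⟩

/-! ### Five vectors -/

/-- Two vectors of norm three with inner product two. -/
theorem two_vectors {ι : Type*} [Fintype ι] [DecidableEq ι] {a b : ι → ℤ}
    (ha : ∑ i, a i * a i = 3) (hb : ∑ i, b i * b i = 3) (hab : ∑ i, a i * b i = 2) :
    (Finset.univ.filter fun i => a i ≠ 0).card = 3 ∧
    (Finset.univ.filter fun i => a i ≠ 0 ∧ b i ≠ 0).card = 2 ∧
    ∀ i, a i ≠ 0 → b i ≠ 0 → a i = b i := by
  have sgn : ∀ (c : ι → ℤ), ∑ i, c i * c i = 3 → ∀ i, c i = 0 ∨ c i = 1 ∨ c i = -1 := by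
    intro c hc i
    have h : c i * c i ≤ 3 := hc ▸
      Finset.single_le_sum (f := fun i => c i * c i) (fun j _ => mul_self_nonneg _) (Finset.mem_univ i)
    have h1 : c i ≤ 1 := by nlinarith
    have h2 : -1 ≤ c i := by nlinarith
    omega
  have cnt : ∀ (c : ι → ℤ), (∑ i, c i * c i = 3) →
      (Finset.univ.filter fun i => c i ≠ 0).card = 3 := by
    intro c hc
    have e : ∑ i, c i * c i = ∑ i, if c i ≠ 0 then (1 : ℤ) else 0 := Finset.sum_congr rfl fun i _ => by
      rcases sgn c hc i with h | h | h <;> simp [h]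
    rw [e, Finset.sum_boole] at hc
    exact_mod_cast hc
  refine ⟨cnt a ha, ?_⟩
  set X := Finset.univ.filter fun i => a i ≠ 0 ∧ b i ≠ 0
  have hX : X.card ≤ 3 := by
    rw [← cnt a ha]
    exact Finset.card_le_card fun i hi => Finset.mem_filter.2
      ⟨Finset.mem_univ _, (Finset.mem_filter.1 hi).2.1⟩
  set Y := X.filter fun i => a i = b i
  set Z := X.filter fun i => ¬ a i = b i
  have hYZ : Y.card + Z.card = X.card := Finset.card_filter_add_card_filter_not _
  have e : ∑ i, a i * b i = (Y.card : ℤ) - Z.card := by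
    rw [← Finset.sum_subset (Finset.subset_univ X) (fun i _ hi => by
      simp only [X, Finset.mem_filter, Finset.mem_univ, true_and, not_and, not_not] at hi
      by_cases h : a i = 0
      · rw [h, zero_mul]
      · rw [hi h, mul_zero]), ← Finset.sum_filter_add_sum_filter_not X (fun i => a i = b i)]
    have eY : ∀ i ∈ X.filter (fun i => a i = b i), a i * b i = 1 := by
      intro i hi
      obtain ⟨hiX, he⟩ := Finset.mem_filter.1 hi
      obtain ⟨h1, h2⟩ := (Finset.mem_filter.1 hiX).2
      rcases sgn a ha i with h | h | h <;> rcases sgn b hb i with h' | h' | h' <;>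
        simp_all
    have eZ : ∀ i ∈ X.filter (fun i => ¬ a i = b i), a i * b i = -1 := by
      intro i hi
      obtain ⟨hiX, hne⟩ := Finset.mem_filter.1 hi
      obtain ⟨h1, h2⟩ := (Finset.mem_filter.1 hiX).2
      rcases sgn a ha i with h | h | h <;> rcases sgn b hb i with h' | h' | h' <;>
        simp_all
    rw [Finset.sum_congr rfl eY, Finset.sum_congr rfl eZ]
    simp [Y, Z, sub_eq_add_neg]
  rw [hab] at e
  have hZ : Z.card = 0 := by omega
  refine ⟨by omega, fun i h1 h2 => ?_⟩
  by_contra h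
  have : i ∈ Z := Finset.mem_filter.2 ⟨Finset.mem_filter.2 ⟨Finset.mem_univ _, h1, h2⟩, h⟩
  rw [Finset.card_eq_zero.1 hZ] at this
  exact Finset.notMem_empty _ this

/-- Five vectors of norm three with mutual inner product two share a common pair. -/
theorem five_vectors {ι : Type*} [Fintype ι] [DecidableEq ι] (w : Fin 5 → ι → ℤ)
    (hn : ∀ k, ∑ i, w k i * w k i = 3) (hc : ∀ k k', k ≠ k' → ∑ i, w k i * w k' i = 2)
    {x : ι} (h0 : w 0 x ≠ 0) (h1 : w 1 x ≠ 0) : w 2 x = w 0 x := by
  let T : Fin 5 → Finset ι := fun k => Finset.univ.filter fun i => w k i ≠ 0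
  have hT : ∀ k, (T k).card = 3 := by
    intro k
    obtain ⟨k', hk'⟩ := exists_ne k
    exact (two_vectors (hn k) (hn k') (hc k k' hk'.symm)).1
  have hint : ∀ k k', k ≠ k' → (T k ∩ T k').card = 2 := by
    intro k k' h
    rw [← (two_vectors (hn k) (hn k') (hc k k' h)).2.1]
    congr 1
    ext i; simp [T]
  by_cases h2 : w 2 x = 0
  swap
  · exact ((two_vectors (hn 0) (hn 2) (hc 0 2 (by decide))).2.2 x h0 h2).symm
  exfalso
  have hx0 : x ∈ T 0 := Finset.mem_filter.2 ⟨Finset.mem_univ _, h0⟩
  have hx1 : x ∈ T 1 := Finset.mem_filter.2 ⟨Finset.mem_univ _, h1⟩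
  have hx2 : x ∉ T 2 := fun h => (Finset.mem_filter.1 h).2 h2
  set U := T 0 ∪ T 2
  have hU : U.card = 4 := by
    have := Finset.card_union_add_card_inter (T 0) (T 2)
    rw [hint 0 2 (by decide), hT 0, hT 2] at this
    change U.card + 2 = 3 + 3 at this
    omega
  have h1U : T 1 ⊆ U := by
    intro i hi
    by_cases hix : i = x
    · exact hix ▸ Finset.mem_union_left _ hx0
    have e : T 1 ∩ T 2 = (T 1).erase x := by
      refine Finset.eq_of_subset_of_card_le (fun j hj => ?_) ?_
      · obtain ⟨a, b⟩ := Finset.mem_inter.1 hj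
        exact Finset.mem_erase.2 ⟨fun e => hx2 (e ▸ b), a⟩
      · rw [Finset.card_erase_of_mem hx1, hT, hint 1 2 (by decide)]
    have : i ∈ T 1 ∩ T 2 := e ▸ Finset.mem_erase.2 ⟨hix, hi⟩
    exact Finset.mem_union_right _ (Finset.mem_inter.1 this).2
  have hall : ∀ k, T k ⊆ U := by
    intro k
    by_cases k0 : k = 0
    · exact k0 ▸ Finset.subset_union_left
    by_cases k1 : k = 1
    · exact k1 ▸ h1U
    by_cases k2 : k = 2
    · exact k2 ▸ Finset.subset_union_right
    intro e he
    by_contra heU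
    have hsub : ∀ j, j ≠ k → T j ⊆ U → (T k).erase e ⊆ T j := by
      intro j hj hjU i hi
      have e2 : T k ∩ T j = (T k).erase e := by
        refine Finset.eq_of_subset_of_card_le (fun i hi => ?_) ?_
        · obtain ⟨a, b⟩ := Finset.mem_inter.1 hi
          exact Finset.mem_erase.2 ⟨fun h => heU (h ▸ hjU b), a⟩
        · rw [Finset.card_erase_of_mem he, hT, hint k j hj.symm]
      exact (Finset.mem_inter.1 (e2 ▸ hi)).2
    have s0 := hsub 0 (Ne.symm k0) Finset.subset_union_left
    have s1 := hsub 1 (Ne.symm k1) h1U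
    have s2 := hsub 2 (Ne.symm k2) Finset.subset_union_right
    have hle : (T k).erase e ⊆ (T 0 ∩ T 1).erase x := fun i hi =>
      Finset.mem_erase.2 ⟨fun h => hx2 (h ▸ s2 hi), Finset.mem_inter.2 ⟨s0 hi, s1 hi⟩⟩
    have := Finset.card_le_card hle
    rw [Finset.card_erase_of_mem he, Finset.card_erase_of_mem (Finset.mem_inter.2 ⟨hx0, hx1⟩), hT,
      hint 0 1 (by decide)] at this
    omega
  have hinj : Function.Injective T := by
    intro k k' h
    by_contra hne
    have := hint k k' hne
    rw [h, Finset.inter_self, hT] at this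
    omega
  have := Finset.card_le_card_of_injOn (s := (Finset.univ : Finset (Fin 5)))
    (t := U.powersetCard 3) T (fun k _ => Finset.mem_powersetCard.2 ⟨hall k, hT k⟩)
    hinj.injOn
  rw [Finset.card_powersetCard, hU, Finset.card_univ, Fintype.card_fin] at this
  exact absurd this (by decide)

end CfsgLib.Invol.Homocyclic
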