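import Cfsg.Agent.Lib.Invol.HomocyclicChar
import Cfsg.Agent.Lib.Invol.SectionChar
import Cfsg.Agent.Lib.Block.PrincipalSection
import Cfsg.Agent.Lib.BlockB.ClassMul
import Cfsg.Agent.Lib.BlockB.PModular
import Cfsg.Agent.Lib.Transfer.Frobenius

/-!
A group with an abelian Sylow 2-subgroup `P` of order at least 16 whose automizer has order three,
acts without fixed points, and such that some non-trivial linear character of `P` is trivial on
`Ω₁(P)`, has a proper normal subgroup containing `P` (Brauer).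
-/

set_option autoImplicit false
set_option linter.unusedSectionVars false

namespace CfsgLib.Invol.Homocyclic

open Cfsg
open scoped ComplexConjugate

universe u

variable {G : Type u} [Group G] [Finite G]

/-- The local data. -/
structure Data (G : Type u) [Group G] [Finite G] where
  P : Sylow 2 G
  hab : ∀ a b : (P : Subgroup G), a * b = b * a
  τ : (P : Subgroup G) ≃* (P : Subgroup G)
  hreal : ∃ t : G, ∀ u : (P : Subgroup G), (τ u : G) = t * (u : G) * t⁻¹
  h3 : ∀ u, τ (τ (τ u)) = u
  hfix : ∀ u, τ u = u → u = 1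
  hauto : ∀ n ∈ Subgroup.normalizer (P : Set G),
    (∀ u : (P : Subgroup G), n * (u : G) * n⁻¹ = u) ∨
    (∀ u : (P : Subgroup G), n * (u : G) * n⁻¹ = τ u) ∨
    (∀ u : (P : Subgroup G), n * (u : G) * n⁻¹ = τ (τ u))

namespace Data

variable (D : Data G)

theorem le_cent (x : (D.P : Subgroup G)) :
    (D.P : Subgroup G) ≤ Subgroup.centralizer ({(x : G)} : Set G) := fun a ha =>
  Subgroup.mem_centralizer_singleton_iff.2 (congrArg Subtype.val (D.hab ⟨a, ha⟩ x))

theorem isConj_tau (x : (D.P : Subgroup G)) : IsConj (x : G) (D.τ x : G) := by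
  obtain ⟨t, ht⟩ := D.hreal
  exact isConj_iff.2 ⟨t, (ht x).symm⟩

theorem fusion {x y : (D.P : Subgroup G)} (h : IsConj (x : G) (y : G)) :
    y = x ∨ y = D.τ x ∨ y = D.τ (D.τ x) := by
  obtain ⟨c, hc⟩ := isConj_iff.1 h
  have hx : (x : G) ∈ Subgroup.centralizer ((D.P : Subgroup G) : Set G) :=
    Subgroup.mem_centralizer_iff.2 fun a ha => congrArg Subtype.val (D.hab ⟨a, ha⟩ x)
  have hy : c⁻¹⁻¹ * (x : G) * c⁻¹ ∈ Subgroup.centralizer ((D.P : Subgroup G) : Set G) := by
    rw [inv_inv, hc]
    exact Subgroup.mem_centralizer_iff.2 fun a ha => congrArg Subtype.val (D.hab ⟨a, ha⟩ y)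
  obtain ⟨n, hn, he⟩ := D.P.conj_eq_normalizer_conj_of_mem_centralizer (x : G) c⁻¹ hx hy
  rw [inv_inv, hc] at he
  have he' : (y : G) = n⁻¹ * (x : G) * (n⁻¹)⁻¹ := by rw [inv_inv]; exact he
  rcases D.hauto n⁻¹ (inv_mem hn) with e | e | e
  · exact Or.inl (Subtype.ext (he'.trans (e x)))
  · exact Or.inr (Or.inl (Subtype.ext (he'.trans (e x))))
  · exact Or.inr (Or.inr (Subtype.ext (he'.trans (e x))))

theorem pow_two_of (x : (D.P : Subgroup G)) : ∃ k : ℕ, orderOf (x : G) = 2 ^ k := by
  obtain ⟨k, hk⟩ := IsPGroup.iff_orderOf.1 D.P.2 x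
  exact ⟨k, by rw [Subgroup.orderOf_coe, hk]⟩

theorem twoPart_coe_P (x : (D.P : Subgroup G)) : twoPart (x : G) = x := twoPart_self (D.pow_two_of x)

theorem tau_two_ne {x : (D.P : Subgroup G)} (hx : x ≠ 1) :
    D.τ x ≠ x ∧ D.τ (D.τ x) ≠ x ∧ D.τ (D.τ x) ≠ D.τ x := by
  have a1 : D.τ x ≠ x := fun e => hx (D.hfix x e)
  refine ⟨a1, fun e => a1 ?_, fun e => a1 (D.τ.injective e)⟩
  have := congrArg D.τ e
  rw [D.h3] at this
  exact this.symm

theorem cent_facts {x : (D.P : Subgroup G)} (hx : x ≠ 1) :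
    Cfsg.HasNormalPComplement 2 (Subgroup.centralizer ({(x : G)} : Set G)) ∧
      2 ^ (Nat.card (Subgroup.centralizer ({(x : G)} : Set G))).factorization 2 =
        Nat.card (D.P : Subgroup G) := by
  set H := Subgroup.centralizer ({(x : G)} : Set G)
  let Q : Sylow 2 H := D.P.subtype (D.le_cent x)
  have hQ : (Q : Subgroup H) = (D.P : Subgroup G).subgroupOf H := rfl
  refine ⟨CfsgLib.Transfer.hasNormalPComplement_of_normalizer_le_centralizer Q fun n hn => ?_, ?_⟩
  · have hnN : (n : G) ∈ Subgroup.normalizer ((D.P : Subgroup G) : Set G) := by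
      refine Subgroup.mem_normalizer_iff.2 fun a => ?_
      constructor
      · intro ha
        exact (Subgroup.mem_normalizer_iff.1 hn ⟨a, D.le_cent x ha⟩).1 ha
      · intro ha
        have haH : a ∈ H := by
          have := mul_mem (mul_mem (inv_mem n.2) (D.le_cent x ha)) n.2
          simpa [mul_assoc] using this
        exact (Subgroup.mem_normalizer_iff.1 hn ⟨a, haH⟩).2 ha
    have hnx : (n : G) * (x : G) * (n : G)⁻¹ = x := by
      rw [Subgroup.mem_centralizer_singleton_iff.1 n.2, mul_inv_cancel_right]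
    obtain ⟨a1, a2, -⟩ := D.tau_two_ne hx
    rw [Subgroup.mem_centralizer_iff]
    intro v hv
    rcases D.hauto _ hnN with e | e | e
    · refine Subtype.ext ?_
      have := e ⟨(v : G), hv⟩
      exact (mul_inv_eq_iff_eq_mul.1 this).symm
    · exact absurd (Subtype.ext ((e x).symm.trans hnx)) a1
    · exact absurd (Subtype.ext ((e x).symm.trans hnx)) a2
  · have h1 := Q.card_eq_multiplicity
    rw [hQ, Nat.card_congr (Subgroup.subgroupOfEquivOfLe (D.le_cent x)).toEquiv] at h1
    exact h1.symm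

/-- The class function carried by a function on `P`. -/
noncomputable def wfn (α : ↥(D.P : Subgroup G) → ℂ) (g : G) : ℂ :=
  open Classical in if h : ∃ x : (D.P : Subgroup G), IsConj g (x : G) then α h.choose else 0

/-- The function constant on sections. -/
noncomputable def theta (α : ↥(D.P : Subgroup G) → ℂ) : G → ℂ := fun g => D.wfn α (twoPart g)

variable {α : ↥(D.P : Subgroup G) → ℂ} (hα : ∀ x, α (D.τ x) = α x)

include hα in
theorem wfn_eq {g : G} {x : (D.P : Subgroup G)} (h : IsConj g (x : G)) : D.wfn α g = α x := by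
  have hex : ∃ x : (D.P : Subgroup G), IsConj g (x : G) := ⟨x, h⟩
  rw [wfn, dif_pos hex]
  rcases D.fusion (hex.choose_spec.symm.trans h) with e | e | e <;>
    · rw [e]
      all_goals simp [hα]

include hα in
theorem wfn_class : IsClassFunction G (D.wfn α) := by
  intro g h
  by_cases hg : ∃ x : (D.P : Subgroup G), IsConj g (x : G)
  · obtain ⟨x, hx⟩ := hg
    rw [D.wfn_eq hα hx, D.wfn_eq hα ((isConj_iff.2 ⟨h, rfl⟩ : IsConj g (h * g * h⁻¹)).symm.trans hx)]
  · rw [wfn, wfn, dif_neg hg, dif_neg]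
    rintro ⟨x, hx⟩
    exact hg ⟨x, (isConj_iff.2 ⟨h, rfl⟩ : IsConj g (h * g * h⁻¹)).trans hx⟩

include hα in
theorem theta_isGeneralized (hg : IsGeneralizedCharacter (D.P : Subgroup G) α) :
    IsGeneralizedCharacter G (D.theta α) := by
  refine isGeneralized_sectFn (D.wfn_class hα) fun Q hQ => ?_
  obtain ⟨R, hR⟩ := hQ.exists_le_sylow
  obtain ⟨a, ha⟩ := MulAction.exists_smul_eq G R D.P
  have hmem : ∀ x : Q, a * (x : G) * a⁻¹ ∈ (D.P : Subgroup G) := fun x => by
    rw [← ha, Sylow.coe_subgroup_smul]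
    exact Subgroup.smul_mem_pointwise_smul _ (MulAut.conj a) _ (hR x.2)
  let φ : Q →* (D.P : Subgroup G) :=
    { toFun := fun x => ⟨a * (x : G) * a⁻¹, hmem x⟩
      map_one' := Subtype.ext (by simp)
      map_mul' := fun x y => Subtype.ext (by simp [mul_assoc]) }
  have h := isGeneralized_comp hg φ
  convert h using 1
  ext x
  exact D.wfn_eq hα (x := φ x) (isConj_iff.2 ⟨a, rfl⟩)

theorem theta_eq_zero (hα1 : α 1 = 0) {g : G}
    (h : ∀ x : (D.P : Subgroup G), x ≠ 1 → ¬ IsConj (twoPart g) (x : G)) :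
    D.theta α g = 0 := by
  show D.wfn α (twoPart g) = 0
  rw [wfn]
  split_ifs with hex
  · have : hex.choose = 1 := by
      by_contra hne
      exact h _ hne hex.choose_spec
    rw [this, hα1]
  · rfl

theorem fiber_odd {x : (D.P : Subgroup G)} (hx : x ≠ 1) {g : G} (hg : twoPart g = (x : G)) :
    ∃ v : Cfsg.pPrimeCore 2 (Subgroup.centralizer ({(x : G)} : Set G)),
      g = (x : G) * ((v : Subgroup.centralizer ({(x : G)} : Set G)) : G) := by
  obtain ⟨hC, -⟩ := D.cent_facts hx
  obtain ⟨hreg, -⟩ := CfsgLib.Block.core_of_hasNormalPComplement hC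
  have hgC : g ∈ Subgroup.centralizer ({(x : G)} : Set G) :=
    Subgroup.mem_centralizer_singleton_iff.2 (hg ▸ (twoPart_commute_self g).eq.symm)
  have hxC : (x : G) ∈ Subgroup.centralizer ({(x : G)} : Set G) :=
    Subgroup.mem_centralizer_singleton_iff.2 rfl
  refine ⟨⟨⟨(x : G)⁻¹ * g, mul_mem (inv_mem hxC) hgC⟩, hreg _ ?_⟩, by simp⟩
  rw [Subgroup.orderOf_mk]
  have := odd_orderOf_twoPart_inv_mul g
  rw [hg] at this
  exact fun hd => Nat.not_even_iff_odd.2 this (even_iff_two_dvd.2 hd)

theorem fiber_mul {x : (D.P : Subgroup G)} (hx : x ≠ 1)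
    (v : Cfsg.pPrimeCore 2 (Subgroup.centralizer ({(x : G)} : Set G))) :
    twoPart ((x : G) * ((v : Subgroup.centralizer ({(x : G)} : Set G)) : G)) = x := by
  refine twoPart_mul (show Commute (x : G) _ from
    (Subgroup.mem_centralizer_singleton_iff.1
      (v : Subgroup.centralizer ({(x : G)} : Set G)).2).symm) (D.pow_two_of x) ?_
  rw [Subgroup.orderOf_coe, Subgroup.orderOf_coe]
  have h := CfsgLib.Solvable.pPrimeCore_coprime (G := Subgroup.centralizer ({(x : G)} : Set G)) 2
  rw [Nat.coprime_two_right] at h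
  exact h.of_dvd_nat (orderOf_dvd_natCard v)

variable [Fintype G]

open Classical in
theorem sum_fiber {x : (D.P : Subgroup G)} (hx : x ≠ 1)
    [Fintype (Cfsg.pPrimeCore 2 (Subgroup.centralizer ({(x : G)} : Set G)))] (F : G → ℂ) :
    ∑ g ∈ Finset.univ.filter (fun g => twoPart g = (x : G)), F g =
      ∑ v : Cfsg.pPrimeCore 2 (Subgroup.centralizer ({(x : G)} : Set G)),
        F ((x : G) * ((v : Subgroup.centralizer ({(x : G)} : Set G)) : G)) := by
  refine Eq.symm (Finset.sum_bij (fun v _ => (x : G) *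
    ((v : Subgroup.centralizer ({(x : G)} : Set G)) : G)) ?_ ?_ ?_ ?_)
  · intro v _; simpa using D.fiber_mul hx v
  · intro a _ b _ h
    exact Subtype.ext (Subtype.ext (mul_left_cancel h))
  · intro g hg
    obtain ⟨v, hv⟩ := D.fiber_odd hx (Finset.mem_filter.1 hg).2
    exact ⟨v, Finset.mem_univ _, hv.symm⟩
  · intro v _; rfl

theorem index_mul {x : (D.P : Subgroup G)} (hx : x ≠ 1) :
    (Subgroup.centralizer ({(x : G)} : Set G)).index *
      Nat.card (Cfsg.pPrimeCore 2 (Subgroup.centralizer ({(x : G)} : Set G))) *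
        Nat.card (D.P : Subgroup G) = Nat.card G := by
  obtain ⟨hC, hc⟩ := D.cent_facts hx
  obtain ⟨-, hcard⟩ := CfsgLib.Block.core_of_hasNormalPComplement hC
  rw [← (Subgroup.centralizer ({(x : G)} : Set G)).index_mul_card, hcard, hc, mul_assoc,
    mul_comm (Nat.card _) (Nat.card _)]

include hα in
open Classical in
/-- Inner products with functions constant on sections. -/
theorem theta_inner [Fintype (D.P : Subgroup G)] (hα1 : α 1 = 0) {F : G → ℂ}
    (hF : IsClassFunction G F)
    (hFc : ∀ (x : (D.P : Subgroup G)) (g : G), x ≠ 1 → twoPart g = (x : G) → F g = F x) :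
    classInner (D.theta α) F =
      (3 : ℂ)⁻¹ * classInner α (fun x : (D.P : Subgroup G) => F x) := by
  have hcls : ∀ g : G, (3 : ℂ) * (D.theta α g * conj (F g)) =
      ∑ x ∈ (Finset.univ : Finset ↥(D.P : Subgroup G)).filter (fun x => x ≠ 1),
        if IsConj (x : G) (twoPart g) then α x * conj (F g) else 0 := by
    intro g
    by_cases hex : ∃ x : (D.P : Subgroup G), x ≠ 1 ∧ IsConj (twoPart g) (x : G)
    · obtain ⟨x0, hx0, hc⟩ := hex
      obtain ⟨a1, a2, a3⟩ := D.tau_two_ne hx0
      have hset : ((Finset.univ : Finset ↥(D.P : Subgroup G)).filter fun x => x ≠ 1).filter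
          (fun x : ↥(D.P : Subgroup G) => IsConj (x : G) (twoPart g)) = {x0, D.τ x0, D.τ (D.τ x0)} := by
        ext y
        simp only [Finset.mem_filter, Finset.mem_univ, true_and, Finset.mem_insert,
          Finset.mem_singleton]
        constructor
        · rintro ⟨-, hy⟩
          exact D.fusion (hc.symm.trans hy.symm)
        · rintro (rfl | rfl | rfl)
          · exact ⟨hx0, hc.symm⟩
          · exact ⟨by rw [ne_eq, MulEquiv.map_eq_one_iff]; exact hx0,
              (D.isConj_tau _).symm.trans hc.symm⟩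
          · exact ⟨by rw [ne_eq, MulEquiv.map_eq_one_iff, MulEquiv.map_eq_one_iff]; exact hx0,
              ((D.isConj_tau x0).trans (D.isConj_tau _)).symm.trans hc.symm⟩
      rw [← Finset.sum_filter, hset, Finset.sum_insert (by simp [a1.symm, a2.symm]),
        Finset.sum_pair a3.symm, show D.theta α g = α x0 from D.wfn_eq hα hc, hα, hα, hα]
      ring
    · push Not at hex
      rw [D.theta_eq_zero hα1 hex, zero_mul, mul_zero]
      refine (Finset.sum_eq_zero fun x hx => if_neg fun h => ?_).symm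
      exact hex x (Finset.mem_filter.1 hx).2 h.symm
  have hsec : ∀ x : (D.P : Subgroup G), x ≠ 1 →
      (∑ g : G, if IsConj (x : G) (twoPart g) then α x * conj (F g) else 0) =
        (Nat.card G : ℂ) * (Nat.card (D.P : Subgroup G) : ℂ)⁻¹ * (α x * conj (F x)) := by
    intro x hx
    have := Fintype.ofFinite (Cfsg.pPrimeCore 2 (Subgroup.centralizer ({(x : G)} : Set G)))
    rw [← Finset.sum_filter, ← Finset.mul_sum,
      sum_section (x : G) (F := fun g => conj (F g)) (fun g h => by simp [hF g h]),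
      D.sum_fiber hx, Finset.sum_congr rfl (fun v _ => by
        rw [hFc x _ hx (D.fiber_mul hx v)]), Finset.sum_const, Finset.card_univ, nsmul_eq_mul,
      ← Nat.card_eq_fintype_card]
    conv_rhs => rw [← D.index_mul hx]
    have hP0 : (Nat.card (D.P : Subgroup G) : ℂ) ≠ 0 := CfsgLib.Char.natCard_ne_zero
    push_cast
    field_simp
  have e : (3 : ℂ) * ∑ g : G, D.theta α g * conj (F g) =
      (Nat.card G : ℂ) * (Nat.card (D.P : Subgroup G) : ℂ)⁻¹ *
        ∑ x : (D.P : Subgroup G), α x * conj (F x) := by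
    rw [Finset.mul_sum, Finset.sum_congr rfl (fun g _ => hcls g), Finset.sum_comm,
      Finset.sum_congr rfl (fun x hx => hsec x (Finset.mem_filter.1 hx).2), ← Finset.mul_sum]
    congr 1
    refine Finset.sum_subset (Finset.subset_univ _) fun x _ hx => ?_
    simp only [Finset.mem_filter, Finset.mem_univ, true_and, not_not] at hx
    rw [hx, hα1, zero_mul]
  rw [CfsgLib.Char.classInner_def, CfsgLib.Char.classInner_def]
  have hG0 : (Nat.card G : ℂ) ≠ 0 := CfsgLib.Char.natCard_ne_zero
  field_simp at e ⊢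
  linear_combination e

variable {M : Ideal AlgInt} (hM : IsPModular 2 M)

include hM in
theorem principal_const {χ : IrrCharacter G} (hχ : χ ∈ principalBlock M G)
    (x : (D.P : Subgroup G)) (g : G) (hx : x ≠ 1) (hg : twoPart g = (x : G)) :
    (χ : G → ℂ) g = (χ : G → ℂ) x := by
  obtain ⟨hC, -⟩ := D.cent_facts hx
  obtain ⟨hconst, -⟩ := CfsgLib.Block.principal_section hM (x := (x : G)) (D.pow_two_of x) hC
  obtain ⟨v, rfl⟩ := D.fiber_odd hx hg
  refine hconst χ hχ _ (Subgroup.mem_centralizer_singleton_iff.1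
    (v : Subgroup.centralizer ({(x : G)} : Set G)).2).symm fun hd => ?_
  have h := CfsgLib.Solvable.pPrimeCore_coprime (G := Subgroup.centralizer ({(x : G)} : Set G)) 2
  rw [Subgroup.orderOf_coe, Subgroup.orderOf_coe] at hd
  exact absurd (hd.trans (orderOf_dvd_natCard v))
    (Nat.prime_two.coprime_iff_not_dvd.1 h.symm)

include hM in
open Classical in
/-- Characters outside the principal block average to zero on each section. -/
theorem nonprincipal_sum {χ : IrrCharacter G} (hχ : χ ∉ principalBlock M G)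
    {x : (D.P : Subgroup G)} (hx : x ≠ 1) :
    ∑ g ∈ Finset.univ.filter (fun g => twoPart g = (x : G)), (χ : G → ℂ) g = 0 := by
  have := Fintype.ofFinite (IrrCharacter G)
  obtain ⟨hC, hc⟩ := D.cent_facts hx
  obtain ⟨-, hnorm⟩ := CfsgLib.Block.principal_section hM (x := (x : G)) (D.pow_two_of x) hC
  set f : G → ℂ := fun g => if IsConj (x : G) (twoPart g) then 1 else 0
  have hf : IsClassFunction G f := fun g h => by
    have : IsConj (twoPart g) (h * twoPart g * h⁻¹) := isConj_iff.2 ⟨h, rfl⟩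
    simp only [f, twoPart_conj]
    exact if_congr ⟨fun e => e.trans this.symm, fun e => e.trans this⟩ rfl rfl
  set K := Cfsg.pPrimeCore 2 (Subgroup.centralizer ({(x : G)} : Set G))
  have := Fintype.ofFinite K
  set i := (Subgroup.centralizer ({(x : G)} : Set G)).index
  set S : IrrCharacter G → ℂ := fun ψ =>
    ∑ g ∈ Finset.univ.filter (fun g => twoPart g = (x : G)), (ψ : G → ℂ) g
  have hfχ : ∀ ψ : IrrCharacter G, classInner f (ψ : G → ℂ) =
      (Nat.card G : ℂ)⁻¹ * ((i : ℂ) * conj (S ψ)) := fun ψ => by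
    rw [CfsgLib.Char.classInner_def]
    congr 1
    rw [Finset.sum_congr rfl (g := fun g => if IsConj (x : G) (twoPart g) then
        conj ((ψ : G → ℂ) g) else 0) (fun g _ => by simp only [f]; split_ifs <;> simp),
      ← Finset.sum_filter,
      sum_section (x : G) (F := fun g => conj ((ψ : G → ℂ) g))
        (fun g h => by simp [CfsgLib.Char.irr_isClassFunction ψ.2 g h]), map_sum]
  have hff : classInner f f = (Nat.card G : ℂ)⁻¹ * ((i : ℂ) * Nat.card K) := by
    rw [CfsgLib.Char.classInner_def]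
    congr 1
    rw [Finset.sum_congr rfl (g := fun g => if IsConj (x : G) (twoPart g) then (1 : ℂ) else 0)
        (fun g _ => by simp only [f]; split_ifs <;> simp),
      ← Finset.sum_filter, sum_section (x : G) (F := fun _ => (1 : ℂ)) (fun g h => rfl),
      D.sum_fiber hx]
    simp [i, K, Nat.card_eq_fintype_card]
  have hpar := CfsgLib.Char.classInner_eq_sum_mul hf f
  rw [hff] at hpar
  simp only [hfχ, map_mul, map_inv₀, Complex.conj_natCast, Complex.conj_conj] at hpar
  have hG0 : (Nat.card G : ℂ) ≠ 0 := CfsgLib.Char.natCard_ne_zero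
  have hi0 : (i : ℂ) ≠ 0 := Nat.cast_ne_zero.2 Subgroup.index_ne_zero_of_finite
  have hmul : (i : ℂ) * Nat.card K * Nat.card (D.P : Subgroup G) = Nat.card G := by
    exact_mod_cast D.index_mul hx
  have htot : ∑ ψ : IrrCharacter G, S ψ * conj (S ψ) =
      (Nat.card K : ℂ) * Nat.card K * Nat.card (D.P : Subgroup G) := by
    have e : (Nat.card G : ℂ)⁻¹ * ((i : ℂ) * Nat.card K) =
        (Nat.card G : ℂ)⁻¹ * (Nat.card G : ℂ)⁻¹ * ((i : ℂ) * i) *
          ∑ ψ : IrrCharacter G, S ψ * conj (S ψ) := by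
      rw [hpar, Finset.mul_sum]
      exact Finset.sum_congr rfl fun ψ _ => by ring
    field_simp at e
    refine mul_left_cancel₀ hi0 ?_
    linear_combination -e - (Nat.card K : ℂ) * hmul
  rw [finsum_mem_eq_finite_toFinset_sum _ (Set.toFinite _)] at hnorm
  have hB : ∑ ψ ∈ (Set.toFinite (principalBlock M G)).toFinset, S ψ * conj (S ψ) =
      (Nat.card K : ℂ) * Nat.card K * Nat.card (D.P : Subgroup G) := by
    rw [show (Nat.card (D.P : Subgroup G) : ℂ) =
        ((2 ^ (Nat.card (Subgroup.centralizer ({(x : G)} : Set G))).factorization 2 : ℕ) : ℂ) by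
      rw [hc], ← hnorm, Finset.mul_sum]
    refine Finset.sum_congr rfl fun ψ hψ => ?_
    have : S ψ = (Nat.card K : ℂ) * (ψ : G → ℂ) x := by
      show ∑ g ∈ _, _ = _
      rw [Finset.sum_congr rfl (fun g hg => D.principal_const hM
        ((Set.Finite.mem_toFinset _).1 hψ) x g hx (Finset.mem_filter.1 hg).2),
        D.sum_fiber hx (fun _ => (ψ : G → ℂ) x)]
      simp [K, Nat.card_eq_fintype_card]
    rw [this, map_mul, Complex.conj_natCast]
    ring
  have h0 : ∑ ψ ∈ (Finset.univ \ (Set.toFinite (principalBlock M G)).toFinset),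
      S ψ * conj (S ψ) = 0 := by
    rw [Finset.sum_sdiff_eq_sub (Finset.subset_univ _), htot, hB, sub_self]
  simp only [Complex.mul_conj, ← Complex.ofReal_sum, Complex.ofReal_eq_zero] at h0
  rw [Finset.sum_eq_zero_iff_of_nonneg fun ψ _ => Complex.normSq_nonneg _] at h0
  exact Complex.normSq_eq_zero.1 (h0 χ (Finset.mem_sdiff.2 ⟨Finset.mem_univ _, fun h =>
    hχ ((Set.Finite.mem_toFinset _).1 h)⟩))

include hM hα in
open Classical in
theorem theta_nonprincipal (hα1 : α 1 = 0) {χ : IrrCharacter G} (hχ : χ ∉ principalBlock M G) :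
    classInner (D.theta α) (χ : G → ℂ) = 0 := by
  have := Fintype.ofFinite (D.P : Subgroup G)
  rw [CfsgLib.Char.classInner_def]
  refine mul_eq_zero_of_right _ ?_
  have hcls : ∀ g : G, (3 : ℂ) * (D.theta α g * conj ((χ : G → ℂ) g)) =
      ∑ x : (D.P : Subgroup G),
        if x ≠ 1 ∧ IsConj (x : G) (twoPart g) then α x * conj ((χ : G → ℂ) g) else 0 := by
    intro g
    by_cases hex : ∃ x : (D.P : Subgroup G), x ≠ 1 ∧ IsConj (twoPart g) (x : G)
    · obtain ⟨x0, hx0, hc⟩ := hex
      obtain ⟨a1, a2, a3⟩ := D.tau_two_ne hx0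
      have hset : (Finset.univ : Finset ↥(D.P : Subgroup G)).filter
          (fun x : ↥(D.P : Subgroup G) => x ≠ 1 ∧ IsConj (x : G) (twoPart g)) =
            {x0, D.τ x0, D.τ (D.τ x0)} := by
        ext y
        simp only [Finset.mem_filter, Finset.mem_univ, true_and, Finset.mem_insert,
          Finset.mem_singleton]
        constructor
        · rintro ⟨-, hy⟩
          exact D.fusion (hc.symm.trans hy.symm)
        · rintro (rfl | rfl | rfl)
          · exact ⟨hx0, hc.symm⟩
          · exact ⟨by rw [ne_eq, MulEquiv.map_eq_one_iff]; exact hx0,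
              (D.isConj_tau _).symm.trans hc.symm⟩
          · exact ⟨by rw [ne_eq, MulEquiv.map_eq_one_iff, MulEquiv.map_eq_one_iff]; exact hx0,
              ((D.isConj_tau x0).trans (D.isConj_tau _)).symm.trans hc.symm⟩
      rw [← Finset.sum_filter, hset, Finset.sum_insert (by simp [a1.symm, a2.symm]),
        Finset.sum_pair a3.symm, show D.theta α g = α x0 from D.wfn_eq hα hc, hα, hα, hα]
      ring
    · push Not at hex
      rw [D.theta_eq_zero hα1 hex, zero_mul, mul_zero]
      refine (Finset.sum_eq_zero fun x _ => if_neg fun h => ?_).symm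
      exact hex x h.1 h.2.symm
  refine mul_left_cancel₀ (three_ne_zero : (3 : ℂ) ≠ 0) ?_
  rw [mul_zero, Finset.mul_sum, Finset.sum_congr rfl (fun g _ => hcls g), Finset.sum_comm]
  refine Finset.sum_eq_zero fun x _ => ?_
  by_cases hx : x = 1
  · exact Finset.sum_eq_zero fun g _ => if_neg fun h => h.1 hx
  simp only [ne_eq, hx, not_false_iff, true_and]
  rw [← Finset.sum_filter, ← Finset.mul_sum,
    sum_section (x : G) (F := fun g => conj ((χ : G → ℂ) g))
      (fun g h => by simp [CfsgLib.Char.irr_isClassFunction χ.2 g h]),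
    ← map_sum, D.nonprincipal_sum hM hχ hx, map_zero, mul_zero, mul_zero]

end Data

end CfsgLib.Invol.Homocyclic
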