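import Cfsg.Agent.S3807
import Cfsg.Agent.Lib.Coprime.IndexP
import Cfsg.Agent.Lib.Fusion.Saturation
import Mathlib

/-!
# `p`-groups with a unique abelian subgroup of index `p`, inside an ambient group
-/

set_option autoImplicit false

namespace CfsgLib.Invol.IndexP

open Subgroup
open scoped commutatorElement

variable {Ω : Type*} [Group Ω] {S A : Subgroup Ω} {p : ℕ} {x a : Ω}

/-- The centre, as a subgroup of the ambient group. -/
abbrev Zc (S : Subgroup Ω) : Subgroup Ω := S ⊓ centralizer (S : Set Ω)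

/-- The derived subgroup, as a subgroup of the ambient group. -/
abbrev Dc (S : Subgroup Ω) : Subgroup Ω := (commutator S).map S.subtype

/-- The second centre, as a subgroup of the ambient group. -/
abbrev Z2c (S : Subgroup Ω) : Subgroup Ω := (Subgroup.upperCentralSeries S 2).map S.subtype

/-- `A` is an abelian subgroup of index `p` of the nonabelian `p`-group `S`. -/
structure Base (p : ℕ) (S A : Subgroup Ω) : Prop where
  pgroup : IsPGroup p S
  na : ¬ IsMulCommutative S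
  le : A ≤ S
  ab : IsMulCommutative A
  index : (A.subgroupOf S).index = p

/-- `A` is the only abelian subgroup of index `p` of the nonabelian `p`-group `S`. -/
structure Setting (p : ℕ) (S A : Subgroup Ω) : Prop extends Base p S A where
  uniq : ∀ B : Subgroup Ω, B ≤ S → IsMulCommutative B → (B.subgroupOf S).index = p → B = A

theorem mem_Zc {z : Ω} : z ∈ Zc S ↔ z ∈ S ∧ ∀ s ∈ S, s * z = z * s := Iff.rfl

theorem commute_of_mem_Zc {z s : Ω} (hz : z ∈ Zc S) (hs : s ∈ S) : Commute z s := (hz.2 s hs).symm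

theorem mem_center_iff_Zc {z : S} : z ∈ center S ↔ (z : Ω) ∈ Zc S := by
  rw [mem_center_iff]
  exact ⟨fun h => ⟨z.2, fun s hs => congrArg Subtype.val (h ⟨s, hs⟩)⟩,
    fun h g => Subtype.ext (h.2 g g.2)⟩

theorem map_center : (center S).map S.subtype = Zc S := by
  ext z
  exact ⟨fun ⟨w, hw, hwz⟩ => hwz ▸ mem_center_iff_Zc.1 hw,
    fun hz => ⟨⟨z, hz.1⟩, mem_center_iff_Zc.2 hz, rfl⟩⟩

theorem card_Zc : Nat.card (Zc S) = Nat.card (center S) := by
  rw [← map_center, card_map_of_injective S.subtype_injective]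

theorem card_Dc : Nat.card (Dc S) = Nat.card (commutator S) :=
  card_map_of_injective S.subtype_injective

theorem Dc_le : Dc S ≤ S := map_subtype_le _

theorem comm_mem_Dc {s t : Ω} (hs : s ∈ S) (ht : t ∈ S) : ⁅s, t⁆ ∈ Dc S :=
  ⟨⁅(⟨s, hs⟩ : S), ⟨t, ht⟩⁆, commutator_mem_commutator (mem_top _) (mem_top _), rfl⟩

theorem mem_Z2c {z : Ω} : z ∈ Z2c S ↔ z ∈ S ∧ ∀ t ∈ S, ⁅z, t⁆ ∈ Zc S := by
  have h2 : ∀ w : S, w ∈ Subgroup.upperCentralSeries S 2 ↔ ∀ t : S, ⁅w, t⁆ ∈ center S := fun w => by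
    rw [Subgroup.mem_upperCentralSeries_succ_iff, Subgroup.upperCentralSeries_one]
  constructor
  · rintro ⟨w, hw, rfl⟩
    exact ⟨w.2, fun t ht => mem_center_iff_Zc.1 ((h2 w).1 hw ⟨t, ht⟩)⟩
  · rintro ⟨hz, h⟩
    exact ⟨⟨z, hz⟩, (h2 _).2 fun t => mem_center_iff_Zc.2 (h t t.2), rfl⟩

/-- Conjugation by an element with central commutator, on powers. -/
theorem comm_zpow {a x : Ω} (hc : Commute ⁅a, x⁆ x) (i : ℤ) : ⁅a, x ^ i⁆ = ⁅a, x⁆ ^ i := by
  have h1 : a * x * a⁻¹ = ⁅a, x⁆ * x := by rw [commutatorElement_def]; group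
  have h2 : a * x ^ i * a⁻¹ = ⁅a, x⁆ ^ i * x ^ i := by rw [← conj_zpow, h1, hc.mul_zpow]
  rw [commutatorElement_def, h2, mul_inv_cancel_right]

namespace Base

variable [hp : Fact p.Prime] [Finite S]

theorem normal (h : Base p S A) : (A.subgroupOf S).Normal :=
  CfsgLib.Coprime.normal_of_index_prime h.pgroup h.index

theorem conj_mem (h : Base p S A) {s : Ω} (hs : s ∈ S) (ha : a ∈ A) : s * a * s⁻¹ ∈ A :=
  mem_subgroupOf.1 (h.normal.conj_mem ⟨a, h.le ha⟩ (mem_subgroupOf.2 ha) ⟨s, hs⟩)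

omit hp [Finite S] in
theorem commute (h : Base p S A) {b : Ω} (ha : a ∈ A) (hb : b ∈ A) : Commute a b :=
  congrArg Subtype.val (h.ab.is_comm.comm ⟨a, ha⟩ ⟨b, hb⟩)

theorem pow_mem (h : Base p S A) {s : Ω} (hs : s ∈ S) : s ^ p ∈ A :=
  mem_subgroupOf.1 (CfsgLib.Coprime.pow_mem_of_index h.pgroup h.index ⟨s, hs⟩)

theorem Dc_le_A (h : Base p S A) : Dc S ≤ A := by
  rintro _ ⟨w, hw, rfl⟩
  exact mem_subgroupOf.1 (CfsgLib.Coprime.commutator_le_of_index h.pgroup h.index hw)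

theorem decomp (h : Base p S A) (hx : x ∈ S) (hxA : x ∉ A) {s : Ω} (hs : s ∈ S) :
    ∃ b ∈ A, ∃ i : ℤ, b * x ^ i = s := by
  haveI := h.normal
  have htop := CfsgLib.Coprime.sup_zpowers_eq_top h.index (x := (⟨x, hx⟩ : S))
    (fun hm => hxA (mem_subgroupOf.1 hm))
  obtain ⟨b, hb, _, ⟨i, rfl⟩, hbi⟩ := mem_sup_of_normal_left.1 (htop.ge (mem_top (⟨s, hs⟩ : S)))
  exact ⟨b, mem_subgroupOf.1 hb, i, congrArg Subtype.val hbi⟩

theorem card_basic (h : Base p S A) :
    Zc S ≤ A ∧ Nat.card A = Nat.card (Zc S) * Nat.card (Dc S) := by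
  have hab : IsMulCommutative (A.subgroupOf S) :=
    ⟨⟨fun u v => Subtype.ext (Subtype.ext (h.commute u.2 v.2).eq)⟩⟩
  obtain ⟨h1, h2⟩ := CfsgLib.Coprime.card_eq_center_mul_commutator h.pgroup h.na hab h.index
  refine ⟨fun z hz => mem_subgroupOf.1 (h1 ((mem_center_iff_Zc (z := ⟨z, hz.1⟩)).2 hz)), ?_⟩
  rw [card_Zc, card_Dc, ← h2]
  exact Nat.card_congr (subgroupOfEquivOfLe h.le).toEquiv.symm

theorem Zc_le (h : Base p S A) : Zc S ≤ A := h.card_basic.1

theorem mem_Zc_of_commute (h : Base p S A) (hx : x ∈ S) (hxA : x ∉ A) (ha : a ∈ A)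
    (hc : Commute a x) : a ∈ Zc S := by
  refine ⟨h.le ha, fun s hs => ?_⟩
  obtain ⟨b, hb, i, rfl⟩ := h.decomp hx hxA hs
  exact (((h.commute hb ha).mul_left (hc.symm.zpow_left i))).eq

theorem decomp_of_commute (h : Base p S A) (hx : x ∈ S) (hxA : x ∉ A) {s : Ω} (hs : s ∈ S)
    (hc : Commute s x) : ∃ z ∈ Zc S, ∃ i : ℤ, z * x ^ i = s := by
  obtain ⟨b, hb, i, rfl⟩ := h.decomp hx hxA hs
  refine ⟨b, h.mem_Zc_of_commute hx hxA hb ?_, i, rfl⟩
  simpa using hc.mul_left ((Commute.refl x).zpow_left (-i))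

/-- The commutator map with a fixed element. -/
noncomputable def phi (h : Base p S A) (hx : x ∈ S) : A →* Ω :=
  MonoidHom.mk' (fun b => ⁅(b : Ω), x⁆) fun b c => by
    have hm : ⁅(c : Ω), x⁆ ∈ A := h.Dc_le_A (comm_mem_Dc (h.le c.2) hx)
    have hm' : ⁅(b : Ω), x⁆ ∈ A := h.Dc_le_A (comm_mem_Dc (h.le b.2) hx)
    show ⁅(b : Ω) * c, x⁆ = ⁅(b : Ω), x⁆ * ⁅(c : Ω), x⁆
    rw [(h.commute hm' hm).eq,
      show ⁅(b : Ω) * c, x⁆ = (b : Ω) * ⁅(c : Ω), x⁆ * (b : Ω)⁻¹ * ⁅(b : Ω), x⁆ by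
        simp only [commutatorElement_def]; group,
      (h.commute b.2 hm).eq, mul_inv_cancel_right]

theorem phi_apply (h : Base p S A) (hx : x ∈ S) (b : A) : h.phi hx b = ⁅(b : Ω), x⁆ := rfl

theorem ker_phi (h : Base p S A) (hx : x ∈ S) (hxA : x ∉ A) :
    (h.phi hx).ker = (Zc S).subgroupOf A := by
  ext b
  rw [MonoidHom.mem_ker, mem_subgroupOf, phi_apply]
  exact ⟨fun hb => h.mem_Zc_of_commute hx hxA b.2 (commutatorElement_eq_one_iff_commute.1 hb),
    fun hb => commutatorElement_eq_one_iff_commute.2 (commute_of_mem_Zc hb hx)⟩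

theorem range_phi (h : Base p S A) (hx : x ∈ S) (hxA : x ∉ A) :
    (h.phi hx).range = Dc S := by
  haveI := CfsgLib.Fusion.finite_of_le (Dc_le (S := S))
  refine eq_of_le_of_card_ge ?_ (le_of_eq ?_)
  · rintro _ ⟨b, rfl⟩
    exact comm_mem_Dc (h.le b.2) hx
  · have h1 := (h.phi hx).ker.card_mul_index
    rw [index_ker, h.ker_phi hx hxA, Nat.card_congr (subgroupOfEquivOfLe h.Zc_le).toEquiv,
      h.card_basic.2] at h1
    haveI := CfsgLib.Fusion.finite_of_le (inf_le_left : Zc S ≤ S)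
    exact (Nat.eq_of_mul_eq_mul_left Nat.card_pos h1).symm

theorem exists_comm (h : Base p S A) (hx : x ∈ S) (hxA : x ∉ A) {d : Ω} (hd : d ∈ Dc S) :
    ∃ b ∈ A, ⁅b, x⁆ = d := by
  rw [← h.range_phi hx hxA] at hd
  obtain ⟨b, rfl⟩ := hd
  exact ⟨b, b.2, rfl⟩

/-- The elements of `A` with commutator in `T`. -/
theorem card_comm_mem (h : Base p S A) (hx : x ∈ S) (hxA : x ∉ A) {T M : Subgroup Ω}
    (hT : T ≤ Dc S) (hM : ∀ b, b ∈ M ↔ b ∈ A ∧ ⁅b, x⁆ ∈ T) :
    Nat.card M = Nat.card (Zc S) * Nat.card T := by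
  have hM' : M = (T.comap (h.phi hx)).map A.subtype := by
    ext b
    rw [hM, mem_map]
    exact ⟨fun hb => ⟨⟨b, hb.1⟩, hb.2, rfl⟩, fun ⟨w, hw, hwb⟩ => hwb ▸ ⟨w.2, hw⟩⟩
  rw [hM', card_map_of_injective A.subtype_injective]
  have hle : (h.phi hx).ker ≤ T.comap (h.phi hx) := fun b hb => by
    rw [mem_comap, MonoidHom.mem_ker.1 hb]; exact one_mem _
  have h1 := relIndex_mul_relIndex ⊥ _ _ bot_le hle
  rw [relIndex_bot_left, relIndex_bot_left, relIndex_ker,
    map_comap_eq_self ((h.range_phi hx hxA).symm ▸ hT), h.ker_phi hx hxA,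
    Nat.card_congr (subgroupOfEquivOfLe h.Zc_le).toEquiv] at h1
  exact h1.symm

theorem card_eq_mul_inf (h : Base p S A) {K : Subgroup Ω} (hK : K ≤ S) (hx : x ∈ K)
    (hxA : x ∉ A) : Nat.card K = p * Nat.card (A ⊓ K : Subgroup Ω) := by
  haveI := h.normal
  have h1 : A.relIndex K = p := by
    rw [← relIndex_subgroupOf hK]
    rcases (Nat.dvd_prime hp.out).1 ((dvd_of_eq rfl).trans (h.index ▸
      relIndex_dvd_index_of_normal (H := A.subgroupOf S) (K := K.subgroupOf S))) with h0 | h0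
    · rw [relIndex_subgroupOf hK] at h0
      exact absurd (relIndex_eq_one.1 h0 hx) hxA
    · exact h0
  have h2 := relIndex_mul_relIndex ⊥ (A ⊓ K) K bot_le inf_le_right
  rw [relIndex_bot_left, relIndex_bot_left, inf_relIndex_right, h1] at h2
  rw [← h2, mul_comm]

theorem card_S (h : Base p S A) : Nat.card S = p * (Nat.card (Zc S) * Nat.card (Dc S)) := by
  have h1 := (A.subgroupOf S).card_mul_index
  rw [h.index, Nat.card_congr (subgroupOfEquivOfLe h.le).toEquiv, h.card_basic.2] at h1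
  rw [← h1, mul_comm]

/-- The second centre meets `A` in the elements with commutator in the centre. -/
theorem mem_Z2c_iff (h : Base p S A) (hx : x ∈ S) (hxA : x ∉ A) (ha : a ∈ A) :
    a ∈ Z2c S ↔ ⁅a, x⁆ ∈ Zc S := by
  refine ⟨fun hz => (mem_Z2c.1 hz).2 x hx, fun hz => mem_Z2c.2 ⟨h.le ha, fun t ht => ?_⟩⟩
  obtain ⟨b, hb, i, rfl⟩ := h.decomp hx hxA ht
  have h1 : ⁅a, b * x ^ i⁆ = b * ⁅a, x ^ i⁆ * b⁻¹ := by
    calc ⁅a, b * x ^ i⁆ = (a * b) * x ^ i * a⁻¹ * (x ^ i)⁻¹ * b⁻¹ := by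
          simp only [commutatorElement_def, mul_inv_rev, mul_assoc]
      _ = b * ⁅a, x ^ i⁆ * b⁻¹ := by
          rw [(h.commute ha hb).eq]; simp only [commutatorElement_def, mul_assoc]
  rw [h1, comm_zpow (commute_of_mem_Zc hz hx)]
  have h2 : ⁅a, x⁆ ^ i ∈ Zc S := zpow_mem hz i
  rwa [(commute_of_mem_Zc h2 (h.le hb)).symm.eq, mul_inv_cancel_right]

theorem card_Z2c_inf (h : Base p S A) (hx : x ∈ S) (hxA : x ∉ A) :
    Nat.card (Z2c S ⊓ A : Subgroup Ω) = Nat.card (Zc S) * Nat.card (Zc S ⊓ Dc S : Subgroup Ω) :=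
  h.card_comm_mem hx hxA inf_le_right fun b =>
    ⟨fun hb => ⟨hb.2, (h.mem_Z2c_iff hx hxA hb.2).1 hb.1, comm_mem_Dc (h.le hb.2) hx⟩,
      fun hb => ⟨(h.mem_Z2c_iff hx hxA hb.1).2 hb.2.1, hb.1⟩⟩

theorem index_sup (h : Base p S A) (hZD : Nat.card (Zc S ⊓ Dc S : Subgroup Ω) = p) :
    ((Zc S ⊔ Dc S).subgroupOf A).index = p := by
  haveI : Finite A := CfsgLib.Fusion.finite_of_le h.le
  haveI : ((Zc S).subgroupOf A).Normal :=
    ⟨fun z hz g => mem_subgroupOf.2 (by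
      show (g : Ω) * z * (g : Ω)⁻¹ ∈ Zc S
      rwa [(h.commute g.2 z.2).eq, mul_inv_cancel_right])⟩
  rw [subgroupOf_sup h.Zc_le h.Dc_le_A, sup_comm]
  set r := (Zc S).relIndex (Dc S)
  have h1 := relIndex_mul_relIndex ⊥ ((Zc S).subgroupOf A)
    ((Dc S).subgroupOf A ⊔ (Zc S).subgroupOf A) bot_le le_sup_right
  rw [relIndex_bot_left, relIndex_bot_left, relIndex_sup_right, relIndex_subgroupOf h.Dc_le_A,
    Nat.card_congr (subgroupOfEquivOfLe h.Zc_le).toEquiv] at h1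
  have h2 := relIndex_mul_relIndex ⊥ (Zc S ⊓ Dc S) (Dc S) bot_le inf_le_right
  rw [relIndex_bot_left, relIndex_bot_left, inf_relIndex_right, hZD] at h2
  have h3 := card_mul_index ((Dc S).subgroupOf A ⊔ (Zc S).subgroupOf A)
  rw [← h1, h.card_basic.2, ← h2] at h3
  haveI := CfsgLib.Fusion.finite_of_le (inf_le_left : Zc S ≤ S)
  haveI := CfsgLib.Fusion.finite_of_le (Dc_le (S := S))
  have hr : 0 < (Zc S).relIndex (Dc S) := by
    refine Nat.pos_of_ne_zero fun h0 => ?_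
    rw [h0, mul_zero] at h2
    exact Nat.card_pos.ne h2
  refine Nat.eq_of_mul_eq_mul_left (Nat.mul_pos (Nat.card_pos (α := Zc S)) hr) ?_
  rw [h3]; ring

theorem exists_not_mem (h : Base p S A) : ∃ x ∈ S, x ∉ A := by
  by_contra hc
  push Not at hc
  have := h.index
  rw [subgroupOf_eq_top.2 hc, index_top] at this
  exact hp.out.ne_one this.symm

theorem lcs_le_Dc (k : ℕ) : Subgroup.lowerCentralSeries S (k + 1) ≤ Dc S := by
  refine (Subgroup.lowerCentralSeries_antitone (S := S) (Nat.le_add_left 1 k)).trans ?_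
  rw [Subgroup.lowerCentralSeries_succ, Subgroup.lowerCentralSeries_zero, Dc, map_subtype_commutator]

theorem card_Dc_le_lcs (h : Base p S A) (hZD : Nat.card (Zc S ⊓ Dc S : Subgroup Ω) = p)
    (j : ℕ) : Nat.card (Dc S) ≤ p ^ j * Nat.card (Subgroup.lowerCentralSeries S (j + 1)) := by
  induction j with
  | zero =>
    rw [pow_zero, one_mul, Subgroup.lowerCentralSeries_succ, Subgroup.lowerCentralSeries_zero, Dc,
      map_subtype_commutator]
  | succ j ih =>
    refine ih.trans ?_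
    rw [pow_succ, mul_assoc]
    refine Nat.mul_le_mul_left _ ?_
    obtain ⟨x, hx, hxA⟩ := h.exists_not_mem
    set L := Subgroup.lowerCentralSeries S (j + 1) with hL
    have hLD : L ≤ Dc S := lcs_le_Dc j
    haveI := CfsgLib.Fusion.finite_of_le ((hLD.trans Dc_le))
    haveI : Finite (Subgroup.lowerCentralSeries S (j + 1 + 1)) :=
      CfsgLib.Fusion.finite_of_le ((lcs_le_Dc (j + 1)).trans Dc_le)
    haveI := CfsgLib.Fusion.finite_of_le ((inf_le_left : Zc S ⊓ Dc S ≤ Zc S).trans inf_le_left)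
    have hLA : L ≤ A := hLD.trans h.Dc_le_A
    have h1 := relIndex_mul_relIndex ⊥ ((h.phi hx).ker ⊓ L.subgroupOf A) (L.subgroupOf A) bot_le inf_le_right
    rw [relIndex_bot_left, relIndex_bot_left, inf_relIndex_right, relIndex_ker,
      Nat.card_congr (subgroupOfEquivOfLe hLA).toEquiv] at h1
    rw [← h1]
    refine Nat.mul_le_mul ?_ (card_le_of_le ?_)
    · refine le_of_le_of_eq ?_ hZD
      rw [← card_map_of_injective A.subtype_injective]
      refine card_le_of_le ?_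
      rintro _ ⟨b, hb, rfl⟩
      have hbZ := hb.1
      rw [SetLike.mem_coe, h.ker_phi hx hxA] at hbZ
      exact ⟨hbZ, hLD hb.2⟩
    · rintro _ ⟨b, hb, rfl⟩
      exact commutator_mem_commutator (show (b : Ω) ∈ L from hb) hx

theorem lcs_not_le (h : Base p S A) (hZD : Nat.card (Zc S ⊓ Dc S : Subgroup Ω) = p) (m : ℕ)
    (hm : ((Zc S).subgroupOf S).index = p ^ m) (hm3 : 3 ≤ m) :
    ¬ Subgroup.lowerCentralSeries S (m - 2) ≤ Zc S := by
  intro hle
  haveI := CfsgLib.Fusion.finite_of_le (inf_le_left : Zc S ≤ S)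
  haveI : Finite (Zc S ⊓ Dc S : Subgroup Ω) :=
    CfsgLib.Fusion.finite_of_le (inf_le_left.trans inf_le_left)
  have h1 := card_mul_index ((Zc S).subgroupOf S)
  rw [hm, Nat.card_congr (subgroupOfEquivOfLe (inf_le_left : Zc S ≤ S)).toEquiv, h.card_S,
    mul_left_comm] at h1
  have h2 := Nat.eq_of_mul_eq_mul_left Nat.card_pos h1
  have hD : Nat.card (Dc S) = p ^ (m - 1) := by
    refine Nat.eq_of_mul_eq_mul_left hp.out.pos ?_
    rw [← h2, ← pow_succ', show m - 1 + 1 = m by omega]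
  have h3 := h.card_Dc_le_lcs hZD (m - 3)
  rw [show m - 3 + 1 = m - 2 by omega, hD] at h3
  have h4 : Nat.card (Subgroup.lowerCentralSeries S (m - 2)) ≤ p :=
    hZD ▸ card_le_of_le (le_inf hle (show m - 2 = m - 3 + 1 by omega ▸ lcs_le_Dc (m - 3)))
  have h5 := h3.trans (Nat.mul_le_mul_left _ h4)
  rw [← pow_succ] at h5
  have := (Nat.pow_le_pow_iff_right hp.out.one_lt).1 h5
  omega

end Base

namespace Setting

variable [hp : Fact p.Prime] [Finite S]

theorem sq_le_card_Dc (h : Setting p S A) : p ^ 2 ≤ Nat.card (Dc S) := by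
  have hab : IsMulCommutative (A.subgroupOf S) :=
    ⟨⟨fun u v => Subtype.ext (Subtype.ext (h.commute u.2 v.2).eq)⟩⟩
  rw [card_Dc]
  rcases (Cfsg.Agent.S3807.result p h.pgroup h.na (A.subgroupOf S) hab h.index).2 with
    ⟨-, -, -, hc⟩ | ⟨h2, -⟩
  · exfalso
    have hle : Nat.card {B : Subgroup S // IsMulCommutative B ∧ B.index = p} ≤ 1 := by
      refine Finite.card_le_one_iff_subsingleton.2 ⟨fun B C => Subtype.ext ?_⟩
      have key : ∀ B : Subgroup S, IsMulCommutative B ∧ B.index = p → B = A.subgroupOf S := by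
        rintro B ⟨hB, hBi⟩
        have h1 : (B.map S.subtype).subgroupOf S = B :=
          comap_map_eq_self_of_injective S.subtype_injective B
        rw [← h.uniq (B.map S.subtype) (map_subtype_le _) ⟨⟨?_⟩⟩ (by rw [h1, hBi]), h1]
        rintro ⟨_, u, hu, rfl⟩ ⟨_, v, hv, rfl⟩
        exact Subtype.ext (congrArg (fun w : B => ((w : S) : Ω)) (hB.is_comm.comm ⟨u, hu⟩ ⟨v, hv⟩))
      rw [key B.1 B.2, key C.1 C.2]
    rw [hc] at hle
    have := hp.out.pos
    omega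
  · exact h2

theorem Z2c_le (h : Setting p S A) (hZD : Nat.card (Zc S ⊓ Dc S : Subgroup Ω) = p) :
    Z2c S ≤ A := by
  intro z hz
  by_contra hzA
  obtain ⟨hzS, hzc⟩ := mem_Z2c.1 hz
  have hle : Dc S ≤ Zc S := fun d hd => by
    obtain ⟨b, hb, rfl⟩ := h.exists_comm hzS hzA hd
    rw [← commutatorElement_inv]
    exact inv_mem (hzc b (h.le hb))
  rw [inf_eq_right.2 hle] at hZD
  have h1 := h.sq_le_card_Dc
  have := hp.out.two_le
  rw [hZD] at h1
  nlinarith

theorem Z2c_index (h : Setting p S A) (hZD : Nat.card (Zc S ⊓ Dc S : Subgroup Ω) = p) :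
    ((Zc S).subgroupOf (Z2c S)).index = p := by
  obtain ⟨x, hx, hxA⟩ : ∃ x ∈ S, x ∉ A := by
    by_contra hc
    push Not at hc
    have := h.index
    rw [subgroupOf_eq_top.2 hc, index_top] at this
    exact hp.out.ne_one this.symm
  haveI := CfsgLib.Fusion.finite_of_le (inf_le_left : Zc S ≤ S)
  have hle : Zc S ≤ Z2c S := fun z hz => mem_Z2c.2 ⟨hz.1, fun t ht => by
    rw [commutatorElement_eq_one_iff_commute.2 (commute_of_mem_Zc hz ht)]; exact one_mem _⟩
  have h1 := h.card_Z2c_inf hx hxA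
  rw [inf_eq_left.2 (h.Z2c_le hZD), hZD] at h1
  have h2 := relIndex_mul_relIndex ⊥ (Zc S) (Z2c S) bot_le hle
  rw [relIndex_bot_left, relIndex_bot_left, h1] at h2
  exact Nat.eq_of_mul_eq_mul_left Nat.card_pos h2

end Setting

end CfsgLib.Invol.IndexP
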