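import Cfsg.Agent.Lib.Invol.BrauerSuzuki

/-!
Sylow subgroups normalized by an isolated involution.
-/

set_option autoImplicit false
set_option linter.unusedSectionVars false

namespace CfsgLib.Invol

universe u

variable {G : Type u} [Group G] [Finite G]

/-- An isolated involution normalizes a Sylow `p`-subgroup. -/
theorem exists_invariant_sylow {z : G} (hz : Cfsg.IsIsolatedInvolution z) (p : ℕ) [hp : Fact p.Prime] :
    ∃ P : Sylow p G, z ∈ Subgroup.normalizer ((P : Subgroup G) : Set G) := by
  rcases eq_or_ne p 2 with rfl | hp2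
  · obtain ⟨P, hP⟩ := (isPGroup_zpowers_of_invol hz.1).exists_le_sylow
    exact ⟨P, Subgroup.le_normalizer (hP (Subgroup.mem_zpowers z))⟩
  have : (Cfsg.oddCore G).Normal := CfsgLib.Solvable.pPrimeCore_normal 2 G
  obtain ⟨P⟩ := (inferInstance : Nonempty (Sylow p G))
  set M := Cfsg.oddCore G ⊔ (P : Subgroup G)
  have hodd : Odd (Nat.card M) := by
    obtain ⟨k, hk⟩ := P.2.exists_card_eq
    have h1 : Odd (Nat.card (Cfsg.oddCore G) * Nat.card (P : Subgroup G)) := by
      refine (odd_card_oddCore G).mul ?_
      rw [hk]; exact (hp.1.odd_of_ne_two hp2).pow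
    rw [mul_comm] at h1
    show Odd (Nat.card (Cfsg.oddCore G ⊔ (P : Subgroup G) : Subgroup G))
    rw [sup_comm]
    exact h1.of_dvd_nat (CfsgLib.Solvable.card_sup_dvd (P : Subgroup G) (Cfsg.oddCore G))
  have hzM : z ∈ Subgroup.normalizer (M : Set G) := by
    have key : ∀ m ∈ M, z * m * z⁻¹ ∈ M := fun m hm => by
      have h := le_sup_left (b := (P : Subgroup G)) (zstar G hz m)
      have e : z * m * z⁻¹ = z * m * z⁻¹ * m⁻¹ * m := by group
      rw [e]; exact mul_mem h hm
    refine Subgroup.mem_normalizer_iff.2 fun m => ⟨fun hm => key m hm, fun hm => ?_⟩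
    have := key _ hm
    rw [invol_inv hz.1] at this
    rwa [show z * (z * m * z) * z = (z * z) * m * (z * z) by simp only [mul_assoc],
      invol_mul_self hz.1, one_mul, mul_one] at this
  -- the Sylow `p`-subgroups of `G` contained in `M`
  let Ω := {R : Sylow p G // (R : Subgroup G) ≤ M}
  let _ : MulAction (Subgroup.zpowers z) Ω :=
    { smul := fun g R => ⟨(g : G) • R.1, by
        intro x hx
        obtain ⟨y, hy, rfl⟩ := hx
        exact (Subgroup.mem_normalizer_iff.1 (Subgroup.zpowers_le.2 hzM g.2) y).1 (R.2 hy)⟩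
      one_smul := fun R => Subtype.ext (one_smul G R.1)
      mul_smul := fun a b R => Subtype.ext (mul_smul (a : G) (b : G) R.1) }
  -- their number is that of the Sylow `p`-subgroups of `M`
  have hn : Nat.card Ω = Nat.card (Sylow p M) := by
    refine Nat.card_congr (Equiv.ofBijective (fun R => R.1.subtype R.2) ⟨fun R R' h => ?_, fun Q => ?_⟩)
    · refine Subtype.ext (Sylow.ext ?_)
      have h' := congrArg (fun Q : Sylow p M => ((Q : Subgroup M)).map M.subtype) h
      simpa [Sylow.coe_subtype, Subgroup.map_subgroupOf_eq_of_le R.2,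
        Subgroup.map_subgroupOf_eq_of_le R'.2] using h'
    · have hc : Nat.card ((Q : Subgroup M).map M.subtype) =
          p ^ (Nat.card G).factorization p := by
        rw [← P.card_eq_multiplicity,
          ← Nat.card_congr ((Q : Subgroup M).equivMapOfInjective _ M.subtype_injective).toEquiv]
        refine Nat.dvd_antisymm ?_ ?_
        · rw [P.card_eq_multiplicity]
          obtain ⟨k, hk⟩ := Q.2.exists_card_eq
          rw [hk]
          refine pow_dvd_pow p ((hp.1.pow_dvd_iff_le_factorization Nat.card_pos.ne').1 ?_)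
          exact hk ▸ (Subgroup.card_subgroup_dvd_card (Q : Subgroup M)).trans
            (Subgroup.card_subgroup_dvd_card M)
        · obtain ⟨k, hk⟩ := P.2.exists_card_eq
          rw [hk]
          refine Q.pow_dvd_card_of_pow_dvd_card ?_
          rw [← hk]
          exact Subgroup.card_dvd_of_le le_sup_right
      refine ⟨⟨Sylow.ofCard _ hc, ?_⟩, ?_⟩
      · exact Subgroup.map_subtype_le _
      · exact Sylow.ext (Subgroup.comap_map_eq_self_of_injective M.subtype_injective _)
  obtain ⟨R, hR⟩ := (isPGroup_zpowers_of_invol hz.1).nonempty_fixed_point_of_prime_not_dvd_card Ω (by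
    rw [hn]
    intro h
    obtain ⟨Q⟩ := (inferInstance : Nonempty (Sylow p M))
    exact Nat.not_even_iff_odd.2 hodd
      (even_iff_two_dvd.2 (h.trans (Q.card_dvd_index.trans (Subgroup.index_dvd_card _)))))
  exact ⟨R.1, Sylow.smul_eq_iff_mem_normalizer.1 (congrArg Subtype.val (hR ⟨z, Subgroup.mem_zpowers z⟩))⟩

end CfsgLib.Invol
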