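import Cfsg.Agent.Lib.Invol.AutPElements
import Mathlib.GroupTheory.Sylow

/-!
# Two transvections with different centres generate the inversion of an elementary group of order
`p ^ 2`
-/

set_option autoImplicit false
set_option linter.style.haveILetI false

namespace CfsgLib.Invol.InversionElement

open Subgroup

/-- A subgroup of automorphisms of an elementary group of order `p ^ 2` containing a nontrivial
transvection and moving its centre contains the inversion. -/
theorem exists_inversion {V : Type*} [Group V] [Finite V] {p : ℕ} [hp : Fact p.Prime]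
    (hab : ∀ x y : V, x * y = y * x) (hcard : Nat.card V = p ^ 2) (hexp : ∀ x : V, x ^ p = 1)
    (G : Subgroup (MulAut V)) (Z : Subgroup V) (hZ : Nat.card Z = p) {τ : MulAut V} (hτ : τ ∈ G)
    (hτ1 : τ ≠ 1) (hτZ : ∀ z ∈ Z, τ z = z) (hτc : ∀ x, x⁻¹ * τ x ∈ Z) {g : MulAut V} (hg : g ∈ G)
    {z₁ : V} (hz₁ : z₁ ∈ Z) (hgz : g z₁ ∉ Z) : ∃ α ∈ G, ∀ x : V, α x = x⁻¹ := by
  have htop : ∀ H : Subgroup V, Z ≤ H → ∀ x ∈ H, x ∉ Z → H = ⊤ := by
    intro H hZH x hx hxZ
    refine H.eq_top_of_card_eq ?_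
    have hlt : Nat.card Z < Nat.card H := lt_of_le_of_ne (card_le_of_le hZH)
      fun e => hxZ ((eq_of_le_of_card_ge hZH e.ge).ge hx)
    obtain ⟨i, hi, hie⟩ := (Nat.dvd_prime_pow hp.out).1 (hcard ▸ H.card_subgroup_dvd_card)
    rw [hZ, hie] at hlt
    rcases (show i = 0 ∨ i = 1 ∨ i = 2 by omega) with rfl | rfl | rfl
    · simp at hlt; have := hp.out.one_lt; omega
    · simp at hlt
    · rw [hie, hcard]
  have hτfix : ∀ x : V, τ x = x → x ∈ Z := by
    intro x hx
    by_contra hxZ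
    have hE : MonoidHom.eqLocus τ.toMonoidHom (MonoidHom.id V) = ⊤ := htop _ hτZ x hx hxZ
    exact hτ1 (MulEquiv.ext fun y => hE.ge (mem_top y))
  have hsub : ∀ u : V, u ∈ Z → u ≠ 1 → zpowers u = Z := by
    intro u hu hu1
    refine eq_of_le_of_card_ge (zpowers_le.2 hu) ?_
    rw [hZ, Nat.card_zpowers, orderOf_eq_prime (hexp u) hu1]
  set w := g z₁
  set z := w⁻¹ * τ w
  have hτw : τ w = w * z := (mul_inv_cancel_left w _).symm
  have hzZ : z ∈ Z := hτc w
  have hτz : τ z = z := hτZ z hzZ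
  have hz : z ≠ 1 := fun e => hgz (hτfix w (inv_mul_eq_one.1 e).symm)
  have hz₁1 : z₁ ≠ 1 := fun e => hgz (by rw [show w = g z₁ from rfl, e, map_one]; exact one_mem _)
  obtain ⟨v, hv⟩ : ∃ v, g v = z := ⟨g⁻¹ z, MulAut.apply_inv_self _ _ _⟩
  have hvZ : v ∉ Z := by
    intro hvZ
    refine hgz ?_
    rw [← hsub v hvZ (fun e => hz (by rw [← hv, e, map_one]))] at hz₁
    obtain ⟨i, rfl⟩ := mem_zpowers_iff.1 hz₁
    show g (v ^ i) ∈ Z
    rw [map_zpow, hv]
    exact zpow_mem hzZ i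
  set u := v⁻¹ * τ v
  have hu : u ∈ Z := hτc v
  have hu1 : u ≠ 1 := fun e => hvZ (hτfix v (inv_mul_eq_one.1 e).symm)
  obtain ⟨m, hm⟩ : ∃ m : ℕ, u ^ m = z₁⁻¹ := by
    rw [← hsub u hu hu1] at hz₁
    exact (isOfFinOrder_of_finite u).mem_powers_iff_mem_zpowers.2 (inv_mem hz₁)
  have hτm1 : (τ ^ m) z₁ = z₁ := by
    clear hm
    induction m with
    | zero => rfl
    | succ m ih => rw [pow_succ, MulAut.mul_apply, hτZ z₁ hz₁, ih]
  have hτmv : (τ ^ m) v = v * u ^ m :=
    CfsgLib.Invol.pow_apply_mul (mul_inv_cancel_left v _).symm (hτZ u hu) m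
  set β := g * τ ^ m * g⁻¹
  have hβw : β w = w := by
    rw [MulAut.mul_apply, MulAut.mul_apply, MulAut.inv_apply_self, hτm1]
  have hβz : β z = z * w⁻¹ := by
    rw [← hv, MulAut.mul_apply, MulAut.mul_apply, MulAut.inv_apply_self, hτmv, map_mul, hm,
      map_inv, hv]
  set t := τ * β * τ
  have htz : t z = w⁻¹ := by
    show τ (β (τ z)) = _
    rw [hτz, hβz, map_mul, hτz, map_inv, hτw, mul_inv_rev, ← mul_assoc, mul_inv_cancel, one_mul]
  have htw : t w = z := by
    show τ (β (τ w)) = _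
    rw [hτw, map_mul, hβw, hβz, hab z, mul_inv_cancel_left, hτz]
  refine ⟨t * t, ?_, ?_⟩
  · have ht : t ∈ G := mul_mem (mul_mem hτ (mul_mem (mul_mem hg (pow_mem hτ m)) (inv_mem hg))) hτ
    exact mul_mem ht ht
  let I : Subgroup V :=
    { carrier := {x | (t * t) x = x⁻¹}
      one_mem' := by show (t * t) 1 = 1⁻¹; rw [map_one, inv_one]
      mul_mem' := fun {a b} ha hb => by
        show (t * t) (a * b) = (a * b)⁻¹
        rw [map_mul, ha, hb, mul_inv_rev, hab]
      inv_mem' := fun {a} ha => by show (t * t) a⁻¹ = a⁻¹⁻¹; rw [map_inv, ha] }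
  have hzI : z ∈ I := by show t (t z) = _; rw [htz, map_inv, htw]
  have hwI : w ∈ I := by show t (t w) = _; rw [htw, htz]
  have hI : I = ⊤ := htop I (hsub z hzZ hz ▸ zpowers_le.2 hzI) w hwI hgz
  exact fun x => hI.ge (mem_top x)

end CfsgLib.Invol.InversionElement
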