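import Cfsg.Agent.Lib.Invol.JankoOneAltModel
import Cfsg.Agent.Lib.InvChar.SymSixSetup
import Cfsg.Agent.Lib.Transfer.Thompson
import Cfsg.Agent.Lib.Solvable.PCore
import Mathlib.GroupTheory.NoncommCoprod

/-!
A non-solvable group with a 2-central involution centralized by `Z/2 × A₄` or `Z/2 × A₅` that is
fused into the second factor has a unique simple minimal normal subgroup.
-/

set_option autoImplicit false

namespace CfsgLib.Invol.J1Cent

open Cfsg Subgroup

universe u

/-- The configuration. -/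
structure AltSetting (G : Type u) [Group G] [Finite G] {M : Type} [Group M] (F : Facts M) where
  J : G
  ι : M →* G
  inj : Function.Injective ι
  hιJ : ι (F.emb e0) = J
  cen : ∀ g : G, g * J = J * g → ∃ m, ι m = g
  u : M
  hu : u * u = 1
  hu1 : u ≠ 1
  hu_fst : F.fst u = 1
  huJ : IsConj J (ι u)
  hJ : IsTwoCentralInvolution J

theorem odd_zmod_two_mul {n : ℕ} (h4 : ¬ 4 ∣ n) (h2 : 2 ∣ n) : Odd (n / 2) := by
  obtain ⟨k, rfl⟩ := h2
  rw [Nat.mul_div_cancel_left k two_pos]
  exact Nat.not_even_iff_odd.1 fun ⟨j, hj⟩ => h4 ⟨j, by omega⟩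

theorem sameType_iff {v w : E8} : sameType v w = true ↔
    v.toAdd.1 = w.toAdd.1 ∧ (v.toAdd.2 = 0 ↔ w.toAdd.2 = 0) := by
  revert v w; decide +kernel

namespace AltSetting

variable {G : Type u} [Group G] [Finite G] {M : Type} [Group M] [Finite M] {F : Facts M}
  (D : AltSetting G F)

include D

/-- The embedded elementary abelian group. -/
def emb8 : E8 →* G := D.ι.comp F.emb

theorem emb8_e0 : D.emb8 e0 = D.J := D.hιJ

theorem emb8_injective : Function.Injective D.emb8 := D.inj.comp F.inj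

theorem card_range : Nat.card D.emb8.range = 8 := by
  rw [← Nat.card_congr (MonoidHom.ofInjective D.emb8_injective).toEquiv, Nat.card_eq_fintype_card]
  rfl

theorem comm_J (m : M) : D.ι m * D.J = D.J * D.ι m := by
  rw [← D.hιJ, ← map_mul, ← map_mul, F.cen m]

/-- The Sylow subgroup. -/
theorem exists_sylow : ∃ Q : Sylow 2 G, (Q : Subgroup G) = D.emb8.range := by
  have : Fact (Nat.Prime 2) := ⟨Nat.prime_two⟩
  obtain ⟨h2, P, htP, hP⟩ := D.hJ
  have hPC : (P : Subgroup G) ≤ D.ι.range := fun x hx => D.cen x (hP x hx)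
  refine ⟨Sylow.ofCard D.emb8.range ?_, Sylow.coe_ofCard _ _⟩
  rw [D.card_range]
  obtain ⟨k, hk⟩ := IsPGroup.iff_card.1 P.2
  have hd := Subgroup.card_dvd_of_le hPC
  rw [← Nat.card_congr (MonoidHom.ofInjective D.inj).toEquiv, hk] at hd
  have hk3 : k ≤ 3 := by
    by_contra h
    exact F.h16 ((pow_dvd_pow 2 (show 4 ≤ k by omega)).trans hd)
  have h8 : 2 ^ 3 ∣ Nat.card G := by
    have := Subgroup.card_subgroup_dvd_card D.emb8.range
    rwa [D.card_range] at this
  have := (Nat.Prime.pow_dvd_iff_le_factorization Nat.prime_two Nat.card_pos.ne').1 h8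
  rw [P.card_eq_multiplicity] at hk
  have := Nat.pow_right_injective le_rfl hk
  rw [show (Nat.card G).factorization 2 = 3 by omega]
  rfl

/-- The Sylow subgroup. -/
noncomputable def Q : Sylow 2 G := D.exists_sylow.choose

theorem coe_Q : (D.Q : Subgroup G) = D.emb8.range := D.exists_sylow.choose_spec

theorem card_Q : Nat.card (D.Q : Subgroup G) = 8 := by rw [D.coe_Q, D.card_range]

theorem not_sixteen : ¬ 16 ∣ Nat.card G := fun h => by
  have : Fact (Nat.Prime 2) := ⟨Nat.prime_two⟩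
  have := (Nat.Prime.pow_dvd_iff_le_factorization Nat.prime_two Nat.card_pos.ne').1
    (show 2 ^ 4 ∣ Nat.card G from h)
  have h3 := D.Q.card_eq_multiplicity
  rw [D.card_Q] at h3
  have := Nat.pow_right_injective le_rfl (show 2 ^ 3 = 2 ^ (Nat.card G).factorization 2 from h3)
  omega

theorem mem_Q {x : G} : x ∈ (D.Q : Subgroup G) ↔ ∃ w, D.emb8 w = x := by
  rw [D.coe_Q]; rfl

theorem Q_comm (a : G) (ha : a ∈ (D.Q : Subgroup G)) (b : G) (hb : b ∈ (D.Q : Subgroup G)) :
    a * b = b * a := by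
  obtain ⟨v, rfl⟩ := D.mem_Q.1 ha
  obtain ⟨w, rfl⟩ := D.mem_Q.1 hb
  rw [← map_mul, ← map_mul, mul_comm]

theorem Q_sq {a : G} (ha : a ∈ (D.Q : Subgroup G)) : a * a = 1 := by
  obtain ⟨v, rfl⟩ := D.mem_Q.1 ha
  rw [← map_mul, ← pow_two, e8_sq, map_one]

theorem orderOf_emb8 {w : E8} (hw : w ≠ 1) : orderOf (D.emb8 w) = 2 := by
  refine invol_of_mul_self (D.Q_sq (D.mem_Q.2 ⟨w, rfl⟩)) fun h => hw (D.emb8_injective ?_)
  rw [h, map_one]

theorem isConj_of_sameType {v w : E8} (h : sameType v w = true)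
    (hv : IsConj D.J (D.emb8 v)) : IsConj D.J (D.emb8 w) := by
  obtain ⟨r, hr⟩ := F.conj v w h
  refine hv.trans (isConj_iff.2 ⟨D.ι r, ?_⟩)
  simp only [emb8, MonoidHom.coe_comp, Function.comp_apply, ← hr, map_mul, map_inv]

/-- The representatives of the three shapes are conjugate to `J`. -/
theorem isConj_shape (w : E8) (h1 : w.toAdd.1 = 0) (h2 : w ≠ 1) : IsConj D.J (D.emb8 w) := by
  obtain ⟨v, r, hr⟩ := F.invol D.u D.hu
  have hv : IsConj D.J (D.emb8 v) := by
    refine D.huJ.trans (isConj_iff.2 ⟨(D.ι r)⁻¹, ?_⟩)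
    rw [← hr, map_mul, map_mul, map_inv]
    show _ = D.ι (F.emb v)
    group
  have hv1 : v.toAdd.1 = 0 := by
    have h := congrArg F.fst hr
    rw [map_mul, map_mul, map_inv, mul_comm (F.fst r), mul_inv_cancel_right, F.fst_emb,
      D.hu_fst] at h
    exact h
  have hv' : v ≠ 1 := by
    rintro rfl
    rw [map_one, mul_one, mul_inv_cancel] at hr
    exact D.hu1 hr.symm
  refine D.isConj_of_sameType ?_ hv
  rw [sameType_iff, hv1, h1]
  refine ⟨rfl, ⟨fun h => absurd ?_ hv', fun h => absurd ?_ h2⟩⟩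
  · exact Multiplicative.toAdd.injective (Prod.ext hv1 h)
  · exact Multiplicative.toAdd.injective (Prod.ext h1 h)

theorem hconj_emb8 (w : E8) (hw : w ≠ 1) : IsConj D.J (D.emb8 w) := by
  by_contra hcon
  have hno : ∀ a : E8, a ≠ 1 → IsConj D.J (D.emb8 a) → a.toAdd.1 = 0 ∨ a.toAdd.2 = 0 := by
    intro a _ ha
    by_contra h
    push Not at h
    by_cases hw1 : w.toAdd.1 = 0
    · exact hcon (D.isConj_shape w hw1 hw)
    by_cases hw2 : w.toAdd.2 = 0
    · refine hcon (D.isConj_of_sameType (v := e0) ?_ (by rw [D.emb8_e0]))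
      rw [sameType_iff]
      have : ∀ z : ZMod 2, z ≠ 0 → z = 1 := by decide
      exact ⟨(this _ hw1).symm, iff_of_true rfl hw2⟩
    refine hcon (D.isConj_of_sameType ?_ ha)
    rw [sameType_iff]
    have : ∀ x y : ZMod 2, x ≠ 0 → y ≠ 0 → x = y := by decide
    exact ⟨this _ _ h.1 hw1, iff_of_false h.2 hw2⟩
  have : IsMulCommutative (D.Q : Subgroup G) := ⟨⟨fun a b => Subtype.ext (D.Q_comm _ a.2 _ b.2)⟩⟩
  let a0 : E8 := Multiplicative.ofAdd (0, 1, 0)
  let b0 : E8 := Multiplicative.ofAdd (0, 0, 1)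
  obtain ⟨g, hg⟩ := isConj_iff.1 (D.isConj_shape a0 rfl (by decide))
  obtain ⟨n, hn, hn'⟩ := CfsgLib.Transfer.abelian_sylow_controls D.Q D.J
    (D.mem_Q.2 ⟨e0, D.emb8_e0⟩) g (hg ▸ D.mem_Q.2 ⟨a0, rfl⟩)
  rw [hg] at hn'
  -- the normalizer element permutes the fused points
  have himg : ∀ v : E8, ∃ v' : E8, D.emb8 v' = n * D.emb8 v * n⁻¹ := fun v =>
    D.mem_Q.1 ((mem_normalizer_iff.1 hn _).1 (D.mem_Q.2 ⟨v, rfl⟩))
  choose φ hφ using himg
  have hmul : ∀ v v', φ (v * v') = φ v * φ v' := fun v v' => D.emb8_injective (by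
    rw [hφ, map_mul, map_mul, hφ, hφ]; group)
  have hinj : Function.Injective φ := fun v v' h => D.emb8_injective (by
    have := congrArg D.emb8 h
    rw [hφ, hφ] at this
    exact mul_left_cancel (mul_right_cancel this))
  have hone : φ 1 = 1 := D.emb8_injective (by rw [hφ, map_one]; group)
  have hne : ∀ v, v ≠ 1 → φ v ≠ 1 := fun v hv h => hv (hinj (h.trans hone.symm))
  have hJa : φ e0 = a0 := D.emb8_injective (by rw [hφ, D.emb8_e0, hn'])
  have hfus : ∀ v, v ≠ 1 → IsConj D.J (D.emb8 v) → (φ v).toAdd.1 = 0 ∨ (φ v).toAdd.2 = 0 := by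
    intro v hv hc
    refine hno _ (hne v hv) (hc.trans (isConj_iff.2 ⟨n, ?_⟩))
    rw [hφ]
  have hz := fusion_aux (φ a0) (φ b0) (φ e0) (hne _ (by decide)) (hne _ (by decide))
    (fun h => absurd (hinj h) (by decide)) (hne _ (by decide))
    (fun h => absurd (hinj h) (by decide)) (fun h => absurd (hinj h) (by decide))
    (fun h => absurd (hinj (h.trans (hmul a0 b0).symm)) (by decide))
    (fun a ha => ?_)
  · rw [hJa] at hz
    exact absurd hz (by decide)
  · rcases ha with rfl | rfl | rfl | rfl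
    · exact hfus _ (by decide) (D.isConj_shape _ rfl (by decide))
    · exact hfus _ (by decide) (D.isConj_shape _ rfl (by decide))
    · rw [← hmul]
      exact hfus _ (by decide) (D.isConj_shape _ rfl (by decide))
    · exact hfus _ (by decide) (by rw [D.emb8_e0])

/-- All involutions are conjugate. -/
theorem hconj (x : G) (hx : orderOf x = 2) : IsConj D.J x := by
  have : Fact (Nat.Prime 2) := ⟨Nat.prime_two⟩
  obtain ⟨a, ha⟩ := exists_conj_invol_mem_sylow D.Q hx
  obtain ⟨w, hw⟩ := D.mem_Q.1 ha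
  have hw1 : w ≠ 1 := by
    rintro rfl
    rw [map_one] at hw
    refine invol_ne_one hx ?_
    simpa using hw.symm
  have := D.hconj_emb8 w hw1
  rw [hw] at this
  exact this.trans (isConj_iff.2 ⟨a⁻¹, by group⟩)

theorem inf_cen_eq_one {R : Subgroup G} [hR : R.Normal] (hodd : Odd (Nat.card R)) {x : G}
    (hx : orderOf x = 2) (k : G) (hk : k ∈ R) (hkx : k * x = x * k) : k = 1 := by
  obtain ⟨g, rfl⟩ := isConj_iff.1 (D.hconj x hx)
  obtain ⟨m, hm⟩ := D.cen (g⁻¹ * k * g) (by
    calc g⁻¹ * k * g * D.J = g⁻¹ * (k * (g * D.J * g⁻¹)) * g := by group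
      _ = g⁻¹ * (g * D.J * g⁻¹ * k) * g := by rw [hkx]
      _ = D.J * (g⁻¹ * k * g) := by group)
  have hK := F.odd (R.comap D.ι) inferInstance (hodd.of_dvd_nat
    (Subgroup.card_dvd_of_injective (D.ι.subgroupComap R) fun a b h =>
      Subtype.ext (D.inj (congrArg Subtype.val h))))
  have hmem : m ∈ R.comap D.ι := by
    rw [Subgroup.mem_comap, hm]
    have := hR.conj_mem k hk g⁻¹
    rwa [inv_inv] at this
  rw [hK, Subgroup.mem_bot] at hmem
  rw [hmem, map_one] at hm
  calc k = g * (g⁻¹ * k * g) * g⁻¹ := by group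
    _ = 1 := by rw [← hm]; group

/-- There is no non-trivial normal subgroup of odd order. -/
theorem odd_normal_eq_bot (R : Subgroup G) [R.Normal] (hodd : Odd (Nat.card R)) : R = ⊥ := by
  let a0 : E8 := Multiplicative.ofAdd (0, 1, 0)
  let b0 : E8 := Multiplicative.ofAdd (0, 0, 1)
  refine CfsgLib.InvChar.SymSix.eq_bot_of_four_group R (D.emb8 a0) (D.emb8 b0) ?_ ?_ ?_ hodd
    (fun k hk h => D.inf_cen_eq_one hodd (D.orderOf_emb8 (by decide)) k hk h)
    (fun k hk h => D.inf_cen_eq_one hodd (D.orderOf_emb8 (by decide)) k hk h) ?_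
  · exact D.Q_sq (D.mem_Q.2 ⟨_, rfl⟩)
  · exact D.Q_sq (D.mem_Q.2 ⟨_, rfl⟩)
  · rw [← map_mul D.emb8, ← map_mul D.emb8, mul_comm a0]
  · intro k hk h
    rw [← map_mul] at h
    exact D.inf_cen_eq_one hodd (D.orderOf_emb8 (by decide)) k hk h

theorem eq_bot_of_odd_in (N : Subgroup G) [N.Normal] (K : Subgroup N) [hK : K.Normal]
    (hodd : Odd (Nat.card K)) : K = ⊥ := by
  have hN : (pPrimeCore 2 G) = ⊥ := by
    have := CfsgLib.Solvable.pPrimeCore_normal 2 G
    refine D.odd_normal_eq_bot _ ?_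
    have h := CfsgLib.Solvable.pPrimeCore_coprime (G := G) 2
    rwa [Nat.coprime_two_right] at h
  rw [eq_bot_iff]
  intro x hx
  have hle := CfsgLib.Solvable.le_pPrimeCore hK (Nat.coprime_two_right.2 hodd) hx
  have := CfsgLib.Solvable.map_pPrimeCore_le 2 N (Subgroup.mem_map_of_mem N.subtype hle)
  rw [hN, Subgroup.mem_bot] at this
  exact Subgroup.mem_bot.2 (Subtype.ext this)

/-- A normal Sylow subgroup forces solvability. -/
theorem isSolvable_of_normal (hQ : (D.Q : Subgroup G).Normal) : Group.IsSolvable G := by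
  have : Fact (Nat.Prime 2) := ⟨Nat.prime_two⟩
  classical
  have hcl := CfsgLib.Invol.card_class_mul_card_centralizer D.J
  have hcen : Nat.card (centralizer ({D.J} : Set G)) = Nat.card M := by
    have : centralizer ({D.J} : Set G) = D.ι.range := by
      ext g
      rw [mem_centralizer_singleton_iff]
      exact ⟨fun h => D.cen g h, by rintro ⟨m, rfl⟩; exact D.comm_J m⟩
    rw [this, ← Nat.card_congr (MonoidHom.ofInjective D.inj).toEquiv]
  have hset : {x : G | IsConj D.J x} = D.emb8 '' ({1}ᶜ : Set E8) := by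
    ext x
    constructor
    · intro hx
      have hx2 : orderOf x = 2 := (orderOf_eq_of_isConj hx).trans D.hJ.1
      obtain ⟨a, ha⟩ := exists_conj_invol_mem_sylow D.Q hx2
      have := hQ.conj_mem _ ha a⁻¹
      rw [show a⁻¹ * (a * x * a⁻¹) * a⁻¹⁻¹ = x by group] at this
      obtain ⟨w, hw⟩ := D.mem_Q.1 this
      exact ⟨w, fun h => invol_ne_one hx2 (by rw [← hw, h, map_one]), hw⟩
    · rintro ⟨w, hw, rfl⟩
      exact D.hconj_emb8 w hw
  have h7 : Nat.card {x : G | IsConj D.J x} = 7 := by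
    rw [hset, Nat.card_coe_set_eq, Set.ncard_image_of_injective _ D.emb8_injective,
      Set.ncard_compl, Set.ncard_singleton, Nat.card_eq_fintype_card]
    rfl
  rw [hcen] at hcl
  refine isSolvable_of_squarefree_index (D.Q : Subgroup G) D.Q_comm ?_
  have h8 : Nat.card M = 8 * (Nat.card M / 8) := (Nat.mul_div_cancel' F.h8).symm
  have hmul := Subgroup.card_mul_index (D.Q : Subgroup G)
  rw [D.card_Q] at hmul
  have hG : Nat.card G = 7 * Nat.card M := by
    rw [← hcl, ← h7]; rfl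
  have : (D.Q : Subgroup G).index = 7 * (Nat.card M / 8) := by omega
  rw [this]
  exact F.sqf

/-- A minimal non-trivial normal subgroup contains the Sylow subgroup and is simple. -/
theorem exists_simple (hns : ¬ Group.IsSolvable G) : ∃ N : Subgroup G, N.Normal ∧
    (D.Q : Subgroup G) ≤ N ∧ IsSimpleGroup N ∧ ¬ IsMulCommutative N := by
  classical
  have : Fact (Nat.Prime 2) := ⟨Nat.prime_two⟩
  have : Nontrivial G := ⟨⟨D.J, 1, invol_ne_one D.hJ.1⟩⟩
  let P : Subgroup G → Prop := fun N => N.Normal ∧ N ≠ ⊥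
  obtain ⟨N, -, hNm⟩ := (Set.toFinite {N : Subgroup G | P N}).exists_le_minimal
    (show P ⊤ from ⟨inferInstance, top_ne_bot⟩)
  obtain ⟨hN, hN0⟩ := hNm.prop
  have hmin : ∀ K : Subgroup G, K.Normal → K ≤ N → K ≠ ⊥ → K = N := fun K hK hle hK0 =>
    le_antisymm hle (hNm.le_of_le ⟨hK, hK0⟩ hle)
  have hall : ∀ x : G, orderOf x = 2 → x ∈ N := by
    obtain ⟨y, hy, hy2⟩ : ∃ y ∈ N, orderOf y = 2 := by
      by_cases he : Even (Nat.card N)
      · exact CfsgLib.Invol.exists_invol_mem he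
      · exact absurd (D.odd_normal_eq_bot N (Nat.not_even_iff_odd.1 he)) hN0
    intro x hx
    obtain ⟨g, hg⟩ := isConj_iff.1 ((D.hconj y hy2).symm.trans (D.hconj x hx))
    exact hg ▸ hN.conj_mem y hy g
  have hQN : (D.Q : Subgroup G) ≤ N := fun x hx => by
    by_cases h : x = 1
    · exact h ▸ one_mem _
    · exact hall x (invol_of_mul_self (D.Q_sq hx) h)
  have hnab : ¬ IsMulCommutative N := by
    intro hc
    have hcomm : ∀ a ∈ N, ∀ b ∈ N, a * b = b * a := fun a ha b hb =>
      congrArg Subtype.val (hc.is_comm.comm (⟨a, ha⟩ : N) ⟨b, hb⟩)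
    refine hns (D.isSolvable_of_normal ?_)
    refine ⟨fun x hx g => ?_⟩
    by_cases h : x = 1
    · simp [h]
    have h2 : orderOf (g * x * g⁻¹) = 2 := by
      rw [orderOf_conj_eq]; exact invol_of_mul_self (D.Q_sq hx) h
    have hNQ : (D.Q : Subgroup G).subgroupOf N = ((D.Q).subtype hQN : Subgroup N) := rfl
    obtain ⟨a, ha⟩ := exists_conj_invol_mem_sylow ((D.Q).subtype hQN)
      (x := (⟨g * x * g⁻¹, hall _ h2⟩ : N)) (by rw [← Subgroup.orderOf_coe]; exact h2)
    rw [hc.is_comm.comm a, mul_inv_cancel_right] at ha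
    exact ha
  refine ⟨N, hN, hQN, ?_, hnab⟩
  have : Nontrivial N := N.nontrivial_iff_ne_bot.2 hN0
  refine ⟨fun K hK => ?_⟩
  by_contra hcon
  push Not at hcon
  obtain ⟨hK0, hKt⟩ := hcon
  -- a minimal normal subgroup of `N`
  let P' : Subgroup N → Prop := fun R => R.Normal ∧ R ≠ ⊥
  obtain ⟨R, hRK, hRm⟩ := (Set.toFinite {R : Subgroup N | P' R}).exists_le_minimal
    (show P' K from ⟨hK, hK0⟩)
  obtain ⟨hRn, hR0⟩ := hRm.prop
  have hRt : R ≠ ⊤ := fun h => hKt (top_le_iff.1 (h ▸ hRK))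
  -- conjugation by elements of `G`
  have hex : ∃ g : G, R.map (MulAut.conjNormal g : MulAut N).toMonoidHom ≠ R := by
    by_contra h
    push Not at h
    refine hRt ((Subgroup.map_injective N.subtype_injective) ?_)
    rw [← MonoidHom.range_eq_map, Subgroup.range_subtype]
    refine hmin _ ⟨fun x hx g => ?_⟩ (Subgroup.map_subtype_le R) fun h0 => hR0 ?_
    · obtain ⟨r, hr, rfl⟩ := hx
      refine ⟨MulAut.conjNormal g r, ?_, MulAut.conjNormal_apply g r⟩
      rw [SetLike.mem_coe, ← h g]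
      exact Subgroup.mem_map_of_mem _ hr
    · exact (Subgroup.map_eq_bot_iff_of_injective R N.subtype_injective).1 h0
  obtain ⟨g, hg⟩ := hex
  set R' := R.map (MulAut.conjNormal g : MulAut N).toMonoidHom with hR'
  have hR'n : R'.Normal := hRn.map _ (MulEquiv.surjective _)
  have hcard : Nat.card R' = Nat.card R :=
    (Nat.card_congr (R.equivMapOfInjective _ (MulEquiv.injective _)).toEquiv).symm
  have hinf : R ⊓ R' = ⊥ := by
    by_contra h
    have := hRm.le_of_le (y := R ⊓ R') ⟨inferInstance, h⟩ inf_le_left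
    exact hg (Subgroup.eq_of_le_of_card_ge (le_inf_iff.1 this).2 hcard.le).symm
  have hcomm : ∀ (a : R) (b : R'), Commute (a : N) (b : N) := fun a b =>
    Subgroup.commute_of_normal_of_disjoint R R' hRn hR'n (disjoint_iff.2 hinf) a b a.2 b.2
  have hprod : Nat.card R * Nat.card R' ∣ Nat.card G := by
    rw [← Nat.card_prod]
    refine (Subgroup.card_dvd_of_injective (MonoidHom.noncommCoprod R.subtype R'.subtype hcomm)
      ((MonoidHom.noncommCoprod_injective R.subtype R'.subtype hcomm).2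
        ⟨R.subtype_injective, R'.subtype_injective, ?_⟩)).trans
      (Subgroup.card_subgroup_dvd_card N)
    rw [Subgroup.range_subtype, Subgroup.range_subtype]
    exact disjoint_iff.2 hinf
  have heven : 2 ∣ Nat.card R := by
    by_contra h
    exact hR0 (D.eq_bot_of_odd_in N R (Nat.not_even_iff_odd.1 fun he => h (even_iff_two_dvd.1 he)))
  have h4 : ¬ 4 ∣ Nat.card R := fun h =>
    D.not_sixteen ((Nat.mul_dvd_mul h (hcard ▸ h)).trans hprod)
  -- the elements of odd order
  obtain ⟨s, hs, hs2⟩ : ∃ s ∈ R, orderOf s = 2 :=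
    CfsgLib.Invol.exists_invol_mem (even_iff_two_dvd.2 heven)
  obtain ⟨S2, hS2⟩ : ∃ S : Sylow 2 R, (⟨s, hs⟩ : R) ∈ S := by
    obtain ⟨S, hS⟩ := (isPGroup_zpowers_of_invol
      (x := (⟨s, hs⟩ : R)) (by rw [← Subgroup.orderOf_coe]; exact hs2)).exists_le_sylow
    exact ⟨S, hS (mem_zpowers _)⟩
  have hS2c : Nat.card (S2 : Subgroup R) = 2 := by
    rw [S2.card_eq_multiplicity]
    have h1 := (Nat.Prime.pow_dvd_iff_le_factorization Nat.prime_two Nat.card_pos.ne').1
      (show 2 ^ 1 ∣ Nat.card R by simpa using heven)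
    have h2 : ¬ 2 ≤ (Nat.card R).factorization 2 := fun h =>
      h4 ((Nat.Prime.pow_dvd_iff_le_factorization Nat.prime_two Nat.card_pos.ne').2 h)
    rw [show (Nat.card R).factorization 2 = 1 by omega, pow_one]
  have hsR : (⟨s, hs⟩ : R) * ⟨s, hs⟩ = 1 := Subtype.ext (invol_mul_self hs2)
  rcases CfsgLib.Transfer.thompson_transfer_involution S2 (Q := (⊥ : Subgroup R)) bot_le
      (by rw [Subgroup.relIndex_bot_left, hS2c]) (u := ⟨s, hs⟩) (by rw [pow_two, hsR]) hS2 with
    ⟨M₁, hM₁, hM₁i, -⟩ | ⟨a, ha⟩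
  · have hoddM : Odd (Nat.card M₁) := by
      have := M₁.card_mul_index
      rw [hM₁i] at this
      refine Nat.not_even_iff_odd.1 fun ⟨j, hj⟩ => h4 ⟨j, ?_⟩
      omega
    have hchar : ∀ x : R, x ∈ M₁ ↔ Odd (orderOf x) := by
      intro x
      constructor
      · exact fun hx => hoddM.of_dvd_nat
          (Subgroup.orderOf_coe (⟨x, hx⟩ : M₁) ▸ orderOf_dvd_natCard _)
      · intro hx
        obtain ⟨k, hk⟩ := hx
        have h2 : x ^ 2 ∈ M₁ := hM₁i ▸ Subgroup.pow_index_mem M₁ x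
        have : x = (x ^ 2) ^ (k + 1) := by
          rw [← pow_mul, show 2 * (k + 1) = orderOf x + 1 by omega, pow_succ, pow_orderOf_eq_one,
            one_mul]
        rw [this]
        exact pow_mem h2 _
    have : (M₁.map R.subtype).Normal := ⟨fun x hx n => by
      obtain ⟨m, hm, rfl⟩ := hx
      refine ⟨⟨n * m * n⁻¹, hRn.conj_mem m m.2 n⟩, (hchar _).2 ?_, rfl⟩
      rw [← Subgroup.orderOf_coe, orderOf_conj_eq, Subgroup.orderOf_coe]
      exact (hchar m).1 hm⟩
    have hbot := D.eq_bot_of_odd_in N (M₁.map R.subtype) (by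
      rwa [← Nat.card_congr (M₁.equivMapOfInjective _ R.subtype_injective).toEquiv])
    rw [Subgroup.map_eq_bot_iff_of_injective _ R.subtype_injective] at hbot
    have hR2 : Nat.card R = 2 := by
      have := M₁.card_mul_index
      rw [hM₁i, hbot, Subgroup.card_bot, one_mul] at this
      exact this.symm
    -- a central involution
    have hsc : ∀ n : N, n * s = s * n := by
      intro n
      obtain ⟨a, b, hab, huniv⟩ := Nat.card_eq_two_iff.1 hR2
      have hmem : ∀ x : R, x = 1 ∨ x = ⟨s, hs⟩ := fun x => by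
        have h0 : (1 : R) ≠ ⟨s, hs⟩ := fun h =>
          invol_ne_one hs2 (congrArg Subtype.val h).symm
        have h1 : (1 : R) ∈ ({a, b} : Set R) := huniv ▸ Set.mem_univ _
        have h2 : (⟨s, hs⟩ : R) ∈ ({a, b} : Set R) := huniv ▸ Set.mem_univ _
        have h3 : x ∈ ({a, b} : Set R) := huniv ▸ Set.mem_univ _
        simp only [Set.mem_insert_iff, Set.mem_singleton_iff] at h1 h2 h3
        grind
      rcases hmem ⟨n * s * n⁻¹, hRn.conj_mem s hs n⟩ with h | h
      · exact absurd ((conj_eq_one_iff).1 (congrArg Subtype.val h)) (invol_ne_one hs2)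
      · exact mul_inv_eq_iff_eq_mul.1 (congrArg Subtype.val h)
    refine hnab ⟨⟨fun x y => ?_⟩⟩
    have hZ : (Subgroup.center N).map N.subtype = N := by
      refine hmin _ ⟨fun z hz k => ?_⟩ (Subgroup.map_subtype_le _) fun h0 => ?_
      · obtain ⟨w, hw, rfl⟩ := hz
        refine ⟨MulAut.conjNormal k w, ?_, MulAut.conjNormal_apply k w⟩
        exact (Subgroup.Characteristic.fixed inferInstance (MulAut.conjNormal k : MulAut N)).ge hw
      · rw [Subgroup.map_eq_bot_iff_of_injective _ N.subtype_injective] at h0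
        refine invol_ne_one hs2 (Subgroup.mem_bot.1 (h0 ▸ ?_))
        exact Subgroup.mem_center_iff.2 hsc
    obtain ⟨w, hw, hwx⟩ := (hZ.ge x.2 : (x : G) ∈ (Subgroup.center N).map N.subtype)
    rw [← show w = x from Subtype.ext hwx]
    exact (Subgroup.mem_center_iff.1 hw y).symm
  · exact absurd (conj_eq_one_iff.1 (Subgroup.mem_bot.1 ha))
      (fun h => invol_ne_one hs2 (congrArg Subtype.val h))

end AltSetting

end CfsgLib.Invol.J1Cent
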