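import Mathlib.GroupTheory.SpecificGroups.Alternating
import Mathlib.GroupTheory.Commutator.Basic

/-!
For `n ≥ 6` an involution of the alternating group lies in the derived group of its centralizer.
-/

set_option autoImplicit false

namespace CfsgLib.Invol.J1Cent

open Equiv Subgroup
open scoped commutatorElement

variable {n : ℕ}

/-- Two transpositions as an even permutation. -/
def dbl {a b c d : Fin n} (hab : a ≠ b) (hcd : c ≠ d) : alternatingGroup (Fin n) :=
  ⟨swap a b * swap c d, Perm.mem_alternatingGroup.2 (by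
    rw [map_mul, Perm.sign_swap hab, Perm.sign_swap hcd]; rfl)⟩

theorem swap_mul_swap_apply {a b c d : Fin n} (hac : a ≠ c) (had : a ≠ d) (hbc : b ≠ c)
    (hbd : b ≠ d) (x : Fin n) :
    (swap a b * swap c d) x =
      if x = a then b else if x = b then a else if x = c then d else if x = d then c else x := by
  simp only [Perm.mul_apply, swap_apply_def]
  split_ifs <;> simp_all

theorem dbl_mem_centralizer (u : alternatingGroup (Fin n)) {a b c d : Fin n} (hab : a ≠ b)
    (hcd : c ≠ d)
    (h : (u : Perm (Fin n)) * (swap a b * swap c d) = swap a b * swap c d * u) :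
    dbl hab hcd ∈ centralizer ({u} : Set (alternatingGroup (Fin n))) :=
  mem_centralizer_singleton_iff.2 (Subtype.ext h.symm)

theorem commute_swap_mul_swap (u : Perm (Fin n)) {a b c d : Fin n}
    (h : swap (u a) (u b) * swap (u c) (u d) = swap a b * swap c d) :
    u * (swap a b * swap c d) = swap a b * swap c d * u := by
  rw [← mul_assoc, mul_swap_eq_swap_mul u, mul_assoc, mul_swap_eq_swap_mul u, ← mul_assoc, h]

theorem swap_mul_swap_comm {p q r t : Fin n} (h1 : p ≠ r) (h2 : p ≠ t) (h3 : q ≠ r) (h4 : q ≠ t) :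
    swap p q * swap r t = swap r t * swap p q := by
  rw [mul_swap_eq_swap_mul, swap_apply_of_ne_of_ne h1.symm h3.symm,
    swap_apply_of_ne_of_ne h2.symm h4.symm]

theorem swap_pair_inv {p q r t : Fin n} (h1 : p ≠ r) (h2 : p ≠ t) (h3 : q ≠ r) (h4 : q ≠ t) :
    (swap p q * swap r t)⁻¹ = swap p q * swap r t := by
  rw [mul_inv_rev, swap_inv, swap_inv, swap_mul_swap_comm h1 h2 h3 h4]

theorem commutator_dbl {a b c d e f : Fin n} (hab : a ≠ b) (hac : a ≠ c) (had : a ≠ d)
    (hbc : b ≠ c) (hbd : b ≠ d) (hcd : c ≠ d) (hea : e ≠ a) (heb : e ≠ b) (hec : e ≠ c)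
    (hed : e ≠ d) (hfa : f ≠ a) (hfb : f ≠ b) (hfc : f ≠ c) (hfd : f ≠ d) (hef : e ≠ f) :
    ⁅dbl hac hbd, dbl hab hef⁆ = dbl hab hcd := by
  refine Subtype.ext ?_
  simp only [commutatorElement_def, Subgroup.coe_mul, Subgroup.coe_inv, dbl,
    swap_pair_inv hea.symm hfa.symm heb.symm hfb.symm]
  set x : Perm (Fin n) := swap a c * swap b d with hx
  have hxa : x a = c := by
    rw [hx, Perm.mul_apply, swap_apply_of_ne_of_ne hab had, swap_apply_left]
  have hxb : x b = d := by
    rw [hx, Perm.mul_apply, swap_apply_left, swap_apply_of_ne_of_ne had.symm hcd.symm]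
  have hxe : x e = e := by
    rw [hx, Perm.mul_apply, swap_apply_of_ne_of_ne heb hed, swap_apply_of_ne_of_ne hea hec]
  have hxf : x f = f := by
    rw [hx, Perm.mul_apply, swap_apply_of_ne_of_ne hfb hfd, swap_apply_of_ne_of_ne hfa hfc]
  rw [← mul_assoc x (swap a b), mul_swap_eq_swap_mul x a b, hxa, hxb, mul_assoc (swap c d) x,
    mul_swap_eq_swap_mul x e f, hxe, hxf, ← mul_assoc (swap c d) (swap e f), mul_inv_cancel_right,
    swap_mul_swap_comm hea.symm hfa.symm heb.symm hfb.symm, mul_assoc (swap c d) (swap e f),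
    ← mul_assoc (swap e f) (swap e f), swap_mul_self, one_mul,
    swap_mul_swap_comm hac.symm hbc.symm had.symm hbd.symm]

theorem mem_commutator_centralizer (hn : 6 ≤ n) (u : alternatingGroup (Fin n)) (hu : u * u = 1) :
    u ∈ ⁅centralizer ({u} : Set (alternatingGroup (Fin n))),
      centralizer ({u} : Set (alternatingGroup (Fin n)))⁆ := by
  set K := ⁅centralizer ({u} : Set (alternatingGroup (Fin n))),
      centralizer ({u} : Set (alternatingGroup (Fin n)))⁆ with hK
  have huu : ∀ x, (u : Perm (Fin n)) ((u : Perm (Fin n)) x) = x := fun x =>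
    congrArg (fun p : alternatingGroup (Fin n) => (p : Perm (Fin n)) x) hu
  suffices h : ∀ k : ℕ, ∀ w : alternatingGroup (Fin n), (w : Perm (Fin n)).support.card ≤ k →
      (∀ x, (w : Perm (Fin n)) x ≠ x → (w : Perm (Fin n)) x = (u : Perm (Fin n)) x) → w ∈ K from
    h _ u le_rfl fun _ _ => rfl
  intro k
  induction k with
  | zero =>
    intro w hw _
    have : w = 1 := Subtype.ext (Perm.support_eq_empty_iff.1
      (Finset.card_eq_zero.1 (Nat.le_zero.1 hw)))
    exact this ▸ one_mem _
  | succ k ih =>
    intro w hw hag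
    by_cases h1 : w = 1
    · exact h1 ▸ one_mem _
    obtain ⟨a, ha⟩ : ∃ a, (w : Perm (Fin n)) a ≠ a := by
      by_contra hc
      push Not at hc
      exact h1 (Subtype.ext (Perm.ext hc))
    set U := (u : Perm (Fin n)) with hU
    set W := (w : Perm (Fin n)) with hW
    set b := U a with hb
    have hwa : W a = b := hag a ha
    have hab : a ≠ b := fun h => ha (hwa.trans h.symm)
    have hwb' : W b ≠ b := fun h => hab (W.injective (hwa.trans h.symm))
    have hwb : W b = a := (hag b hwb').trans (huu a)
    obtain ⟨c, hc, hca, hcb⟩ : ∃ c, W c ≠ c ∧ c ≠ a ∧ c ≠ b := by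
      by_contra hcon
      push Not at hcon
      have hsw : W = swap a b := by
        ext x
        by_cases hx : x = a
        · subst hx; rw [swap_apply_left, hwa]
        by_cases hx' : x = b
        · subst hx'; rw [swap_apply_right, hwb]
        rw [swap_apply_of_ne_of_ne hx hx']
        by_contra hmove
        exact hx' (hcon x (fun h => hmove (congrArg _ h)) hx)
      have := Perm.mem_alternatingGroup.1 w.2
      rw [← hW, hsw, Perm.sign_swap hab] at this
      exact absurd this (by decide)
    set d := U c with hd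
    have hwc : W c = d := hag c hc
    have hcd : c ≠ d := fun h => hc (hwc.trans h.symm)
    have hwd' : W d ≠ d := fun h => hcd (W.injective (hwc.trans h.symm))
    have hwd : W d = c := (hag d hwd').trans (huu c)
    have hac := hca.symm
    have hbc := hcb.symm
    have had : a ≠ d := fun h => hcb (by rw [hb, h, hd, huu])
    have hbd : b ≠ d := fun h => hca (U.injective (show U c = U a from h.symm))
    -- a further invariant pair
    obtain ⟨e, f, hef, ⟨he1, he2, he3, he4⟩, ⟨hf1, hf2, hf3, hf4⟩, hpair⟩ :
        ∃ e f, e ≠ f ∧ (e ≠ a ∧ e ≠ b ∧ e ≠ c ∧ e ≠ d) ∧ (f ≠ a ∧ f ≠ b ∧ f ≠ c ∧ f ≠ d) ∧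
          ((U e = f ∧ U f = e) ∨ (U e = e ∧ U f = f)) := by
      set R : Finset (Fin n) := Finset.univ \ {a, b, c, d} with hR
      have hRc : 2 ≤ R.card := by
        rw [hR, Finset.card_univ_diff, Fintype.card_fin]
        have := Finset.card_le_four (a := a) (b := b) (c := c) (d := d)
        omega
      have hmem : ∀ x ∈ R, x ≠ a ∧ x ≠ b ∧ x ≠ c ∧ x ≠ d := fun x hx => by
        simpa [hR] using hx
      by_cases hmv : ∃ e ∈ R, U e ≠ e
      · obtain ⟨e, heR, he⟩ := hmv
        obtain ⟨h1, h2, h3, h4⟩ := hmem e heR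
        refine ⟨e, U e, he.symm, ⟨h1, h2, h3, h4⟩, ⟨?_, ?_, ?_, ?_⟩, Or.inl ⟨rfl, huu e⟩⟩ <;>
          intro h <;> replace h := congrArg U h <;> simp only [huu] at h
        · exact h2 h
        · exact h1 (h.trans (by rw [hb, huu]))
        · exact h4 h
        · exact h3 (h.trans (by rw [hd, huu]))
      · push Not at hmv
        obtain ⟨e, he, f, hf, hef⟩ := Finset.one_lt_card.1 hRc
        exact ⟨e, f, hef, hmem e he, hmem f hf, Or.inr ⟨hmv e he, hmv f hf⟩⟩
    have hUb : U b = a := huu a
    have hUd : U d = c := huu c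
    have hx : dbl hac hbd ∈ centralizer ({u} : Set (alternatingGroup (Fin n))) := by
      refine dbl_mem_centralizer u hac hbd (commute_swap_mul_swap _ ?_)
      rw [← hU, hUb, hUd, ← hb, ← hd, swap_mul_swap_comm hab.symm hbc had.symm hcd.symm]
    have hy : dbl hab hef ∈ centralizer ({u} : Set (alternatingGroup (Fin n))) := by
      refine dbl_mem_centralizer u hab hef (commute_swap_mul_swap _ ?_)
      rw [← hU, hUb, ← hb, swap_comm b a]
      rcases hpair with ⟨p, q⟩ | ⟨p, q⟩ <;> rw [p, q]
      rw [swap_comm f e]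
    have hv : dbl hab hcd ∈ K := by
      rw [← commutator_dbl hab hac had hbc hbd hcd he1 he2 he3 he4 hf1 hf2 hf3 hf4 hef]
      exact commutator_mem_commutator hx hy
    have hstep : dbl hab hcd * w ∈ K := by
      have hval : ∀ x, ((dbl hab hcd * w : alternatingGroup (Fin n)) : Perm (Fin n)) x =
          if x = a ∨ x = b ∨ x = c ∨ x = d then x else W x := by
        intro x
        show (swap a b * swap c d) (W x) = _
        split_ifs with h
        · rw [swap_mul_swap_apply hac had hbc hbd]
          rcases h with h | h | h | h <;> rw [h]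
          · simp [hwa, hab.symm]
          · simp [hwb]
          · simp [hwc, had.symm, hbd.symm, hcd.symm]
          · simp [hwd, hac.symm, hbc.symm]
        · push Not at h
          rw [swap_mul_swap_apply hac had hbc hbd]
          have k1 : W x ≠ a := fun e => h.2.1 (W.injective (e.trans hwb.symm))
          have k2 : W x ≠ b := fun e => h.1 (W.injective (e.trans hwa.symm))
          have k3 : W x ≠ c := fun e => h.2.2.2 (W.injective (e.trans hwd.symm))
          have k4 : W x ≠ d := fun e => h.2.2.1 (W.injective (e.trans hwc.symm))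
          simp [k1, k2, k3, k4]
      refine ih _ (Nat.le_of_lt_succ (lt_of_lt_of_le (Finset.card_lt_card ?_) hw)) fun x hx' => ?_
      · refine Finset.ssubset_iff_subset_ne.2 ⟨fun x hx' => ?_, fun he => ?_⟩
        · rw [Perm.mem_support, hval] at hx'
          rw [Perm.mem_support]
          split_ifs at hx' with h
          · exact absurd rfl hx'
          · exact hx'
        · have : a ∈ W.support := Perm.mem_support.2 ha
          rw [← he, Perm.mem_support, hval, if_pos (Or.inl rfl)] at this
          exact this rfl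
      · rw [hval] at hx' ⊢
        split_ifs at hx' ⊢ with h
        · exact absurd rfl hx'
        · exact hag x hx'
    have := mul_mem (inv_mem hv) hstep
    rwa [inv_mul_cancel_left] at this

end CfsgLib.Invol.J1Cent
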