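import Cfsg.Agent.Lib.Invol.JankoOneAltCore
import Cfsg.Agent.Lib.Invol.JankoOneAltPerm
import Mathlib.Algebra.Group.Subgroup.Pointwise

/-!
Transfer for a centralizer `⟨J⟩ × Aₘ`: the involution is fused into the second factor, so `m` is
`4` or `5`.
-/

set_option autoImplicit false

namespace CfsgLib.Invol.J1Cent

open Cfsg Subgroup
open scoped commutatorElement

universe u

variable {G : Type u} [Group G] [Finite G] {J : G} {T : Subgroup G}

theorem eq_one_or_eq (hJ : orderOf J = 2) {a : G} (ha : a ∈ zpowers J) : a = 1 ∨ a = J := by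
  classical
  obtain ⟨k, hk, rfl⟩ := Finset.mem_image.1 (mem_zpowers_iff_mem_range_orderOf.1 ha)
  rw [Finset.mem_range, hJ] at hk
  interval_cases k <;> simp

theorem not_mem (hJ : orderOf J = 2)
    (hd : IsInternalDirectProduct (zpowers J) T (centralizer ({J} : Set G))) : J ∉ T := fun h =>
  invol_ne_one hJ (Subgroup.mem_bot.1 (hd.2.2.2.1 ▸ ⟨mem_zpowers J, h⟩))

theorem mem_or_mul_mem (hJ : orderOf J = 2)
    (hd : IsInternalDirectProduct (zpowers J) T (centralizer ({J} : Set G))) {b : G}
    (hb : b ∈ centralizer ({J} : Set G)) : b ∈ T ∨ b * J ∈ T := by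
  obtain ⟨-, -, hcomm, -, hsup⟩ := hd
  rw [← hsup] at hb
  have hnorm : T ≤ normalizer ((zpowers J : Subgroup G) : Set G) := fun t ht => by
    refine mem_normalizer_iff.2 fun x => ⟨fun hx => ?_, fun hx => ?_⟩
    · rwa [← hcomm x hx t ht, mul_inv_cancel_right]
    · have := hcomm _ hx t ht
      have e : x = t * x * t⁻¹ := by
        calc x = t⁻¹ * (t * x * t⁻¹ * t) := by group
          _ = t⁻¹ * (t * (t * x * t⁻¹)) := by rw [this]
          _ = t * x * t⁻¹ := by group
      rwa [e]
  have hb' : b ∈ ((zpowers J ⊔ T : Subgroup G) : Set G) := hb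
  rw [Subgroup.coe_mul_of_right_le_normalizer_left _ _ hnorm] at hb'
  obtain ⟨a, ha, t, ht, rfl⟩ := hb'
  rcases eq_one_or_eq hJ ha with rfl | rfl
  · exact Or.inl (by simpa using ht)
  · refine Or.inr ?_
    show a * t * a ∈ T
    rw [hcomm a ha t ht, mul_assoc, invol_mul_self hJ, mul_one]
    exact ht

/-- `J` is fused into the second factor. -/
theorem exists_fused (h2 : ∀ N : Subgroup G, N.Normal → N.index ≠ 2)
    (hJ : IsTwoCentralInvolution J)
    (hd : IsInternalDirectProduct (zpowers J) T (centralizer ({J} : Set G))) :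
    ∃ u ∈ T, orderOf u = 2 ∧ IsConj J u := by
  have : Fact (Nat.Prime 2) := ⟨Nat.prime_two⟩
  obtain ⟨h2J, P, hJP, hP⟩ := hJ
  have hi : ((P : Subgroup G) ⊓ T).relIndex (P : Subgroup G) = 2 := by
    rw [inf_relIndex_left, Subgroup.relIndex, Subgroup.index_eq_two_iff]
    refine ⟨⟨J, hJP⟩, fun b => ?_⟩
    rw [mem_subgroupOf, mem_subgroupOf, Subgroup.coe_mul]
    rcases mem_or_mul_mem h2J hd (mem_centralizer_singleton_iff.2 (hP b b.2)) with h | h
    · refine Or.inr ⟨h, fun h' => not_mem h2J hd ?_⟩
      have := mul_mem (inv_mem h) h'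
      rwa [inv_mul_cancel_left] at this
    · refine Or.inl ⟨h, fun h' => not_mem h2J hd ?_⟩
      have := mul_mem (inv_mem h') h
      rwa [inv_mul_cancel_left] at this
  rcases CfsgLib.Transfer.thompson_transfer_involution P inf_le_left hi
      (u := J) (by rw [pow_two, invol_mul_self h2J]) hJP with ⟨M, hM, hMi, -⟩ | ⟨g, hg⟩
  · exact absurd hMi (h2 M hM)
  · exact ⟨_, hg.2, by rw [orderOf_conj_eq]; exact h2J, isConj_iff.2 ⟨g, rfl⟩⟩

/-- The alternating degree is four or five. -/
theorem degree_cases (h2 : ∀ N : Subgroup G, N.Normal → N.index ≠ 2)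
    (hJ : IsTwoCentralInvolution J) {m : ℕ} (e : T ≃* alternatingGroup (Fin m))
    (hd : IsInternalDirectProduct (zpowers J) T (centralizer ({J} : Set G))) :
    m = 4 ∨ m = 5 := by
  obtain ⟨u, huT, hu2, hconj⟩ := exists_fused h2 hJ hd
  by_contra hm
  push Not at hm
  rcases le_or_gt m 3 with h3 | h6
  · have hc : Nat.card T = Nat.card (alternatingGroup (Fin m)) := Nat.card_congr e.toEquiv
    have heven := even_card_of_invol_mem hu2 huT
    rw [hc] at heven
    interval_cases m
    all_goals
      first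
      | (rw [nat_card_alternatingGroup, Nat.card_eq_fintype_card, Fintype.card_fin] at heven
         revert heven
         decide)
      | (have : Subsingleton (alternatingGroup (Fin 0)) := inferInstance
         rw [Nat.card_of_subsingleton (1 : alternatingGroup (Fin 0))] at heven
         exact absurd heven (by decide))
      | (have : Subsingleton (alternatingGroup (Fin 1)) := inferInstance
         rw [Nat.card_of_subsingleton (1 : alternatingGroup (Fin 1))] at heven
         exact absurd heven (by decide))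
  · -- the involutions of `A_m` lie in the derived groups of their centralizers
    have hmem := mem_commutator_centralizer (show 6 ≤ m by omega) (e ⟨u, huT⟩)
      (by rw [← map_mul, show (⟨u, huT⟩ : T) * ⟨u, huT⟩ = 1 from Subtype.ext (invol_mul_self hu2),
        map_one])
    obtain ⟨g, hg⟩ := isConj_iff.1 hconj
    let f : alternatingGroup (Fin m) →* G :=
      ((MulAut.conj g⁻¹).toMonoidHom.comp T.subtype).comp e.symm.toMonoidHom
    have hf : f (e ⟨u, huT⟩) = J := by
      show g⁻¹ * ((e.symm (e ⟨u, huT⟩) : T) : G) * g⁻¹⁻¹ = J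
      rw [e.symm_apply_apply]
      show g⁻¹ * u * g⁻¹⁻¹ = J
      rw [← hg]
      group
    have hle : (centralizer ({e ⟨u, huT⟩} : Set (alternatingGroup (Fin m)))).map f ≤
        centralizer ({J} : Set G) := by
      rintro _ ⟨x, hx, rfl⟩
      rw [mem_centralizer_singleton_iff, ← hf, ← map_mul, ← map_mul,
        mem_centralizer_singleton_iff.1 hx]
    have hJC : J ∈ ⁅centralizer ({J} : Set G), centralizer ({J} : Set G)⁆ := by
      have := Subgroup.mem_map_of_mem f hmem
      rw [Subgroup.map_commutator, hf] at this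
      exact commutator_mono hle hle this
    refine not_mem hJ.1 hd ((commutator_le.2 fun a ha b hb => ?_) hJC)
    have hsplit : ∀ c ∈ centralizer ({J} : Set G), ∃ k ∈ zpowers J, ∃ t ∈ T, c = k * t := by
      intro c hc
      rcases mem_or_mul_mem hJ.1 hd hc with h | h
      · exact ⟨1, one_mem _, c, h, (one_mul c).symm⟩
      · refine ⟨J, mem_zpowers J, _, h, ?_⟩
        rw [hd.2.2.1 J (mem_zpowers J) _ h, mul_assoc, invol_mul_self hJ.1, mul_one]
    have hcent : ∀ k ∈ zpowers J, ∀ c ∈ centralizer ({J} : Set G), Commute k c := by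
      intro k hk c hc
      rcases eq_one_or_eq hJ.1 hk with rfl | rfl
      · exact Commute.one_left c
      · exact (mem_centralizer_singleton_iff.1 hc).symm
    obtain ⟨k, hk, t, ht, rfl⟩ := hsplit a ha
    obtain ⟨l, hl, s, hs, rfl⟩ := hsplit b hb
    have hred : ⁅k * t, l * s⁆ = ⁅t, s⁆ := by
      have c1 : Commute k (t * (l * s) * t⁻¹) := hcent k hk _ (mul_mem (mul_mem (hd.2.1 ht) hb)
        (inv_mem (hd.2.1 ht)))
      have c2 : Commute l (t : G) := hcent l hl _ (hd.2.1 ht)
      calc ⁅k * t, l * s⁆ = k * (t * (l * s) * t⁻¹) * k⁻¹ * (l * s)⁻¹ := by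
            rw [commutatorElement_def]; group
        _ = t * (l * s) * t⁻¹ * (l * s)⁻¹ := by rw [c1.eq, mul_inv_cancel_right]
        _ = l * t * s * t⁻¹ * (l * s)⁻¹ := by rw [← mul_assoc t l s, ← c2.eq]
        _ = l * ⁅t, s⁆ * l⁻¹ := by rw [commutatorElement_def]; group
        _ = ⁅t, s⁆ := by
            rw [(hcent l hl _ (hd.2.1 (commutator_mem_self ht hs))).eq, mul_inv_cancel_right]
    rw [hred]
    exact commutator_mem_self ht hs
where
  commutator_mem_self {t s : G} (ht : t ∈ T) (hs : s ∈ T) : ⁅t, s⁆ ∈ T := by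
    rw [commutatorElement_def]
    exact mul_mem (mul_mem (mul_mem ht hs) (inv_mem ht)) (inv_mem hs)

end CfsgLib.Invol.J1Cent
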