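import Cfsg.Agent.Lib.Invol.JankoOneAltFusion
import Cfsg.Agent.Lib.KnownC.AutPSLOut
import Cfsg.Agent.Lib.KnownC.FieldAut
import Cfsg.Agent.Lib.Geom.PairStab
import Cfsg.Agent.Lib.Classical.PSLTwoPerm
import Cfsg.Agent.S3189
import Cfsg.Agent.S1230

/-!
The two cases of a centralizer `⟨J⟩ × Aₘ`: `Aut PSL₂(8)` and groups of Janko's type.
-/

set_option autoImplicit false
set_option synthInstance.maxSize 8000

namespace CfsgLib.Invol.J1Cent

open Cfsg Subgroup

universe u

variable {G : Type u} [Group G] [Finite G]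

/-- The homomorphism of the cyclic group of order two given by an involution. -/
def twoHom {J : G} (h : J * J = 1) : Multiplicative (ZMod 2) →* G where
  toFun a := if a = 1 then 1 else J
  map_one' := if_pos rfl
  map_mul' a b := by
    have key : ∀ a b : Multiplicative (ZMod 2), (a = 1 ∧ a * b = b) ∨ (b = 1 ∧ a * b = a) ∨
        (a ≠ 1 ∧ b ≠ 1 ∧ a * b = 1) := by decide
    rcases key a b with ⟨h1, h2⟩ | ⟨h1, h2⟩ | ⟨h1, h2, h3⟩
    · rw [h2, if_pos h1, one_mul]
    · rw [h2, if_pos h1, mul_one]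
    · rw [h3, if_pos rfl, if_neg h1, if_neg h2, h]

/-- The setting given by an internal direct product. -/
theorem exists_setting {J : G} {T : Subgroup G} {m : ℕ}
    (F : Facts (Multiplicative (ZMod 2) × alternatingGroup (Fin m)))
    (hF : ∀ x, F.fst x = x.1) (hFe : F.emb e0 = (Multiplicative.ofAdd 1, 1))
    (h2 : ∀ N : Subgroup G, N.Normal → N.index ≠ 2) (hJ : IsTwoCentralInvolution J)
    (e : T ≃* alternatingGroup (Fin m))
    (hd : IsInternalDirectProduct (zpowers J) T (centralizer ({J} : Set G))) :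
    ∃ D : AltSetting G F, D.J = J := by
  obtain ⟨u, huT, hu2, hconj⟩ := exists_fused h2 hJ hd
  have hTc : ∀ t ∈ T, t * J = J * t := fun t ht =>
    (hd.2.2.1 J (mem_zpowers J) t ht).symm
  have hcomm : ∀ (a : Multiplicative (ZMod 2)) (b : alternatingGroup (Fin m)),
      Commute (twoHom (invol_mul_self hJ.1) a) ((T.subtype.comp e.symm.toMonoidHom) b) := by
    intro a b
    show (if a = 1 then 1 else J) * ((e.symm b : T) : G) = _
    split_ifs with h
    · simp [twoHom, h]
    · simp only [twoHom, MonoidHom.coe_mk, OneHom.coe_mk, if_neg h]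
      exact (hTc _ (e.symm b).2).symm
  let ψ := MonoidHom.noncommCoprod (twoHom (invol_mul_self hJ.1)) (T.subtype.comp e.symm.toMonoidHom)
    hcomm
  have happ : ∀ a b, ψ (a, b) = (if a = 1 then 1 else J) * ((e.symm b : T) : G) := fun a b => rfl
  refine ⟨⟨J, ψ, ?_, ?_, ?_, (1, e ⟨u, huT⟩), ?_, ?_, ?_, ?_, hJ⟩, rfl⟩
  · refine (injective_iff_map_eq_one ψ).2 fun ⟨a, b⟩ h => ?_
    rw [happ] at h
    by_cases ha : a = 1
    · rw [if_pos ha, one_mul] at h
      have : b = 1 := e.symm.injective ((Subtype.ext h : e.symm b = 1).trans (map_one _).symm)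
      rw [ha, this]; rfl
    · rw [if_neg ha] at h
      exact absurd (eq_inv_of_mul_eq_one_left h ▸ inv_mem (e.symm b).2) (not_mem hJ.1 hd)
  · rw [hFe, happ, if_neg (by decide), map_one, Subgroup.coe_one, mul_one]
  · intro g hg
    rcases mem_or_mul_mem hJ.1 hd (mem_centralizer_singleton_iff.2 hg) with h | h
    · exact ⟨(1, e ⟨g, h⟩), by rw [happ, if_pos rfl, one_mul, e.symm_apply_apply]⟩
    · refine ⟨(Multiplicative.ofAdd 1, e ⟨g * J, h⟩), ?_⟩
      rw [happ, if_neg (by decide), e.symm_apply_apply]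
      show J * (g * J) = g
      rw [hg, ← mul_assoc, invol_mul_self hJ.1, one_mul]
  · refine Prod.ext (one_mul 1) ?_
    show e ⟨u, huT⟩ * e ⟨u, huT⟩ = 1
    rw [← map_mul, ← map_one e]
    exact congrArg e (Subtype.ext (invol_mul_self hu2))
  · intro h
    have h' := congrArg Prod.snd h
    exact invol_ne_one hu2 (congrArg Subtype.val (e.map_eq_one_iff.1 h'))
  · exact hF _
  · rw [happ, if_pos rfl, one_mul, e.symm_apply_apply]
    exact hconj

namespace AltSetting

/-- A normal subgroup containing the whole centralizer in which all involutions are conjugate is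
everything. -/
theorem five {J : G} (D : AltSetting G factsFive) (hDJ : D.J = J) (hns : ¬ Group.IsSolvable G) :
    IsSimpleGroup G ∧ Nonempty (centralizer ({J} : Set G) ≃* Mod) := by
  subst hDJ
  obtain ⟨N, hN, hQN, hsimp, -⟩ := D.exists_simple hns
  have hrange : D.ι.range = centralizer ({D.J} : Set G) := by
    ext g
    rw [mem_centralizer_singleton_iff]
    exact ⟨by rintro ⟨m, rfl⟩; exact D.comm_J m, fun h => D.cen g h⟩
  let e : centralizer ({D.J} : Set G) ≃* Mod :=
    ((MonoidHom.ofInjective D.inj).trans (MulEquiv.subgroupCongr hrange)).symm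
  have hK : N.comap D.ι = ⊤ := by
    refine mod_eq_top _ (hN.comap _) fun w => ?_
    exact hQN (D.mem_Q.2 ⟨w, rfl⟩)
  have hCN : centralizer ({D.J} : Set G) ≤ N := by
    rw [← hrange]
    rintro _ ⟨m, rfl⟩
    exact (hK ▸ Subgroup.mem_top m : m ∈ N.comap D.ι)
  have hJN : D.J ∈ N := hCN (mem_centralizer_singleton_iff.2 rfl)
  let jN : N := ⟨D.J, hJN⟩
  let eN : centralizer ({jN} : Set N) ≃* Mod :=
    ({ toFun := fun x => ⟨(x : N), mem_centralizer_singleton_iff.2
          (congrArg Subtype.val (mem_centralizer_singleton_iff.1 x.2))⟩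
       invFun := fun x => ⟨⟨x, hCN x.2⟩, mem_centralizer_singleton_iff.2
          (Subtype.ext (mem_centralizer_singleton_iff.1 x.2))⟩
       left_inv := fun x => rfl
       right_inv := fun x => rfl
       map_mul' := fun x y => rfl } : centralizer ({jN} : Set N) ≃* centralizer ({D.J} : Set G)).trans e
  have htN : IsTwoCentralInvolution jN := by
    have : Fact (Nat.Prime 2) := ⟨Nat.prime_two⟩
    refine ⟨by rw [← Subgroup.orderOf_coe]; exact D.hJ.1, D.Q.subtype hQN, ?_, fun x hx => ?_⟩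
    · exact D.mem_Q.2 ⟨e0, D.emb8_e0⟩
    · exact Subtype.ext (D.Q_comm _ hx _ (D.mem_Q.2 ⟨e0, D.emb8_e0⟩))
  obtain ⟨E, hE⟩ := exists_data jN htN eN
  have htop : N = ⊤ := by
    refine eq_top_iff.2 fun g _ => ?_
    have hg : g * D.J * g⁻¹ ∈ N := hN.conj_mem _ hJN g
    obtain ⟨k, hk⟩ := isConj_iff.1 (E.hconj ⟨_, hg⟩
      (by rw [← Subgroup.orderOf_coe]; exact (orderOf_conj_eq g D.J).trans D.hJ.1))
    rw [hE] at hk
    have hk' : (k : G) * D.J * (k : G)⁻¹ = g * D.J * g⁻¹ := congrArg Subtype.val hk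
    have : (k : G)⁻¹ * g ∈ N := hCN (mem_centralizer_singleton_iff.2 (by
      calc (k : G)⁻¹ * g * D.J = (k : G)⁻¹ * (g * D.J * g⁻¹) * g := by group
        _ = (k : G)⁻¹ * ((k : G) * D.J * (k : G)⁻¹) * g := by rw [hk']
        _ = D.J * ((k : G)⁻¹ * g) := by group))
    have := mul_mem k.2 this
    rwa [mul_inv_cancel_left] at this
  have : IsSimpleGroup (⊤ : Subgroup G) := htop ▸ hsimp
  have : Nontrivial G := ⟨⟨D.J, 1, invol_ne_one D.hJ.1⟩⟩
  exact ⟨IsSimpleGroup.isSimpleGroup_of_surjective (Subgroup.topEquiv : (⊤ : Subgroup G) ≃* G).toMonoidHom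
    (MulEquiv.surjective _), ⟨e⟩⟩

theorem embFour_not_surjective : ∃ m : ModFour, ∀ w, embFour w ≠ m := by decide +kernel

theorem isSolvable_modFour : Group.IsSolvable ModFour := by
  have : embFour.range.Normal := ⟨by
    rintro _ ⟨w, rfl⟩ r
    obtain ⟨w', hw'⟩ := embFour_normal r w
    exact ⟨w', hw'.symm⟩⟩
  refine isSolvable_of_squarefree_index embFour.range ?_ ?_
  · rintro _ ⟨v, rfl⟩ _ ⟨w, rfl⟩
    rw [← map_mul, ← map_mul, mul_comm]
  · have h := embFour.range.card_mul_index
    rw [← Nat.card_congr (MonoidHom.ofInjective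
      (show Function.Injective embFour from factsFour.inj)).toEquiv, card_modFour,
      Nat.card_eq_fintype_card, show Fintype.card E8 = 8 from rfl] at h
    rw [show embFour.range.index = 3 by omega]
    exact Nat.prime_three.squarefree

/-- The solvable case. -/
theorem four (D : AltSetting G factsFour) (hns : ¬ Group.IsSolvable G) :
    ∃ (F : Type) (_ : Field F) (_ : Fintype F), Fintype.card F = 8 ∧
      Nonempty (G ≃* MulAut (Matrix.ProjectiveSpecialLinearGroup (Fin 2) F)) := by
  classical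
  have : Fact (Nat.Prime 2) := ⟨Nat.prime_two⟩
  obtain ⟨N, hN, hQN, hsimp, hnab⟩ := D.exists_simple hns
  have hsolC : Group.IsSolvable D.ι.range := by
    have := isSolvable_modFour
    exact solvable_of_surjective D.ι.rangeRestrict_surjective
  let S : Sylow 2 N := D.Q.subtype hQN
  have hS : ∀ x : N, x ∈ (S : Subgroup N) ↔ (x : G) ∈ (D.Q : Subgroup G) := fun x => Iff.rfl
  have hS8 : Nat.card (S : Subgroup N) = 8 := by
    rw [show (S : Subgroup N) = (D.Q : Subgroup G).subgroupOf N from rfl,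
      Nat.card_congr (subgroupOfEquivOfLe hQN).toEquiv, D.card_Q]
  -- every involution of `N` is conjugate in `G` to `J`
  have hconjN : ∀ x : N, orderOf x = 2 → ∃ g : G, g * D.J * g⁻¹ = x := fun x hx =>
    isConj_iff.1 (D.hconj x (by rw [Subgroup.orderOf_coe]; exact hx))
  have hback : ∀ x : N, ∀ g : G, g * D.J * g⁻¹ = x →
      ∀ c ∈ centralizer ({x} : Set N), g⁻¹ * (c : G) * g ∈ D.ι.range := by
    intro x g hg c hc
    have h : (c : G) * (g * D.J * g⁻¹) = g * D.J * g⁻¹ * c := by
      rw [hg]; exact congrArg Subtype.val (mem_centralizer_singleton_iff.1 hc)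
    refine D.cen _ ?_
    calc g⁻¹ * (c : G) * g * D.J = g⁻¹ * ((c : G) * (g * D.J * g⁻¹)) * g := by group
      _ = g⁻¹ * (g * D.J * g⁻¹ * c) * g := by rw [h]
      _ = D.J * (g⁻¹ * (c : G) * g) := by group
  have hsol : ∀ t : N, orderOf t = 2 → Group.IsSolvable ↥(centralizer ({t} : Set N)) := by
    intro t ht
    obtain ⟨g, hg⟩ := hconjN t ht
    let f : ↥(centralizer ({t} : Set N)) →* D.ι.range :=
      { toFun := fun c => ⟨g⁻¹ * ((c : N) : G) * g, hback t g hg c c.2⟩
        map_one' := Subtype.ext (by show g⁻¹ * 1 * g = 1; group)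
        map_mul' := fun a b => Subtype.ext (by
          show g⁻¹ * (((a : N) : G) * ((b : N) : G)) * g =
            g⁻¹ * ((a : N) : G) * g * (g⁻¹ * ((b : N) : G) * g)
          group) }
    refine solvable_of_solvable_injective (f := f) fun a b h => ?_
    exact Subtype.ext (Subtype.ext (mul_left_cancel (mul_right_cancel (congrArg Subtype.val h :))))
  have hel : IsElementaryAbelian 2 (S : Subgroup N) :=
    ⟨⟨⟨fun a b => Subtype.ext (Subtype.ext (D.Q_comm _ a.2 _ b.2))⟩⟩, fun a ha => by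
      rw [pow_two]; exact Subtype.ext (D.Q_sq ha)⟩
  have h7 := Cfsg.Agent.S3189.result hnab S hel hS8 hsol
  -- the centralizer of `J` in `N` is the Sylow subgroup
  have hNC : ∀ c ∈ D.ι.range, c ∈ N → c ∈ (D.Q : Subgroup G) := by
    let K : Subgroup N := D.ι.range.subgroupOf N
    have hSK : (S : Subgroup N) ≤ K := fun x hx => by
      obtain ⟨w, hw⟩ := D.mem_Q.1 hx
      exact ⟨embFour w, hw⟩
    have hKN : K ≤ normalizer ((S : Subgroup N) : Set N) := fun k hk => by
      obtain ⟨m, hm⟩ := hk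
      have key : ∀ (r : ModFour) (x : G), x ∈ (D.Q : Subgroup G) →
          D.ι r * x * (D.ι r)⁻¹ ∈ (D.Q : Subgroup G) := by
        intro r x hx
        obtain ⟨w, rfl⟩ := D.mem_Q.1 hx
        obtain ⟨w', hw'⟩ := embFour_normal r w
        refine D.mem_Q.2 ⟨w', ?_⟩
        show D.ι (embFour w') = _
        rw [← hw', map_mul, map_mul, map_inv]
        rfl
      refine mem_normalizer_iff.2 fun x => ⟨fun hx => ?_, fun hx => ?_⟩
      · have := key m x hx
        rwa [hm] at this
      · have := key m⁻¹ _ hx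
        rw [map_inv, hm] at this
        refine (hS x).2 ?_
        simpa [mul_assoc] using this
    have hcen : (centralizer ((S : Subgroup N) : Set N) : Subgroup N) = (S : Subgroup N) := by
      refine le_antisymm (fun x hx => ?_) (fun x hx => ?_)
      · have hx' : ∀ w : E8, (x : G) * D.emb8 w = D.emb8 w * x := fun w =>
          congrArg Subtype.val (mem_centralizer_iff.1 hx ⟨D.emb8 w, hQN (D.mem_Q.2 ⟨w, rfl⟩)⟩
            (D.mem_Q.2 ⟨w, rfl⟩)).symm
        obtain ⟨m, hm⟩ := D.cen x (by rw [← D.emb8_e0]; exact hx' e0)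
        obtain ⟨w, rfl⟩ := embFour_centralizer m fun w => D.inj (by
          rw [map_mul, map_mul, hm]; exact hx' w)
        exact D.mem_Q.2 ⟨w, hm⟩
      · exact mem_centralizer_iff.2 fun y hy => Subtype.ext (D.Q_comm _ hy _ hx)
    rw [hcen] at h7
    have hd7 : (S : Subgroup N).relIndex K ∣ 7 := by
      rw [← h7, ← relIndex_mul_relIndex _ _ _ hSK hKN]
      exact dvd_mul_right _ _
    have hd3 : (S : Subgroup N).relIndex K ∣ 3 := by
      have hc : Nat.card D.ι.range = 24 := by
        rw [← Nat.card_congr (MonoidHom.ofInjective D.inj).toEquiv, card_modFour]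
      have h1 : Nat.card K ∣ 24 := hc ▸
        Subgroup.card_dvd_of_injective (N.subtype.subgroupComap D.ι.range) (fun a b h =>
          Subtype.ext (Subtype.ext (congrArg (fun z : D.ι.range => (z : G)) h :)))
      have h2 : Nat.card (S : Subgroup N) * (S : Subgroup N).relIndex K = Nat.card K := by
        rw [← relIndex_bot_left, relIndex_mul_relIndex _ _ _ bot_le hSK, relIndex_bot_left]
      rw [hS8] at h2
      rw [← h2, show 24 = 8 * 3 from rfl] at h1
      exact Nat.dvd_of_mul_dvd_mul_left (by norm_num) h1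
    have h1 : (S : Subgroup N).relIndex K = 1 :=
      Nat.eq_one_of_dvd_coprimes (by norm_num) hd7 hd3
    intro c hc hcN
    exact (hS ⟨c, hcN⟩).1 (relIndex_eq_one.1 h1 hc)
  have hC : ∀ t : N, orderOf t = 2 → IsMulCommutative (centralizer ({t} : Set N)) ∧
      ∀ c ∈ centralizer ({t} : Set N), c ^ 2 = 1 := by
    intro t ht
    obtain ⟨g, hg⟩ := hconjN t ht
    have hmem : ∀ c ∈ centralizer ({t} : Set N), g⁻¹ * (c : G) * g ∈ (D.Q : Subgroup G) :=
      fun c hc => hNC _ (hback t g hg c hc) (by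
        have := hN.conj_mem _ (c : N).2 g⁻¹
        rwa [inv_inv] at this)
    refine ⟨⟨⟨fun a b => Subtype.ext (Subtype.ext ?_)⟩⟩, fun c hc => Subtype.ext ?_⟩
    · have := D.Q_comm _ (hmem a a.2) _ (hmem b b.2)
      calc ((a : N) : G) * ((b : N) : G) =
          g * (g⁻¹ * ((a : N) : G) * g * (g⁻¹ * ((b : N) : G) * g)) * g⁻¹ := by group
        _ = g * (g⁻¹ * ((b : N) : G) * g * (g⁻¹ * ((a : N) : G) * g)) * g⁻¹ := by rw [this]
        _ = ((b : N) : G) * ((a : N) : G) := by group
    · have := D.Q_sq (hmem c hc)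
      show ((c : N) : G) ^ 2 = 1
      calc ((c : N) : G) ^ 2 = g * (g⁻¹ * (c : G) * g * (g⁻¹ * (c : G) * g)) * g⁻¹ := by
            rw [pow_two]; group
        _ = 1 := by rw [this]; group
  have hnc : ¬ IsCyclic (S : Subgroup N) := by
    intro h
    obtain ⟨a, ha⟩ := h.exists_generator
    have h1 := orderOf_eq_card_of_forall_mem_zpowers ha
    rw [hS8] at h1
    have h2 : orderOf a ∣ 2 := orderOf_dvd_of_pow_eq_one (Subtype.ext (by
      rw [SubmonoidClass.coe_pow]; exact hel.2 a a.2))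
    rw [h1] at h2
    norm_num at h2
  have hnn : ¬ (S : Subgroup N).Normal := by
    intro h
    rcases h.eq_bot_or_eq_top with h | h
    · rw [h, Subgroup.card_bot] at hS8
      norm_num at hS8
    · exact hnab ⟨⟨fun a b => Subtype.ext (D.Q_comm _ ((hS a).1 (h ▸ Subgroup.mem_top a)) _
        ((hS b).1 (h ▸ Subgroup.mem_top b)))⟩⟩
  obtain ⟨K, hK, hKf, hK8, ⟨eK⟩⟩ := Cfsg.Agent.S1230.result S hnc hnn hC
  rw [hS8] at hK8
  refine ⟨K, hK, hKf, hK8, ?_⟩
  -- orders
  have hN504 : Nat.card N = 504 := by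
    rw [Nat.card_congr eK.toEquiv]
    have := CfsgLib.Classical.card_psl_two_mul (F := K)
    rw [hK8, show Nat.gcd 2 (8 - 1) = 1 from rfl, one_mul] at this
    exact this
  have hA : Nat.card (MulAut (Matrix.ProjectiveSpecialLinearGroup (Fin 2) K)) = 1512 := by
    rw [CfsgLib.KnownC.card_mulAut_psl le_rfl, if_pos rfl, CfsgLib.Geom.Moebius.card_pgl_two, hK8,
      (CfsgLib.KnownC.exists_zmod_mulEquiv_ringAut (p := 2) (f := 3) (F := K) hK8).1]
  -- the faithful action on `N`
  let c : G →* MulAut N := MulAut.conjNormal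
  have hker : c.ker = ⊥ := by
    refine D.odd_normal_eq_bot _ (Nat.not_even_iff_odd.1 fun he => ?_)
    obtain ⟨x, hx, hx2⟩ := CfsgLib.Invol.exists_invol_mem he
    have hxN : x ∈ N := by
      obtain ⟨g, hg⟩ := isConj_iff.1 (D.hconj x hx2)
      exact hg ▸ hN.conj_mem _ (hQN (D.mem_Q.2 ⟨e0, D.emb8_e0⟩)) g
    have hZ : (⟨x, hxN⟩ : N) ∈ Subgroup.center N := Subgroup.mem_center_iff.2 fun n => by
      have := congrArg (fun f : MulAut N => ((f n : N) : G)) (MonoidHom.mem_ker.1 hx)
      refine Subtype.ext ?_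
      have h' : x * (n : G) * x⁻¹ = n := this
      exact (mul_inv_eq_iff_eq_mul.1 h').symm
    rcases (inferInstance : (Subgroup.center N).Normal).eq_bot_or_eq_top with h | h
    · rw [h, Subgroup.mem_bot] at hZ
      exact invol_ne_one hx2 (congrArg Subtype.val hZ)
    · exact hnab ⟨⟨fun a b => (Subgroup.mem_center_iff.1 (h ▸ Subgroup.mem_top b) a)⟩⟩
  let Φ : G →* MulAut (Matrix.ProjectiveSpecialLinearGroup (Fin 2) K) :=
    (MulAut.congr eK).toMonoidHom.comp c
  have hΦ : Function.Injective Φ := (MulAut.congr eK).injective.comp ((MonoidHom.ker_eq_bot_iff c).1 hker)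
  haveI : Finite (MulAut (Matrix.ProjectiveSpecialLinearGroup (Fin 2) K)) :=
    Nat.finite_of_card_ne_zero (by rw [hA]; norm_num)
  have hdvd := Subgroup.card_dvd_of_injective Φ hΦ
  rw [hA] at hdvd
  have hG : Nat.card G = 1512 := by
    obtain ⟨k, hk⟩ := Subgroup.card_subgroup_dvd_card N
    rw [hN504] at hk
    have hk3 : k ∣ 3 := by
      rw [hk, show 1512 = 504 * 3 from rfl] at hdvd
      exact Nat.dvd_of_mul_dvd_mul_left (by norm_num) hdvd
    rcases (Nat.dvd_prime Nat.prime_three).1 hk3 with rfl | rfl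
    · exfalso
      have htop : N = ⊤ := Subgroup.eq_top_of_card_eq N (by rw [hN504, hk, mul_one])
      obtain ⟨m, hm⟩ := embFour_not_surjective
      obtain ⟨w, hw⟩ := D.mem_Q.1 (hNC (D.ι m) ⟨m, rfl⟩ (htop ▸ Subgroup.mem_top _))
      exact hm w (D.inj hw)
    · rw [hk]
  exact ⟨MulEquiv.ofBijective Φ ((Nat.bijective_iff_injective_and_card Φ).2 ⟨hΦ, by rw [hG, hA]⟩)⟩

end AltSetting

/-- The classification, up to the identification of groups of Janko's type. -/
theorem alt_centralizer_cases {J : G} {T : Subgroup G} {m : ℕ} (hns : ¬ Group.IsSolvable G)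
    (h2 : ∀ N : Subgroup G, N.Normal → N.index ≠ 2) (hJ : IsTwoCentralInvolution J)
    (e : T ≃* alternatingGroup (Fin m))
    (hd : IsInternalDirectProduct (zpowers J) T (centralizer ({J} : Set G))) :
    (m = 4 ∧ ∃ (F : Type) (_ : Field F) (_ : Fintype F), Fintype.card F = 8 ∧
        Nonempty (G ≃* MulAut (Matrix.ProjectiveSpecialLinearGroup (Fin 2) F))) ∨
      (m = 5 ∧ IsSimpleGroup G ∧ Nonempty (centralizer ({J} : Set G) ≃* Mod)) := by
  rcases degree_cases h2 hJ e hd with rfl | rfl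
  · obtain ⟨D, -⟩ := exists_setting factsFour (fun _ => rfl) (by decide +kernel) h2 hJ e hd
    exact Or.inl ⟨rfl, D.four hns⟩
  · obtain ⟨D, hD⟩ := exists_setting factsFive (fun _ => rfl) emb_e0 h2 hJ e hd
    exact Or.inr ⟨rfl, D.five hD hns⟩

end CfsgLib.Invol.J1Cent
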