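import Cfsg.Agent.Lib.Invol.JankoOneLocal
import Mathlib.GroupTheory.SpecificGroups.ZGroup
import Mathlib.GroupTheory.Solvable
import Mathlib.Data.Nat.Squarefree

/-!
The finite facts about the centralizer models `Z/2 × A₄` and `Z/2 × A₅`.
-/

set_option autoImplicit false
set_option maxRecDepth 10000
set_option synthInstance.maxSize 8000
set_option synthInstance.maxHeartbeats 200000

namespace CfsgLib.Invol.J1Cent

open Cfsg Equiv Subgroup

universe u

/-- The model `Z/2 × A₄`. -/
abbrev ModFour : Type := Multiplicative (ZMod 2) × alternatingGroup (Fin 4)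

/-- The four group in `A₄`. -/
def fourElFour (a b : ZMod 2) : alternatingGroup (Fin 4) :=
  (if a = 0 then 1 else ⟨swap 0 1 * swap 2 3, Perm.mem_alternatingGroup.2 (by decide +kernel)⟩) *
    (if b = 0 then 1 else ⟨swap 0 2 * swap 1 3, Perm.mem_alternatingGroup.2 (by decide +kernel)⟩)

/-- The Sylow subgroup of the model `Z/2 × A₄`. -/
def embFour : E8 →* ModFour where
  toFun w := (Multiplicative.ofAdd w.toAdd.1, fourElFour w.toAdd.2.1 w.toAdd.2.2)
  map_one' := by decide +kernel
  map_mul' := by decide +kernel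

/-- What is used about a model. -/
structure Facts (M : Type) [Group M] where
  emb : E8 →* M
  fst : M →* Multiplicative (ZMod 2)
  inj : Function.Injective emb
  invol : ∀ m : M, m * m = 1 → ∃ w : E8, ∃ r : M, r * emb w * r⁻¹ = m
  fst_emb : ∀ w : E8, fst (emb w) = Multiplicative.ofAdd w.toAdd.1
  conj : ∀ v w : E8, sameType v w = true → ∃ r : M, r * emb v * r⁻¹ = emb w
  cen : ∀ r : M, emb e0 * r = r * emb e0
  h16 : ¬ 16 ∣ Nat.card M
  h120 : Nat.card M ∣ 120
  h8 : 8 ∣ Nat.card M
  sqf : Squarefree (7 * (Nat.card M / 8))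
  odd : ∀ K : Subgroup M, K.Normal → Odd (Nat.card K) → K = ⊥

theorem card_modFour : Nat.card ModFour = 24 := by
  rw [Nat.card_prod, Nat.card_eq_fintype_card, Fintype.card_multiplicative, ZMod.card,
    nat_card_alternatingGroup, Nat.card_eq_fintype_card, Fintype.card_fin]
  rfl

theorem card_mod : Nat.card Mod = 120 := by
  rw [Nat.card_prod, Nat.card_eq_fintype_card, Fintype.card_multiplicative, ZMod.card,
    nat_card_alternatingGroup, Nat.card_eq_fintype_card, Fintype.card_fin]
  rfl

theorem modFour_odd_aux : ∀ x : ModFour, x ^ 3 = 1 → x ≠ 1 →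
    ∃ r : ModFour, (x⁻¹ * (r * x * r⁻¹)) ^ 3 ≠ 1 := by decide +kernel

theorem pow_eq_one_of_mem_odd {M : Type*} [Group M] [Finite M] {K : Subgroup M}
    (hK : Odd (Nat.card K)) {k : ℕ} (hM : Nat.card M = 8 * k) {y : M} (hy : y ∈ K) : y ^ k = 1 := by
  have h1 : orderOf y ∣ Nat.card K := Subgroup.orderOf_coe (⟨y, hy⟩ : K) ▸ orderOf_dvd_natCard _
  have h2 : orderOf y ∣ 8 * k := hM ▸ orderOf_dvd_natCard y
  have hc : Nat.Coprime (orderOf y) 8 := by
    rw [show 8 = 2 ^ 3 from rfl]
    exact (Nat.coprime_two_right.2 (hK.of_dvd_nat h1)).pow_right 3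
  exact orderOf_dvd_iff_pow_eq_one.1 (hc.dvd_of_dvd_mul_left h2)

theorem modFour_odd (K : Subgroup ModFour) (hn : K.Normal) (hK : Odd (Nat.card K)) : K = ⊥ := by
  rw [eq_bot_iff]
  intro x hx
  by_contra hx1
  obtain ⟨r, hr⟩ := modFour_odd_aux x (pow_eq_one_of_mem_odd hK (k := 3) card_modFour hx)
    fun h => hx1 (Subgroup.mem_bot.2 h)
  exact hr (pow_eq_one_of_mem_odd hK (k := 3) card_modFour
    (mul_mem (inv_mem hx) (hn.conj_mem x hx r)))

theorem mod_snd_eq_top (K : Subgroup Mod) (hn : K.Normal) (h : ∃ x ∈ K, x.2 ≠ 1) :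
    K.map (MonoidHom.snd (Multiplicative (ZMod 2)) A5) = ⊤ := by
  obtain ⟨x, hx, hx2⟩ := h
  refine (alternatingGroup.isSimpleGroup_five.eq_bot_or_eq_top_of_normal _
    (hn.map _ Prod.snd_surjective)).resolve_left fun h => hx2 ?_
  exact Subgroup.mem_bot.1 (h ▸ Subgroup.mem_map_of_mem _ hx)

theorem mod_odd (K : Subgroup Mod) (hn : K.Normal) (hK : Odd (Nat.card K)) : K = ⊥ := by
  rw [eq_bot_iff]
  intro x hx
  rw [Subgroup.mem_bot]
  by_cases h : x.2 = 1
  · have hx2 : x * x = 1 := Prod.ext (by
      show x.1 * x.1 = 1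
      revert h
      generalize x.1 = a
      intro
      revert a
      decide) (by show x.2 * x.2 = 1; rw [h, one_mul])
    have h15 := pow_eq_one_of_mem_odd hK (k := 15) card_mod hx
    rw [show 15 = 2 * 7 + 1 from rfl, pow_succ, pow_mul, pow_two, hx2, one_pow, one_mul] at h15
    exact h15
  · exfalso
    have ht := mod_snd_eq_top K hn ⟨x, hx, h⟩
    obtain ⟨y, hy, hy2⟩ : rep 1 ∈ K.map (MonoidHom.snd (Multiplicative (ZMod 2)) A5) :=
      ht ▸ Subgroup.mem_top _
    have h15 := congrArg Prod.snd (pow_eq_one_of_mem_odd hK (k := 15) card_mod hy)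
    rw [Prod.pow_snd] at h15
    rw [show y.2 = rep 1 from hy2] at h15
    exact absurd h15 (by decide +kernel)

/-- A normal subgroup containing the elementary abelian subgroup is everything. -/
theorem mod_eq_top (K : Subgroup Mod) (hn : K.Normal) (h : ∀ w : E8, emb w ∈ K) : K = ⊤ := by
  have h1 : ((1, rep 1) : Mod) ∈ K := by
    rw [show ((1, rep 1) : Mod) = emb (Multiplicative.ofAdd (0, 1, 0)) by decide +kernel]
    exact h _
  have hi : iota ∈ K := emb_e0 ▸ h e0
  have ht := mod_snd_eq_top K hn ⟨_, h1, show rep 1 ≠ 1 by decide +kernel⟩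
  refine eq_top_iff.2 fun m _ => ?_
  obtain ⟨y, hy, hy2⟩ : m.2 ∈ K.map (MonoidHom.snd (Multiplicative (ZMod 2)) A5) :=
    ht ▸ Subgroup.mem_top _
  have hc : m = y ∨ m = iota * y := by
    have : ∀ a b : Multiplicative (ZMod 2), a = b ∨ a = Multiplicative.ofAdd 1 * b := by decide
    rcases this m.1 y.1 with h | h
    · exact Or.inl (Prod.ext h hy2.symm)
    · refine Or.inr (Prod.ext h ?_)
      show m.2 = 1 * y.2
      rw [one_mul]; exact hy2.symm
  rcases hc with h | h <;> rw [h]
  · exact hy
  · exact mul_mem hi hy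

/-- The facts for `Z/2 × A₄`. -/
def factsFour : Facts ModFour where
  emb := embFour
  fst := MonoidHom.fst _ _
  inj := by decide +kernel
  invol := by decide +kernel
  fst_emb _ := rfl
  conj := by decide +kernel
  cen := by decide +kernel
  h16 := by rw [card_modFour]; decide
  h120 := by rw [card_modFour]; decide
  h8 := by rw [card_modFour]; decide
  sqf := by
    rw [card_modFour]
    exact (Nat.squarefree_mul (m := 7) (n := 3) (by norm_num)).2
      ⟨(show Nat.Prime 7 by norm_num).squarefree, Nat.prime_three.squarefree⟩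
  odd := modFour_odd

/-- The facts for `Z/2 × A₅`. -/
def factsFive : Facts Mod where
  emb := emb
  fst := MonoidHom.fst _ _
  inj := emb_injective
  invol := mod_invol
  fst_emb _ := rfl
  conj := emb_conj
  cen := fun r => by rw [emb_e0]; exact iota_comm r
  h16 := by rw [card_mod]; decide
  h120 := by rw [card_mod]
  h8 := by rw [card_mod]; decide
  sqf := by
    rw [card_mod]
    exact (Nat.squarefree_mul (m := 7) (n := 15) (by norm_num)).2
      ⟨(show Nat.Prime 7 by norm_num).squarefree,
        (Nat.squarefree_mul (m := 3) (n := 5) (by norm_num)).2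
          ⟨Nat.prime_three.squarefree, Nat.prime_five.squarefree⟩⟩
  odd := mod_odd

theorem embFour_normal : ∀ r : ModFour, ∀ w : E8, ∃ w' : E8, r * embFour w * r⁻¹ = embFour w' := by
  decide +kernel

theorem embFour_centralizer : ∀ m : ModFour, (∀ w : E8, m * embFour w = embFour w * m) →
    ∃ w : E8, embFour w = m := by
  decide +kernel

/-- In the fusion pattern with four classes of points, the distinguished point is fixed. -/
theorem fusion_aux : ∀ x y z : E8, x ≠ 1 → y ≠ 1 → x ≠ y → z ≠ 1 → z ≠ x → z ≠ y → z ≠ x * y →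
    (∀ a : E8, a = x ∨ a = y ∨ a = x * y ∨ a = z → a.toAdd.1 = 0 ∨ a.toAdd.2 = 0) → z = e0 := by
  decide +kernel

/-- A group with an abelian normal subgroup of squarefree index is solvable. -/
theorem isSolvable_of_squarefree_index {G : Type u} [Group G] [Finite G] (S : Subgroup G) [S.Normal]
    (hab : ∀ a ∈ S, ∀ b ∈ S, a * b = b * a) (hsq : Squarefree S.index) : Group.IsSolvable G := by
  have : IsZGroup (G ⧸ S) := IsZGroup.of_squarefree hsq
  have : Group.IsSolvable (G ⧸ S) := inferInstance
  have : Group.IsSolvable S :=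
    Group.isSolvable_of_comm fun a b => Subtype.ext (hab _ a.2 _ b.2)
  exact solvable_of_ker_le_range S.subtype (QuotientGroup.mk' S)
    (by rw [QuotientGroup.ker_mk', Subgroup.range_subtype])

end CfsgLib.Invol.J1Cent
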