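import Mathlib.Tactic.LinearCombination
import Mathlib.Tactic.Linarith
import Mathlib.Tactic.IntervalCases
import Mathlib.Tactic.FieldSimp
import Mathlib.Algebra.Order.Field.Basic
import Mathlib.Data.Rat.Cast.Order

/-!
The finitely many solutions of the equations between the degrees.
-/

set_option autoImplicit false
set_option maxRecDepth 20000
set_option maxHeartbeats 1000000

namespace CfsgLib.Invol.J1Cent

/-- The side conditions on three signed degrees and the order. -/
def Side (g a b c : ℤ) : Prop :=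
  7 ≤ |a| ∧ 7 ≤ |b| ∧ 7 ≤ |c| ∧ g % 840 = 0 ∧ g % 16 ≠ 0 ∧ g % a = 0 ∧ g % b = 0 ∧ g % c = 0 ∧
    1 + a * a + b * b + c * c ≤ g

instance (g a b c : ℤ) : Decidable (Side g a b c) := by unfold Side; infer_instance

/-- The test for one triple of signed degrees. -/
def okTriple (L : List (ℤ × ℤ × ℤ × ℤ)) (R p q r a b c : ℤ) : Bool :=
  let n := a * b * c + p * (b * c) + q * (a * c) + r * (a * b)
  let m := R * (a * b * c)
  if n = 0 then true
  else if m % n ≠ 0 then true
  else if (m / n) % 840 ≠ 0 then true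
  else if Side (m / n) a b c then L.contains (m / n, a, b, c) else true

theorem okTriple_spec {L : List (ℤ × ℤ × ℤ × ℤ)} {R p q r a b c g : ℤ}
    (h : okTriple L R p q r a b c = true) (hR : R ≠ 0) (hs : Side g a b c)
    (he : g * (a * b * c + p * (b * c) + q * (a * c) + r * (a * b)) = R * (a * b * c)) :
    (g, a, b, c) ∈ L := by
  obtain ⟨ha, hb, hc, h840, -⟩ := id hs
  have ha0 : a ≠ 0 := fun e => by simp [e] at ha
  have hb0 : b ≠ 0 := fun e => by simp [e] at hb
  have hc0 : c ≠ 0 := fun e => by simp [e] at hc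
  unfold okTriple at h
  set n := a * b * c + p * (b * c) + q * (a * c) + r * (a * b) with hn
  have hn0 : n ≠ 0 := fun e => by
    rw [e, mul_zero] at he
    exact mul_ne_zero hR (mul_ne_zero (mul_ne_zero ha0 hb0) hc0) he.symm
  have hdiv : R * (a * b * c) / n = g := by rw [← he, Int.mul_ediv_cancel _ hn0]
  have hmod : R * (a * b * c) % n = 0 := by rw [← he]; exact Int.mul_emod_left _ _
  simpa [hn0, hdiv, hmod, h840, hs] using h

/-- The residues to be searched. -/
def rng (r : ℤ) : List ℤ := (List.range 303).map fun i : ℕ => 8 * ((i : ℤ) - 151) + r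

theorem mem_rng {r x : ℤ} (hr : 0 ≤ r) (hr8 : r < 8) (hm : x % 8 = r) (hx : |x| ≤ 1200) :
    x ∈ rng r := by
  obtain ⟨h1, h2⟩ := abs_le.1 hx
  unfold rng
  refine List.mem_map.2 ⟨((x - r) / 8 + 151).toNat, ?_, ?_⟩
  · rw [List.mem_range]; omega
  · omega

/-- The candidates with a common constituent. -/
def listA : List (ℤ × ℤ × ℤ × ℤ) :=
  [(175560, 209, -133, -77), (189000, -15, -21, 35), (189000, -7, -21, 27), (511560, 49, -29, -21),
    (861000, 41, -21, -21), (175560, 209, -77, -133), (189000, -15, 35, -21), (189000, -7, 27, -21),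
    (511560, 49, -21, -29)]

/-- The candidates without a common constituent. -/
def listB : List (ℤ × ℤ × ℤ × ℤ) :=
  [(37800, 14, -42, 27), (63000, 30, 14, -45), (83160, 54, -154, 99), (83160, 54, 22, -77),
    (105000, 30, -10, -21), (128520, 54, -34, -21), (157080, -66, 14, 51), (189000, -42, 14, 27),
    (306600, -210, -10, 219), (360360, -66, -26, 91), (360360, -66, 182, -117),
    (693000, -90, 110, -21), (861000, -42, -82, 123), (1986600, -66, 86, -21),
    (71253000, -58, 78, -21)]

theorem searchA :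
    ((rng 3).all fun u => (rng 3).all fun v =>
      decide (1000 < |u|) || decide (1000 < |v|) || decide (v < u) ||
        okTriple listA 144000 1 9 9 (-1 - u - v) u v) = true := by
  decide +kernel

theorem searchA' :
    ((rng 7).all fun u => decide (1000 < |u|) ||
        okTriple listA 144000 1 49 1 (-1 - u - u) u u) = true := by
  decide +kernel

theorem searchB :
    ((rng 6).all fun x => (rng 6).all fun y =>
      decide (1200 < |-1 - x - y|) || okTriple listB 144000 36 4 9 x y (-1 - x - y)) = true := by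
  decide +kernel

theorem inv_bound {x B : ℚ} (hB : 0 < B) (hx : B ≤ |x|) : |x⁻¹| ≤ B⁻¹ := by
  rw [abs_inv]
  exact inv_anti₀ hB hx

/-- The rational form of the equation. -/
theorem ratio {R p q r a b c g : ℤ} (ha : a ≠ 0) (hb : b ≠ 0) (hc : c ≠ 0)
    (he : g * (a * b * c + p * (b * c) + q * (a * c) + r * (a * b)) = R * (a * b * c)) :
    (g : ℚ) * (1 + (p : ℚ) * (a : ℚ)⁻¹ + (q : ℚ) * (b : ℚ)⁻¹ + (r : ℚ) * (c : ℚ)⁻¹) = R := by
  have ha' : (a : ℚ) ≠ 0 := Int.cast_ne_zero.2 ha
  have hb' : (b : ℚ) ≠ 0 := Int.cast_ne_zero.2 hb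
  have hc' : (c : ℚ) ≠ 0 := Int.cast_ne_zero.2 hc
  have h : ((g * (a * b * c + p * (b * c) + q * (a * c) + r * (a * b)) : ℤ) : ℚ) =
      ((R * (a * b * c) : ℤ) : ℚ) := by rw [he]
  push_cast at h
  field_simp
  linear_combination h

theorem stageA_bound {g a u v : ℤ} (hs : Side g a u v) (hu : u % 8 = 3)
    (he : g * (a * u * v + 1 * (u * v) + 9 * (a * v) + 9 * (a * u)) = 144000 * (a * u * v)) :
    |v| ≤ 1000 := by
  obtain ⟨ha, hu7, hv7, -, -, -, -, -, hsq⟩ := hs
  by_contra hv
  push Not at hv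
  have h := ratio (fun e => by simp [e] at ha) (fun e => by simp [e] at hu7) (fun e => by simp [e] at hv7) he
  have h1 : -(1 / 7 : ℚ) ≤ (a : ℚ)⁻¹ := by
    have := inv_bound (x := (a : ℚ)) (B := 7) (by norm_num) (by exact_mod_cast ha)
    linarith [(abs_le.1 this).1]
  have h2 : -(1 / 13 : ℚ) ≤ (u : ℚ)⁻¹ := by
    by_cases hpos : 0 < u
    · have : (0 : ℚ) < (u : ℚ)⁻¹ := inv_pos.2 (by exact_mod_cast hpos)
      linarith
    · have hu13 : 13 ≤ |u| := by rw [abs_of_nonpos (by omega)] at hu7 ⊢; omega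
      have := inv_bound (x := (u : ℚ)) (B := 13) (by norm_num) (by exact_mod_cast hu13)
      linarith [(abs_le.1 this).1]
  have h3 : -(1 / 1000 : ℚ) ≤ (v : ℚ)⁻¹ := by
    have := inv_bound (x := (v : ℚ)) (B := 1000) (by norm_num) (by exact_mod_cast hv.le)
    linarith [(abs_le.1 this).1]
  have hg0 : (0 : ℚ) ≤ g := by
    have : 0 ≤ g := by nlinarith [mul_self_nonneg a, mul_self_nonneg u]
    exact_mod_cast this
  push_cast at h
  have hS : (0.155 : ℚ) ≤ 1 + 1 * (a : ℚ)⁻¹ + 9 * (u : ℚ)⁻¹ + 9 * (v : ℚ)⁻¹ := by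
    norm_num at h1 h2 h3 ⊢; linarith
  have hg : (g : ℚ) * 0.155 ≤ 144000 := h ▸ mul_le_mul_of_nonneg_left hS hg0
  have hg' : g ≤ 929033 := by
    have : (g : ℚ) ≤ 929033 := by norm_num at hg ⊢; linarith
    exact_mod_cast this
  have : (1000 : ℤ) * 1000 ≤ v * v := by
    rw [← abs_mul_abs_self v]; exact mul_le_mul hv.le hv.le (by norm_num) (abs_nonneg v)
  nlinarith [mul_self_nonneg a, mul_self_nonneg u]

theorem stageA {g a u v : ℤ} (hs : Side g a u v) (hsum : 1 + a + u + v = 0) (hu : u % 8 = 3)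
    (hv : v % 8 = 3)
    (he : g * (a * u * v + 1 * (u * v) + 9 * (a * v) + 9 * (a * u)) = 144000 * (a * u * v)) :
    (g, a, u, v) ∈ listA := by
  have hs' : Side g a v u := by
    obtain ⟨x1, x2, x3, x4, x5, x6, x7, x8, x9⟩ := hs
    exact ⟨x1, x3, x2, x4, x5, x6, x8, x7, by linarith⟩
  have he' : g * (a * v * u + 1 * (v * u) + 9 * (a * u) + 9 * (a * v)) = 144000 * (a * v * u) := by
    linear_combination he
  have hbv := stageA_bound hs hu he
  have hbu := stageA_bound hs' hv he'
  have key : ∀ u v : ℤ, u % 8 = 3 → v % 8 = 3 → |u| ≤ 1000 → |v| ≤ 1000 → u ≤ v →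
      okTriple listA 144000 1 9 9 (-1 - u - v) u v = true := by
    intro u v hu hv hbu hbv huv
    have h := List.all_eq_true.1 (List.all_eq_true.1 searchA u
      (mem_rng (by norm_num) (by norm_num) hu (hbu.trans (by norm_num)))) v
      (mem_rng (by norm_num) (by norm_num) hv (hbv.trans (by norm_num)))
    simpa [not_lt.2 hbu, not_lt.2 hbv, not_lt.2 huv] using h
  have ea : a = -1 - u - v := by linarith
  rcases le_total u v with h | h
  · refine okTriple_spec ?_ (by norm_num) hs he
    rw [ea]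
    exact key u v hu hv hbu hbv h
  · have hk : okTriple listA 144000 1 9 9 a v u = true := by
      rw [show a = -1 - v - u by linarith]
      exact key v u hv hu hbv hbu h
    have hmem := okTriple_spec hk (by norm_num) hs' he'
    have hswap : ∀ t ∈ listA, (t.1, t.2.1, t.2.2.2, t.2.2.1) ∈ listA := by decide +kernel
    exact hswap _ hmem

theorem stageA' {g a u : ℤ} (hs : Side g a u u) (hsum : 1 + a + u + u = 0) (hu : u % 8 = 7)
    (he : g * (a * u * u + 1 * (u * u) + 49 * (a * u) + 1 * (a * u)) = 144000 * (a * u * u)) :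
    (g, a, u, u) ∈ listA := by
  have hb : |u| ≤ 1000 := by
    obtain ⟨ha, hu7, -, -, -, -, -, -, hsq⟩ := id hs
    by_contra hb
    push Not at hb
    have h := ratio (fun e => by simp [e] at ha) (fun e => by simp [e] at hu7)
      (fun e => by simp [e] at hu7) he
    have h1 : -(1 / 7 : ℚ) ≤ (a : ℚ)⁻¹ := by
      have := inv_bound (x := (a : ℚ)) (B := 7) (by norm_num) (by exact_mod_cast ha)
      linarith [(abs_le.1 this).1]
    have h2 : -(1 / 1000 : ℚ) ≤ (u : ℚ)⁻¹ := by
      have := inv_bound (x := (u : ℚ)) (B := 1000) (by norm_num) (by exact_mod_cast hb.le)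
      linarith [(abs_le.1 this).1]
    have hg0 : (0 : ℚ) ≤ g := by
      have : 0 ≤ g := by nlinarith [mul_self_nonneg a, mul_self_nonneg u]
      exact_mod_cast this
    push_cast at h
    have hS : (0.8 : ℚ) ≤ 1 + 1 * (a : ℚ)⁻¹ + 49 * (u : ℚ)⁻¹ + 1 * (u : ℚ)⁻¹ := by
      norm_num at h1 h2 ⊢; linarith
    have hg : (g : ℚ) * 0.8 ≤ 144000 := h ▸ mul_le_mul_of_nonneg_left hS hg0
    have hg' : g ≤ 180000 := by
      have : (g : ℚ) ≤ 180000 := by norm_num at hg ⊢; linarith
      exact_mod_cast this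
    have : (1000 : ℤ) * 1000 ≤ u * u := by
      rw [← abs_mul_abs_self u]; exact mul_le_mul hb.le hb.le (by norm_num) (abs_nonneg u)
    nlinarith [mul_self_nonneg a]
  have h := List.all_eq_true.1 searchA' u
    (mem_rng (by norm_num) (by norm_num) hu (hb.trans (by norm_num)))
  have ea : a = -1 - u - u := by linarith
  refine okTriple_spec ?_ (by norm_num) hs he
  rw [ea]
  simpa [not_lt.2 hb] using h

theorem stageB {g x y c : ℤ} (hs : Side g x y c) (hsum : 1 + x + y + c = 0) (hx : x % 8 = 6)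
    (hy : y % 8 = 6)
    (he : g * (x * y * c + 36 * (y * c) + 4 * (x * c) + 9 * (x * y)) = 144000 * (x * y * c)) :
    (g, x, y, c) ∈ listB := by
  obtain ⟨hx7, hy7, hc7, -, -, -, -, -, hsq⟩ := id hs
  have h := ratio (fun e => by simp [e] at hx7) (fun e => by simp [e] at hy7) (fun e => by simp [e] at hc7) he
  push_cast at h
  have hg1 : 1 ≤ g := by nlinarith [mul_self_nonneg x, mul_self_nonneg y, mul_self_nonneg c]
  have hg0 : (0 : ℚ) ≤ g := by exact_mod_cast (show 0 ≤ g by omega)
  set S := 1 + 36 * (x : ℚ)⁻¹ + 4 * (y : ℚ)⁻¹ + 9 * (c : ℚ)⁻¹ with hS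
  have hlow : ∀ (z : ℤ) (B : ℚ), 0 < B → B ≤ |(z : ℚ)| → -B⁻¹ ≤ (z : ℚ)⁻¹ := fun z B hB hz =>
    (abs_le.1 (inv_bound hB hz)).1
  have hupp : ∀ (z : ℤ) (B : ℚ), 0 < B → B ≤ |(z : ℚ)| → (z : ℚ)⁻¹ ≤ B⁻¹ := fun z B hB hz =>
    (abs_le.1 (inv_bound hB hz)).2
  have hSpos : 0 < S := by
    by_contra hn
    push Not at hn
    nlinarith [mul_nonpos_of_nonneg_of_nonpos hg0 hn]
  have hbound : |x| ≤ 1200 ∧ |y| ≤ 1200 ∧ |c| ≤ 1200 := by
    by_contra hne
    have hbig : 1200 < |x| ∨ 1200 < |y| ∨ 1200 < |c| := by omega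
    have hsqbig : 1200 * 1200 < g := by
      rcases hbig with hb | hb | hb
      · have : (1200 : ℤ) * 1200 ≤ x * x := by
          rw [← abs_mul_abs_self x]; exact mul_le_mul hb.le hb.le (by norm_num) (abs_nonneg x)
        nlinarith [mul_self_nonneg y, mul_self_nonneg c]
      · have : (1200 : ℤ) * 1200 ≤ y * y := by
          rw [← abs_mul_abs_self y]; exact mul_le_mul hb.le hb.le (by norm_num) (abs_nonneg y)
        nlinarith [mul_self_nonneg x, mul_self_nonneg c]
      · have : (1200 : ℤ) * 1200 ≤ c * c := by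
          rw [← abs_mul_abs_self c]; exact mul_le_mul hb.le hb.le (by norm_num) (abs_nonneg c)
        nlinarith [mul_self_nonneg x, mul_self_nonneg y]
    have hSlt : ¬ (0.12 : ℚ) ≤ S := by
      intro hle
      have hg : (g : ℚ) * 0.12 ≤ 144000 := h ▸ mul_le_mul_of_nonneg_left hle hg0
      have : (g : ℚ) ≤ 1200000 := by norm_num at hg ⊢; linarith
      have : g ≤ 1200000 := by exact_mod_cast this
      omega
    apply hSlt
    have hx' : (7 : ℚ) ≤ |(x : ℚ)| := by exact_mod_cast hx7
    by_cases hxs : |x| < 600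
    · have hyc : 600 ≤ |y| ∧ 600 ≤ |c| := by
        constructor <;> (simp only [abs_eq_max_neg] at hxs hbig ⊢; omega)
      have hy' := hlow y 600 (by norm_num) (by exact_mod_cast hyc.1)
      have hc' := hlow c 600 (by norm_num) (by exact_mod_cast hyc.2)
      have hy'' := hupp y 600 (by norm_num) (by exact_mod_cast hyc.1)
      have hc'' := hupp c 600 (by norm_num) (by exact_mod_cast hyc.2)
      rcases (show 0 < x ∨ (-34 ≤ x ∧ x < 0) ∨ x ≤ -42 by
        simp only [abs_eq_max_neg] at hx7; omega) with hp | ⟨hl, hu⟩ | hm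
      · have : (0 : ℚ) < (x : ℚ)⁻¹ := inv_pos.2 (by exact_mod_cast hp)
        norm_num at hy' hc' hy'' hc'' ⊢; linarith
      · exfalso
        have : (x : ℚ)⁻¹ ≤ -(1 / 34) := by
          have hx0 : (x : ℚ) < 0 := by exact_mod_cast hu
          rw [show -(1 / 34 : ℚ) = (-34)⁻¹ by norm_num]
          exact (inv_le_inv_of_neg hx0 (by norm_num)).2 (by exact_mod_cast hl)
        norm_num at hy' hc' hy'' hc'' this
        linarith
      · have := hlow x 42 (by norm_num) (by
          rw [abs_of_nonpos (by exact_mod_cast (show x ≤ 0 by omega))]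
          have : (x : ℚ) ≤ -42 := by exact_mod_cast hm
          linarith)
        norm_num at this hy' hc' hy'' hc'' ⊢; linarith
    · have hx'' := hlow x 600 (by norm_num) (by exact_mod_cast (not_lt.1 hxs))
      rcases (show 600 ≤ |y| ∨ 600 ≤ |c| by
        simp only [abs_eq_max_neg] at hxs hbig ⊢; omega) with hy2 | hc2
      · have hy' := hlow y 600 (by norm_num) (by exact_mod_cast hy2)
        have hc' : -(1 / 13 : ℚ) ≤ (c : ℚ)⁻¹ := by
          by_cases hp : 0 < c
          · have : (0 : ℚ) < (c : ℚ)⁻¹ := inv_pos.2 (by exact_mod_cast hp)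
            linarith
          · have hc13 : 13 ≤ |c| := by simp only [abs_eq_max_neg] at hc7 ⊢; omega
            have := hlow c 13 (by norm_num) (by exact_mod_cast hc13)
            norm_num at this ⊢; linarith
        norm_num at hx'' hy' hc' ⊢; linarith
      · have hc' := hlow c 600 (by norm_num) (by exact_mod_cast hc2)
        have hy10 : 10 ≤ |y| := by simp only [abs_eq_max_neg] at hy7 ⊢; omega
        have hy' := hlow y 10 (by norm_num) (by exact_mod_cast hy10)
        norm_num at hx'' hy' hc' ⊢; linarith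
  have h1 := List.all_eq_true.1 (List.all_eq_true.1 searchB x
    (mem_rng (by norm_num) (by norm_num) hx hbound.1)) y
    (mem_rng (by norm_num) (by norm_num) hy hbound.2.1)
  have ec : c = -1 - x - y := by linarith
  refine okTriple_spec ?_ (by norm_num) hs he
  rw [ec] at hbound ⊢
  simpa [not_lt.2 hbound.2.2] using h1

/-! ### The second equations -/

/-- The orders which survive. -/
def orders : List ℤ := [175560, 189000]

theorem searchE :
    (listA.all fun t => decide (t.1 ∈ orders) || ((rng 3).all fun u =>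
        okTriple [] 86400 1 25 25 t.2.1 u (-1 - t.2.1 - u) ||
          decide (86400 * (t.2.1 * u * (-1 - t.2.1 - u)) ≠
            t.1 * (t.2.1 * u * (-1 - t.2.1 - u) + 1 * (u * (-1 - t.2.1 - u)) +
              25 * (t.2.1 * (-1 - t.2.1 - u)) + 25 * (t.2.1 * u))))) = true := by
  decide +kernel

theorem searchE' :
    (listA.all fun t => decide (t.1 ∈ orders) || ((rng 7).all fun u =>
        decide (1 + t.2.1 + u + u ≠ 0) ||
          decide (86400 * (t.2.1 * u * u) ≠
            t.1 * (t.2.1 * u * u + 1 * (u * u) + 1 * (t.2.1 * u) + 81 * (t.2.1 * u))))) = true := by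
  decide +kernel

theorem searchC :
    (listB.all fun s => listB.all fun t => decide (s.1 ≠ t.1) || decide (s.2.1 ≠ t.2.1) ||
      decide (|(-1 - s.2.2.1 - t.2.2.1 : ℤ)| < 7) ||
        decide (86400 * (s.2.2.1 * t.2.2.1 * (-1 - s.2.2.1 - t.2.2.1)) ≠
          s.1 * (s.2.2.1 * t.2.2.1 * (-1 - s.2.2.1 - t.2.2.1) +
            4 * (t.2.2.1 * (-1 - s.2.2.1 - t.2.2.1)) + 4 * (s.2.2.1 * (-1 - s.2.2.1 - t.2.2.1)) +
              25 * (s.2.2.1 * t.2.2.1)))) = true := by
  decide +kernel

theorem listA_bound : ∀ t ∈ listA, t.1 ≤ 1200 * 1200 := by decide +kernel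

theorem abs_le_of_side {g a b c : ℤ} (hs : Side g a b c) (hg : g ≤ 1200 * 1200) : |b| ≤ 1200 := by
  obtain ⟨-, -, -, -, -, -, -, -, hsq⟩ := hs
  by_contra hb
  push Not at hb
  have : (1200 : ℤ) * 1200 ≤ b * b := by
    rw [← abs_mul_abs_self b]; exact mul_le_mul hb.le hb.le (by norm_num) (abs_nonneg b)
  nlinarith [mul_self_nonneg a, mul_self_nonneg c]

theorem stageE {g a u v b c : ℤ} (ht : (g, a, u, v) ∈ listA) (hs : Side g a b c)
    (hsum : 1 + a + b + c = 0)
    (hcase : (b % 8 = 3 ∧ g * (a * b * c + 1 * (b * c) + 25 * (a * c) + 25 * (a * b)) =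
        86400 * (a * b * c)) ∨ (b % 8 = 7 ∧ b = c ∧
          g * (a * b * c + 1 * (b * c) + 1 * (a * c) + 81 * (a * b)) = 86400 * (a * b * c))) :
    g = 175560 ∨ g = 189000 := by
  have hb := abs_le_of_side hs (listA_bound _ ht)
  by_contra hne
  have hno : ¬ g ∈ orders := by simpa [orders] using hne
  rcases hcase with ⟨hm, he⟩ | ⟨hm, rfl, he⟩
  · have h := List.all_eq_true.1 searchE _ ht
    simp only [hno, decide_false, Bool.false_or, List.all_eq_true] at h
    have h' := h b (mem_rng (by norm_num) (by norm_num) hm hb)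
    rw [show -1 - a - b = c by linarith] at h'
    simp only [Bool.or_eq_true, decide_eq_true_eq] at h'
    rcases h' with h' | h'
    · exact absurd (okTriple_spec h' (by norm_num) hs he) (by simp)
    · exact h' he.symm
  · have h := List.all_eq_true.1 searchE' _ ht
    simp only [hno, decide_false, Bool.false_or, List.all_eq_true] at h
    have h' := h b (mem_rng (by norm_num) (by norm_num) hm hb)
    simp only [Bool.or_eq_true, decide_eq_true_eq] at h'
    rcases h' with h' | h'
    · exact h' hsum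
    · exact h' he.symm

theorem stageC {g x y c w b z : ℤ} (hs : (g, x, y, c) ∈ listB) (ht : (g, x, w, b) ∈ listB)
    (hsum : 1 + y + w + z = 0) (hz : 7 ≤ |z|)
    (he : g * (y * w * z + 4 * (w * z) + 4 * (y * z) + 25 * (y * w)) = 86400 * (y * w * z)) :
    False := by
  have h := List.all_eq_true.1 (List.all_eq_true.1 searchC _ hs) _ ht
  simp only [ne_eq, not_true_eq_false, decide_false, Bool.false_or] at h
  rw [show -1 - y - w = z by linarith] at h
  simp only [Bool.or_eq_true, decide_eq_true_eq, not_lt.2 hz, false_or] at h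
  exact h he.symm

end CfsgLib.Invol.J1Cent
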