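import Cfsg.Agent.Lib.Invol.JankoOneChar
import Cfsg.Agent.Lib.Invol.JankoOneSearch

/-!
The degree relations leave two possible orders.
-/

set_option autoImplicit false
set_option maxHeartbeats 1000000

namespace CfsgLib.Invol.J1Cent

universe u

namespace Degrees

variable {X : Type u} [Fintype X] {g : ℕ} (E : Degrees X g)

/-- The value at the involution. -/
def val (χ : X) : ℤ := 4 * E.a 0 χ + 3 * E.a 1 χ + 3 * E.a 2 χ - 5 * E.a 3 χ

/-- The signed degree. -/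
def sd (j : Fin 4) (χ : X) : ℤ := E.a j χ * (E.d χ : ℤ)

/-- The nontrivial constituents. -/
noncomputable def T (j : Fin 4) : Finset X :=
  open Classical in Finset.univ.filter fun χ => χ ≠ E.e ∧ E.a j χ ≠ 0

theorem mem_T {j : Fin 4} {χ : X} : χ ∈ E.T j ↔ χ ≠ E.e ∧ E.a j χ ≠ 0 := by
  classical simp [T]

theorem sum_eq (j : Fin 4) (f : X → ℤ) (hf : ∀ χ, E.a j χ = 0 → f χ = 0) :
    ∑ χ, f χ = f E.e + ∑ χ ∈ E.T j, f χ := by
  classical
  rw [← Finset.add_sum_erase _ _ (Finset.mem_univ E.e)]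
  congr 1
  refine (Finset.sum_subset (fun χ hχ => ?_) fun χ hχ hn => hf χ ?_).symm
  · exact Finset.mem_erase.2 ⟨(E.mem_T.1 hχ).1, Finset.mem_univ χ⟩
  · by_contra h
    exact hn (E.mem_T.2 ⟨(Finset.mem_erase.1 hχ).1, h⟩)

theorem pm_one {j : Fin 4} {χ : X} (h : χ ∈ E.T j) : E.a j χ = 1 ∨ E.a j χ = -1 := by
  classical
  have hg := E.gram j j
  rw [if_pos rfl, E.sum_eq j (fun χ => E.a j χ * E.a j χ) (fun χ h => by rw [h, mul_zero]), E.ae j] at hg
  have h1 := Finset.single_le_sum (f := fun χ => E.a j χ * E.a j χ)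
    (fun χ _ => mul_self_nonneg _) h
  have h0 := (E.mem_T.1 h).2
  have hle : E.a j χ * E.a j χ ≤ 3 := by split_ifs at hg <;> linarith
  have h2 : E.a j χ ≤ 1 := by nlinarith
  have h3 : -1 ≤ E.a j χ := by nlinarith
  omega

theorem card_T (j : Fin 4) : (E.T j).card = if j = 0 then 2 else 3 := by
  classical
  have hg := E.gram j j
  rw [if_pos rfl, E.sum_eq j (fun χ => E.a j χ * E.a j χ) (fun χ h => by rw [h, mul_zero]), E.ae j,
    Finset.sum_congr rfl (g := fun _ => (1 : ℤ)) fun χ hχ => by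
      rcases E.pm_one hχ with h | h <;> rw [h] <;> norm_num] at hg
  simp only [Finset.sum_const, nsmul_eq_mul, mul_one] at hg
  split_ifs at hg ⊢ <;> omega

theorem sum_sd (j : Fin 4) : ∑ χ ∈ E.T j, E.sd j χ = if j = 0 then 0 else -1 := by
  have h := E.deg j
  rw [E.sum_eq j (fun χ => E.a j χ * (E.d χ : ℤ)) (fun χ h => by rw [h, zero_mul]), E.ae j,
    E.de] at h
  unfold sd
  split_ifs at h ⊢ <;> push_cast at h <;> linarith

theorem sum_ortho {j : Fin 4} (hj : j ≠ 0) : ∑ χ ∈ E.T j, E.a j χ * E.a 0 χ = 0 := by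
  have h := E.gram j 0
  rw [if_neg hj, if_pos (Or.inr rfl),
    E.sum_eq j (fun χ => E.a j χ * E.a 0 χ) (fun χ h => by rw [h, zero_mul]), E.ae 0] at h
  simpa using h

theorem d_pos (χ : X) : (0 : ℤ) < E.d χ := by
  by_cases h : χ = E.e
  · rw [h, E.de]; norm_num
  · have := E.seven χ h; omega

theorem abs_sd {j : Fin 4} {χ : X} (h : χ ∈ E.T j) : |E.sd j χ| = (E.d χ : ℤ) := by
  rcases E.pm_one h with e | e <;> simp [sd, e]

/-- Two of the three share exactly one constituent, with the same sign. -/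
theorem pair {i j : Fin 4} (hi : i ≠ 0) (hj : j ≠ 0) (hij : i ≠ j) :
    ∃ x, x ∈ E.T i ∧ x ∈ E.T j ∧ E.a i x = E.a j x ∧ ∀ χ ∈ E.T i, χ ∈ E.T j → χ = x := by
  classical
  set S := E.T i ∩ E.T j with hS
  have hg := E.gram i j
  rw [if_neg hij, if_neg (by tauto),
    E.sum_eq i (fun χ => E.a i χ * E.a j χ) (fun χ h => by rw [h, zero_mul]), E.ae i, E.ae j,
    if_neg hi, if_neg hj] at hg
  have hsum : ∑ χ ∈ S, E.a i χ * E.a j χ = 1 := by
    rw [Finset.sum_subset (Finset.inter_subset_left : S ⊆ E.T i) fun χ hχ hn => ?_]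
    · linarith
    · by_contra h
      exact hn (Finset.mem_inter.2 ⟨hχ, E.mem_T.2 ⟨(E.mem_T.1 hχ).1, right_ne_zero_of_mul h⟩⟩)
  set P := S.filter fun χ => E.a i χ = E.a j χ with hP
  set N := S.filter fun χ => ¬ E.a i χ = E.a j χ with hN
  have hPN : P.card + N.card = S.card := Finset.card_filter_add_card_filter_not _
  have hval : (P.card : ℤ) - N.card = 1 := by
    rw [← hsum, ← Finset.sum_filter_add_sum_filter_not S (fun χ => E.a i χ = E.a j χ),
      Finset.sum_congr rfl (g := fun _ => (1 : ℤ)) fun χ hχ => ?_,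
      Finset.sum_congr rfl (s₂ := N) (g := fun _ => (-1 : ℤ)) fun χ hχ => ?_]
    · simp [hP, hN, sub_eq_add_neg]
    · obtain ⟨h1, h2⟩ := Finset.mem_filter.1 hχ
      obtain ⟨hi', hj'⟩ := Finset.mem_inter.1 h1
      rcases E.pm_one hi' with e | e <;> rcases E.pm_one hj' with e' | e' <;> rw [e, e'] at h2 ⊢ <;>
        first | (norm_num at h2 ⊢; done) | norm_num at h2
    · obtain ⟨h1, h2⟩ := Finset.mem_filter.1 hχ
      obtain ⟨hi', hj'⟩ := Finset.mem_inter.1 h1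
      rw [← h2]
      rcases E.pm_one hi' with e | e <;> rw [e] <;> norm_num
  have hS3 : S.card ≤ 3 := by
    have := Finset.card_le_card (Finset.inter_subset_left : S ⊆ E.T i)
    rw [E.card_T, if_neg hi] at this
    exact this
  have hN0 : N.card = 0 := by
    by_contra hne
    have hN1 : N.card = 1 := by omega
    have hS : S.card = 3 := by omega
    have e1 : S = E.T i := Finset.eq_of_subset_of_card_le Finset.inter_subset_left
      (by rw [E.card_T, if_neg hi, hS])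
    have e2 : S = E.T j := Finset.eq_of_subset_of_card_le Finset.inter_subset_right
      (by rw [E.card_T, if_neg hj, hS])
    obtain ⟨z, hz⟩ := Finset.card_eq_one.1 hN1
    have h1 := E.sum_sd i
    have h2 := E.sum_sd j
    rw [← e1, if_neg hi, ← Finset.sum_filter_add_sum_filter_not S (fun χ => E.a i χ = E.a j χ)] at h1
    rw [← e2, if_neg hj, ← Finset.sum_filter_add_sum_filter_not S (fun χ => E.a i χ = E.a j χ),
      Finset.sum_congr rfl (g := fun χ => E.sd i χ) fun χ hχ => by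
        rw [sd, sd, (Finset.mem_filter.1 hχ).2]] at h2
    rw [show (S.filter fun χ => ¬ E.a i χ = E.a j χ) = {z} from hz, Finset.sum_singleton] at h1 h2
    have h3 : E.sd i z = E.sd j z := by linarith
    have hzN : z ∈ N := hz ▸ Finset.mem_singleton_self z
    exact (Finset.mem_filter.1 hzN).2 (mul_right_cancel₀ (E.d_pos z).ne' h3)
  have hP1 : P.card = 1 := by omega
  have hS1 : S.card = 1 := by omega
  obtain ⟨x, hx⟩ := Finset.card_eq_one.1 hP1
  have hxP : x ∈ P := hx ▸ Finset.mem_singleton_self x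
  obtain ⟨hxS, hxe⟩ := Finset.mem_filter.1 hxP
  obtain ⟨hxi, hxj⟩ := Finset.mem_inter.1 hxS
  exact ⟨x, hxi, hxj, hxe, fun χ hi' hj' =>
    Finset.card_le_one.1 hS1.le χ (Finset.mem_inter.2 ⟨hi', hj'⟩) x hxS⟩

/-- The relations among three constituents. -/
theorem triple {j : Fin 4} (hj : j ≠ 0) {R : ℤ}
    (hR : (![0, 144000, 144000, 86400] j : ℚ) = R) {p q r : X} [DecidableEq X]
    (hT : E.T j = {p, q, r}) :
    (p ≠ q ∧ p ≠ r ∧ q ≠ r) ∧
    Side g (E.sd j p) (E.sd j q) (E.sd j r) ∧ 1 + E.sd j p + E.sd j q + E.sd j r = 0 ∧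
    (∀ χ ∈ E.T j, (E.sd j χ - E.a j χ * E.val χ) % 8 = 0) ∧
    (g : ℤ) * (E.sd j p * E.sd j q * E.sd j r +
        (E.a j p * E.val p) ^ 2 * (E.sd j q * E.sd j r) +
        (E.a j q * E.val q) ^ 2 * (E.sd j p * E.sd j r) +
        (E.a j r * E.val r) ^ 2 * (E.sd j p * E.sd j q)) =
      R * (E.sd j p * E.sd j q * E.sd j r) := by
  have h3 := E.card_T j
  rw [if_neg hj, hT] at h3
  have hpq : p ≠ q := by
    rintro rfl
    rw [Finset.insert_eq_self.2 (Finset.mem_insert_self p {r})] at h3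
    have := Finset.card_insert_le p ({r} : Finset X)
    simp at this h3; omega
  have hpr : p ≠ r := by
    rintro rfl
    rw [Finset.insert_eq_self.2 (Finset.mem_insert_of_mem (Finset.mem_singleton_self p))] at h3
    have := Finset.card_insert_le q ({p} : Finset X)
    simp at this h3; omega
  have hqr : q ≠ r := by
    rintro rfl
    simp at h3
    have := Finset.card_insert_le p ({q} : Finset X)
    simp at this; omega
  have hp : p ∈ E.T j := by rw [hT]; simp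
  have hq : q ∈ E.T j := by rw [hT]; simp
  have hr : r ∈ E.T j := by rw [hT]; simp
  have hne : ∀ {χ}, χ ∈ E.T j → E.sd j χ ≠ 0 := fun {χ} h =>
    mul_ne_zero (E.mem_T.1 h).2 (E.d_pos χ).ne'
  have hdvd : ∀ χ ∈ E.T j, (g : ℤ) % E.sd j χ = 0 := fun χ h => by
    refine Int.emod_eq_zero_of_dvd ?_
    have : (E.d χ : ℤ) ∣ g := Int.natCast_dvd_natCast.2 (E.dvd χ)
    rcases E.pm_one h with e | e <;> simp [sd, e, this]
  refine ⟨⟨hpq, hpr, hqr⟩, ⟨?_, ?_, ?_, ?_, ?_, hdvd p hp, hdvd q hq, hdvd r hr, ?_⟩, ?_, ?_, ?_⟩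
  · rw [E.abs_sd hp]; exact_mod_cast E.seven p (E.mem_T.1 hp).1
  · rw [E.abs_sd hq]; exact_mod_cast E.seven q (E.mem_T.1 hq).1
  · rw [E.abs_sd hr]; exact_mod_cast E.seven r (E.mem_T.1 hr).1
  · have := E.h840; omega
  · have := E.h16; omega
  · have h := E.sq {E.e, p, q, r}
    have he : ∀ {χ}, χ ∈ E.T j → E.e ≠ χ := fun h => (E.mem_T.1 h).1.symm
    rw [Finset.sum_insert (by simp [he hp, he hq, he hr]), Finset.sum_insert (by simp [hpq, hpr]),
      Finset.sum_pair hqr, E.de] at h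
    have hs : ∀ χ ∈ E.T j, E.sd j χ * E.sd j χ = (E.d χ : ℤ) ^ 2 := fun χ h => by
      rw [← abs_mul_abs_self, E.abs_sd h, pow_two]
    rw [hs p hp, hs q hq, hs r hr]
    have h' : ((1 ^ 2 + (E.d p ^ 2 + (E.d q ^ 2 + E.d r ^ 2)) : ℕ) : ℤ) ≤ (g : ℤ) := by exact_mod_cast h
    push_cast at h'
    linarith
  · have h := E.sum_sd j
    rw [if_neg hj, hT, Finset.sum_insert (by simp [hpq, hpr]), Finset.sum_pair hqr] at h
    linarith
  · intro χ hχ
    have h : ((E.d χ : ℤ) - E.val χ) % 8 = 0 := E.mod8 χ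
    rcases E.pm_one hχ with e | e <;> simp only [sd, e] <;> omega
  · have h := E.ident j
    rw [hR] at h
    have hsum : ∑ χ, (E.a j χ : ℚ) * (E.val χ : ℚ) ^ 2 / (E.d χ : ℚ) =
        1 + ((E.a j p : ℚ) * (E.val p : ℚ) ^ 2 / (E.d p : ℚ) +
          ((E.a j q : ℚ) * (E.val q : ℚ) ^ 2 / (E.d q : ℚ) +
            (E.a j r : ℚ) * (E.val r : ℚ) ^ 2 / (E.d r : ℚ))) := by
      classical
      rw [← Finset.add_sum_erase _ _ (Finset.mem_univ E.e)]
      congr 1
      · have hv : E.val E.e = 1 := by simp [val, E.ae]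
        rw [E.ae j, if_neg hj, hv, E.de]; norm_num
      · rw [← Finset.sum_subset (s₁ := E.T j)
          (fun χ hχ => Finset.mem_erase.2 ⟨(E.mem_T.1 hχ).1, Finset.mem_univ χ⟩) fun χ hχ hn => ?_,
          hT, Finset.sum_insert (by simp [hpq, hpr]), Finset.sum_pair hqr]
        by_cases ha : E.a j χ = 0
        · simp [ha]
        · exact absurd (E.mem_T.2 ⟨(Finset.mem_erase.1 hχ).1, ha⟩) hn
    change (g : ℚ) * ∑ χ, (E.a j χ : ℚ) * (E.val χ : ℚ) ^ 2 / (E.d χ : ℚ) = _ at h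
    rw [hsum] at h
    have hterm : ∀ χ ∈ E.T j, (E.a j χ : ℚ) * (E.val χ : ℚ) ^ 2 / (E.d χ : ℚ) =
        ((E.a j χ * E.val χ : ℤ) : ℚ) ^ 2 / (E.sd j χ : ℚ) := fun χ hχ => by
      rcases E.pm_one hχ with e | e <;> simp [sd, e, neg_div, div_neg]
    rw [hterm p hp, hterm q hq, hterm r hr] at h
    have n1 : (E.sd j p : ℚ) ≠ 0 := Int.cast_ne_zero.2 (hne hp)
    have n2 : (E.sd j q : ℚ) ≠ 0 := Int.cast_ne_zero.2 (hne hq)
    have n3 : (E.sd j r : ℚ) ≠ 0 := Int.cast_ne_zero.2 (hne hr)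
    field_simp at h
    have h' : (((g : ℤ) * (E.sd j p * E.sd j q * E.sd j r +
        (E.a j p * E.val p) ^ 2 * (E.sd j q * E.sd j r) +
        (E.a j q * E.val q) ^ 2 * (E.sd j p * E.sd j r) +
        (E.a j r * E.val r) ^ 2 * (E.sd j p * E.sd j q)) : ℤ) : ℚ) =
      ((R * (E.sd j p * E.sd j q * E.sd j r) : ℤ) : ℚ) := by
      push_cast at h ⊢
      linear_combination h
    exact_mod_cast h'

theorem a_eq_zero {j : Fin 4} {χ : X} (hne : χ ≠ E.e) (h : χ ∉ E.T j) : E.a j χ = 0 := by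
  by_contra hn
  exact h (E.mem_T.2 ⟨hne, hn⟩)

theorem exists_two {j : Fin 4} (hj : j ≠ 0) [DecidableEq X] {x : X} (hx : x ∈ E.T j) :
    ∃ U V, E.T j = {x, U, V} := by
  have h : ((E.T j).erase x).card = 2 := by
    rw [Finset.card_erase_of_mem hx, E.card_T, if_neg hj]
  obtain ⟨U, V, -, hUV⟩ := Finset.card_eq_two.1 h
  exact ⟨U, V, by rw [← hUV, Finset.insert_erase hx]⟩

theorem exists_third {j : Fin 4} (hj : j ≠ 0) [DecidableEq X] {x y : X} (hx : x ∈ E.T j)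
    (hy : y ∈ E.T j) (hxy : x ≠ y) : ∃ z, E.T j = {x, y, z} := by
  obtain ⟨U, V, h⟩ := E.exists_two hj hx
  have hy' : y = U ∨ y = V := by
    rw [h] at hy
    simp only [Finset.mem_insert, Finset.mem_singleton] at hy
    tauto
  rcases hy' with rfl | rfl
  · exact ⟨V, h⟩
  · exact ⟨U, by rw [h]; ext; simp; tauto⟩

/-- A common constituent is not in the first one. -/
theorem zero_of_shared {i j : Fin 4} (hi : i ≠ 0) (hj : j ≠ 0) {x : X} (hxi : x ∈ E.T i)
    (hxj : x ∈ E.T j) (huniq : ∀ χ ∈ E.T i, χ ∈ E.T j → χ = x) : E.a 0 x = 0 := by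
  classical
  by_contra hx0
  have hx : x ∈ E.T 0 := E.mem_T.2 ⟨(E.mem_T.1 hxi).1, hx0⟩
  have key : ∀ k : Fin 4, k ≠ 0 → x ∈ E.T k → ∃ q ∈ E.T k, q ∈ E.T 0 ∧ q ≠ x := by
    intro k hk hxk
    by_contra hno
    push Not at hno
    have h := E.sum_ortho hk
    rw [Finset.sum_eq_single x (fun χ hχ hne => by
      rw [E.a_eq_zero (E.mem_T.1 hχ).1 (fun h0 => hne (hno χ hχ h0)), mul_zero])
      (fun h' => absurd hxk h')] at h
    exact mul_ne_zero (E.mem_T.1 hxk).2 hx0 h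
  obtain ⟨q, hq, hq0, hqx⟩ := key i hi hxi
  obtain ⟨q', hq', hq0', hqx'⟩ := key j hj hxj
  have h2 : ((E.T 0).erase x).card = 1 := by
    rw [Finset.card_erase_of_mem hx, E.card_T, if_pos rfl]
  have := Finset.card_le_one.1 h2.le q (Finset.mem_erase.2 ⟨hqx, hq0⟩) q'
    (Finset.mem_erase.2 ⟨hqx', hq0'⟩)
  exact hqx (huniq q hq (this ▸ hq'))

/-- The two unshared constituents. -/
theorem tilt {j : Fin 4} (hj : j ≠ 0) [DecidableEq X] {x U V : X} (hT : E.T j = {x, U, V})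
    (hxU : x ≠ U) (hxV : x ≠ V) (hUV : U ≠ V) (hx0 : E.a 0 x = 0) :
    E.a j V * E.a 0 V = -(E.a j U * E.a 0 U) ∧
      (E.a j U * E.a 0 U = 0 ∨ (E.sd j U = E.sd j V ∧
        (E.a j U * E.a 0 U = 1 ∨ E.a j U * E.a 0 U = -1))) := by
  have hU : U ∈ E.T j := by rw [hT]; simp
  have hV : V ∈ E.T j := by rw [hT]; simp
  have h := E.sum_ortho hj
  rw [hT, Finset.sum_insert (by simp [hxU, hxV]), Finset.sum_pair hUV, hx0, mul_zero] at h
  refine ⟨by linarith, ?_⟩
  by_cases hz : E.a j U * E.a 0 U = 0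
  · exact Or.inl hz
  right
  have hU0 : U ∈ E.T 0 := E.mem_T.2 ⟨(E.mem_T.1 hU).1, right_ne_zero_of_mul hz⟩
  have hV0 : V ∈ E.T 0 := E.mem_T.2 ⟨(E.mem_T.1 hV).1, fun e => hz (by rw [e] at h; linarith)⟩
  have h0 : E.T 0 = {U, V} := (Finset.eq_of_subset_of_card_le
    (Finset.insert_subset hU0 (Finset.singleton_subset_iff.2 hV0))
    (by rw [E.card_T, if_pos rfl, Finset.card_pair hUV])).symm
  have hd := E.sum_sd 0
  rw [h0, if_pos rfl, Finset.sum_pair hUV] at hd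
  simp only [sd] at hd ⊢
  have hdu := E.d_pos U
  have hdv := E.d_pos V
  rcases E.pm_one hU with a1 | a1 <;> rcases E.pm_one hV with a2 | a2 <;>
    rcases E.pm_one hU0 with b1 | b1 <;> rcases E.pm_one hV0 with b2 | b2 <;>
      simp only [a1, a2, b1, b2] at hd h ⊢ <;> omega

/-- The three constituents in the normal form. -/
theorem common_normal {j : Fin 4} (hj : j ≠ 0) [DecidableEq X] {x : X} (hx : x ∈ E.T j)
    (hx0 : E.a 0 x = 0) {k : ℤ}
    (hval : ∀ χ ∈ E.T j, χ ≠ x → E.a j χ * E.val χ = 4 * (E.a j χ * E.a 0 χ) + k) :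
    ∃ U V, E.T j = {x, U, V} ∧
      ((E.a j U * E.val U = k ∧ E.a j V * E.val V = k) ∨
        (E.sd j U = E.sd j V ∧ E.a j U * E.val U = k + 4 ∧ E.a j V * E.val V = k - 4)) := by
  obtain ⟨U, V, hT⟩ := E.exists_two hj hx
  have h3 := E.card_T j
  rw [if_neg hj, hT] at h3
  have hne : x ≠ U ∧ x ≠ V ∧ U ≠ V := by
    refine ⟨?_, ?_, ?_⟩ <;> rintro rfl <;> simp at h3 <;>
      [have := Finset.card_insert_le x ({V} : Finset X);
       have := Finset.card_insert_le U ({x} : Finset X);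
       have := Finset.card_insert_le x ({U} : Finset X)] <;>
      simp at this <;> omega
  obtain ⟨h1, h2, h12⟩ := hne
  have hU : U ∈ E.T j := by rw [hT]; simp
  have hV : V ∈ E.T j := by rw [hT]; simp
  have hu := hval U hU h1.symm
  have hv := hval V hV h2.symm
  obtain ⟨hneg, hzero | ⟨heq, htau | htau⟩⟩ := E.tilt hj hT h1 h2 h12 hx0
  · exact ⟨U, V, hT, Or.inl ⟨by rw [hu, hzero]; ring, by rw [hv, hneg, hzero]; ring⟩⟩
  · exact ⟨U, V, hT, Or.inr ⟨heq, by rw [hu, htau]; ring, by rw [hv, hneg, htau]; ring⟩⟩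
  · exact ⟨V, U, by rw [hT]; ext; simp; tauto, Or.inr ⟨heq.symm,
      by rw [hv, hneg, htau]; ring, by rw [hu, htau]; ring⟩⟩

theorem order_common {x : X} (h1 : x ∈ E.T 1) (h2 : x ∈ E.T 2) (h3 : x ∈ E.T 3)
    (e12 : E.a 1 x = E.a 2 x) (e13 : E.a 1 x = E.a 3 x)
    (u12 : ∀ χ ∈ E.T 1, χ ∈ E.T 2 → χ = x) (u13 : ∀ χ ∈ E.T 1, χ ∈ E.T 3 → χ = x)
    (u23 : ∀ χ ∈ E.T 2, χ ∈ E.T 3 → χ = x) :
    (g : ℤ) = 175560 ∨ (g : ℤ) = 189000 := by
  classical
  have hx0 := E.zero_of_shared (by decide : (1 : Fin 4) ≠ 0) (by decide : (2 : Fin 4) ≠ 0) h1 h2 u12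
  have hv1 : E.a 1 x * E.val x = 1 := by
    rcases E.pm_one h1 with e | e <;> simp [val, hx0, ← e12, ← e13, e]
  obtain ⟨U, V, hT, hc⟩ := E.common_normal (by decide : (1 : Fin 4) ≠ 0) h1 hx0 (k := 3) fun χ hχ hne => by
    have e2 := E.a_eq_zero (E.mem_T.1 hχ).1 fun h => hne (u12 χ hχ h)
    have e3 := E.a_eq_zero (E.mem_T.1 hχ).1 fun h => hne (u13 χ hχ h)
    rcases E.pm_one hχ with e | e <;> simp only [val, e, e2, e3] <;> ring
  obtain ⟨-, hs, hsum, hmod, hid⟩ :=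
    E.triple (by decide : (1 : Fin 4) ≠ 0) (R := 144000) (by simp) hT
  have hU := hmod U (by rw [hT]; simp)
  have hV := hmod V (by rw [hT]; simp)
  rw [hv1] at hid
  have hmem : ((g : ℤ), E.sd 1 x, E.sd 1 U, E.sd 1 V) ∈ listA := by
    rcases hc with ⟨a, b⟩ | ⟨heq, a, b⟩
    · rw [a] at hU hid; rw [b] at hV hid
      exact stageA hs hsum (by omega) (by omega) (by linear_combination hid)
    · rw [a] at hU hid; rw [b] at hid
      rw [← heq] at hs hsum hid ⊢
      exact stageA' hs hsum (by omega) (by linear_combination hid)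
  -- the third function
  have hx3 : E.sd 3 x = E.sd 1 x := by simp [sd, e13]
  have hv3 : E.a 3 x * E.val x = 1 := by rw [← e13]; exact hv1
  obtain ⟨U', V', hT', hc'⟩ := E.common_normal (by decide : (3 : Fin 4) ≠ 0) h3 hx0 (k := -5)
    fun χ hχ hne => by
    have e1 := E.a_eq_zero (E.mem_T.1 hχ).1 fun h => hne (u13 χ h hχ)
    have e2 := E.a_eq_zero (E.mem_T.1 hχ).1 fun h => hne (u23 χ h hχ)
    rcases E.pm_one hχ with e | e <;> simp only [val, e, e1, e2] <;> ring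
  obtain ⟨-, hs', hsum', hmod', hid'⟩ :=
    E.triple (by decide : (3 : Fin 4) ≠ 0) (R := 86400) (by simp) hT'
  have hU' := hmod' U' (by rw [hT']; simp)
  rw [hv3, hx3] at hid'
  rw [hx3] at hs' hsum'
  refine stageE hmem hs' hsum' ?_
  rcases hc' with ⟨a, b⟩ | ⟨heq, a, b⟩
  · rw [a] at hU' hid'; rw [b] at hid'
    exact Or.inl ⟨by omega, by linear_combination hid'⟩
  · rw [a] at hU' hid'; rw [b] at hid'
    exact Or.inr ⟨by omega, heq, by linear_combination hid'⟩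

theorem order_triangle {x y w : X} (x1 : x ∈ E.T 1) (x2 : x ∈ E.T 2) (y1 : y ∈ E.T 1)
    (y3 : y ∈ E.T 3) (w2 : w ∈ E.T 2) (w3 : w ∈ E.T 3)
    (ex : E.a 1 x = E.a 2 x) (ey : E.a 1 y = E.a 3 y) (ew : E.a 2 w = E.a 3 w)
    (u12 : ∀ χ ∈ E.T 1, χ ∈ E.T 2 → χ = x) (u13 : ∀ χ ∈ E.T 1, χ ∈ E.T 3 → χ = y)
    (u23 : ∀ χ ∈ E.T 2, χ ∈ E.T 3 → χ = w) (hxy : x ≠ y) : False := by
  classical
  have hxw : x ≠ w := fun e => hxy (u13 x x1 (e ▸ w3))
  have hyw : y ≠ w := fun e => hxy (u12 y y1 (e ▸ w2)).symm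
  have x0 := E.zero_of_shared (by decide : (1 : Fin 4) ≠ 0) (by decide : (2 : Fin 4) ≠ 0) x1 x2 u12
  have y0 := E.zero_of_shared (by decide : (1 : Fin 4) ≠ 0) (by decide : (3 : Fin 4) ≠ 0) y1 y3 u13
  have w0 := E.zero_of_shared (by decide : (2 : Fin 4) ≠ 0) (by decide : (3 : Fin 4) ≠ 0) w2 w3 u23
  have xe := (E.mem_T.1 x1).1
  have ye := (E.mem_T.1 y1).1
  have we := (E.mem_T.1 w2).1
  have x3 := E.a_eq_zero xe fun h => hxy (u13 x x1 h)
  have y2 := E.a_eq_zero ye fun h => hxy (u12 y y1 h).symm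
  have w1 := E.a_eq_zero we fun h => hxw (u12 w h w2).symm
  have vx : E.a 1 x * E.val x = 6 := by
    rcases E.pm_one x1 with e | e <;> simp [val, x0, x3, ← ex, e]
  have vy : E.a 1 y * E.val y = -2 := by
    rcases E.pm_one y1 with e | e <;> simp [val, y0, y2, ← ey, e]
  have vw : E.a 2 w * E.val w = -2 := by
    rcases E.pm_one w2 with e | e <;> simp [val, w0, w1, ← ew, e]
  have third : ∀ {j : Fin 4}, j ≠ 0 → ∀ {p q z : X}, E.T j = {p, q, z} → p ≠ q → p ≠ z → q ≠ z →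
      E.a 0 p = 0 → E.a 0 q = 0 → E.a 0 z = 0 := by
    intro j hj p q z hT hpq hpz hqz hp hq
    have h := E.sum_ortho hj
    rw [hT, Finset.sum_insert (by simp [hpq, hpz]), Finset.sum_pair hqz, hp, hq] at h
    simp only [mul_zero, zero_add] at h
    exact (mul_eq_zero.1 h).resolve_left (E.mem_T.1 (show z ∈ E.T j by rw [hT]; simp)).2
  obtain ⟨c, hT1⟩ := E.exists_third (by decide : (1 : Fin 4) ≠ 0) x1 y1 hxy
  obtain ⟨b, hT2⟩ := E.exists_third (by decide : (2 : Fin 4) ≠ 0) x2 w2 hxw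
  obtain ⟨z, hT3⟩ := E.exists_third (by decide : (3 : Fin 4) ≠ 0) y3 w3 hyw
  obtain ⟨⟨-, hxc, hyc⟩, hs1, hsum1, hmod1, hid1⟩ :=
    E.triple (by decide : (1 : Fin 4) ≠ 0) (R := 144000) (by simp) hT1
  obtain ⟨⟨-, hxb, hwb⟩, hs2, hsum2, hmod2, hid2⟩ :=
    E.triple (by decide : (2 : Fin 4) ≠ 0) (R := 144000) (by simp) hT2
  obtain ⟨⟨-, hyz, hwz⟩, hs3, hsum3, -, hid3⟩ :=
    E.triple (by decide : (3 : Fin 4) ≠ 0) (R := 86400) (by simp) hT3
  have c1 : c ∈ E.T 1 := by rw [hT1]; simp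
  have b2 : b ∈ E.T 2 := by rw [hT2]; simp
  have z3 : z ∈ E.T 3 := by rw [hT3]; simp
  have vc : E.a 1 c * E.val c = 3 := by
    have h0 := third (by decide) hT1 hxy hxc hyc x0 y0
    have h2' := E.a_eq_zero (E.mem_T.1 c1).1 fun h => hxc (u12 c c1 h).symm
    have h3' := E.a_eq_zero (E.mem_T.1 c1).1 fun h => hyc (u13 c c1 h).symm
    rcases E.pm_one c1 with e | e <;> simp [val, h0, h2', h3', e]
  have vb : E.a 2 b * E.val b = 3 := by
    have h0 := third (by decide) hT2 hxw hxb hwb x0 w0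
    have h1' := E.a_eq_zero (E.mem_T.1 b2).1 fun h => hxb (u12 b h b2).symm
    have h3' := E.a_eq_zero (E.mem_T.1 b2).1 fun h => hwb (u23 b b2 h).symm
    rcases E.pm_one b2 with e | e <;> simp [val, h0, h1', h3', e]
  have vz : E.a 3 z * E.val z = -5 := by
    have h0 := third (by decide) hT3 hyw hyz hwz y0 w0
    have h1' := E.a_eq_zero (E.mem_T.1 z3).1 fun h => hyz (u13 z h z3).symm
    have h2' := E.a_eq_zero (E.mem_T.1 z3).1 fun h => hwz (u23 z h z3).symm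
    rcases E.pm_one z3 with e | e <;> simp [val, h0, h1', h2', e]
  have vx2 : E.a 2 x * E.val x = 6 := by rw [← ex]; exact vx
  have vy3 : E.a 3 y * E.val y = -2 := by rw [← ey]; exact vy
  have vw3 : E.a 3 w * E.val w = -2 := by rw [← ew]; exact vw
  have sx : E.sd 2 x = E.sd 1 x := by simp [sd, ex]
  have sy : E.sd 3 y = E.sd 1 y := by simp [sd, ey]
  have sw : E.sd 3 w = E.sd 2 w := by simp [sd, ew]
  have m1 := hmod1 x x1
  have m2 := hmod1 y y1
  have m3 := hmod2 w w2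
  rw [vx] at m1; rw [vy] at m2; rw [vw] at m3
  rw [vx, vy, vc] at hid1
  rw [vx2, vw, vb, sx] at hid2
  rw [vy3, vw3, vz, sy, sw] at hid3
  rw [sy, sw] at hsum3
  rw [sx] at hs2 hsum2
  exact stageC (stageB hs1 hsum1 (by omega) (by omega) (by linear_combination hid1))
    (stageB hs2 hsum2 (by omega) (by omega) (by linear_combination hid2)) hsum3 hs3.2.2.1
    (by linear_combination hid3)

include E in
/-- The two possible orders. -/
theorem order_cases : g = 175560 ∨ g = 189000 := by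
  obtain ⟨x, x1, x2, ex, u12⟩ :=
    E.pair (by decide : (1 : Fin 4) ≠ 0) (by decide : (2 : Fin 4) ≠ 0) (by decide)
  obtain ⟨y, y1, y3, ey, u13⟩ :=
    E.pair (by decide : (1 : Fin 4) ≠ 0) (by decide : (3 : Fin 4) ≠ 0) (by decide)
  obtain ⟨w, w2, w3, ew, u23⟩ :=
    E.pair (by decide : (2 : Fin 4) ≠ 0) (by decide : (3 : Fin 4) ≠ 0) (by decide)
  by_cases hxy : x = y
  · subst hxy
    have hw : w = x := (u23 x x2 y3).symm
    subst hw
    have := E.order_common x1 x2 y3 ex ey u12 u13 u23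
    omega
  · exact (E.order_triangle x1 x2 y1 y3 w2 w3 ex ey ew u12 u13 u23 hxy).elim

end Degrees

end CfsgLib.Invol.J1Cent
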