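import Cfsg.Agent.Lib.Invol.JankoOneLocal
import Cfsg.Agent.Lib.BlockB.Codegree
import Cfsg.Agent.Lib.BlockB.ClassMul

/-!
The four generalized characters induced from the centralizer of the involution and the relations
between their constituents, the values at the involution and the order of the group.
-/

set_option autoImplicit false
set_option linter.unusedSectionVars false
set_option maxHeartbeats 1000000

namespace CfsgLib.Invol.J1Cent

open Cfsg
open scoped ComplexConjugate

universe u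

/-- The integral data coming from the characters. -/
structure Degrees (X : Type u) [Fintype X] (g : ℕ) where
  e : X
  a : Fin 4 → X → ℤ
  d : X → ℕ
  h840 : 840 ∣ g
  h16 : ¬ 16 ∣ g
  gram : ∀ i j : Fin 4, ∑ χ, a i χ * a j χ =
    if i = j then (if i = 0 then 2 else 4) else if i = 0 ∨ j = 0 then 0 else 2
  ae : ∀ j, a j e = if j = 0 then 0 else 1
  de : d e = 1
  deg : ∀ j, ∑ χ, a j χ * (d χ : ℤ) = 0
  seven : ∀ χ, χ ≠ e → 7 ≤ d χ
  mod8 : ∀ χ, ((d χ : ℤ) - (4 * a 0 χ + 3 * a 1 χ + 3 * a 2 χ - 5 * a 3 χ)) % 8 = 0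
  dvd : ∀ χ, d χ ∣ g
  sq : ∀ s : Finset X, ∑ χ ∈ s, d χ ^ 2 ≤ g
  ident : ∀ j, (g : ℚ) * ∑ χ, (a j χ : ℚ) *
    ((4 * a 0 χ + 3 * a 1 χ + 3 * a 2 χ - 5 * a 3 χ : ℤ) : ℚ) ^ 2 / (d χ : ℚ) =
      ![0, 144000, 144000, 86400] j

namespace Data

variable {G : Type u} [Group G] [Finite G] (D : Data G)

/-- The functions on the centralizer. -/
noncomputable def phiC (j : Fin 4) (c : D.C) : ℂ := phi j (D.ev c)

/-- The induced generalized characters. -/
noncomputable def Th [Fintype G] (j : Fin 4) : G → ℂ := indFun D.C (D.phiC j)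

theorem phiC_gen (j : Fin 4) : IsGeneralizedCharacter D.C (D.phiC j) := by
  obtain ⟨a, b, ha, hb, hab⟩ := phi_gen j
  exact ⟨_, _, CfsgLib.Char.isCharacter_comp ha D.ev.toMonoidHom,
    CfsgLib.Char.isCharacter_comp hb D.ev.toMonoidHom, funext fun c => congrFun hab (D.ev c)⟩

theorem Th_gen [Fintype G] (j : Fin 4) : IsGeneralizedCharacter G (D.Th j) :=
  CfsgLib.Char.isGeneralized_indFun _ (D.phiC_gen j)

theorem Th_class [Fintype G] (j : Fin 4) : IsClassFunction G (D.Th j) :=
  CfsgLib.Char.indFun_isClassFunction _ _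

theorem Th_one [Fintype G] (j : Fin 4) : D.Th j 1 = 0 := by
  rw [Th, CfsgLib.Char.indFun_apply_one, phiC, map_one, phi_one, mul_zero]

theorem phiC_pow {j : Fin 4} {c : D.C} (h : D.phiC j c ≠ 0) : (c : G) ^ 15 = D.t := by
  have e : D.ev (c ^ 15) = D.ev D.tC := by rw [map_pow, phi_ne_zero h]; exact D.hev.symm
  exact congrArg Subtype.val (D.ev.injective e)

theorem phiC_conj (j : Fin 4) (c a : D.C) : D.phiC j (a * c * a⁻¹) = D.phiC j c := by
  rw [phiC, map_mul, map_mul, map_inv]
  exact CfsgLib.Char.isGeneralized_isClassFunction (phi_gen j) _ _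

theorem Th_apply [Fintype G] {j : Fin 4} {c : D.C} (h : D.phiC j c ≠ 0) :
    D.Th j c = D.phiC j c := by
  classical
  rw [Th, CfsgLib.Char.indFun_def,
    ← Finset.sum_filter_of_ne (p := fun x => x ∈ D.C) (fun x _ hne => by
      by_contra hx
      apply hne
      by_cases hm : x⁻¹ * (c : G) * x ∈ D.C
      · rw [CfsgLib.Char.extendByZero_of_mem _ hm]
        by_contra h0
        refine hx ?_
        have : (x⁻¹ * (c : G) * (x⁻¹)⁻¹) ^ 15 = D.t := by
          rw [inv_inv]; exact D.phiC_pow h0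
        rw [conj_pow, D.phiC_pow h, inv_inv] at this
        rw [Subgroup.mem_centralizer_singleton_iff]
        calc x * D.t = x * (x⁻¹ * D.t * x) := by rw [this]
          _ = D.t * x := by group
      · exact CfsgLib.Char.extendByZero_of_not_mem _ hm),
    Finset.sum_congr rfl (g := fun _ => D.phiC j c) fun x hx => by
      have hxC : x ∈ D.C := (Finset.mem_filter.1 hx).2
      rw [CfsgLib.Char.extendByZero_of_mem _ (D.C.mul_mem (D.C.mul_mem (D.C.inv_mem hxC) c.2) hxC),
        ← D.phiC_conj j c ⟨x⁻¹, D.C.inv_mem hxC⟩]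
      congr 1
      exact Subtype.ext (by simp),
    Finset.sum_const, nsmul_eq_mul, ← mul_assoc]
  have hc : ((Finset.univ : Finset G).filter fun x => x ∈ D.C).card = Nat.card D.C := by
    rw [Nat.card_eq_fintype_card, Fintype.card_subtype]
  rw [hc, inv_mul_cancel₀ (Nat.cast_ne_zero.2 Nat.card_pos.ne'), one_mul]

theorem sum_C [Fintype D.C] (F : D.C → ℂ) : ∑ c : D.C, F c = ∑ m : Mod, F (D.ev.symm m) :=
  Fintype.sum_equiv D.ev.toEquiv _ _ fun c => by
    show F c = F (D.ev.symm (D.ev c))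
    rw [MulEquiv.symm_apply_apply]

theorem Th_inner [Fintype G] (j : Fin 4) {F : G → ℂ} (hF : IsClassFunction G F) :
    classInner (D.Th j) F = (120 : ℂ)⁻¹ * ∑ m : Mod, phi j m * conj (F (D.ev.symm m : D.C)) := by
  have := Fintype.ofFinite D.C
  rw [Th, CfsgLib.Char.frobenius_reciprocity _ _ _ hF, CfsgLib.Char.classInner_def, D.sum_C,
    D.card_C]
  simp only [phiC, MulEquiv.apply_symm_apply, Nat.cast_ofNat]

theorem Th_gram [Fintype G] (i j : Fin 4) :
    classInner (D.Th i) (D.Th j) =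
      if i = j then (if i = 0 then 2 else 4) else if i = 0 ∨ j = 0 then 0 else 2 := by
  rw [D.Th_inner i (D.Th_class j), Finset.sum_congr rfl (g := fun m => phi i m * phi j m) fun m _ => ?_,
    sum_phi_mul]
  · split_ifs <;> norm_num
  · by_cases h : phi i m = 0
    · simp [h]
    by_cases h' : D.phiC j (D.ev.symm m) = 0
    · have h0 : phi j m = 0 := by simpa [phiC] using h'
      exfalso
      obtain ⟨h1, h2⟩ : m.1 ≠ 1 ∧ cls m.2 ≠ 1 :=
        ⟨fun e => h (by simp [phi, sgnFac, e]), fun e => h (by fin_cases i <;> simp [phi, e, uval])⟩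
      refine uval_ne_zero j _ h2 ?_
      simpa [phi, sgnFac, h1] using h0
    · rw [D.Th_apply h', phiC, MulEquiv.apply_symm_apply, conj_phi]

theorem inner_one [Fintype G] (j : Fin 4) :
    classInner (D.Th j) (fun _ => 1) = if j = 0 then 0 else 1 := by
  rw [D.Th_inner j (F := fun _ => 1) fun _ _ => rfl]
  simp only [map_one, mul_one]
  rw [sum_phi]
  split_ifs <;> norm_num

theorem key_sum [Fintype G] {F : G → ℂ} (hF : IsClassFunction G F) :
    4 * classInner (D.Th 0) F + 3 * classInner (D.Th 1) F + 3 * classInner (D.Th 2) F -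
      5 * classInner (D.Th 3) F = conj (F D.t) := by
  rw [D.Th_inner 0 hF, D.Th_inner 1 hF, D.Th_inner 2 hF, D.Th_inner 3 hF]
  have e : ∀ m : Mod, 4 * (phi 0 m * conj (F (D.ev.symm m : D.C))) +
      3 * (phi 1 m * conj (F (D.ev.symm m : D.C))) + 3 * (phi 2 m * conj (F (D.ev.symm m : D.C))) -
      5 * (phi 3 m * conj (F (D.ev.symm m : D.C))) =
      (if m = iota then 120 else 0) * conj (F (D.ev.symm m : D.C)) := fun m => by
    rw [← phi_key]; ring
  calc _ = (120 : ℂ)⁻¹ * ∑ m : Mod, (if m = iota then 120 else 0) *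
        conj (F (D.ev.symm m : D.C)) := by
        simp only [← e, Finset.sum_sub_distrib, Finset.sum_add_distrib, ← Finset.mul_sum]
        ring
    _ = _ := by
        rw [Finset.sum_eq_single iota (fun m _ hm => by rw [if_neg hm, zero_mul]) (by simp),
          if_pos rfl, ← D.hev, MulEquiv.symm_apply_apply, ← mul_assoc,
          inv_mul_cancel₀ (by norm_num), one_mul]

/-- The pair count. -/
theorem pair_sum [Fintype G] (j : Fin 4) :
    ∑ v : G, ∑ w : G, D.Th j (v * D.t * v⁻¹ * (w * D.t * w⁻¹)) =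
      (Nat.card G : ℂ) * 120 * ![0, 1200, 1200, 720] j := by
  classical
  have := Fintype.ofFinite D.C
  set I : Finset G := Finset.univ.filter fun r => r * r = 1 ∧ r ≠ 1 with hI
  have hcl : ∀ F : G → ℂ, ∑ v : G, F (v * D.t * v⁻¹) = 120 * ∑ r ∈ I, F r := by
    intro F
    rw [← Finset.sum_fiberwise_of_maps_to (t := I) (g := fun v => v * D.t * v⁻¹) (fun v _ => by
        simp only [hI, Finset.mem_filter, Finset.mem_univ, true_and]
        refine ⟨?_, fun e => invol_ne_one D.ht (conj_eq_one_iff.1 e)⟩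
        rw [show v * D.t * v⁻¹ * (v * D.t * v⁻¹) = v * (D.t * D.t) * v⁻¹ by group,
          invol_mul_self D.ht]
        group),
      Finset.mul_sum]
    refine Finset.sum_congr rfl fun r hr => ?_
    obtain ⟨h1, h2⟩ := (Finset.mem_filter.1 hr).2
    obtain ⟨a, ha⟩ := isConj_iff.1 (D.hconj r (invol_of_mul_self h1 h2))
    rw [Finset.sum_congr rfl (g := fun _ => F r) fun v hv => by rw [(Finset.mem_filter.1 hv).2],
      Finset.sum_const, nsmul_eq_mul]
    congr 1
    have hc : ((Finset.univ : Finset G).filter fun v => v * D.t * v⁻¹ = r).card = Nat.card D.C := by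
      rw [Nat.card_eq_fintype_card, Fintype.card_subtype]
      refine Finset.card_equiv (Equiv.mulLeft a⁻¹) fun v => ?_
      simp only [Finset.mem_filter, Finset.mem_univ, true_and, Equiv.coe_mulLeft,
        Subgroup.mem_centralizer_singleton_iff, ← ha]
      constructor
      · intro h
        calc a⁻¹ * v * D.t = a⁻¹ * (v * D.t * v⁻¹) * v := by group
          _ = a⁻¹ * (a * D.t * a⁻¹) * v := by rw [h]
          _ = D.t * (a⁻¹ * v) := by group
      · intro h
        calc v * D.t * v⁻¹ = a * (a⁻¹ * v * D.t) * v⁻¹ := by group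
          _ = a * (D.t * (a⁻¹ * v)) * v⁻¹ := by rw [h]
          _ = a * D.t * a⁻¹ := by group
    rw [hc, D.card_C, Nat.cast_ofNat]
  rw [hcl fun r => ∑ w : G, D.Th j (r * (w * D.t * w⁻¹)),
    Finset.sum_congr rfl fun r _ => hcl fun s => D.Th j (r * s), ← Finset.mul_sum]
  -- undo the induction
  have hext : ∀ a : G, ∑ r ∈ I, ∑ s ∈ I, extendByZero D.C (D.phiC j) (a⁻¹ * (r * s) * a) =
      ∑ r ∈ I, ∑ s ∈ I, extendByZero D.C (D.phiC j) (r * s) := by
    intro a
    have hmem : ∀ r : G, r ∈ I ↔ a⁻¹ * r * a ∈ I := by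
      intro r
      simp only [hI, Finset.mem_filter, Finset.mem_univ, true_and]
      rw [show a⁻¹ * r * a * (a⁻¹ * r * a) = a⁻¹ * (r * r) * a by group]
      simp [mul_eq_one_iff_eq_inv, inv_mul_eq_iff_eq_mul]
    refine Finset.sum_equiv (MulAut.conj a⁻¹).toEquiv
      (fun r => by simpa using hmem r) fun r _ => ?_
    refine Finset.sum_equiv (MulAut.conj a⁻¹).toEquiv
      (fun s => by simpa using hmem s) fun s _ => ?_
    congr 1
    simp only [MulEquiv.toEquiv_eq_coe, MulEquiv.coe_toEquiv, MulAut.conj_apply]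
    group
  have hinner : ∑ r ∈ I, ∑ s ∈ I, extendByZero D.C (D.phiC j) (r * s) = ![0, 1200, 1200, 720] j := by
    rw [← sum_phi_pair j]
    calc _ = ∑ r ∈ I, ∑ c : D.C, if r⁻¹ * (c : G) ∈ I then D.phiC j c else 0 := by
          refine Finset.sum_congr rfl fun r _ => ?_
          rw [← Finset.sum_filter,
            ← Finset.sum_filter_of_ne (s := I) (p := fun s => r * s ∈ D.C) fun s _ hne => by
              by_contra hn
              exact hne (CfsgLib.Char.extendByZero_of_not_mem _ hn)]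
          refine Finset.sum_bij (fun s hs => (⟨r * s, (Finset.mem_filter.1 hs).2⟩ : D.C))
            (fun s hs => ?_) (fun s _ s' _ h => mul_left_cancel (congrArg Subtype.val h))
            (fun c hc => ⟨r⁻¹ * (c : G), ?_, Subtype.ext (by simp)⟩) fun s hs => ?_
          · simpa using (Finset.mem_filter.1 hs).1
          · simpa using (Finset.mem_filter.1 hc).2
          · exact CfsgLib.Char.extendByZero_of_mem _ _
      _ = ∑ c : D.C, ∑ r ∈ I, if r⁻¹ * (c : G) ∈ I then D.phiC j c else 0 := Finset.sum_comm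
      _ = _ := by
        rw [D.sum_C]
        refine Finset.sum_congr rfl fun m _ => ?_
        rw [← Finset.sum_filter, Finset.sum_const, nsmul_eq_mul, phiC, MulEquiv.apply_symm_apply,
          mul_comm]
        by_cases h0 : phi j m = 0
        · simp [h0]
        congr 2
        set c : D.C := D.ev.symm m with hc
        have hc15 : (c : G) ^ 15 = D.t := D.phiC_pow (j := j) (by simpa [phiC, hc] using h0)
        have hmemC : ∀ r ∈ I, r⁻¹ * (c : G) ∈ I → r ∈ D.C := by
          intro r hr hrc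
          obtain ⟨r1, -⟩ := (Finset.mem_filter.1 hr).2
          obtain ⟨s1, -⟩ := (Finset.mem_filter.1 hrc).2
          have hri : r⁻¹ = r := inv_eq_of_mul_eq_one_right r1
          rw [hri] at s1
          have hx : r * (c : G) * r⁻¹ = (c : G)⁻¹ := by
            rw [eq_inv_iff_mul_eq_one, ← s1]; rw [hri]; group
          have h1 := congrArg (fun x => x ^ 15) hx
          simp only [conj_pow, inv_pow, hc15, invol_inv D.ht] at h1
          exact Subgroup.mem_centralizer_singleton_iff.2 (mul_inv_eq_iff_eq_mul.1 h1)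
        refine (Finset.card_bij (fun r hr => D.ev ⟨r, hmemC r (Finset.mem_filter.1 hr).1
          (Finset.mem_filter.1 hr).2⟩) (fun r hr => ?_) (fun r _ r' _ h => ?_) fun p hp => ?_).trans rfl
        · obtain ⟨hr1, hr2⟩ := Finset.mem_filter.1 hr
          obtain ⟨r1, r2⟩ := (Finset.mem_filter.1 hr1).2
          obtain ⟨s1, s2⟩ := (Finset.mem_filter.1 hr2).2
          have hri : r⁻¹ = r := inv_eq_of_mul_eq_one_right r1
          rw [hri] at s1 s2
          have em : m = D.ev c := (D.ev.apply_symm_apply m).symm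
          refine Finset.mem_filter.2 ⟨Finset.mem_univ _, ?_, ?_, ?_, ?_⟩
          · rw [← map_mul, MulEquiv.map_eq_one_iff]; exact Subtype.ext r1
          · rw [ne_eq, MulEquiv.map_eq_one_iff]; exact fun h => r2 (congrArg Subtype.val h)
          · rw [em, ← map_mul, ← map_mul, MulEquiv.map_eq_one_iff]; exact Subtype.ext s1
          · rw [em, ← map_mul, ne_eq, MulEquiv.map_eq_one_iff]
            exact fun h => s2 (congrArg Subtype.val h)
        · exact congrArg Subtype.val (D.ev.injective h)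
        · obtain ⟨p1, p2, q1, q2⟩ := (Finset.mem_filter.1 hp).2
          set r : D.C := D.ev.symm p with hr
          have hr1 : (r : G) * r = 1 := by
            rw [← Subgroup.coe_mul, hr, ← map_mul, p1, map_one]; rfl
          have hri : ((r : G))⁻¹ = r := inv_eq_of_mul_eq_one_right hr1
          refine ⟨(r : G), Finset.mem_filter.2 ⟨Finset.mem_filter.2
            ⟨Finset.mem_univ _, hr1, fun h => p2 ?_⟩,
            Finset.mem_filter.2 ⟨Finset.mem_univ _, ?_, fun h => q2 ?_⟩⟩, ?_⟩
          · have : r = 1 := Subtype.ext h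
            simpa [hr] using this
          · rw [hri, ← Subgroup.coe_mul, ← Subgroup.coe_mul, hc, hr, ← map_mul, ← map_mul, q1,
              map_one]
            rfl
          · rw [hri] at h
            have : r * c = 1 := Subtype.ext h
            rwa [hr, hc, ← map_mul, MulEquiv.map_eq_one_iff] at this
          · simp [hr]
  simp only [Th, CfsgLib.Char.indFun_def, ← Finset.mul_sum, D.card_C]
  rw [Finset.sum_congr rfl fun r _ => Finset.sum_comm, Finset.sum_comm,
    Finset.sum_congr rfl fun a _ => hext a, hinner, Finset.sum_const, Finset.card_univ,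
    ← Nat.card_eq_fintype_card, nsmul_eq_mul, Nat.cast_ofNat]
  ring

include D in
theorem dvd_840 : 840 ∣ Nat.card G := by
  classical
  have h120 : 120 ∣ Nat.card G := D.card_C ▸ Subgroup.card_subgroup_dvd_card D.C
  -- the normalizer of the Sylow subgroup is transitive on its seven involutions
  have : Fact (Nat.Prime 2) := ⟨Nat.prime_two⟩
  let Q : Sylow 2 G := Sylow.ofCard D.embG.range (by
    obtain ⟨P⟩ := (inferInstance : Nonempty (Sylow 2 G))
    rw [← P.card_eq_multiplicity, D.hS, ← Nat.card_congr (MonoidHom.ofInjective D.embG_injective).toEquiv,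
      Nat.card_eq_fintype_card]
    rfl)
  have hQ : (Q : Subgroup G) = D.embG.range := Sylow.coe_ofCard _ _
  have : IsMulCommutative (Q : Subgroup G) := ⟨⟨fun a b => by
    have ha : (a : G) ∈ D.embG.range := hQ ▸ a.2
    have hb : (b : G) ∈ D.embG.range := hQ ▸ b.2
    obtain ⟨v, hv⟩ := ha
    obtain ⟨w, hw⟩ := hb
    refine Subtype.ext ?_
    show (a : G) * b = b * a
    rw [← hv, ← hw, ← map_mul, ← map_mul, mul_comm]⟩⟩
  set N := Subgroup.normalizer ((Q : Subgroup G) : Set G)
  have hmem : ∀ w : E8, D.embG w ∈ Q := fun w => by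
    show D.embG w ∈ (Q : Subgroup G)
    rw [hQ]; exact ⟨w, rfl⟩
  have hn : ∀ n : N, ∃ w : {w : E8 // w ≠ 1}, D.embG w = (n : G) * D.t * (n : G)⁻¹ := fun n => by
    have h := (Subgroup.mem_normalizer_iff.1 n.2 D.t).1 (D.embG_e0 ▸ hmem e0)
    rw [hQ] at h
    obtain ⟨w, hw⟩ := h
    refine ⟨⟨w, fun e => invol_ne_one D.ht ?_⟩, hw⟩
    rw [e, map_one] at hw
    exact conj_eq_one_iff.1 hw.symm
  choose f hf using hn
  have hsurj : ∀ w : {w : E8 // w ≠ 1}, ∃ n, f n = w := fun w => by
    obtain ⟨g, hg⟩ := isConj_iff.1 (D.isConj_embG w.2)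
    obtain ⟨n, hn, hn'⟩ := CfsgLib.Transfer.abelian_sylow_controls Q D.t (D.embG_e0 ▸ hmem e0) g
      (hg ▸ hmem w)
    exact ⟨⟨n, hn⟩, Subtype.ext (D.embG_injective ((hf ⟨n, hn⟩).trans (hn'.trans hg)))⟩
  let K : Subgroup N := (D.C).subgroupOf N
  have hK : K.index = 7 := by
    have h7 : Nat.card {w : E8 // w ≠ 1} = 7 := by
      rw [Nat.card_eq_fintype_card, Fintype.card_subtype_compl, Fintype.card_subtype_eq]
      rfl
    rw [← h7, Subgroup.index]
    have heq : ∀ a b : N, f a = f b ↔ a⁻¹ * b ∈ K := fun a b => by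
      rw [Subgroup.mem_subgroupOf, Subgroup.mem_centralizer_singleton_iff]
      push_cast
      constructor
      · intro h
        have h' : (a : G) * D.t * (a : G)⁻¹ = (b : G) * D.t * (b : G)⁻¹ := by rw [← hf, ← hf, h]
        calc (a : G)⁻¹ * b * D.t = (a : G)⁻¹ * ((b : G) * D.t * (b : G)⁻¹) * b := by group
          _ = (a : G)⁻¹ * ((a : G) * D.t * (a : G)⁻¹) * b := by rw [h']
          _ = D.t * ((a : G)⁻¹ * b) := by group
      · intro h
        refine Subtype.ext (D.embG_injective ?_)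
        rw [hf, hf]
        calc (a : G) * D.t * (a : G)⁻¹ = (a : G) * (D.t * ((a : G)⁻¹ * b)) * (b : G)⁻¹ := by group
          _ = (a : G) * ((a : G)⁻¹ * b * D.t) * (b : G)⁻¹ := by rw [h]
          _ = (b : G) * D.t * (b : G)⁻¹ := by group
    refine Nat.card_congr (Equiv.ofBijective (Quotient.lift f fun a b h => (heq a b).2
      (QuotientGroup.leftRel_apply.1 h)) ⟨?_, fun w => ?_⟩)
    · rintro ⟨a⟩ ⟨b⟩ h
      exact Quotient.sound (QuotientGroup.leftRel_apply.2 ((heq a b).1 h))
    · obtain ⟨n, hn⟩ := hsurj w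
      exact ⟨Quotient.mk'' n, hn⟩
  have h7 : 7 ∣ Nat.card G :=
    (hK ▸ Subgroup.index_dvd_card K).trans (Subgroup.card_subgroup_dvd_card N)
  exact Nat.Coprime.mul_dvd_of_dvd_of_dvd (by norm_num : Nat.Coprime 7 120) h7 h120

/-- Restriction to the Sylow subgroup. -/
theorem restrict_facts [IsSimpleGroup G] (χ : IrrCharacter G) (v : ℤ) (d : ℕ)
    (hv : (χ : G → ℂ) D.t = v) (hd : (χ : G → ℂ) 1 = d) :
    ((d : ℤ) - v) % 8 = 0 ∧ ((χ : G → ℂ) ≠ (fun _ => 1) → 7 ≤ d) := by
  classical
  have hval : ∀ w : E8, w ≠ 1 → (χ : G → ℂ) (D.embG w) = v := fun w hw => by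
    rw [← hv]
    exact (CfsgLib.Char.isClassFunction_isConj (CfsgLib.Char.irr_isClassFunction χ.2)
      (D.isConj_embG hw)).symm
  have hres : IsCharacter E8 (fun w => (χ : G → ℂ) (D.embG w)) :=
    CfsgLib.Char.isCharacter_comp (CfsgLib.Char.irr_isCharacter χ.2) D.embG
  let sg : E8 →* ℂˣ :=
    { toFun := fun w => if w.toAdd.1 = 0 then 1 else -1
      map_one' := by simp
      map_mul' := fun a b => by
        have h2 : ∀ x : ZMod 2, x = 0 ∨ x = 1 := by decide +kernel
        rcases h2 a.toAdd.1 with ha | ha <;> rcases h2 b.toAdd.1 with hb | hb <;>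
          simp [ha, hb, show (1 : ZMod 2) + 1 = 0 by decide +kernel] }
  have hlin : ∀ l : E8 →* ℂˣ, IsCharacter E8 (fun w => (l w : ℂ)) := fun l =>
    CfsgLib.Char.irr_isCharacter (CfsgLib.Char.isIrrCharacter_linear l)
  obtain ⟨m, hm⟩ := CfsgLib.Char.classInner_isCharacter_nat hres CfsgLib.Char.isCharacter_one
  obtain ⟨k, hk⟩ := CfsgLib.Char.classInner_isCharacter_nat hres (hlin sg)
  have hsum : ∀ F : E8 → ℂ, ∑ w : E8, (χ : G → ℂ) (D.embG w) * F w =
      (d : ℂ) * F 1 + (v : ℂ) * ∑ w ∈ Finset.univ.erase 1, F w := fun F => by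
    rw [← Finset.add_sum_erase _ _ (Finset.mem_univ (1 : E8)), map_one, hd, Finset.mul_sum]
    congr 1
    exact Finset.sum_congr rfl fun w hw => by rw [hval w (Finset.ne_of_mem_erase hw)]
  have h8 : (Nat.card E8 : ℂ) = 8 := by rw [Nat.card_eq_fintype_card]; norm_num
  rw [CfsgLib.Char.classInner_def, h8, hsum fun _ => conj (1 : ℂ)] at hm
  rw [CfsgLib.Char.classInner_def, h8, hsum fun w => conj ((sg w : ℂˣ) : ℂ)] at hk
  have hs1 : ∑ _w ∈ (Finset.univ : Finset E8).erase 1, conj (1 : ℂ) = 7 := by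
    rw [map_one, Finset.sum_const, Finset.card_erase_of_mem (Finset.mem_univ _), Finset.card_univ]
    simp
  have hs2 : ∑ w ∈ (Finset.univ : Finset E8).erase 1, conj ((sg w : ℂˣ) : ℂ) = -1 := by
    rw [Finset.sum_congr rfl (g := fun w => ((if w.toAdd.1 = 0 then 1 else -1 : ℤ) : ℂ)) fun w _ => by
      by_cases h : w.toAdd.1 = 0 <;> simp [sg, h], ← Int.cast_sum,
      (show ∑ w ∈ (Finset.univ : Finset E8).erase 1, (if w.toAdd.1 = 0 then 1 else -1 : ℤ) = -1 by
        decide +kernel)]
    simp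
  rw [hs1, map_one] at hm
  rw [hs2, map_one, Units.val_one, map_one] at hk
  have em : (d : ℤ) + 7 * v = 8 * m := by
    have : ((((d : ℤ) + 7 * v : ℤ)) : ℂ) = ((8 * (m : ℤ) : ℤ) : ℂ) := by
      push_cast; linear_combination (8 : ℂ) * hm
    exact_mod_cast this
  have ek : (d : ℤ) - v = 8 * k := by
    have : ((((d : ℤ) - v : ℤ)) : ℂ) = ((8 * (k : ℤ) : ℤ) : ℂ) := by
      push_cast; linear_combination (8 : ℂ) * hk
    exact_mod_cast this
  refine ⟨by omega, fun hne => ?_⟩
  have hk0 : k ≠ 0 := by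
    rintro rfl
    refine hne (CfsgLib.BlockB.eq_one_of_charKer_eq_top χ ?_)
    refine (Subgroup.Normal.eq_bot_or_eq_top inferInstance).resolve_left fun hb => ?_
    have hmem : D.t ∈ CfsgLib.BlockB.charKer χ := by
      rw [CfsgLib.BlockB.mem_charKer, hv, hd]
      have : v = (d : ℤ) := by omega
      rw [this]; push_cast; ring
    rw [hb, Subgroup.mem_bot] at hmem
    exact invol_ne_one D.ht hmem
  omega

end Data

variable {G : Type u} [Group G] [Finite G]

/-- The relations satisfied by the constituents. -/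
theorem exists_degrees [IsSimpleGroup G] (D : Data G) :
    ∃ (X : Type u) (_ : Fintype X), Nonempty (Degrees X (Nat.card G)) := by
  classical
  have := Fintype.ofFinite G
  have := Fintype.ofFinite (IrrCharacter G)
  choose a ha using fun (j : Fin 4) (χ : IrrCharacter G) =>
    CfsgLib.Char.classInner_isGeneralized_int (D.Th_gen j)
      (CfsgLib.Char.isGeneralized_of_isCharacter (CfsgLib.Char.irr_isCharacter χ.2))
  set d : IrrCharacter G → ℕ := fun χ => charDegree (χ : G → ℂ) with hdd
  have hd : ∀ χ : IrrCharacter G, (χ : G → ℂ) 1 = (d χ : ℂ) := fun χ =>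
    (CfsgLib.BlockB.irr_degree_cast χ).symm
  set e : IrrCharacter G := ⟨fun _ => 1, CfsgLib.Char.isIrrCharacter_one⟩ with he
  set v : IrrCharacter G → ℤ := fun χ => 4 * a 0 χ + 3 * a 1 χ + 3 * a 2 χ - 5 * a 3 χ with hvd
  have hv : ∀ χ : IrrCharacter G, (χ : G → ℂ) D.t = (v χ : ℂ) := fun χ => by
    have h := D.key_sum (CfsgLib.Char.irr_isClassFunction χ.2)
    simp only [ha] at h
    have h2 : conj ((χ : G → ℂ) D.t) = (v χ : ℂ) := by rw [← h, hvd]; push_cast; ring
    have h3 := congrArg (starRingEnd ℂ) h2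
    rwa [Complex.conj_conj, map_intCast] at h3
  have hexp : ∀ (j : Fin 4) (g : G), D.Th j g = ∑ χ : IrrCharacter G, (a j χ : ℂ) * (χ : G → ℂ) g :=
    fun j g => by
      have h := CfsgLib.Char.classFunction_apply_eq_sum (D.Th_class j) g
      simp only [ha] at h
      exact h
  refine ⟨IrrCharacter G, inferInstance, ⟨⟨e, a, d, D.dvd_840, D.h16, ?_, ?_, ?_, ?_, ?_, ?_, ?_, ?_, ?_⟩⟩⟩
  · intro i j
    have h := CfsgLib.Char.classInner_eq_sum_mul (D.Th_class i) (D.Th j)
    simp only [ha, map_intCast, D.Th_gram] at h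
    have h2 : ((∑ χ, a i χ * a j χ : ℤ) : ℂ) =
        (((if i = j then (if i = 0 then 2 else 4) else if i = 0 ∨ j = 0 then 0 else 2 : ℤ)) : ℂ) := by
      push_cast
      rw [← h]
    exact_mod_cast h2
  · intro j
    have h : (a j e : ℂ) = if j = 0 then 0 else 1 := by
      rw [← ha j e]; exact D.inner_one j
    split_ifs at h ⊢ with h0 <;> exact_mod_cast h
  · have : (d e : ℂ) = 1 := (hd e).symm
    exact_mod_cast this
  · intro j
    have h := hexp j 1
    simp only [hd, D.Th_one] at h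
    exact_mod_cast h.symm
  · exact fun χ hχ => (D.restrict_facts χ (v χ) (d χ) (hv χ) (hd χ)).2
      fun h => hχ (Subtype.ext h)
  · exact fun χ => (D.restrict_facts χ (v χ) (d χ) (hv χ) (hd χ)).1
  · exact fun χ => CfsgLib.BlockB.irr_degree_dvd_card χ
  · intro s
    rw [← CfsgLib.BlockB.sum_degree_sq (G := G)]
    exact Finset.sum_le_sum_of_subset (Finset.subset_univ s)
  · intro j
    have h := D.pair_sum j
    rw [Finset.sum_congr rfl (g := fun _ => ∑ χ : IrrCharacter G, (a j χ : ℂ) *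
        ((Nat.card G : ℂ) * (χ : G → ℂ) D.t * (χ : G → ℂ) D.t / (χ : G → ℂ) 1)) fun x _ => ?_] at h
    swap
    · simp only [hexp]
      rw [Finset.sum_comm]
      refine Finset.sum_congr rfl fun χ _ => ?_
      have hcl := CfsgLib.Char.irr_isClassFunction χ.2
      have h1 := CfsgLib.BlockB.sum_irr_mul_conj χ (x * D.t * x⁻¹) D.t
      rw [← Finset.mul_sum, h1, hcl D.t x]
    rw [Finset.sum_const, Finset.card_univ, ← Nat.card_eq_fintype_card, nsmul_eq_mul, mul_assoc] at h
    have h2 := mul_left_cancel₀ CfsgLib.Char.natCard_ne_zero h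
    have hR : (![0, 144000, 144000, 86400] j : ℚ) = (![0, 1200, 1200, 720] j : ℚ) * 120 := by
      fin_cases j <;> norm_num
    have hgoal : (((Nat.card G : ℚ) * ∑ χ, (a j χ : ℚ) * ((v χ : ℤ) : ℚ) ^ 2 / (d χ : ℚ) : ℚ) : ℂ) =
        ((![0, 1200, 1200, 720] j * 120 : ℚ) : ℂ) := by
      rw [Rat.cast_mul (![0, 1200, 1200, 720] j : ℚ)]
      have e1 : (((![0, 1200, 1200, 720] j : ℚ)) : ℂ) = (![0, 1200, 1200, 720] j : ℂ) := by
        fin_cases j <;> simp
      rw [e1, Rat.cast_ofNat, mul_comm (![0, 1200, 1200, 720] j : ℂ), ← h2]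
      push_cast
      rw [Finset.mul_sum]
      refine Finset.sum_congr rfl fun χ _ => ?_
      rw [hv, hd]
      ring
    rw [hR]
    exact_mod_cast hgoal

end CfsgLib.Invol.J1Cent
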