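import Cfsg.Agent.Lib.Invol.JankoOneThree
import Cfsg.Agent.Lib.Coprime.Sylow
import Mathlib.GroupTheory.SpecificGroups.Cyclic

/-!
The order 189000 is impossible.
-/

set_option autoImplicit false
set_option maxHeartbeats 1000000
set_option synthInstance.maxSize 8000
set_option synthInstance.maxHeartbeats 200000

namespace CfsgLib.Invol.J1Cent

open Cfsg Subgroup

universe u

variable {G : Type u} [Group G] [Finite G]

/-- Conjugation by `c` as an endomorphism fixes a subgroup of the centralized elements. -/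
theorem fix_closed {n : G} {m : ℕ} {w : G} (h : Commute (n ^ m) w) (k : ℤ) :
    Commute (n ^ ((m : ℤ) * k)) w := by
  rw [zpow_mul, zpow_natCast]; exact h.zpow_left k

/-- An element of odd order is a power of its square. -/
theorem commute_of_sq {n w : G} (ho : Odd (orderOf n)) (h : Commute (n ^ 2) w) : Commute n w := by
  obtain ⟨m, hm⟩ := exists_pow_eq_self_of_coprime (x := n) (n := 2) (Nat.coprime_two_left.2 ho)
  rw [← hm]; exact h.pow_left m

/-- A subgroup of order 27 normalizes the span of two commuting elements. -/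
theorem conj_mem_span {x y : G} (hx3 : x * x * x = 1) (hy3 : y * y * y = 1) (hcxy : Commute x y)
    (hinj : Function.Injective fun p : Fin 3 × Fin 3 => x ^ (p.1 : ℕ) * y ^ (p.2 : ℕ))
    (T : Subgroup G) (hxT : x ∈ T) (hyT : y ∈ T) (hT : Nat.card T = 27) {u : G} (huT : u ∈ T) :
    (∃ p : Fin 3 × Fin 3, x ^ (p.1 : ℕ) * y ^ (p.2 : ℕ) = u * x * u⁻¹) ∧
      ∃ p : Fin 3 × Fin 3, x ^ (p.1 : ℕ) * y ^ (p.2 : ℕ) = u * y * u⁻¹ := by
  classical
  set f : Fin 3 × Fin 3 → G := fun p => x ^ (p.1 : ℕ) * y ^ (p.2 : ℕ) with hf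
  set E' : Subgroup T := (closure ({x, y} : Set G)).subgroupOf T
  have hxyC : IsMulCommutative (closure ({x, y} : Set G)) := isMulCommutative_closure fun a ha b hb => by
    rcases ha with rfl | rfl <;> rcases hb with rfl | rfl
    exacts [rfl, hcxy.eq, hcxy.eq.symm, rfl]
  have hsub : closure ({x, y} : Set G) ≤ T := (closure_le _).2 (by rintro a (rfl | rfl) <;> assumption)
  have hrange : ∀ a ∈ closure ({x, y} : Set G), ∃ p, f p = a := by
    have hx3' : x ^ 3 = 1 := by rw [pow_succ, pow_two, hx3]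
    have hy3' : y ^ 3 = 1 := by rw [pow_succ, pow_two, hy3]
    have hall : ∀ a b : ℕ, ∃ p, f p = x ^ a * y ^ b := fun a b =>
      ⟨(⟨a % 3, Nat.mod_lt _ (by norm_num)⟩, ⟨b % 3, Nat.mod_lt _ (by norm_num)⟩), by
        rw [hf]; simp only; rw [← pow_eq_pow_mod a hx3', ← pow_eq_pow_mod b hy3']⟩
    intro a ha
    induction ha using closure_induction with
    | mem a ha =>
      rcases ha with rfl | rfl
      · simpa using hall 1 0
      · simpa using hall 0 1
    | one => simpa using hall 0 0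
    | mul a b _ _ ia ib =>
      obtain ⟨p, rfl⟩ := ia
      obtain ⟨q, rfl⟩ := ib
      obtain ⟨r, hr⟩ := hall (p.1 + q.1) (p.2 + q.2)
      refine ⟨r, hr.trans ?_⟩
      rw [hf]; simp only
      rw [pow_add, pow_add, (hcxy.symm.pow_pow (p.2 : ℕ) (q.1 : ℕ)).mul_mul_mul_comm]
    | inv a _ ia =>
      obtain ⟨p, rfl⟩ := ia
      obtain ⟨r, hr⟩ := hall (2 * p.1) (2 * p.2)
      refine ⟨r, hr.trans (eq_inv_of_mul_eq_one_left ?_)⟩
      rw [hf]; simp only
      rw [(hcxy.symm.pow_pow (2 * (p.2 : ℕ)) (p.1 : ℕ)).mul_mul_mul_comm, ← pow_add, ← pow_add,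
        show 2 * (p.1 : ℕ) + p.1 = 3 * p.1 by ring, show 2 * (p.2 : ℕ) + p.2 = 3 * p.2 by ring,
        pow_mul, pow_mul, hx3', hy3', one_pow, one_pow, one_mul]
  have hE9 : Nat.card (closure ({x, y} : Set G)) = 9 := by
    have hbij : Function.Bijective (fun p : Fin 3 × Fin 3 => (⟨f p,
        mul_mem (pow_mem (subset_closure (by simp)) _) (pow_mem (subset_closure (by simp)) _)⟩ :
          closure ({x, y} : Set G))) :=
      ⟨fun p q h => hinj (congrArg Subtype.val h), fun a => by
        obtain ⟨p, hp⟩ := hrange a a.2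
        exact ⟨p, Subtype.ext hp⟩⟩
    rw [← Nat.card_congr (Equiv.ofBijective _ hbij), Nat.card_eq_fintype_card]
    rfl
  have hn : E'.Normal := by
    refine Subgroup.normal_of_index_eq_minFac_card ?_
    have h := E'.card_mul_index
    rw [Nat.card_congr (subgroupOfEquivOfLe hsub).toEquiv, hE9, hT] at h
    rw [hT]
    norm_num
    omega
  exact ⟨hrange _ (hn.conj_mem ⟨x, hxT⟩ (subset_closure (by simp : x ∈ ({x, y} : Set G))) ⟨u, huT⟩),
    hrange _ (hn.conj_mem ⟨y, hyT⟩ (subset_closure (by simp : y ∈ ({x, y} : Set G))) ⟨u, huT⟩)⟩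

/-- An element moving one generator gives a transvection. -/
theorem transvection {p q : G} (hp : p * p * p = 1) (hq : q * q * q = 1) (hpq : Commute p q)
    (hinj' : Function.Injective fun k : Fin 3 × Fin 3 => p ^ (k.1 : ℕ) * q ^ (k.2 : ℕ))
    {u : G} (hu : Odd (orderOf u)) (hup : ¬ Commute u p) (huq : Commute u q)
    (hk : ∃ k : Fin 3 × Fin 3, p ^ (k.1 : ℕ) * q ^ (k.2 : ℕ) = u * p * u⁻¹) :
    ∃ u' : G, u' * p * u'⁻¹ = p * q ∧ u' * q * u'⁻¹ = q := by
  obtain ⟨⟨a, b⟩, hk⟩ := hk
  simp only at hk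
  have hp3 : p ^ 3 = 1 := by rw [pow_succ, pow_two, hp]
  have hq3 : q ^ 3 = 1 := by rw [pow_succ, pow_two, hq]
  have huq' : u * q * u⁻¹ = q := by rw [huq.eq, mul_inv_cancel_right]
  have huqb : ∀ m : ℕ, u * q ^ m * u⁻¹ = q ^ m := fun m => by rw [← conj_pow, huq']
  have hb0 : (a : ℕ) = 1 := by
    have := a.2
    rcases (show (a : ℕ) = 0 ∨ (a : ℕ) = 1 ∨ (a : ℕ) = 2 by omega) with e | e | e
    · exfalso
      rw [e, pow_zero, one_mul] at hk
      have h' : p = q ^ (b : ℕ) := by
        refine mul_left_cancel (a := u) (mul_right_cancel (b := u⁻¹) ?_)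
        rw [← hk, huqb]
      have := @hinj' (1, 0) (0, b) (by simpa using h')
      simp at this
    · exact e
    · exfalso
      rw [e] at hk
      refine hup (commute_of_sq hu ?_)
      refine mul_inv_eq_iff_eq_mul.1 (?_ : u ^ 2 * p * (u ^ 2)⁻¹ = p)
      calc u ^ 2 * p * (u ^ 2)⁻¹ = u * (u * p * u⁻¹) * u⁻¹ := by rw [pow_two]; group
        _ = u * (p ^ 2 * q ^ (b : ℕ)) * u⁻¹ := by rw [← hk]
        _ = (u * p * u⁻¹) ^ 2 * (u * q ^ (b : ℕ) * u⁻¹) := by rw [conj_pow]; group
        _ = p := by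
          rw [← hk, huqb, ((hpq.pow_pow 2 (b : ℕ))).mul_pow, ← pow_mul, ← pow_mul, mul_assoc,
            ← pow_add, show (b : ℕ) * 2 + b = 3 * b by ring, pow_mul q, hq3, one_pow, mul_one,
            show 2 * 2 = 3 + 1 by rfl, pow_succ, hp3, one_mul]
  rw [hb0, pow_one] at hk
  have := b.2
  rcases (show (b : ℕ) = 0 ∨ (b : ℕ) = 1 ∨ (b : ℕ) = 2 by omega) with e | e | e <;> rw [e] at hk
  · exfalso
    rw [pow_zero, mul_one] at hk
    exact hup (mul_inv_eq_iff_eq_mul.1 hk.symm)
  · exact ⟨u, by rw [← hk, pow_one], huq'⟩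
  · refine ⟨u ^ 2, ?_, mul_inv_eq_iff_eq_mul.2 (huq.pow_left 2).eq⟩
    calc u ^ 2 * p * (u ^ 2)⁻¹ = u * (u * p * u⁻¹) * u⁻¹ := by rw [pow_two]; group
      _ = u * (p * q ^ 2) * u⁻¹ := by rw [← hk]
      _ = (u * p * u⁻¹) * (u * q ^ 2 * u⁻¹) := by group
      _ = p * q := by
        rw [← hk, huqb, mul_assoc, ← pow_add, show 2 + 2 = 3 + 1 by rfl, pow_succ, hq3, one_mul]

/-- Two opposite transvections give an element of order divisible by four. -/
theorem rot_false (D : Data G) {x y u w : G} (hx : x * x * x = 1) (hx1 : x ≠ 1) (hxy : Commute x y)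
    (hux : u * x * u⁻¹ = x * y) (huy : u * y * u⁻¹ = y) (hwy : w * y * w⁻¹ = y * x)
    (hwx : w * x * w⁻¹ = x) : False := by
  have hw1 : w⁻¹ * x * w = x := by
    calc w⁻¹ * x * w = w⁻¹ * (w * x * w⁻¹) * w := by rw [hwx]
      _ = x := by group
  have hw2 : w⁻¹ * y * w = y * x⁻¹ := by
    calc w⁻¹ * y * w = w⁻¹ * ((w * y * w⁻¹) * x⁻¹) * w := by rw [hwy, mul_inv_cancel_right]
      _ = y * (w⁻¹ * x * w)⁻¹ := by group
      _ = y * x⁻¹ := by rw [hw1]
  set n := u * w⁻¹ * u with hn
  have huxy : u * (y * x⁻¹) * u⁻¹ = x⁻¹ := by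
    calc u * (y * x⁻¹) * u⁻¹ = u * y * u⁻¹ * (u * x * u⁻¹)⁻¹ := by group
      _ = x⁻¹ := by rw [huy, hux]; group
  have hnx : n * x * n⁻¹ = y := by
    calc n * x * n⁻¹ = u * (w⁻¹ * (u * x * u⁻¹) * w) * u⁻¹ := by rw [hn]; group
      _ = u * ((w⁻¹ * x * w) * (w⁻¹ * y * w)) * u⁻¹ := by rw [hux]; group
      _ = u * (x * (y * x⁻¹)) * u⁻¹ := by rw [hw1, hw2]
      _ = u * y * u⁻¹ := by rw [← mul_assoc x, hxy.eq, mul_inv_cancel_right]
      _ = y := huy
  have hny : n * y * n⁻¹ = x⁻¹ := by
    calc n * y * n⁻¹ = u * (w⁻¹ * (u * y * u⁻¹) * w) * u⁻¹ := by rw [hn]; group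
      _ = x⁻¹ := by rw [huy, hw2, huxy]
  have h2 : n ^ 2 * x * (n ^ 2)⁻¹ = x⁻¹ := by
    calc n ^ 2 * x * (n ^ 2)⁻¹ = n * (n * x * n⁻¹) * n⁻¹ := by rw [pow_two]; group
      _ = x⁻¹ := by rw [hnx, hny]
  have h4 : Commute ((n ^ 2) ^ 2) x := by
    refine mul_inv_eq_iff_eq_mul.1 ?_
    calc (n ^ 2) ^ 2 * x * ((n ^ 2) ^ 2)⁻¹ = n ^ 2 * (n ^ 2 * x * (n ^ 2)⁻¹) * (n ^ 2)⁻¹ := by
          rw [pow_two (n ^ 2)]; group
      _ = n ^ 2 * x⁻¹ * (n ^ 2)⁻¹ := by rw [h2]
      _ = (n ^ 2 * x * (n ^ 2)⁻¹)⁻¹ := by group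
      _ = x := by rw [h2, inv_inv]
  have ho : Odd (orderOf (n ^ 2)) := by
    rw [orderOf_pow' n two_ne_zero]
    have h4' := D.h4 n
    rw [← Nat.not_even_iff_odd, even_iff_two_dvd]
    intro h
    apply h4'
    rcases Nat.even_or_odd (orderOf n) with he | he
    · rw [Nat.gcd_eq_right (even_iff_two_dvd.1 he)] at h
      obtain ⟨k, hk⟩ := h
      exact ⟨k, by have := Nat.div_mul_cancel (even_iff_two_dvd.1 he); omega⟩
    · rw [Nat.Coprime.gcd_eq_one (Nat.coprime_two_right.2 he), Nat.div_one] at h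
      exact absurd (even_iff_two_dvd.2 h) (Nat.not_even_iff_odd.2 he)
  have h5 := (commute_of_sq ho h4).eq
  rw [h5, mul_inv_cancel_right] at h2
  have hxx : x * x = 1 := eq_inv_iff_mul_eq_one.1 h2
  rw [hxx, one_mul] at hx
  exact hx1 hx

/-- An element of order `5^3` or `7` acting on a group of order 27 acts trivially. -/
theorem commute_of_prime {q : ℕ} (hq : q = 5 ∨ q = 7) {S : Subgroup G} (hS : Nat.card S = 27)
    {w : G} {k : ℕ} (hw : w ^ q ^ k = 1) (hn : ∀ s ∈ S, w * s * w⁻¹ ∈ S) :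
    ∀ s ∈ S, Commute w s := by
  classical
  have : Fact q.Prime := ⟨by rcases hq with rfl | rfl <;> norm_num⟩
  obtain ⟨j, -, hj⟩ := (Nat.dvd_prime_pow (Fact.out : q.Prime)).1 (orderOf_dvd_of_pow_eq_one hw)
  have hK : IsPGroup q (zpowers w) := IsPGroup.of_card (n := j) (by rw [Nat.card_zpowers, hj])
  have hnat : ∀ (m : ℕ) (s : G), s ∈ S → w ^ m * s * (w ^ m)⁻¹ ∈ S := by
    intro m
    induction m with
    | zero => intro s hs; simpa using hs
    | succ m ih =>
      intro s hs
      have := ih _ (hn s hs)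
      rwa [pow_succ, show w ^ m * w * s * (w ^ m * w)⁻¹ = w ^ m * (w * s * w⁻¹) * (w ^ m)⁻¹ by group]
  have hmem : ∀ v : zpowers w, ∀ s : S, (v : G) * s * (v : G)⁻¹ ∈ S := by
    rintro ⟨v, hv⟩ s
    obtain ⟨m, -, rfl⟩ := Finset.mem_image.1
      ((isOfFinOrder_of_finite w).mem_zpowers_iff_mem_range_orderOf.1 hv)
    exact hnat m s s.2
  letI : MulAction (zpowers w) S :=
    { smul := fun v s => ⟨(v : G) * s * (v : G)⁻¹, hmem v s⟩
      one_smul := fun s => Subtype.ext (by show (1 : G) * s * 1⁻¹ = s; simp)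
      mul_smul := fun u v s => Subtype.ext (by
        show ((u * v : zpowers w) : G) * s * ((u * v : zpowers w) : G)⁻¹ =
          (u : G) * ((v : G) * s * (v : G)⁻¹) * (u : G)⁻¹
        push_cast; group) }
  have hmod := hK.card_modEq_card_fixedPoints S
  have hfix : ∀ s : S, s ∈ MulAction.fixedPoints (zpowers w) S ↔ Commute w s := by
    intro s
    constructor
    · intro h
      exact mul_inv_eq_iff_eq_mul.1 (congrArg Subtype.val (h ⟨w, mem_zpowers w⟩))
    · rintro h ⟨v, hv⟩
      obtain ⟨m, rfl⟩ := mem_zpowers_iff.1 hv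
      exact Subtype.ext (mul_inv_eq_iff_eq_mul.2 (h.zpow_left m).eq)
  set F := S ⊓ centralizer ({w} : Set G) with hF
  have hcard : Nat.card (MulAction.fixedPoints (zpowers w) S) = Nat.card F := by
    refine Nat.card_congr ⟨fun s => ⟨(s : S), (s : S).2,
      mem_centralizer_singleton_iff.2 ((hfix s).1 s.2).eq.symm⟩,
      fun s => ⟨⟨s, s.2.1⟩, (hfix ⟨s, s.2.1⟩).2
        (show Commute (s : G) w from mem_centralizer_singleton_iff.1 s.2.2).symm⟩,
      fun s => rfl, fun s => rfl⟩
  rw [hcard, hS] at hmod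
  have hd : Nat.card F ∣ 3 ^ 3 := by
    rw [show (3 : ℕ) ^ 3 = 27 from rfl, ← hS]; exact card_dvd_of_le inf_le_left
  obtain ⟨i, hi, he⟩ := (Nat.dvd_prime_pow Nat.prime_three).1 hd
  have h27 : Nat.card F = 27 := by
    rw [he] at hmod ⊢
    unfold Nat.ModEq at hmod
    rcases hq with rfl | rfl <;> interval_cases i <;> simp_all
  intro s hs
  have hFS : F = S := Subgroup.eq_of_le_of_card_ge inf_le_left (by rw [hS, h27])
  exact (show Commute s w from mem_centralizer_singleton_iff.1 ((hFS.symm ▸ hs : s ∈ F)).2).symm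

/-- An abelian Sylow 3-subgroup is impossible. -/
theorem abelian_false (D : Data G) (h3 : Nat.card G = 189000) (S : Sylow 3 G)
    (hS27 : Nat.card (S : Subgroup G) = 27) {x y : G} (hyS : y ∈ S) (hxS : x ∈ S)
    (habel : ∀ a ∈ S, ∀ b ∈ S, a * b = b * a) (hx : x * x * x = 1) (hx1 : x ≠ 1)
    (hconj : IsConj y x) (htS : ∀ s ∈ S, D.t * s * D.t⁻¹ ∈ S)
    (htx : D.t * x * D.t⁻¹ = x⁻¹) (hty : D.t * y * D.t⁻¹ = y) : False := by
  classical
  have := Fact.mk Nat.prime_three
  have : IsMulCommutative (S : Subgroup G) :=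
    ⟨⟨fun a b => Subtype.ext (habel a a.2 b b.2)⟩⟩
  obtain ⟨g, hg⟩ := isConj_iff.1 hconj
  obtain ⟨n, hn, hn'⟩ := CfsgLib.Transfer.abelian_sylow_controls S y hyS g (hg ▸ hxS)
  rw [hg] at hn'
  set N := normalizer ((S : Subgroup G) : Set G) with hN
  have hsq : ∀ m ∈ N, ∀ s ∈ S, Commute (m ^ 2) s := by
    intro m hm s hs
    have hconj : ∀ k : ℕ, ∀ u ∈ S, m ^ k * u * (m ^ k)⁻¹ ∈ S := fun k u hu =>
      (mem_normalizer_iff.1 (pow_mem hm k) u).1 hu
    set r := m ^ 2 with hr
    have hr23 : r ^ 23625 = 1 := by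
      have hd : orderOf r ∣ 23625 := by
        have h1 : orderOf r ∣ 189000 := h3 ▸ orderOf_dvd_natCard r
        have ho : Odd (orderOf r) := by
          rw [hr, orderOf_pow' m two_ne_zero, ← Nat.not_even_iff_odd, even_iff_two_dvd]
          intro h
          apply D.h4 m
          rcases Nat.even_or_odd (orderOf m) with he | he
          · rw [Nat.gcd_eq_right (even_iff_two_dvd.1 he)] at h
            obtain ⟨k, hk⟩ := h
            exact ⟨k, by have := Nat.div_mul_cancel (even_iff_two_dvd.1 he); omega⟩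
          · rw [Nat.Coprime.gcd_eq_one (Nat.coprime_two_right.2 he), Nat.div_one] at h
            exact absurd (even_iff_two_dvd.2 h) (Nat.not_even_iff_odd.2 he)
        exact (Nat.Coprime.pow_right 3 (Nat.coprime_two_right.2 ho)).dvd_of_dvd_mul_left
          (show orderOf r ∣ 2 ^ 3 * 23625 by exact h1)
      exact orderOf_dvd_iff_pow_eq_one.1 hd
    have c875 : Commute (r ^ 875) s := by
      have h27 : (r ^ 875) ^ 27 = 1 := by rw [← pow_mul]; exact hr23
      obtain ⟨j, -, hj⟩ := (Nat.dvd_prime_pow Nat.prime_three).1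
        (show orderOf (r ^ 875) ∣ 3 ^ 3 from orderOf_dvd_of_pow_eq_one h27)
      have hrN : r ^ 875 ∈ N := pow_mem (pow_mem hm 2) 875
      have hp : IsPGroup 3 ↥(zpowers (r ^ 875) ⊔ (S : Subgroup G)) :=
        (IsPGroup.of_card (n := j) (by rw [Nat.card_zpowers, hj])).to_sup_of_normal_right'
          S.2 (zpowers_le.2 hrN)
      have hmem : r ^ 875 ∈ (S : Subgroup G) :=
        (S.3 hp le_sup_right).le ((le_sup_left : zpowers (r ^ 875) ≤ _) (mem_zpowers _))
      exact habel _ hmem s hs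
    have c189 : Commute (r ^ 189) s := commute_of_prime (Or.inl rfl) hS27 (k := 3)
      (by rw [← pow_mul]; exact hr23)
      (fun u hu => by rw [hr, ← pow_mul]; exact hconj _ u hu) s hs
    have c3375 : Commute (r ^ 3375) s := commute_of_prime (Or.inr rfl) hS27 (k := 1)
      (by rw [← pow_mul]; exact hr23)
      (fun u hu => by rw [hr, ← pow_mul]; exact hconj _ u hu) s hs
    have e : r = (r ^ 875) ^ (5 : ℤ) * (r ^ 189) ^ (-41 : ℤ) * r ^ 3375 := by
      rw [← zpow_natCast, ← zpow_natCast, ← zpow_natCast r 3375, ← zpow_mul, ← zpow_mul, ← zpow_add,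
        ← zpow_add]
      norm_num
    rw [e]
    exact ((c875.zpow_left _).mul_left (c189.zpow_left _)).mul_left c3375
  have htN : D.t ∈ N := by
    refine mem_normalizer_iff.2 fun u => ⟨htS u, fun h => ?_⟩
    have := htS _ h
    rwa [show D.t * (D.t * u * D.t⁻¹) * D.t⁻¹ = (D.t * D.t) * u * (D.t * D.t)⁻¹ by group,
      invol_mul_self D.ht, one_mul, inv_one, mul_one] at this
  have hc : Commute (n * D.t * n⁻¹ * D.t⁻¹) x := by
    have e : n * D.t * n⁻¹ * D.t⁻¹ = (n * D.t) ^ 2 * (D.t⁻¹ * n ^ 2 * D.t)⁻¹ * (D.t ^ 2)⁻¹ := by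
      rw [pow_two, pow_two, pow_two]; group
    have hb : D.t⁻¹ * n ^ 2 * D.t = (D.t⁻¹ * n * D.t) ^ 2 := by rw [pow_two, pow_two]; group
    rw [e, hb]
    exact ((hsq _ (mul_mem hn htN) x hxS).mul_left
      (hsq _ (mul_mem (mul_mem (inv_mem htN) hn) htN) x hxS).inv_left).mul_left
      (hsq _ htN x hxS).inv_left
  have hti : D.t⁻¹ = D.t := invol_inv D.ht
  have htxi : D.t⁻¹ * x * D.t = x⁻¹ := by
    rw [hti]; rw [hti] at htx; exact htx
  have hny : n⁻¹ * x * n = y := by rw [← hn']; group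
  have h : n * D.t * n⁻¹ * D.t⁻¹ * x * (n * D.t * n⁻¹ * D.t⁻¹)⁻¹ = x⁻¹ := by
    calc _ = n * D.t * n⁻¹ * (D.t⁻¹ * x * D.t) * n * D.t⁻¹ * n⁻¹ := by group
      _ = n * (D.t * (n⁻¹ * x * n) * D.t⁻¹)⁻¹ * n⁻¹ := by rw [htxi]; group
      _ = n * y⁻¹ * n⁻¹ := by rw [hny, hty]
      _ = (n * y * n⁻¹)⁻¹ := by group
      _ = x⁻¹ := by rw [hn']
  rw [hc.eq, mul_inv_cancel_right] at h
  have hxx : x * x = 1 := eq_inv_iff_mul_eq_one.1 h
  rw [hxx, one_mul] at hx
  exact hx1 hx

/-- The lines through a pair of nonzero coordinates. -/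
theorem line_cases : ∀ i j k l : Fin 3, i ≠ 0 → j ≠ 0 → k ≠ 0 → l ≠ 0 →
    (∀ m : Fin 3, ¬ ((k : ℕ) = (i * m : ℕ) % 3 ∧ (l : ℕ) = (j * m : ℕ) % 3)) →
    ((k : ℕ) = (2 * i * 1 : ℕ) % 3 ∧ (l : ℕ) = (j * 1 : ℕ) % 3) ∨
    ((k : ℕ) = (2 * i * 2 : ℕ) % 3 ∧ (l : ℕ) = (j * 2 : ℕ) % 3) := by decide +kernel

namespace Data

variable (D : Data G)

/-- The invariant Sylow subgroup of the centralizer and its element `x`. -/
theorem exists_x (h3 : Nat.card G = 189000) :
    ∃ (R : Subgroup G) (x : G), R ≤ centralizer ({D.y} : Set G) ∧ (Nat.card R = 9 ∨ Nat.card R = 27) ∧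
      (∀ k, 3 ^ k ∣ Nat.card (centralizer ({D.y} : Set G)) → 3 ^ k ∣ Nat.card R) ∧
      D.y ∈ R ∧ x ∈ R ∧ x * x * x = 1 ∧ (∀ i : Fin 3, x ≠ D.y ^ (i : ℕ)) ∧ IsConj D.y x ∧
      (∀ r ∈ R, D.t * r * D.t⁻¹ ∈ R) ∧ D.t * x * D.t⁻¹ = x⁻¹ := by
  classical
  have := Fact.mk Nat.prime_three
  obtain ⟨M, hMle, hModd, hyM, htM, haM, hM3⟩ := D.exists_odd_core
  obtain ⟨ha2, ha1, hat, hay, hta⟩ := D.av_spec
  set V : Subgroup G := closure {D.t, D.av} with hV
  have hVcomm : IsMulCommutative V := isMulCommutative_closure fun u hu v hv => by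
    rcases hu with rfl | rfl <;> rcases hv with rfl | rfl
    exacts [rfl, hta.eq, hta.eq.symm, rfl]
  have hV2 : ∀ v ∈ V, v * v = 1 := by
    intro v hv
    induction hv using closure_induction with
    | mem u hu =>
      rcases hu with rfl | rfl
      exacts [invol_mul_self D.ht, ha2]
    | one => simp
    | mul u v hu hv iu iv =>
      have hc : Commute u v := congrArg Subtype.val (hVcomm.is_comm.comm ⟨u, hu⟩ ⟨v, hv⟩)
      rw [hc.symm.mul_mul_mul_comm, iu, iv, one_mul]
    | inv u _ iu => rw [← mul_inv_rev, iu, inv_one]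
  have hVp : IsPGroup 2 V := fun v => ⟨1, Subtype.ext (by
    rw [pow_one, SubmonoidClass.coe_pow, pow_two]; exact hV2 v v.2)⟩
  have hVn : V ≤ normalizer (M : Set G) := (closure_le _).2 (by
    rintro u (rfl | rfl)
    exacts [htM, haM])
  have hcop : (Nat.card V).Coprime (Nat.card M) := by
    have := Fact.mk Nat.prime_two
    obtain ⟨k, hk⟩ := IsPGroup.iff_card.1 hVp
    rw [hk]
    exact Nat.Coprime.pow_left k (Nat.coprime_two_left.2 hModd)
  have hsol : Group.IsSolvable V := Group.isSolvable_of_comm fun a b => hVcomm.is_comm.comm a b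
  have hU : IsPGroup 3 (zpowers D.y) := IsPGroup.of_card (n := 1) (by
    rw [Nat.card_zpowers, D.orderOf_y, pow_one])
  have hUV : V ≤ normalizer (zpowers D.y : Set G) := (closure_le _).2 (by
    rintro u (rfl | rfl)
    · refine mem_normalizer_iff_map_conj_eq.2 ?_
      rw [MonoidHom.map_zpowers]
      congr 1
      show D.t * D.y * D.t⁻¹ = D.y
      rw [D.t_comm_y.eq, mul_inv_cancel_right]
    · refine mem_normalizer_iff_map_conj_eq.2 ?_
      rw [MonoidHom.map_zpowers]
      show zpowers (D.av * D.y * D.av⁻¹) = zpowers D.y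
      rw [hay, zpowers_inv])
  obtain ⟨P, hUP, hVP⟩ := CfsgLib.Coprime.exists_invariant_sylow_ge hVn hcop (Or.inl hsol) hU
    (zpowers_le.2 hyM) hUV
  set R := (P : Subgroup M).map M.subtype with hR
  have hRC : R ≤ centralizer ({D.y} : Set G) := (map_subtype_le _).trans hMle
  have hRfull : ∀ k, 3 ^ k ∣ Nat.card (centralizer ({D.y} : Set G)) → 3 ^ k ∣ Nat.card R := by
    intro k hk
    rw [hR, card_map_of_injective M.subtype_injective, P.card_eq_multiplicity]
    exact pow_dvd_pow 3 ((Nat.Prime.pow_dvd_iff_le_factorization Nat.prime_three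
      Nat.card_pos.ne').1 (hM3 k hk))
  have hyR : D.y ∈ R := hUP (mem_zpowers _)
  have hR27 : Nat.card R ∣ 27 := by
    have h1 : IsPGroup 3 R := P.2.map M.subtype
    obtain ⟨k, hk⟩ := IsPGroup.iff_card.1 h1
    have h2 := card_subgroup_dvd_card R
    rw [h3, hk] at h2
    rw [hk, show (27 : ℕ) = 3 ^ 3 from rfl]
    refine pow_dvd_pow 3 (not_lt.1 fun hk4 => ?_)
    have : 3 ^ 4 ∣ 189000 := (pow_dvd_pow 3 hk4).trans h2
    norm_num at this
  have h9 : 9 ∣ Nat.card R := by
    refine hRfull 2 ?_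
    obtain ⟨S, hS⟩ := hU.exists_le_sylow
    have hS27 : Nat.card (S : Subgroup G) = 27 := by
      obtain ⟨k, hk⟩ := IsPGroup.iff_card.1 S.2
      rw [S.card_eq_multiplicity, h3]
      have e : (189000 : ℕ) = 3 ^ 3 * 7000 := by norm_num
      rw [e, Nat.factorization_mul (by norm_num) (by norm_num), Nat.Prime.factorization_pow Nat.prime_three]
      simp [Nat.factorization_eq_zero_of_not_dvd (show ¬ 3 ∣ 7000 by norm_num)]
    have hyS : D.y ∈ S := hS (mem_zpowers _)
    have : Nontrivial (S : Subgroup G) := Finite.one_lt_card_iff_nontrivial.1 (by rw [hS27]; norm_num)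
    obtain ⟨⟨z, hz⟩, hz1⟩ := @exists_ne (center (S : Subgroup G)) S.2.center_nontrivial 1
    have hzc : ∀ s ∈ S, Commute (z : G) s := fun s hs =>
      congrArg Subtype.val (mem_center_iff.1 hz ⟨s, hs⟩).symm
    set W : Subgroup G := (S : Subgroup G) ⊓ centralizer ({D.y} : Set G)
    have hWp : IsPGroup 3 W := S.2.to_le inf_le_left
    obtain ⟨k, hk⟩ := IsPGroup.iff_card.1 hWp
    have hk2 : 2 ≤ k := by
      by_contra hk2
      have hyW : D.y ∈ W := ⟨hyS, mem_centralizer_singleton_iff.2 rfl⟩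
      have hzW : (z : G) ∈ W := ⟨z.2, mem_centralizer_singleton_iff.2 (hzc _ hyS).eq⟩
      have hWle : W = zpowers D.y := by
        refine (Subgroup.eq_of_le_of_card_ge (zpowers_le.2 hyW) ?_).symm
        rw [Nat.card_zpowers, D.orderOf_y, hk]
        exact le_trans (Nat.pow_le_pow_right (by norm_num) (show k ≤ 1 by omega)) (by norm_num)
      have hzy : (z : G) ∈ zpowers D.y := hWle ▸ hzW
      have hyall : ∀ s ∈ S, Commute D.y s := by
        intro s hs
        have hz0 : (z : G) ≠ 1 := fun e => hz1 (Subtype.ext (Subtype.ext e))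
        have hgen : D.y ∈ zpowers (z : G) := by
          have he : zpowers (z : G) = zpowers D.y := by
            refine Subgroup.eq_of_le_of_card_ge (zpowers_le.2 hzy) ?_
            rw [Nat.card_zpowers, Nat.card_zpowers, D.orderOf_y]
            have hd : orderOf (z : G) ∣ 3 := by
              have h := Subgroup.orderOf_dvd_natCard _ hzy
              rwa [Nat.card_zpowers, D.orderOf_y] at h
            rcases (Nat.dvd_prime Nat.prime_three).1 hd with h | h
            · exact absurd (orderOf_eq_one_iff.1 h) hz0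
            · rw [h]
          exact he ▸ mem_zpowers _
        obtain ⟨i, hi⟩ := mem_zpowers_iff.1 hgen
        rw [← hi]; exact (hzc s hs).zpow_left i
      have hle : (S : Subgroup G) ≤ W := fun s hs =>
        ⟨hs, mem_centralizer_singleton_iff.2 (hyall s hs).eq.symm⟩
      have := Nat.le_of_dvd Nat.card_pos (card_dvd_of_le hle)
      rw [hS27, hk] at this
      have := le_trans this (Nat.pow_le_pow_right (by norm_num : 0 < 3) (show k ≤ 1 by omega))
      norm_num at this
    exact (pow_dvd_pow 3 hk2).trans (hk ▸ card_dvd_of_le inf_le_right)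
  have hRcard : Nat.card R = 9 ∨ Nat.card R = 27 := by
    have := Nat.le_of_dvd (by norm_num) hR27
    obtain ⟨c, hc⟩ := h9
    rw [hc] at hR27 this ⊢
    have : c ≤ 3 := by omega
    interval_cases c <;> simp_all
  have hnorm : ∀ v ∈ V, ∀ r ∈ R, v * r * v⁻¹ ∈ R := fun v hv r hr =>
    (mem_normalizer_iff.1 (hVP hv) r).1 hr
  have htV : D.t ∈ V := subset_closure (by simp)
  have haV : D.av ∈ V := subset_closure (by simp)
  -- an involution with a fixed point outside `⟨y⟩`
  obtain ⟨b, hbV, hb1, hby, x, hxR, hx1, hbx⟩ :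
      ∃ b ∈ V, b ≠ 1 ∧ b * D.y * b⁻¹ = D.y⁻¹ ∧ ∃ r ∈ R, r ≠ 1 ∧ b * r * b⁻¹ = r := by
    by_contra hno
    push Not at hno
    have htav : D.t * D.av * D.y * (D.t * D.av)⁻¹ = D.y⁻¹ := by
      rw [show D.t * D.av * D.y * (D.t * D.av)⁻¹ = D.t * (D.av * D.y * D.av⁻¹) * D.t⁻¹ by group, hay,
        D.t_comm_y.inv_right.eq, mul_inv_cancel_right]
    have hne : D.t * D.av ≠ 1 := fun h => hat (by
      rw [← invol_inv D.ht]; exact eq_inv_of_mul_eq_one_right h)
    have i1 := inverts_of_fpf ha2 (hnorm _ haV) fun r hr hfix => by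
      by_contra h1; exact hno _ haV ha1 hay r hr h1 hfix
    have i2 := inverts_of_fpf (hV2 _ (mul_mem htV haV)) (hnorm _ (mul_mem htV haV)) fun r hr hfix => by
      by_contra h1; exact hno _ (mul_mem htV haV) hne htav r hr h1 hfix
    have hle : R ≤ centralizer ({D.y} : Set G) ⊓ D.C := by
      refine le_inf hRC fun r hr => mem_centralizer_singleton_iff.2 ?_
      have h2 := i2 r hr
      rw [show D.t * D.av * r * (D.t * D.av)⁻¹ = D.t * (D.av * r * D.av⁻¹) * D.t⁻¹ by group,
        i1 r hr] at h2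
      have h3 := congrArg (·⁻¹) h2
      simp only [mul_inv_rev, inv_inv, ← mul_assoc] at h3
      exact (mul_inv_eq_iff_eq_mul.1 h3).symm
    have := card_dvd_of_le hle
    rw [D.card_cent_y] at this
    have h96 : 9 ∣ 6 := h9.trans this
    norm_num at h96
  have hbt : Commute D.t b := congrArg Subtype.val (hVcomm.is_comm.comm ⟨_, htV⟩ ⟨b, hbV⟩)
  have hbo : orderOf b = 2 := invol_of_mul_self (hV2 b hbV) hb1
  have hbc : Commute b x := mul_inv_eq_iff_eq_mul.1 hbx
  obtain ⟨c, hc⟩ := isConj_iff.1 (D.hconj b hbo)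
  -- the fixed points of `b` form a subgroup of order three
  set F := R ⊓ centralizer ({b} : Set G) with hF
  have hFp : IsPGroup 3 F := (P.2.map M.subtype).to_le inf_le_left
  obtain ⟨k, hk⟩ := IsPGroup.iff_card.1 hFp
  have hk1 : k ≤ 1 := by
    have h120 : Nat.card (centralizer ({b} : Set G)) = 120 := by
      rw [← hc, ← D.card_C]
      refine Eq.trans ?_ (card_map_of_injective (K := D.C) (f := (MulAut.conj c).toMonoidHom)
        (MulAut.conj c).injective)
      congr 2
      ext u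
      rw [mem_centralizer_singleton_iff]
      constructor
      · intro hu
        refine ⟨c⁻¹ * u * c, mem_centralizer_singleton_iff.2 ?_, by simp [mul_assoc]⟩
        calc c⁻¹ * u * c * D.t = c⁻¹ * (u * (c * D.t * c⁻¹)) * c := by group
          _ = c⁻¹ * ((c * D.t * c⁻¹) * u) * c := by rw [hu]
          _ = D.t * (c⁻¹ * u * c) := by group
      · rintro ⟨v, hv, rfl⟩
        have hv' : v * D.t = D.t * v := mem_centralizer_singleton_iff.1 hv
        simp only [MulEquiv.coe_toMonoidHom, MulAut.conj_apply]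
        calc c * v * c⁻¹ * (c * D.t * c⁻¹) = c * (v * D.t) * c⁻¹ := by group
          _ = c * (D.t * v) * c⁻¹ := by rw [hv']
          _ = c * D.t * c⁻¹ * (c * v * c⁻¹) := by group
    have hd := card_dvd_of_le (inf_le_right : F ≤ centralizer ({b} : Set G))
    rw [h120, hk] at hd
    by_contra hk2
    have : 3 ^ 2 ∣ 120 := (pow_dvd_pow 3 (show 2 ≤ k by omega)).trans hd
    norm_num at this
  have hxF : x ∈ F := ⟨hxR, mem_centralizer_singleton_iff.2 hbc.eq.symm⟩
  have hox : orderOf x = 3 := by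
    have hd : orderOf x ∣ 3 ^ k := hk ▸ Subgroup.orderOf_dvd_natCard F hxF
    rcases (Nat.dvd_prime Nat.prime_three).1 (hd.trans (by
      simpa using pow_dvd_pow 3 hk1)) with h | h
    · exact absurd (orderOf_eq_one_iff.1 h) hx1
    · exact h
  have hFx : F = zpowers x := (Subgroup.eq_of_le_of_card_ge (zpowers_le.2 hxF) (by
    rw [Nat.card_zpowers, hox, hk]
    exact le_trans (Nat.pow_le_pow_right (by norm_num) hk1) (by norm_num))).symm
  have hx3 : x * x * x = 1 := by
    rw [← pow_two, ← pow_succ]; exact orderOf_dvd_iff_pow_eq_one.1 (dvd_of_eq hox)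
  have hxy : ∀ i : Fin 3, x ≠ D.y ^ (i : ℕ) := by
    intro i h
    have h2 : b * x * b⁻¹ = (D.y⁻¹) ^ (i : ℕ) := by rw [h, ← conj_pow, hby]
    rw [hbx, inv_pow, h] at h2
    have h3 : D.y ^ (2 * (i : ℕ)) = 1 := by
      rw [two_mul, pow_add]; nth_rewrite 2 [h2]; rw [mul_inv_cancel]
    have := orderOf_dvd_of_pow_eq_one h3
    rw [D.orderOf_y] at this
    have hi : (i : ℕ) = 0 := by have := i.2; omega
    rw [hi, pow_zero] at h
    exact hx1 h
  refine ⟨R, x, hRC, hRcard, hRfull, hyR, hxR, hx3, hxy, D.isConj_y hbo hbc hx3 hx1, hnorm _ htV, ?_⟩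
  have htx : D.t * x * D.t⁻¹ ∈ F := by
    refine ⟨hnorm _ htV x hxR, mem_centralizer_singleton_iff.2 ?_⟩
    have h := (hbc.map (MulAut.conj D.t).toMonoidHom)
    simp only [MulEquiv.coe_toMonoidHom, MulAut.conj_apply] at h
    rw [show D.t * b * D.t⁻¹ = b by rw [hbt.eq, mul_inv_cancel_right]] at h
    exact h.eq.symm
  rw [hFx] at htx
  obtain ⟨m, hm⟩ := (isOfFinOrder_of_finite x).mem_zpowers_iff_mem_range_orderOf.1 htx |> fun h =>
    (Finset.mem_image.1 h).imp fun m hm => hm
  obtain ⟨hmr, hm⟩ := hm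
  rw [hox, Finset.mem_range] at hmr
  interval_cases m
  · exfalso
    rw [pow_zero] at hm
    exact hx1 (conj_eq_one_iff.1 hm.symm)
  · exfalso
    rw [pow_one] at hm
    have hxC : x ∈ D.C := mem_centralizer_singleton_iff.2 (mul_inv_eq_iff_eq_mul.1 hm.symm).symm
    set W := centralizer ({D.y} : Set G) ⊓ D.C
    have hW : Nat.card W = 6 := D.card_cent_y
    -- `⟨x, y⟩` would have order nine inside a group of order six
    have hWy : D.y ∈ W := ⟨mem_centralizer_singleton_iff.2 rfl,
      mem_centralizer_singleton_iff.2 D.t_comm_y.eq.symm⟩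
    have hWx : x ∈ W := ⟨hRC hxR, hxC⟩
    have hinj := Data.span_nine hx3
      (by rw [← pow_two, ← pow_succ]; exact orderOf_dvd_iff_pow_eq_one.1 (dvd_of_eq D.orderOf_y))
      (mem_centralizer_singleton_iff.1 (hRC hxR)) hxy
      (fun h => by have := D.orderOf_y; rw [h, orderOf_one] at this; omega)
    have := Nat.card_le_card_of_injective (fun p : Fin 3 × Fin 3 =>
      (⟨x ^ (p.1 : ℕ) * D.y ^ (p.2 : ℕ), mul_mem (pow_mem hWx _) (pow_mem hWy _)⟩ : W))
      fun p q h => hinj (congrArg Subtype.val h)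
    rw [hW, Nat.card_eq_fintype_card, Fintype.card_prod, Fintype.card_fin] at this
    omega
  · rw [← hm]
    exact eq_inv_of_mul_eq_one_left (by rw [pow_two, hx3])

-- A group of order 189000 has no such involution.
include D in
theorem not_189000 (h3 : Nat.card G = 189000) : False := by
  classical
  have := Fact.mk Nat.prime_three
  obtain ⟨R, x, hRC, hRcard, hRfull, hyR, hxR, hx3, hxy, hconj, htR, htx⟩ := D.exists_x h3
  set y := D.y with hydef
  have hoy : orderOf y = 3 := D.orderOf_y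
  have hy1 : y ≠ 1 := fun h => by rw [h, orderOf_one] at hoy; omega
  have hy3 : y * y * y = 1 := by
    rw [← pow_two, ← pow_succ]; exact orderOf_dvd_iff_pow_eq_one.1 (dvd_of_eq hoy)
  have hcxy : Commute x y := mem_centralizer_singleton_iff.1 (hRC hxR)
  have hty : D.t * y * D.t⁻¹ = y := by rw [D.t_comm_y.eq, mul_inv_cancel_right]
  have hinj := Data.span_nine hx3 hy3 hcxy hxy hy1
  set f : Fin 3 × Fin 3 → G := fun p => x ^ (p.1 : ℕ) * y ^ (p.2 : ℕ) with hf
  have hx1 : x ≠ 1 := fun h => hxy 0 (by rw [h]; simp)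
  have hcard : ∀ u v : G, IsConj u v →
      Nat.card (centralizer ({u} : Set G)) = Nat.card (centralizer ({v} : Set G)) := by
    intro u v huv
    obtain ⟨c, hc⟩ := isConj_iff.1 huv
    rw [← hc]
    refine Eq.trans (card_map_of_injective (K := centralizer ({u} : Set G))
      (f := (MulAut.conj c).toMonoidHom) (MulAut.conj c).injective).symm ?_
    congr 2
    ext w
    rw [mem_centralizer_singleton_iff]
    constructor
    · rintro ⟨v, hv, rfl⟩
      have hv' : v * u = u * v := mem_centralizer_singleton_iff.1 hv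
      simp only [MulEquiv.coe_toMonoidHom, MulAut.conj_apply]
      calc c * v * c⁻¹ * (c * u * c⁻¹) = c * (v * u) * c⁻¹ := by group
        _ = c * (u * v) * c⁻¹ := by rw [hv']
        _ = c * u * c⁻¹ * (c * v * c⁻¹) := by group
    · intro hu
      refine ⟨c⁻¹ * w * c, mem_centralizer_singleton_iff.2 ?_, by simp [mul_assoc]⟩
      calc c⁻¹ * w * c * u = c⁻¹ * (w * (c * u * c⁻¹)) * c := by group
        _ = c⁻¹ * ((c * u * c⁻¹) * w) * c := by rw [hu]
        _ = u * (c⁻¹ * w * c) := by group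
  have hRp : IsPGroup 3 R := by
    rcases hRcard with h | h
    · exact IsPGroup.of_card (n := 2) (by rw [h]; norm_num)
    · exact IsPGroup.of_card (n := 3) (by rw [h]; norm_num)
  obtain ⟨S, hRS⟩ := hRp.exists_le_sylow
  have hS27 : Nat.card (S : Subgroup G) = 27 := by
    rw [S.card_eq_multiplicity, h3]
    have e : (189000 : ℕ) = 3 ^ 3 * 7000 := by norm_num
    rw [e, Nat.factorization_mul (by norm_num) (by norm_num), Nat.Prime.factorization_pow Nat.prime_three]
    simp [Nat.factorization_eq_zero_of_not_dvd (show ¬ 3 ∣ 7000 by norm_num)]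
  have hxS : x ∈ S := hRS hxR
  have hyS : y ∈ S := hRS hyR
  have hodd : ∀ u ∈ S, Odd (orderOf u) := fun u hu =>
    Odd.of_dvd_nat (by decide : Odd 27) (hS27 ▸ Subgroup.orderOf_dvd_natCard _ hu)
  rcases hRcard with h9 | h27
  · -- order nine
    have hbig : ¬ 27 ∣ Nat.card (centralizer ({y} : Set G)) := fun h => by
      have := hRfull 3 h
      rw [h9] at this
      norm_num at this
    have hbigx : ¬ 27 ∣ Nat.card (centralizer ({x} : Set G)) := by rwa [← hcard y x hconj]
    have hRall : ∀ u ∈ R, ∃ p, f p = u := by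
      have hbij : Function.Bijective (fun p : Fin 3 × Fin 3 =>
          (⟨f p, mul_mem (pow_mem hxR _) (pow_mem hyR _)⟩ : R)) := by
        rw [Nat.bijective_iff_injective_and_card]
        exact ⟨fun p q h => hinj (congrArg Subtype.val h), by
          rw [h9, Nat.card_eq_fintype_card]; rfl⟩
      intro u hu
      obtain ⟨p, hp⟩ := hbij.2 ⟨u, hu⟩
      exact ⟨p, congrArg Subtype.val hp⟩
    have hCS : ∀ u ∈ S, Commute u y → u ∈ R := by
      intro u hu huy
      set W : Subgroup G := (S : Subgroup G) ⊓ centralizer ({y} : Set G)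
      have hRW : R ≤ W := le_inf hRS hRC
      obtain ⟨k, hk⟩ := IsPGroup.iff_card.1 (S.2.to_le (inf_le_left : W ≤ S))
      have := hRfull k (hk ▸ card_dvd_of_le inf_le_right)
      rw [h9] at this
      have hW : W = R := (Subgroup.eq_of_le_of_card_ge hRW (by
        rw [hk, h9]; exact Nat.le_of_dvd (by norm_num) this)).symm
      exact hW ▸ (show u ∈ W from ⟨hu, mem_centralizer_singleton_iff.2 huy.eq⟩)
    have : Nontrivial (S : Subgroup G) := Finite.one_lt_card_iff_nontrivial.1 (by rw [hS27]; norm_num)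
    obtain ⟨⟨z, hz⟩, hz1⟩ := @exists_ne (center (S : Subgroup G)) S.2.center_nontrivial 1
    have hzc : ∀ s ∈ S, Commute (z : G) s := fun s hs =>
      congrArg Subtype.val (mem_center_iff.1 hz ⟨s, hs⟩).symm
    obtain ⟨⟨i, j⟩, hp⟩ := hRall _ (hCS z z.2 (hzc y hyS))
    -- centralizers
    have hbigz : 27 ∣ Nat.card (centralizer ({(z : G)} : Set G)) := hS27 ▸
      card_dvd_of_le (show (S : Subgroup G) ≤ centralizer ({(z : G)} : Set G) from fun s hs =>
        mem_centralizer_singleton_iff.2 (hzc s hs).eq.symm)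
    have hC2 : ∀ w : G, w * w * w = 1 → 27 ∣ Nat.card (centralizer ({w * w} : Set G)) →
        27 ∣ Nat.card (centralizer ({w} : Set G)) := fun w hw h => h.trans (card_dvd_of_le
      fun u hu => mem_centralizer_singleton_iff.2 (by
        have hu' : Commute u (w * w) := mem_centralizer_singleton_iff.1 hu
        have h4 := hu'.mul_right hu'
        rwa [show w * w * (w * w) = (w * w * w) * w by group, hw, one_mul] at h4))
    have hi : i ≠ 0 := fun e => by
      subst e
      simp only [hf, Fin.val_zero, pow_zero, one_mul] at hp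
      have hj : j ≠ 0 := fun e => by
        subst e; exact hz1 (Subtype.ext (Subtype.ext (by simpa using hp.symm)))
      fin_cases j
      · exact hj rfl
      · simp only [pow_one] at hp; rw [← hp] at hbigz; exact hbig hbigz
      · simp only [pow_two] at hp; rw [← hp] at hbigz; exact hbig (hC2 y hy3 hbigz)
    have hj : j ≠ 0 := fun e => by
      subst e
      simp only [hf, Fin.val_zero, pow_zero, mul_one] at hp
      fin_cases i
      · exact hi rfl
      · simp only [pow_one] at hp; rw [← hp] at hbigz; exact hbigx hbigz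
      · simp only [pow_two] at hp; rw [← hp] at hbigz; exact hbigx (hC2 x hx3 hbigz)
    set z' := D.t * (z : G) * D.t⁻¹ with hz'
    have hz'e : z' = (x⁻¹) ^ (i : ℕ) * y ^ (j : ℕ) := by
      rw [hz', ← hp, hf]
      simp only
      rw [show D.t * (x ^ (i : ℕ) * y ^ (j : ℕ)) * D.t⁻¹ =
        (D.t * x ^ (i : ℕ) * D.t⁻¹) * (D.t * y ^ (j : ℕ) * D.t⁻¹) by group, ← conj_pow, ← conj_pow,
        htx, hty]
    obtain ⟨n, hnS, hnR⟩ : ∃ n ∈ S, n ∉ R := by
      by_contra h
      push Not at h
      have := Nat.le_of_dvd Nat.card_pos (card_dvd_of_le (show (S : Subgroup G) ≤ R from h))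
      rw [hS27, h9] at this
      omega
    have hnorm : ∀ u ∈ R, n * u * n⁻¹ ∈ R := by
      intro u hu
      have hn : (R.subgroupOf (S : Subgroup G)).Normal := by
        refine Subgroup.normal_of_index_eq_minFac_card ?_
        have h := (R.subgroupOf (S : Subgroup G)).card_mul_index
        rw [Nat.card_congr (subgroupOfEquivOfLe hRS).toEquiv, h9, hS27] at h
        rw [hS27]
        norm_num
        omega
      exact hn.conj_mem ⟨u, hRS hu⟩ hu ⟨n, hnS⟩
    have hbig' : 27 ∣ Nat.card (centralizer ({n * z' * n⁻¹} : Set G)) := by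
      rwa [← hcard (z : G) (n * z' * n⁻¹) (isConj_iff.2 ⟨n * D.t, by rw [hz']; group⟩)]
    have hz'R : z' ∈ R := hz'e ▸ mul_mem (pow_mem (inv_mem hxR) _) (pow_mem hyR _)
    obtain ⟨⟨k, l⟩, hkl⟩ := hRall _ (hnorm z' hz'R)
    have hxi : x⁻¹ = x ^ 2 := inv_eq_of_mul_eq_one_right (by rw [pow_two, ← mul_assoc, hx3])
    have hx3' : x ^ 3 = 1 := by rw [pow_succ, pow_two, hx3]
    have hy3' : y ^ 3 = 1 := by rw [pow_succ, pow_two, hy3]
    have hmod : ∀ a b : ℕ, x ^ a * y ^ b =
        f (⟨a % 3, Nat.mod_lt _ (by norm_num)⟩, ⟨b % 3, Nat.mod_lt _ (by norm_num)⟩) := fun a b => by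
      rw [hf]; simp only; rw [← pow_eq_pow_mod a hx3', ← pow_eq_pow_mod b hy3']
    have hzpow : ∀ m : ℕ, (z : G) ^ m =
        f (⟨(i * m : ℕ) % 3, Nat.mod_lt _ (by norm_num)⟩, ⟨(j * m : ℕ) % 3, Nat.mod_lt _ (by norm_num)⟩) := by
      intro m
      rw [← hmod, ← hp, hf]
      simp only
      rw [((hcxy.pow_pow (i : ℕ) (j : ℕ))).mul_pow, ← pow_mul, ← pow_mul]
    have hz'pow : ∀ m : ℕ, z' ^ m =
        f (⟨(2 * i * m : ℕ) % 3, Nat.mod_lt _ (by norm_num)⟩, ⟨(j * m : ℕ) % 3, Nat.mod_lt _ (by norm_num)⟩) := by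
      intro m
      rw [← hmod, hz'e, hxi, ← pow_mul, ((hcxy.pow_pow (2 * (i : ℕ)) (j : ℕ))).mul_pow, ← pow_mul,
        ← pow_mul]
    -- the conjugate avoids the small elements and the powers of `z`
    have hnz : ∀ m : ℕ, n * z' * n⁻¹ ≠ (z : G) ^ m := fun m h => by
      have h' : z' = (z : G) ^ m := by
        have hzn : n⁻¹ * (z : G) ^ m * n = (z : G) ^ m := by
          rw [mul_assoc, ((hzc n hnS).pow_left m).eq, inv_mul_cancel_left]
        rw [← hzn, ← h]; group
      have e := hz'pow 1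
      rw [pow_one, h', hzpow] at e
      have e' := hinj e
      simp only [Prod.mk.injEq, Fin.mk.injEq] at e'
      have := i.2; have := j.2
      have hi' : (i : ℕ) ≠ 0 := fun e => hi (Fin.ext e)
      have hj' : (j : ℕ) ≠ 0 := fun e => hj (Fin.ext e)
      obtain ⟨e1, e2⟩ := e'
      rcases (show (i : ℕ) = 1 ∨ (i : ℕ) = 2 by omega) with e | e <;>
        rcases (show (j : ℕ) = 1 ∨ (j : ℕ) = 2 by omega) with e' | e' <;>
        rw [e] at e1 <;> rw [e'] at e2 <;> omega
    have hk : k ≠ 0 := fun e => by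
      subst e
      simp only [Fin.val_zero, hf, pow_zero, one_mul] at hkl
      fin_cases l
      · exact hnz 0 (by rw [← hkl]; simp)
      · simp only [pow_one] at hkl; rw [← hkl] at hbig'; exact hbig hbig'
      · simp only [pow_two] at hkl; rw [← hkl] at hbig'; exact hbig (hC2 y hy3 hbig')
    have hl : l ≠ 0 := fun e => by
      subst e
      simp only [Fin.val_zero, hf, pow_zero, mul_one] at hkl
      fin_cases k
      · exact hk rfl
      · simp only [pow_one] at hkl; rw [← hkl] at hbig'; exact hbigx hbig'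
      · simp only [pow_two] at hkl; rw [← hkl] at hbig'; exact hbigx (hC2 x hx3 hbig')
    have key : ∃ m : ℕ, (m = 1 ∨ m = 2) ∧ n * z' * n⁻¹ = z' ^ m := by
      rcases line_cases i j k l hi hj hk hl (fun m ⟨e1, e2⟩ => hnz m (by
        rw [← hkl, hzpow]; congr 1; exact Prod.ext (Fin.ext e1) (Fin.ext e2))) with ⟨e1, e2⟩ | ⟨e1, e2⟩
      · exact ⟨1, Or.inl rfl, by rw [← hkl, hz'pow]; congr 1; exact Prod.ext (Fin.ext e1) (Fin.ext e2)⟩
      · exact ⟨2, Or.inr rfl, by rw [← hkl, hz'pow]; congr 1; exact Prod.ext (Fin.ext e1) (Fin.ext e2)⟩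
    obtain ⟨m, hm, hnm⟩ := key
    have hfix : Commute (n ^ 2) z' := by
      have h2 : n ^ 2 * z' * (n ^ 2)⁻¹ = z' ^ (m * m) := by
        calc n ^ 2 * z' * (n ^ 2)⁻¹ = n * (n * z' * n⁻¹) * n⁻¹ := by rw [pow_two]; group
          _ = n * z' ^ m * n⁻¹ := by rw [hnm]
          _ = (n * z' * n⁻¹) ^ m := conj_pow.symm
          _ = z' ^ (m * m) := by rw [hnm, ← pow_mul]
      have h13 : z' ^ (m * m) = z' := by
        rcases hm with rfl | rfl
        · simp
        · have h4 := hz'pow 4
          have h1 := hz'pow 1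
          rw [pow_one] at h1
          rw [show 2 * 2 = 4 by rfl, h4]
          refine Eq.trans ?_ h1.symm
          congr 1
          exact Prod.ext (Fin.ext (by simp only; omega)) (Fin.ext (by simp only; omega))
      rw [h13] at h2
      exact mul_inv_eq_iff_eq_mul.1 h2
    have hnz' : Commute n z' := commute_of_sq (hodd n hnS) hfix
    have hny : Commute n (y ^ (2 * (j : ℕ))) := by
      have h := (hzc n hnS).symm.mul_right hnz'
      rw [hz'e, ← hp, hf] at h
      simp only at h
      rwa [(hcxy.symm.inv_right.pow_pow (j : ℕ) (i : ℕ)).mul_mul_mul_comm,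
        inv_pow, mul_inv_cancel, one_mul, ← pow_add, ← two_mul] at h
    have hny1 : Commute n y := by
      have hj' : (j : ℕ) = 1 ∨ (j : ℕ) = 2 := by
        have := j.2
        have : (j : ℕ) ≠ 0 := fun e => hj (Fin.ext e)
        omega
      rcases hj' with e | e <;> rw [e] at hny
      · have h := hny.mul_right hny
        rwa [← pow_add, show 2 * 1 + 2 * 1 = 3 + 1 by rfl, pow_succ, hy3', one_mul] at h
      · rwa [show 2 * 2 = 3 + 1 by rfl, pow_succ, hy3', one_mul] at hny
    exact hnR (hCS n hnS hny1)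
  · -- order twenty-seven
    have hRS' : R = (S : Subgroup G) := Subgroup.eq_of_le_of_card_ge hRS (by rw [h27, hS27])
    have hyc : ∀ s ∈ S, Commute y s := fun s hs =>
      (show Commute s y from mem_centralizer_singleton_iff.1 (hRC (hRS'.symm ▸ hs))).symm
    have htS : ∀ s ∈ S, D.t * s * D.t⁻¹ ∈ S := fun s hs => by
      have := htR s (hRS'.symm ▸ hs)
      rw [hRS'] at this
      exact this
    have hinj' : Function.Injective fun p : Fin 3 × Fin 3 => y ^ (p.1 : ℕ) * x ^ (p.2 : ℕ) := by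
      intro p q h
      simp only at h
      rw [(hcxy.symm.pow_pow (p.1 : ℕ) (p.2 : ℕ)).eq, (hcxy.symm.pow_pow (q.1 : ℕ) (q.2 : ℕ)).eq] at h
      have := hinj (a₁ := (p.2, p.1)) (a₂ := (q.2, q.1)) h
      simp only [Prod.mk.injEq] at this
      exact Prod.ext this.2 this.1
    have hswap : ∀ v : G, (∃ p, f p = v) → ∃ p : Fin 3 × Fin 3, y ^ (p.1 : ℕ) * x ^ (p.2 : ℕ) = v := by
      rintro v ⟨p, rfl⟩
      exact ⟨(p.2, p.1), (hcxy.symm.pow_pow (p.2 : ℕ) (p.1 : ℕ)).eq⟩
    -- `x` is central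
    have hxc : ∀ s ∈ S, Commute x s := by
      intro s hs
      by_contra hns
      obtain ⟨u, hux, huy⟩ := transvection hx3 hy3 hcxy hinj (hodd s hs) (fun h => hns h.symm)
        (hyc s hs).symm (conj_mem_span hx3 hy3 hcxy hinj S hxS hyS hS27 hs).1
      obtain ⟨c, hc, hyT⟩ : ∃ c : G, c * y * c⁻¹ = x ∧ c⁻¹ * y * c ∈ S := by
        obtain ⟨c, hc⟩ := isConj_iff.1 hconj
        set H := centralizer ({x} : Set G) with hH
        set T : Subgroup G := (S : Subgroup G).map (MulAut.conj c).toMonoidHom with hT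
        have hTH : T ≤ H := by
          rintro _ ⟨v, hv, rfl⟩
          refine mem_centralizer_singleton_iff.2 ?_
          rw [← hc]
          exact ((hyc v hv).symm.map (MulAut.conj c).toMonoidHom).eq
        let TS : Sylow 3 H := Sylow.ofCard (T.subgroupOf H) (by
          rw [Nat.card_congr (subgroupOfEquivOfLe hTH).toEquiv, hT,
            card_map_of_injective (MulAut.conj c).injective, hS27]
          obtain ⟨Q⟩ := (inferInstance : Nonempty (Sylow 3 H))
          have h1 := card_dvd_of_le hTH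
          rw [hT, card_map_of_injective (MulAut.conj c).injective, hS27] at h1
          have e3 : (27 : ℕ) = 3 ^ 3 := rfl
          rw [e3]
          congr 1
          refine le_antisymm ((Nat.Prime.pow_dvd_iff_le_factorization Nat.prime_three
            Nat.card_pos.ne').1 (e3 ▸ h1)) ?_
          have h2 : 3 ^ (Nat.card H).factorization 3 ∣ 189000 :=
            ((Nat.ordProj_dvd _ _).trans (card_subgroup_dvd_card H)).trans (dvd_of_eq h3)
          by_contra h
          have : 3 ^ 4 ∣ 189000 := (pow_dvd_pow 3 (show 4 ≤ _ by omega)).trans h2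
          norm_num at this)
        have hyH : y ∈ H := mem_centralizer_singleton_iff.2 hcxy.eq.symm
        have hp : IsPGroup 3 (zpowers (⟨y, hyH⟩ : H)) := IsPGroup.of_card (n := 1) (by
          rw [Nat.card_zpowers, ← Subgroup.orderOf_coe, pow_one]; exact hoy)
        obtain ⟨g, hg⟩ := exists_conj_mem_sylow TS hp
        have hgy := hg _ (mem_zpowers _)
        have hgy' : (g : G) * y * (g : G)⁻¹ ∈ T := by
          have : g * (⟨y, hyH⟩ : H) * g⁻¹ ∈ T.subgroupOf H := by
            have := hgy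
            change _ ∈ (TS : Subgroup H) at this
            rwa [Sylow.coe_ofCard] at this
          exact this
        obtain ⟨v, hv, hve⟩ := hgy'
        simp only [MulEquiv.coe_toMonoidHom, MulAut.conj_apply] at hve
        refine ⟨(g : G)⁻¹ * c, ?_, ?_⟩
        · have hgx : (g : G) * x = x * (g : G) := mem_centralizer_singleton_iff.1 g.2
          calc (g : G)⁻¹ * c * y * ((g : G)⁻¹ * c)⁻¹ = (g : G)⁻¹ * (c * y * c⁻¹) * g := by group
            _ = (g : G)⁻¹ * (x * g) := by rw [hc]; group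
            _ = x := by rw [← hgx, inv_mul_cancel_left]
        · rw [show ((g : G)⁻¹ * c)⁻¹ * y * ((g : G)⁻¹ * c) = c⁻¹ * ((g : G) * y * (g : G)⁻¹) * c by group,
            ← hve, show c⁻¹ * (c * v * c⁻¹) * c = v by group]
          exact hv
      set T₁ : Subgroup G := (S : Subgroup G).map (MulAut.conj c).toMonoidHom with hT1
      have hT27 : Nat.card T₁ = 27 := by rw [hT1, card_map_of_injective (MulAut.conj c).injective, hS27]
      have hxT : x ∈ T₁ := ⟨y, hyS, hc⟩
      have hyT₁ : y ∈ T₁ := ⟨_, hyT, by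
        show c * (c⁻¹ * y * c) * c⁻¹ = y
        group⟩
      have hTc : ∀ v ∈ T₁, Commute v x := by
        rintro _ ⟨v, hv, rfl⟩
        rw [← hc]
        exact (hyc v hv).symm.map (MulAut.conj c).toMonoidHom
      obtain ⟨w₀, hw₀, hw₀y⟩ : ∃ w₀ ∈ T₁, ¬ Commute w₀ y := by
        by_contra h
        push Not at h
        set y₀ := c⁻¹ * y * c with hy0
        have hy0c : ∀ v ∈ S, Commute v y₀ := fun v hv => by
          have h' : Commute (c * v * c⁻¹) y := h _ ⟨v, hv, rfl⟩
          have := h'.map (MulAut.conj c⁻¹).toMonoidHom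
          simp only [MulEquiv.coe_toMonoidHom, MulAut.conj_apply, inv_inv] at this
          rwa [show c⁻¹ * (c * v * c⁻¹) * c = v by group] at this
        have hy0y : ∀ m : ℕ, y₀ ≠ y ^ m := fun m hm => by
          have e : y = x ^ m := by
            rw [← hc, conj_pow, ← hm, hy0]; group
          have hx3' : x ^ 3 = 1 := by rw [pow_succ, pow_two, hx3]
          rw [pow_eq_pow_mod m hx3'] at e
          have := hinj (a₁ := (0, 1)) (a₂ := (⟨m % 3, Nat.mod_lt _ (by norm_num)⟩, 0)) (by simpa [f] using e)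
          simp at this
        by_cases hsp : ∃ p, f p = y₀
        · obtain ⟨⟨i, j⟩, hp⟩ := hsp
          simp only [hf] at hp
          have hi : (i : ℕ) ≠ 0 := fun e => hy0y j (by rw [← hp, e, pow_zero, one_mul])
          have hcs : Commute s (x ^ (i : ℕ)) := by
            have h1 := (hy0c s hs).mul_right ((hyc s hs).symm.pow_right (j : ℕ)).inv_right
            rwa [← hp, mul_inv_cancel_right] at h1
          refine hns ?_
          have := i.2
          have hx3' : x ^ 3 = 1 := by rw [pow_succ, pow_two, hx3]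
          rcases (show (i : ℕ) = 1 ∨ (i : ℕ) = 2 by omega) with e | e <;> rw [e] at hcs
          · rw [pow_one] at hcs; exact hcs.symm
          · have h4 := hcs.mul_right hcs
            rw [← pow_add, show 2 + 2 = 3 + 1 by rfl, pow_succ, hx3', one_mul] at h4
            exact h4.symm
        · set W : Subgroup G := (S : Subgroup G) ⊓ centralizer ({x} : Set G)
          have hW : 10 ≤ Nat.card W := by
            let F : Option (Fin 3 × Fin 3) → W := fun o => match o with
              | none => ⟨y₀, hyT, mem_centralizer_singleton_iff.2 (hy0c x hxS).eq.symm⟩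
              | some p => ⟨f p, mul_mem (pow_mem hxS _) (pow_mem hyS _), mem_centralizer_singleton_iff.2
                  (((Commute.refl x).pow_left _).mul_left (hcxy.symm.pow_left _)).eq⟩
            have hF : Function.Injective F := by
              rintro (_ | p) (_ | q) h
              · rfl
              · exact absurd ⟨q, (congrArg Subtype.val h).symm⟩ hsp
              · exact absurd ⟨p, congrArg Subtype.val h⟩ hsp
              · exact congrArg some (hinj (congrArg Subtype.val h))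
            have := Nat.card_le_card_of_injective F hF
            simpa [Nat.card_eq_fintype_card] using this
          have hd : Nat.card W ∣ 3 ^ 3 := by
            rw [show (3 : ℕ) ^ 3 = 27 from rfl, ← hS27]; exact card_dvd_of_le inf_le_left
          obtain ⟨k, hk, he⟩ := (Nat.dvd_prime_pow Nat.prime_three).1 hd
          have hWS : W = (S : Subgroup G) := Subgroup.eq_of_le_of_card_ge inf_le_left (by
            rw [hS27]
            rw [he] at hW ⊢
            interval_cases k <;> omega)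
          exact hns (show Commute s x from mem_centralizer_singleton_iff.1
            ((hWS.symm ▸ hs : s ∈ W)).2).symm
      have hoddw : Odd (orderOf w₀) :=
        Odd.of_dvd_nat (by decide : Odd 27) (hT27 ▸ Subgroup.orderOf_dvd_natCard _ hw₀)
      obtain ⟨w, hwy, hwx⟩ := transvection hy3 hx3 hcxy.symm hinj' hoddw hw₀y (hTc w₀ hw₀)
        (hswap _ (conj_mem_span hx3 hy3 hcxy hinj T₁ hxT hyT₁ hT27 hw₀).2)
      exact rot_false D hx3 hx1 hcxy hux huy hwy hwx
    have habel : ∀ a ∈ S, ∀ b ∈ S, a * b = b * a := by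
      intro a ha b hb
      set W : Subgroup G := (S : Subgroup G) ⊓ centralizer ({a} : Set G)
      by_cases hsp : ∃ p, f p = a
      · obtain ⟨p, rfl⟩ := hsp
        exact (((hxc b hb).pow_left _).mul_left ((hyc b hb).pow_left _)).eq
      have hW : 10 ≤ Nat.card W := by
        let F : Option (Fin 3 × Fin 3) → W := fun o => match o with
          | none => ⟨a, ha, mem_centralizer_singleton_iff.2 rfl⟩
          | some p => ⟨f p, mul_mem (pow_mem hxS _) (pow_mem hyS _), mem_centralizer_singleton_iff.2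
              (((hxc a ha).pow_left _).mul_left ((hyc a ha).pow_left _)).eq⟩
        have hF : Function.Injective F := by
          rintro (_ | p) (_ | q) h
          · rfl
          · exact absurd ⟨q, (congrArg Subtype.val h).symm⟩ hsp
          · exact absurd ⟨p, congrArg Subtype.val h⟩ hsp
          · exact congrArg some (hinj (congrArg Subtype.val h))
        have := Nat.card_le_card_of_injective F hF
        simpa [Nat.card_eq_fintype_card] using this
      have hd : Nat.card W ∣ 3 ^ 3 := by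
        rw [show (3 : ℕ) ^ 3 = 27 from rfl, ← hS27]; exact card_dvd_of_le inf_le_left
      obtain ⟨k, hk, he⟩ := (Nat.dvd_prime_pow Nat.prime_three).1 hd
      have hWS : W = (S : Subgroup G) := Subgroup.eq_of_le_of_card_ge inf_le_left (by
        rw [hS27]
        rw [he] at hW ⊢
        interval_cases k <;> omega)
      exact (mem_centralizer_singleton_iff.1 ((hWS.symm ▸ hb : b ∈ W)).2).symm
    exact abelian_false D h3 S hS27 hyS hxS habel hx3 hx1 hconj htS htx hty

end Data

end CfsgLib.Invol.J1Cent
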