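import Cfsg.Agent.Lib.Invol.JankoOneModel
import Cfsg.Agent.Lib.Invol.Basic
import Cfsg.Agent.Lib.Transfer.Focal
import Mathlib.GroupTheory.GroupAction.Quotient
import Mathlib.Data.Fintype.Powerset
import Cfsg.Prelude.Def_SporadicB

/-!
Fusion of involutions in a simple group with a 2-central involution centralized by `Z/2 × A₅`.
-/

set_option autoImplicit false
set_option maxRecDepth 10000
set_option synthInstance.maxSize 8000
set_option synthInstance.maxHeartbeats 200000

namespace CfsgLib.Invol.J1Cent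

open Cfsg Equiv Subgroup
open scoped commutatorElement

universe u

/-- The elementary group of order eight. -/
abbrev E8 : Type := Multiplicative (ZMod 2 × ZMod 2 × ZMod 2)

/-- The four group in `A₅`. -/
def fourEl (a b : ZMod 2) : A5 :=
  (if a = 0 then 1 else rep 1) *
    (if b = 0 then 1 else ⟨swap 0 2 * swap 1 3, Perm.mem_alternatingGroup.2 (by decide +kernel)⟩)

/-- The Sylow subgroup of the model. -/
def emb : E8 →* Mod where
  toFun w := (Multiplicative.ofAdd w.toAdd.1, fourEl w.toAdd.2.1 w.toAdd.2.2)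
  map_one' := by decide +kernel
  map_mul' := by decide +kernel

/-- The element of `E8` over the central involution. -/
def e0 : E8 := Multiplicative.ofAdd (1, 0, 0)

theorem emb_e0 : emb e0 = iota := by decide +kernel

theorem emb_injective : Function.Injective emb := by decide +kernel

theorem mod_center : ∀ m : Mod, (∀ r : Mod, m * r = r * m) → m ≠ 1 → m = iota := by decide +kernel

theorem iota_comm : ∀ r : Mod, iota * r = r * iota := by decide +kernel

theorem mod_invol : ∀ m : Mod, m * m = 1 → ∃ w : E8, ∃ r : Mod, r * emb w * r⁻¹ = m := by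
  decide +kernel

theorem mod_two_elt : ∀ m : Mod, m ^ 8 = 1 → m * m = 1 := by decide +kernel

/-- Two elements of the same shape. -/
def sameType (v w : E8) : Bool :=
  v.toAdd.1 == w.toAdd.1 && ((v.toAdd.2 == 0) == (w.toAdd.2 == 0))

theorem emb_conj : ∀ v w : E8, sameType v w = true → ∃ r : Mod, r * emb v * r⁻¹ = emb w := by
  decide +kernel

theorem orbit_cases_aux : ∀ O ∈ (Finset.univ : Finset E8).powerset, 1 ∉ O → e0 ∈ O →
    O.card % 2 = 1 → (∀ v ∈ (Finset.univ : Finset E8), ∀ w ∈ (Finset.univ : Finset E8),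
      sameType v w = true → v ∈ O → w ∈ O) →
      O = {e0} ∨ ∀ w ∈ (Finset.univ : Finset E8), w ≠ 1 → w ∈ O := by
  decide +kernel

theorem orbit_cases (O : Finset E8) (h1 : 1 ∉ O) (h0 : e0 ∈ O) (hc : O.card % 2 = 1)
    (h : ∀ v w : E8, sameType v w = true → v ∈ O → w ∈ O) :
    O = {e0} ∨ ∀ w : E8, w ≠ 1 → w ∈ O :=
  (orbit_cases_aux O (Finset.mem_powerset.2 (Finset.subset_univ O)) h1 h0 hc
    fun v _ w _ => h v w).imp_right fun h w => h w (Finset.mem_univ w)

theorem e8_sq : ∀ w : E8, w ^ 2 = 1 := by decide +kernel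

theorem iota_fst : iota.1 ≠ 1 := by decide +kernel

theorem mod_noncomm : ((1, rep 2) : Mod) * (1, rep 3) ≠ (1, rep 3) * (1, rep 2) := by decide +kernel

/-- The local data. -/
structure Data (G : Type u) [Group G] [Finite G] where
  t : G
  ev : ↥(centralizer ({t} : Set G)) ≃* Mod
  ht : orderOf t = 2
  hev : ev ⟨t, mem_centralizer_singleton_iff.2 rfl⟩ = iota
  hconj : ∀ x : G, orderOf x = 2 → IsConj t x
  h16 : ¬ 16 ∣ Nat.card G
  hS : ∀ P : Sylow 2 G, Nat.card (P : Subgroup G) = 8
  h4 : ∀ x : G, ¬ 4 ∣ orderOf x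

namespace Data

variable {G : Type u} [Group G] [Finite G] (D : Data G)

/-- The centralizer of the involution. -/
abbrev C : Subgroup G := centralizer ({D.t} : Set G)

/-- The involution in its centralizer. -/
abbrev tC : D.C := ⟨D.t, mem_centralizer_singleton_iff.2 rfl⟩

/-- The elementary abelian Sylow subgroup. -/
def embG : E8 →* G := (D.C).subtype.comp ((D.ev.symm.toMonoidHom).comp emb)

theorem embG_e0 : D.embG e0 = D.t := by
  simp only [embG, MonoidHom.coe_comp, Function.comp_apply, MulEquiv.coe_toMonoidHom, emb_e0]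
  rw [← D.hev, MulEquiv.symm_apply_apply]
  rfl

theorem embG_injective : Function.Injective D.embG :=
  (D.C.subtype_injective.comp D.ev.symm.injective).comp emb_injective

theorem card_C : Nat.card D.C = 120 := by
  rw [Nat.card_congr D.ev.toEquiv, Nat.card_prod, Nat.card_eq_fintype_card,
    Fintype.card_multiplicative, ZMod.card, nat_card_alternatingGroup, Nat.card_eq_fintype_card,
    Fintype.card_fin]
  rfl

theorem isConj_embG {w : E8} (hw : w ≠ 1) : IsConj D.t (D.embG w) := by
  refine D.hconj _ (orderOf_eq_prime ?_ fun e => hw (D.embG_injective (e.trans (map_one _).symm)))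
  rw [← map_pow, e8_sq w, map_one]

end Data

variable {G : Type u} [Group G] [Finite G]

/-- The data of a simple group with the given centralizer. -/
theorem exists_data [IsSimpleGroup G] (t : G) (ht : IsTwoCentralInvolution t)
    (e : centralizer ({t} : Set G) ≃* Mod) : ∃ D : Data G, D.t = t := by
  classical
  have : Fact (Nat.Prime 2) := ⟨Nat.prime_two⟩
  obtain ⟨h2, P, htP, hP⟩ := ht
  set C := centralizer ({t} : Set G) with hC
  have hev : e ⟨t, mem_centralizer_singleton_iff.2 rfl⟩ = iota := by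
    refine mod_center _ (fun r => ?_) fun h => ?_
    · obtain ⟨c, rfl⟩ := e.surjective r
      rw [← map_mul, ← map_mul]
      exact congrArg e (Subtype.ext (mem_centralizer_singleton_iff.1 c.2).symm)
    · exact invol_ne_one h2 (congrArg Subtype.val (e.map_eq_one_iff.1 h))
  have hcC : Nat.card C = 120 := by
    rw [Nat.card_congr e.toEquiv, Nat.card_prod, Nat.card_eq_fintype_card,
      Fintype.card_multiplicative, ZMod.card, nat_card_alternatingGroup, Nat.card_eq_fintype_card,
      Fintype.card_fin]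
    rfl
  -- the Sylow subgroup
  let ι : E8 →* G := C.subtype.comp (e.symm.toMonoidHom.comp emb)
  have hι : Function.Injective ι := (C.subtype_injective.comp e.symm.injective).comp emb_injective
  have hι0 : ι e0 = t := by
    simp only [ι, MonoidHom.coe_comp, Function.comp_apply, MulEquiv.coe_toMonoidHom, emb_e0]
    rw [← hev, MulEquiv.symm_apply_apply]
    rfl
  have hιc : Nat.card ι.range = 8 := by
    rw [← Nat.card_congr (MonoidHom.ofInjective hι).toEquiv, Nat.card_eq_fintype_card]
    rfl
  have hPC : (P : Subgroup G) ≤ C := fun x hx => mem_centralizer_singleton_iff.2 (hP x hx)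
  have hP8 : Nat.card (P : Subgroup G) = 8 := by
    obtain ⟨k, hk⟩ := IsPGroup.iff_card.1 P.2
    have hd := Subgroup.card_dvd_of_le hPC
    rw [hcC, hk] at hd
    have hk3 : k ≤ 3 := by
      by_contra h
      have : 2 ^ 4 ∣ 120 := (pow_dvd_pow 2 (by omega)).trans hd
      norm_num at this
    have h8 : 2 ^ 3 ∣ Nat.card G := by
      have := Subgroup.card_subgroup_dvd_card ι.range
      rwa [hιc] at this
    have := (Nat.Prime.pow_dvd_iff_le_factorization Nat.prime_two Nat.card_pos.ne').1 h8
    rw [P.card_eq_multiplicity] at hk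
    have := Nat.pow_right_injective le_rfl hk
    rw [P.card_eq_multiplicity, show (Nat.card G).factorization 2 = 3 by omega]
    rfl
  have hS : ∀ Q : Sylow 2 G, Nat.card (Q : Subgroup G) = 8 := fun Q => by
    rw [← hP8, Q.card_eq_multiplicity, P.card_eq_multiplicity]
  have h16 : ¬ 16 ∣ Nat.card G := fun h => by
    have := (Nat.Prime.pow_dvd_iff_le_factorization Nat.prime_two Nat.card_pos.ne').1
      (show 2 ^ 4 ∣ Nat.card G from h)
    have h3 := P.card_eq_multiplicity
    rw [hP8] at h3
    have := Nat.pow_right_injective le_rfl (show 2 ^ 3 = 2 ^ (Nat.card G).factorization 2 from h3)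
    omega
  let Q : Sylow 2 G := Sylow.ofCard ι.range (by
    rw [hιc, ← hP8, P.card_eq_multiplicity])
  have hQ : (Q : Subgroup G) = ι.range := Sylow.coe_ofCard _ _
  have hmemQ : ∀ x ∈ Q, ∃ w, ι w = x := fun x hx => by
    have : x ∈ (Q : Subgroup G) := hx
    rw [hQ] at this
    exact this
  have hιmem : ∀ w, ι w ∈ Q := fun w => by
    show ι w ∈ (Q : Subgroup G)
    rw [hQ]; exact ⟨w, rfl⟩
  have : IsMulCommutative (Q : Subgroup G) := ⟨⟨fun a b => by
    obtain ⟨v, hv⟩ := hmemQ a a.2
    obtain ⟨w, hw⟩ := hmemQ b b.2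
    refine Subtype.ext ?_
    show (a : G) * b = b * a
    rw [← hv, ← hw, ← map_mul, ← map_mul, mul_comm]⟩⟩
  -- the orbit of `t` in `Q`
  set O : Finset E8 := Finset.univ.filter fun w => IsConj t (ι w) with hO
  set N := normalizer ((Q : Subgroup G) : Set G) with hN
  have hburn : ∀ w, IsConj t (ι w) → ∃ n ∈ N, n * t * n⁻¹ = ι w := fun w hw => by
    obtain ⟨g, hg⟩ := isConj_iff.1 hw
    obtain ⟨n, hn, hn'⟩ := CfsgLib.Transfer.abelian_sylow_controls Q t (hι0 ▸ hιmem e0) g
      (hg ▸ hιmem w)
    exact ⟨n, hn, hn'.trans hg⟩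
  have hodd : O.card % 2 = 1 := by
    let K : Subgroup N := C.subgroupOf N
    have hcard : K.index = O.card := by
      rw [Subgroup.index, ← Nat.card_eq_finsetCard]
      have hmem : ∀ n : N, ∃ w : O, ι w = (n : G) * t * (n : G)⁻¹ := fun n => by
        obtain ⟨w, hw⟩ := hmemQ _ ((mem_normalizer_iff.1 n.2 t).1 (hι0 ▸ hιmem e0))
        exact ⟨⟨w, Finset.mem_filter.2 ⟨Finset.mem_univ _, isConj_iff.2 ⟨n, hw.symm⟩⟩⟩, hw⟩
      choose f hf using hmem
      have heq : ∀ a b : N, f a = f b ↔ a⁻¹ * b ∈ K := fun a b => by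
        rw [mem_subgroupOf, mem_centralizer_singleton_iff]
        constructor
        · intro h
          have h' : (a : G) * t * (a : G)⁻¹ = (b : G) * t * (b : G)⁻¹ := by rw [← hf, ← hf, h]
          push_cast
          calc (a : G)⁻¹ * b * t = (a : G)⁻¹ * ((b : G) * t * (b : G)⁻¹) * b := by group
            _ = (a : G)⁻¹ * ((a : G) * t * (a : G)⁻¹) * b := by rw [h']
            _ = t * ((a : G)⁻¹ * b) := by group
        · intro h
          push_cast at h
          refine Subtype.ext (hι ?_)
          rw [hf, hf]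
          calc (a : G) * t * (a : G)⁻¹ = (a : G) * (t * ((a : G)⁻¹ * b)) * (b : G)⁻¹ := by group
            _ = (a : G) * ((a : G)⁻¹ * b * t) * (b : G)⁻¹ := by rw [h]
            _ = (b : G) * t * (b : G)⁻¹ := by group
      refine Nat.card_congr (Equiv.ofBijective (Quotient.lift f fun a b h => (heq a b).2
        (QuotientGroup.leftRel_apply.1 h)) ⟨?_, ?_⟩)
      · rintro ⟨a⟩ ⟨b⟩ h
        exact Quotient.sound (QuotientGroup.leftRel_apply.2 ((heq a b).1 h))
      · intro w
        obtain ⟨n, hn, hn'⟩ := hburn w (Finset.mem_filter.1 w.2).2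
        exact ⟨Quotient.mk'' ⟨n, hn⟩, Subtype.ext (hι (by
          show ι (f ⟨n, hn⟩) = ι w
          rw [hf]; exact hn'))⟩
    rw [← hcard]
    refine Nat.odd_iff.1 (Nat.not_even_iff_odd.1 fun h => ?_)
    refine Q.not_dvd_index (dvd_trans (even_iff_two_dvd.1 h) ?_)
    have hle : (Q : Subgroup G) ≤ N ⊓ C := le_inf le_normalizer fun x hx => by
      obtain ⟨w, rfl⟩ := hmemQ x hx
      rw [mem_centralizer_singleton_iff, ← hι0, ← map_mul, ← map_mul, mul_comm]
    have h1 : K.index ∣ (N ⊓ C).index := by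
      rw [show K.index = C.relIndex N from rfl, ← inf_relIndex_left,
        ← relIndex_mul_index (inf_le_left : N ⊓ C ≤ N)]
      exact dvd_mul_right _ _
    exact h1.trans (Subgroup.index_dvd_of_le hle)
  have h1 : (1 : E8) ∉ O := fun h => by
    have := (Finset.mem_filter.1 h).2
    rw [map_one] at this
    exact invol_ne_one h2 (isConj_one_left.1 this)
  have he0 : e0 ∈ O := Finset.mem_filter.2 ⟨Finset.mem_univ _, by rw [hι0]⟩
  have hclosed : ∀ v w : E8, sameType v w = true → v ∈ O → w ∈ O := by
    intro v w hvw hv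
    obtain ⟨r, hr⟩ := emb_conj v w hvw
    refine Finset.mem_filter.2 ⟨Finset.mem_univ _, (Finset.mem_filter.1 hv).2.trans
      (isConj_iff.2 ⟨((e.symm r : C) : G), ?_⟩)⟩
    simp only [ι, MonoidHom.coe_comp, Function.comp_apply, MulEquiv.coe_toMonoidHom, ← hr,
      map_mul, map_inv, Subgroup.subtype_apply]
  rcases orbit_cases O h1 he0 hodd hclosed with hO1 | hall
  · -- transfer
    exfalso
    have hctrl : ∀ x ∈ Q, ∀ g : G, g * x * g⁻¹ ∈ Q → ∃ v ∈ C, v * x * v⁻¹ = g * x * g⁻¹ := by
      intro x hx g hg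
      obtain ⟨n, hn, hn'⟩ := CfsgLib.Transfer.abelian_sylow_controls Q x hx g hg
      refine ⟨n, ?_, hn'⟩
      obtain ⟨w, hw⟩ := hmemQ _ ((mem_normalizer_iff.1 hn t).1 (hι0 ▸ hιmem e0))
      have hwO : w ∈ O := Finset.mem_filter.2 ⟨Finset.mem_univ _, isConj_iff.2 ⟨n, hw.symm⟩⟩
      rw [hO1, Finset.mem_singleton] at hwO
      rw [hwO, hι0] at hw
      rw [mem_centralizer_singleton_iff]
      calc n * t = (n * t * n⁻¹) * n := by group
        _ = t * n := by rw [← hw]
    have hQC : (Q : Subgroup G) ≤ C := fun x hx => by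
      obtain ⟨w, rfl⟩ := hmemQ x hx
      rw [mem_centralizer_singleton_iff, ← hι0, ← map_mul, ← map_mul, mul_comm]
    have hperf : commutator G = ⊤ := by
      refine (Subgroup.Normal.eq_bot_or_eq_top (commutator_normal _ _)).resolve_left fun h => ?_
      have hc : ∀ a b : G, a * b = b * a := fun a b => by
        have : ⁅a, b⁆ ∈ _root_.commutator G := by
          rw [_root_.commutator_eq_closure]; exact subset_closure ⟨a, b, rfl⟩
        rw [_root_.commutator_def, h, mem_bot] at this
        exact commutatorElement_eq_one_iff_mul_comm.1 this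
      obtain ⟨m, m', hm⟩ : ∃ m m' : Mod, m * m' ≠ m' * m :=
        ⟨(1, rep 2), (1, rep 3), mod_noncomm⟩
      exact hm (e.symm.injective (Subtype.ext (by
        simp only [map_mul, Subgroup.coe_mul]; exact hc _ _)))
    have htt : t ∈ commutator G ⊓ (Q : Subgroup G) := by
      rw [hperf, top_inf_eq]; exact hι0 ▸ hιmem e0
    rw [CfsgLib.Transfer.commutator_inf_eq_of_controls Q hQC hctrl] at htt
    have hfst : ∀ c : C, (c : G) ∈ ⁅C, C⁆ → (e c).1 = 1 := by
      have hle : ⁅C, C⁆ ≤ ((((MonoidHom.fst (Multiplicative (ZMod 2)) A5).comp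
          e.toMonoidHom)).ker.map C.subtype) := by
        rw [commutator_le]
        intro a ha b hb
        refine ⟨⁅(⟨a, ha⟩ : C), ⟨b, hb⟩⁆, ?_, rfl⟩
        simp only [SetLike.mem_coe, MonoidHom.mem_ker, map_commutatorElement]
        exact commutatorElement_eq_one_iff_mul_comm.2 (mul_comm _ _)
      intro c hc
      obtain ⟨d, hd, hdc⟩ := hle hc
      rw [← Subtype.ext hdc]
      exact hd
    have := hfst ⟨t, mem_centralizer_singleton_iff.2 rfl⟩ htt.1
    rw [hev] at this
    exact iota_fst this
  · have hconj : ∀ x : G, orderOf x = 2 → IsConj t x := by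
      intro x hx
      obtain ⟨a, ha⟩ := exists_conj_invol_mem_sylow Q hx
      obtain ⟨w, hw⟩ := hmemQ _ ha
      have hw1 : w ≠ 1 := by
        rintro rfl
        rw [map_one] at hw
        refine invol_ne_one hx ?_
        simpa using hw.symm
      have := (Finset.mem_filter.1 (hall w hw1)).2
      rw [hw] at this
      exact this.trans (isConj_iff.2 ⟨a⁻¹, by group⟩)
    have h4 : ∀ x : G, ¬ 4 ∣ orderOf x := by
      intro x hx
      set y := x ^ (orderOf x / 4) with hy
      have hy4 : orderOf y = 4 := orderOf_pow_orderOf_div (orderOf_pos x).ne' hx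
      obtain ⟨a, ha⟩ := exists_conj_mem_sylow Q (H := zpowers y)
        (IsPGroup.of_card (n := 2) (by rw [Nat.card_zpowers, hy4]; norm_num))
      obtain ⟨w, hw⟩ := hmemQ _ (ha y (mem_zpowers y))
      have h22 : (a * y * a⁻¹) ^ 2 = 1 := by
        rw [← hw, ← map_pow, e8_sq w, map_one]
      have h2' := orderOf_dvd_of_pow_eq_one h22
      rw [orderOf_conj_eq, hy4] at h2'
      norm_num at h2'
    exact ⟨⟨t, e, h2, hev, hconj, h16, hS, h4⟩, rfl⟩

end CfsgLib.Invol.J1Cent
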