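import Cfsg.Agent.Lib.BlockA.AltVanishing
import Cfsg.Agent.Lib.Char.Induce
import Mathlib.GroupTheory.SpecificGroups.Alternating
import Mathlib.RingTheory.RootsOfUnity.Complex
import Mathlib.Data.ZMod.Basic

/-!
Four generalized characters of `Z/2 × A₅` supported on the section of the central involution.
-/

set_option autoImplicit false
set_option maxRecDepth 10000
set_option maxHeartbeats 1000000

namespace CfsgLib.Invol.J1Cent

open Cfsg Equiv
open CfsgLib.BlockA.AltVanishing (std chi22 fixN swapN)
open scoped ComplexConjugate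

/-- `A₅`. -/
abbrev A5 : Type := ↥(alternatingGroup (Fin 5))

/-- The model of the centralizer. -/
abbrev Mod : Type := Multiplicative (ZMod 2) × A5

/-- The central involution of the model. -/
def iota : Mod := (Multiplicative.ofAdd 1, 1)

/-- A five-cycle. -/
def c5 : A5 := ⟨finRotate 5, Perm.mem_alternatingGroup.2 (by decide +kernel)⟩

/-- Representatives of the classes. -/
def rep : Fin 5 → A5 :=
  ![1, ⟨swap 0 1 * swap 2 3, Perm.mem_alternatingGroup.2 (by decide +kernel)⟩,
    ⟨swap 0 1 * swap 1 2, Perm.mem_alternatingGroup.2 (by decide +kernel)⟩, c5, c5 * c5]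

/-- The label of the class. -/
def cls (g : A5) : Fin 5 :=
  if g = 1 then 0 else if g * g = 1 then 1 else if g * g * g = 1 then 2
    else if ∃ x : A5, x * c5 * x⁻¹ = g then 3 else 4

/-- The sizes of the classes. -/
def size : Fin 5 → ℕ := ![1, 15, 20, 12, 12]

theorem cls_spec : ∀ g : A5, ∃ x : A5, x * rep (cls g) * x⁻¹ = g := by decide +kernel

theorem cls_card : ∀ i : Fin 5, (Finset.univ.filter fun g : A5 => cls g = i).card = size i := by
  decide +kernel

theorem cls_pow : ∀ g : A5, cls g ≠ 1 → g ^ 15 = 1 := by decide +kernel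

theorem cls_one : cls 1 = 0 := by decide +kernel

theorem cls_eq_zero : ∀ g : A5, cls g = 0 → g = 1 := by decide +kernel

/-- A class function takes the value of the representative. -/
theorem classFn_eq {f : A5 → ℂ} (hf : IsClassFunction A5 f) (g : A5) : f g = f (rep (cls g)) := by
  obtain ⟨x, hx⟩ := cls_spec g
  conv_lhs => rw [← hx]
  exact hf _ _

theorem sum_cls (F : Fin 5 → ℂ) :
    ∑ g : A5, F (cls g) = F 0 + 15 * F 1 + 20 * F 2 + 12 * F 3 + 12 * F 4 := by
  rw [← Finset.sum_fiberwise Finset.univ cls,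
    Finset.sum_congr rfl (g := fun i => (size i : ℂ) * F i) fun i _ => by
      rw [Finset.sum_congr rfl (g := fun _ => F i) fun g hg => by rw [(Finset.mem_filter.1 hg).2],
        Finset.sum_const, cls_card, nsmul_eq_mul]]
  simp [Fin.sum_univ_five, size]

theorem sum_mod_cls (F : Multiplicative (ZMod 2) → Fin 5 → ℂ) :
    ∑ m : Mod, F m.1 (cls m.2) =
      ∑ g : A5, F 1 (cls g) + ∑ g : A5, F (Multiplicative.ofAdd 1) (cls g) := by
  rw [Fintype.sum_prod_type]
  have : (Finset.univ : Finset (Multiplicative (ZMod 2))) = {1, Multiplicative.ofAdd 1} := by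
    decide +kernel
  rw [this, Finset.sum_pair (by decide +kernel)]

/-! ### The four functions on `A₅` -/

theorem fixN_rep : ∀ i : Fin 5, fixN (rep i : Perm (Fin 5)) = ![5, 1, 2, 0, 0] i := by decide +kernel

theorem swapN_rep : ∀ i : Fin 5, swapN (rep i : Perm (Fin 5)) = ![0, 4, 0, 0, 0] i := by
  decide +kernel

/-- The number of conjugators into the powers of the five-cycle. -/
def indCount (i k : Fin 5) : ℕ :=
  ![![60, 0, 0, 0, 0], ![0, 0, 0, 0, 0], ![0, 0, 0, 0, 0], ![0, 5, 0, 0, 5], ![0, 0, 5, 5, 0]] i k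

theorem indCount_spec : ∀ i k : Fin 5,
    (Finset.univ.filter fun x : A5 => x⁻¹ * rep i * x = c5 ^ (k : ℕ)).card = indCount i k := by
  decide +kernel

/-- The sum of a conjugate pair of fifth roots of unity. -/
def al (w : ℂ) : ℂ := w + w ^ 4

/-- The sum of the other pair. -/
def be (w : ℂ) : ℂ := w ^ 2 + w ^ 3

/-- The values of the four functions. -/
noncomputable def uval (z : ℂ) (j : Fin 4) : Fin 5 → ℂ :=
  ![![4, 0, 1, -1, -1], ![4, 0, 1, 2 + al z, 2 + be z], ![4, 0, 1, 2 + be z, 2 + al z],
    ![-4, 0, 2, 1, 1]] j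

/-- A primitive fifth root of unity. -/
noncomputable def zeta : ℂ := Complex.exp (2 * Real.pi * Complex.I / 5)

theorem zeta_prim : IsPrimitiveRoot zeta 5 := by
  have := Complex.isPrimitiveRoot_exp 5 (by norm_num)
  simpa [zeta] using this

theorem zeta_pow : zeta ^ 5 = 1 := zeta_prim.pow_eq_one

theorem zeta_sum : 1 + zeta + zeta ^ 2 + zeta ^ 3 + zeta ^ 4 = 0 := by
  have h := zeta_prim.geom_sum_eq_zero (by norm_num)
  simpa [Finset.sum_range_succ] using h

theorem al_add_be : al zeta + be zeta = -1 := by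
  unfold al be; linear_combination zeta_sum

theorem al_mul_be : al zeta * be zeta = -1 := by
  unfold al be
  linear_combination zeta_sum + (zeta + zeta ^ 2) * zeta_pow

theorem conj_zeta : conj zeta = zeta ^ 4 := by
  have h := Complex.mul_conj' zeta
  rw [Complex.norm_eq_one_of_pow_eq_one zeta_pow (by norm_num)] at h
  refine mul_left_cancel₀ (zeta_prim.ne_zero (by norm_num)) ?_
  rw [h]; push_cast; linear_combination -zeta_pow

theorem conj_al : conj (al zeta) = al zeta := by
  simp only [al, map_add, map_pow, conj_zeta]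
  linear_combination (zeta ^ 11 + zeta ^ 6 + zeta) * zeta_pow

theorem conj_be : conj (be zeta) = be zeta := by
  simp only [be, map_add, map_pow, conj_zeta]
  linear_combination (zeta ^ 7 + zeta ^ 3 + zeta ^ 2) * zeta_pow

theorem conj_uval (j : Fin 4) (i : Fin 5) : conj (uval zeta j i) = uval zeta j i := by
  fin_cases j <;> fin_cases i <;> simp [uval, conj_al, conj_be, map_ofNat]

theorem uval_ne_zero (j : Fin 4) (i : Fin 5) (hi : i ≠ 1) : uval zeta j i ≠ 0 := by
  have hs := al_add_be
  have hp := al_mul_be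
  intro h
  fin_cases j <;> fin_cases i <;> simp [uval] at h hi
  all_goals
    have hx : al zeta = -2 ∨ be zeta = -2 := by
      first
        | exact Or.inl (by linear_combination h)
        | exact Or.inr (by linear_combination h)
    rcases hx with hx | hx
    · have hb : be zeta = 1 := by linear_combination hs - hx
      rw [hx, hb] at hp; norm_num at hp
    · have ha : al zeta = 1 := by linear_combination hs - hx
      rw [hx, ha] at hp; norm_num at hp

/-- The linear character of the cyclic group of order five. -/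
theorem exists_lin {w : ℂ} (hw : w ^ 5 = 1) :
    ∃ l : Subgroup.zpowers c5 →* ℂˣ, ∀ k : ℕ,
      ((l ⟨c5 ^ k, Subgroup.npow_mem_zpowers c5 k⟩ : ℂˣ) : ℂ) = w ^ k := by
  have hw0 : w ≠ 0 := fun h => by rw [h] at hw; norm_num at hw
  set g : Subgroup.zpowers c5 := ⟨c5, Subgroup.mem_zpowers c5⟩
  have hg : ∀ x : Subgroup.zpowers c5, x ∈ Subgroup.zpowers g := by
    rintro ⟨x, hx⟩
    obtain ⟨k, rfl⟩ := Subgroup.mem_zpowers_iff.1 hx
    exact Subgroup.mem_zpowers_iff.2 ⟨k, rfl⟩
  have hu : orderOf (Units.mk0 w hw0) ∣ orderOf g := by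
    have h5 : orderOf g = 5 := by
      rw [Subgroup.orderOf_mk]
      have := Fact.mk (show Nat.Prime 5 by norm_num)
      exact orderOf_eq_prime (by decide +kernel) (by decide +kernel)
    rw [h5]
    exact orderOf_dvd_of_pow_eq_one (Units.ext (by simpa using hw))
  refine ⟨monoidHomOfForallMemZpowers hg hu, fun k => ?_⟩
  rw [show (⟨c5 ^ k, Subgroup.npow_mem_zpowers c5 k⟩ : Subgroup.zpowers c5) = g ^ k from rfl,
    map_pow, monoidHomOfForallMemZpowers_apply_gen]
  simp

theorem ind_gen {w : ℂ} (hw : w ^ 5 = 1) :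
    ∃ F : A5 → ℂ, IsGeneralizedCharacter A5 F ∧
      ∀ i, F (rep i) = (∑ k : Fin 5, (indCount i k : ℂ) * w ^ (k : ℕ)) / 5 := by
  classical
  obtain ⟨l, hl⟩ := exists_lin hw
  refine ⟨Cfsg.indFun (Subgroup.zpowers c5) (fun x => (l x : ℂ)),
    CfsgLib.Char.isGeneralized_indFun _ (CfsgLib.Char.isGeneralized_of_isCharacter
      (CfsgLib.Char.irr_isCharacter (CfsgLib.Char.isIrrCharacter_linear l))), fun i => ?_⟩
  have h5 : orderOf c5 = 5 := by
    have := Fact.mk (show Nat.Prime 5 by norm_num)
    exact orderOf_eq_prime (by decide +kernel) (by decide +kernel)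
  have hext : ∀ z : A5, Cfsg.extendByZero (Subgroup.zpowers c5) (fun x => (l x : ℂ)) z =
      ∑ k : Fin 5, if z = c5 ^ (k : ℕ) then w ^ (k : ℕ) else 0 := by
    intro z
    by_cases hz : z ∈ Subgroup.zpowers c5
    · obtain ⟨m, rfl⟩ := (isOfFinOrder_of_finite c5).mem_zpowers_iff_mem_range_orderOf.1 hz |> fun h =>
        (Finset.mem_image.1 h).imp fun m hm => hm.2.symm
      rw [CfsgLib.Char.extendByZero_of_mem _ hz, hl, Finset.sum_eq_single ⟨m % 5, Nat.mod_lt _ (by norm_num)⟩]
      · rw [if_pos (pow_eq_pow_mod m (orderOf_dvd_iff_pow_eq_one.1 (dvd_of_eq h5)))]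
        exact pow_eq_pow_mod m hw
      · intro k _ hk
        rw [if_neg]
        intro h
        refine hk (Fin.ext ?_)
        have := pow_eq_pow_iff_modEq.1 h.symm
        rw [h5] at this
        exact ((Nat.mod_eq_of_lt k.2).symm.trans this :)
      · simp
    · rw [CfsgLib.Char.extendByZero_of_not_mem _ hz, Finset.sum_eq_zero]
      intro k _
      rw [if_neg]
      intro h
      exact hz (h ▸ Subgroup.npow_mem_zpowers c5 _)
  rw [CfsgLib.Char.indFun_def, Nat.card_zpowers, h5, Finset.sum_congr rfl fun x _ => hext _,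
    Finset.sum_comm, Finset.sum_congr rfl (g := fun k : Fin 5 => (indCount i k : ℂ) * w ^ (k : ℕ))
      fun k _ => by
        rw [← Finset.sum_filter, Finset.sum_const, nsmul_eq_mul, indCount_spec]]
  push_cast
  ring

/-- The inclusion into permutations. -/
abbrev inc : A5 →* Perm (Fin 5) := (alternatingGroup (Fin 5)).subtype

theorem stdVal (i : Fin 5) : std (rep i : Perm (Fin 5)) = ![4, 0, 1, -1, -1] i := by
  rw [std, fixN_rep]; fin_cases i <;> norm_num

theorem chiVal (i : Fin 5) : chi22 (rep i : Perm (Fin 5)) = ![5, 1, -1, 0, 0] i := by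
  rw [chi22, fixN_rep, swapN_rep]; fin_cases i <;> norm_num

/-- The four functions are generalized characters. -/
theorem exists_u (j : Fin 4) :
    ∃ u : A5 → ℂ, IsGeneralizedCharacter A5 u ∧ ∀ g, u g = uval zeta j (cls g) := by
  have hone : IsGeneralizedCharacter A5 (fun _ => (1 : ℂ)) :=
    CfsgLib.Char.isGeneralized_of_isCharacter CfsgLib.Char.isCharacter_one
  have hs : IsGeneralizedCharacter A5 (fun g => std (inc g)) :=
    CfsgLib.BlockA.AltVanishing.isGeneralized_std inc
  have hc : IsGeneralizedCharacter A5 (fun g => chi22 (inc g)) :=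
    CfsgLib.BlockA.AltVanishing.isGeneralized_chi22 inc
  have key : ∀ u : A5 → ℂ, IsGeneralizedCharacter A5 u → (∀ i, u (rep i) = uval zeta j i) →
      ∃ u : A5 → ℂ, IsGeneralizedCharacter A5 u ∧ ∀ g, u g = uval zeta j (cls g) :=
    fun u hu h => ⟨u, hu, fun g => by
      rw [classFn_eq (CfsgLib.Char.isGeneralized_isClassFunction hu) g, h]⟩
  have mid : ∀ w : ℂ, w ^ 5 = 1 → ∃ u : A5 → ℂ, IsGeneralizedCharacter A5 u ∧
      ∀ i, u (rep i) = ![4, 0, 1, 2 + al w, 2 + be w] i := by
    intro w hw
    obtain ⟨F, hF, hv⟩ := ind_gen hw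
    refine ⟨_, CfsgLib.Char.isGeneralized_sub (CfsgLib.Char.isGeneralized_sub
      (CfsgLib.Char.isGeneralized_add hone hF) hs) hc, fun i => ?_⟩
    simp only [Pi.sub_apply, Pi.add_apply, Subgroup.subtype_apply, stdVal, chiVal, hv]
    fin_cases i <;> simp [indCount, Fin.sum_univ_five, al, be] <;> ring
  fin_cases j
  · exact key _ hs fun i => (stdVal i).trans (by fin_cases i <;> simp [uval])
  · obtain ⟨u, hu, h⟩ := mid zeta zeta_pow
    exact key u hu fun i => (h i).trans (by fin_cases i <;> simp [uval])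
  · obtain ⟨u, hu, h⟩ := mid (zeta ^ 2) (by linear_combination (zeta ^ 5 + 1) * zeta_pow)
    refine key u hu fun i => (h i).trans ?_
    have h1 : al (zeta ^ 2) = be zeta := by
      unfold al be; linear_combination zeta ^ 3 * zeta_pow
    have h2 : be (zeta ^ 2) = al zeta := by
      unfold al be; linear_combination zeta * zeta_pow
    fin_cases i <;> simp [uval, h1, h2]
  · refine key _ (CfsgLib.Char.isGeneralized_sub hone hc) fun i => ?_
    simp only [Pi.sub_apply, Subgroup.subtype_apply, chiVal]
    fin_cases i <;> norm_num [uval]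

/-! ### The functions on the model -/

/-- The sign on the first factor, one minus. -/
noncomputable def sgnFac (a : Multiplicative (ZMod 2)) : ℂ := if a = 1 then 0 else 2

/-- The values on the model. -/
noncomputable def phi (j : Fin 4) (m : Mod) : ℂ := sgnFac m.1 * uval zeta j (cls m.2)

theorem phi_gen (j : Fin 4) : IsGeneralizedCharacter Mod (phi j) := by
  obtain ⟨u, hu, huv⟩ := exists_u j
  let e : Multiplicative (ZMod 2) →* ℂˣ :=
    { toFun := fun a => if a = 1 then 1 else -1
      map_one' := if_pos rfl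
      map_mul' := fun a b => by
        rcases (show ∀ a : Multiplicative (ZMod 2), a = 1 ∨ a = Multiplicative.ofAdd 1 by
          decide +kernel) a with rfl | rfl <;>
        rcases (show ∀ a : Multiplicative (ZMod 2), a = 1 ∨ a = Multiplicative.ofAdd 1 by
          decide +kernel) b with rfl | rfl
        · simp
        · simp
        · simp
        · rw [if_pos (by decide +kernel), if_neg (by decide +kernel)]; simp }
  have h1 : IsGeneralizedCharacter Mod (fun _ => (1 : ℂ)) :=
    CfsgLib.Char.isGeneralized_of_isCharacter CfsgLib.Char.isCharacter_one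
  have he : IsGeneralizedCharacter Mod
      (fun m => ((e.comp (MonoidHom.fst _ _)) m : ℂ)) :=
    CfsgLib.Char.isGeneralized_of_isCharacter
      (CfsgLib.Char.irr_isCharacter (CfsgLib.Char.isIrrCharacter_linear _))
  have hu' : IsGeneralizedCharacter Mod (u ∘ (MonoidHom.snd (Multiplicative (ZMod 2)) A5)) := by
    obtain ⟨a, b, ha, hb, rfl⟩ := hu
    exact ⟨_, _, CfsgLib.Char.isCharacter_comp ha (MonoidHom.snd (Multiplicative (ZMod 2)) A5),
      CfsgLib.Char.isCharacter_comp hb (MonoidHom.snd (Multiplicative (ZMod 2)) A5), rfl⟩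
  convert CfsgLib.Char.isGeneralized_mul (CfsgLib.Char.isGeneralized_sub h1 he) hu' using 1
  funext m
  simp only [phi, sgnFac, Pi.mul_apply, Pi.sub_apply, Function.comp_apply, MonoidHom.coe_comp,
    MonoidHom.coe_fst, MonoidHom.coe_snd, huv]
  by_cases h : m.1 = 1
  · simp [e, h]
  · simp [e, h]
    exact Or.inl (by norm_num)

theorem conj_phi (j : Fin 4) (m : Mod) : conj (phi j m) = phi j m := by
  rw [phi, map_mul, conj_uval, sgnFac]
  split_ifs <;> simp [map_ofNat]

theorem phi_ne_zero {j : Fin 4} {m : Mod} (h : phi j m ≠ 0) : m ^ 15 = iota := by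
  have h1 : m.1 ≠ 1 := fun e => h (by simp [phi, sgnFac, e])
  have h2 : cls m.2 ≠ 1 := fun e => h (by fin_cases j <;> simp [phi, e, uval])
  refine Prod.ext ?_ (cls_pow _ h2)
  rw [Prod.pow_fst]
  exact (show ∀ a : Multiplicative (ZMod 2), a ≠ 1 → a ^ 15 = iota.1 by decide +kernel) _ h1

theorem phi_one (j : Fin 4) : phi j 1 = 0 := by simp [phi, sgnFac]

theorem sum_phi_cls (j : Fin 4) (F : Fin 5 → ℂ) :
    ∑ m : Mod, phi j m * F (cls m.2) =
      2 * (uval zeta j 0 * F 0 + 20 * (uval zeta j 2 * F 2) + 12 * (uval zeta j 3 * F 3) +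
        12 * (uval zeta j 4 * F 4)) := by
  have hz : uval zeta j 1 = 0 := by fin_cases j <;> simp [uval]
  unfold phi
  rw [sum_mod_cls (fun a i => sgnFac a * uval zeta j i * F i),
    sum_cls (fun i => sgnFac 1 * uval zeta j i * F i),
    sum_cls (fun i => sgnFac (Multiplicative.ofAdd 1) * uval zeta j i * F i)]
  rw [show sgnFac 1 = 0 from if_pos rfl,
    show sgnFac (Multiplicative.ofAdd 1) = 2 from if_neg (by decide +kernel), hz]
  ring

theorem sum_phi (j : Fin 4) : ∑ m : Mod, phi j m = if j = 0 then 0 else 120 := by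
  have h := sum_phi_cls j (fun _ => 1)
  simp only [mul_one] at h
  rw [h]
  fin_cases j <;> simp [uval] <;>
    first
      | ring1
      | linear_combination (-24 : ℂ) * al_add_be
      | linear_combination (24 : ℂ) * al_add_be

theorem sum_phi_mul (i j : Fin 4) :
    ∑ m : Mod, phi i m * phi j m =
      if i = j then (if i = 0 then 240 else 480) else if i = 0 ∨ j = 0 then 0 else 240 := by
  have e : ∀ m : Mod, phi i m * phi j m = phi i m * (2 * uval zeta j (cls m.2)) := by
    intro m
    by_cases h : m.1 = 1 <;> simp [phi, sgnFac, h]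
  rw [Finset.sum_congr rfl fun m _ => e m, sum_phi_cls i fun k => 2 * uval zeta j k]
  have hs := al_add_be
  have hp := al_mul_be
  have hq : al zeta * al zeta + be zeta * be zeta = 3 := by
    linear_combination (al zeta + be zeta - 1) * hs - 2 * hp
  fin_cases i <;> fin_cases j <;> simp [uval] <;>
    first
      | ring1
      | linear_combination (-24 : ℂ) * hs
      | linear_combination (24 : ℂ) * hs
      | linear_combination (-48 : ℂ) * hs
      | linear_combination (48 : ℂ) * hs
      | linear_combination (192 : ℂ) * hs + (96 : ℂ) * hp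
      | linear_combination (192 : ℂ) * hs + (48 : ℂ) * hq

/-- The number of involutions inverting an element into an involution. -/
def pairCount (m : Mod) : ℕ :=
  (Finset.univ.filter fun r : Mod =>
    r * r = 1 ∧ r ≠ 1 ∧ (r * m) * (r * m) = 1 ∧ r * m ≠ 1).card

theorem pairCount_conj (m a : Mod) : pairCount (a * m * a⁻¹) = pairCount m := by
  refine Finset.card_equiv (MulAut.conj a⁻¹).toEquiv fun r => ?_
  simp only [Finset.mem_filter, Finset.mem_univ, true_and, MulEquiv.toEquiv_eq_coe,
    MulEquiv.coe_toEquiv, MulAut.conj_apply, inv_inv]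
  have e : a⁻¹ * r * a * m = a⁻¹ * (r * (a * m * a⁻¹)) * a := by group
  rw [e, show a⁻¹ * r * a * (a⁻¹ * r * a) = a⁻¹ * (r * r) * a by group,
    show a⁻¹ * (r * (a * m * a⁻¹)) * a * (a⁻¹ * (r * (a * m * a⁻¹)) * a) =
      a⁻¹ * (r * (a * m * a⁻¹) * (r * (a * m * a⁻¹))) * a by group]
  simp [mul_eq_one_iff_eq_inv, mul_inv_eq_iff_eq_mul, inv_mul_eq_iff_eq_mul]

theorem pairCount_rep : ∀ i : Fin 5, i ≠ 1 →
    pairCount (iota.1, rep i) = ![30, 0, 6, 10, 10] i := by decide +kernel

theorem sum_phi_pair (j : Fin 4) :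
    ∑ m : Mod, phi j m * (pairCount m : ℂ) = ![0, 1200, 1200, 720] j := by
  have e : ∀ m : Mod, phi j m * (pairCount m : ℂ) =
      phi j m * (![30, 0, 6, 10, 10] (cls m.2) : ℂ) := by
    intro m
    by_cases h : phi j m = 0
    · simp [h]
    congr 1
    have h1 : m.1 ≠ 1 := fun e => h (by simp [phi, sgnFac, e])
    have h2 : cls m.2 ≠ 1 := fun e => h (by fin_cases j <;> simp [phi, e, uval])
    obtain ⟨x, hx⟩ := cls_spec m.2
    have hm : m = (1, x) * (iota.1, rep (cls m.2)) * ((1, x) : Mod)⁻¹ := by
      refine Prod.ext ?_ hx.symm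
      simp only [Prod.fst_mul, Prod.fst_inv, one_mul, inv_one, mul_one]
      exact (show ∀ a : Multiplicative (ZMod 2), a ≠ 1 → a = iota.1 by decide +kernel) _ h1
    rw [show pairCount m = pairCount (iota.1, rep (cls m.2)) by
      conv_lhs => rw [hm, pairCount_conj], pairCount_rep _ h2]
    generalize cls m.2 = i
    fin_cases i <;> simp
  rw [Finset.sum_congr rfl fun m _ => e m, sum_phi_cls j fun k => (![30, 0, 6, 10, 10] k : ℂ)]
  fin_cases j <;> simp [uval] <;>
    first
      | ring1
      | linear_combination (240 : ℂ) * al_add_be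

/-- The combination giving the value at the involution. -/
theorem phi_key (m : Mod) :
    4 * phi 0 m + 3 * phi 1 m + 3 * phi 2 m - 5 * phi 3 m = if m = iota then 120 else 0 := by
  have hs := al_add_be
  by_cases h1 : m.1 = 1
  · rw [if_neg (fun e => by rw [e] at h1; exact absurd h1 (by decide +kernel))]
    simp [phi, sgnFac, h1]
  have hf : m.1 = iota.1 :=
    (show ∀ a : Multiplicative (ZMod 2), a ≠ 1 → a = iota.1 by decide +kernel) _ h1
  by_cases h0 : cls m.2 = 0
  · rw [if_pos (Prod.ext hf (cls_eq_zero _ h0))]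
    simp [phi, sgnFac, h1, h0, uval]; norm_num
  rw [if_neg (fun e => h0 (by rw [e]; exact cls_one))]
  simp only [phi, sgnFac, if_neg h1]
  revert h0
  generalize cls m.2 = i
  intro h0
  fin_cases i <;> simp [uval] at * <;>
    first
      | ring1
      | linear_combination (6 : ℂ) * hs

end CfsgLib.Invol.J1Cent
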