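import Cfsg.Agent.Lib.Invol.JankoOneArith
import Cfsg.Agent.Lib.Invol.JankoOneKill
import Cfsg.Prelude.Def_Sporadic

/-!
Janko's theorem on the order: a simple group with a 2-central involution centralized by
`Z/2 × A₅` has order 175560.
-/

set_option autoImplicit false

namespace CfsgLib.Invol.J1Cent

universe u

/-- The order of the group. -/
theorem card_eq {G : Type u} [Group G] [Finite G] [IsSimpleGroup G] (t : G)
    (ht : Cfsg.IsTwoCentralInvolution t)
    (e : Subgroup.centralizer ({t} : Set G) ≃* Mod) : Nat.card G = 175560 := by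
  obtain ⟨D, -⟩ := exists_data t ht e
  obtain ⟨X, hX, ⟨E⟩⟩ := exists_degrees D
  exact E.order_cases.resolve_right fun h => D.not_189000 h

end CfsgLib.Invol.J1Cent
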