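import Cfsg.Agent.Lib.Invol.JankoOneLocal
import Cfsg.Agent.Lib.Coprime.Sylow
import Mathlib.GroupTheory.Transfer
import Mathlib.GroupTheory.IndexNormal

/-!
No group of order 189000 has such an involution: the Sylow 3-subgroup is contradictory.
-/

set_option autoImplicit false
set_option maxRecDepth 10000
set_option synthInstance.maxSize 8000
set_option maxHeartbeats 1000000

namespace CfsgLib.Invol.J1Cent

open Cfsg Subgroup

universe u

/-- The element of order three of the model. -/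
def yM : Mod := (1, rep 2)

/-- An involution inverting it. -/
def aM : Mod := (1, ⟨Equiv.swap 0 1 * Equiv.swap 3 4, Equiv.Perm.mem_alternatingGroup.2 (by decide +kernel)⟩)

theorem yM_three : yM * yM * yM = 1 ∧ yM ≠ 1 := by decide +kernel

theorem aM_spec : aM * aM = 1 ∧ aM ≠ 1 ∧ aM ≠ iota ∧ aM * yM * aM⁻¹ = yM⁻¹ ∧
    iota * aM = aM * iota := by decide +kernel

theorem yM_unique : ∀ m : Mod, m * m * m = 1 → m ≠ 1 → ∃ r : Mod, r * yM * r⁻¹ = m := by
  decide +kernel

theorem cent_yM_card :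
    (Finset.univ.filter fun m : Mod => m * yM = yM * m).card = 6 := by decide +kernel

theorem mod_two_part : ∀ m : Mod, m * yM = yM * m → m * m = 1 → m = 1 ∨ m = iota := by
  decide +kernel

variable {G : Type u} [Group G] [Finite G]

/-- A fixed-point-free involution inverts. -/
theorem inverts_of_fpf {R : Subgroup G} {a : G} (ha : a * a = 1)
    (hn : ∀ r ∈ R, a * r * a⁻¹ ∈ R) (hf : ∀ r ∈ R, a * r * a⁻¹ = r → r = 1) :
    ∀ r ∈ R, a * r * a⁻¹ = r⁻¹ := by
  let f : R → R := fun r => ⟨(r : G)⁻¹ * (a * r * a⁻¹), mul_mem (inv_mem r.2) (hn r r.2)⟩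
  have hinj : Function.Injective f := by
    intro r s h
    have h' : (r : G)⁻¹ * (a * r * a⁻¹) = (s : G)⁻¹ * (a * s * a⁻¹) := congrArg Subtype.val h
    refine Subtype.ext ?_
    have h3 := hf ((s : G) * (r : G)⁻¹) (mul_mem s.2 (inv_mem r.2)) (by
      calc a * ((s : G) * (r : G)⁻¹) * a⁻¹ = a * s * a⁻¹ * (a * r * a⁻¹)⁻¹ := by group
        _ = s * ((s : G)⁻¹ * (a * s * a⁻¹)) * ((r : G)⁻¹ * (a * r * a⁻¹))⁻¹ * (r : G)⁻¹ := by group
        _ = (s : G) * (r : G)⁻¹ := by rw [h']; group)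
    exact (mul_inv_eq_one.1 h3).symm
  intro r hr
  obtain ⟨s, hs⟩ := (Finite.injective_iff_surjective.1 hinj) ⟨r, hr⟩
  have hs' : (s : G)⁻¹ * (a * s * a⁻¹) = r := congrArg Subtype.val hs
  have ha' : a⁻¹ = a := inv_eq_of_mul_eq_one_right ha
  have e : a * (a * (s : G) * a) * a = s := by
    rw [show a * (a * (s : G) * a) * a = (a * a) * s * (a * a) by group, ha]
    group
  rw [← hs', ha']
  calc a * ((s : G)⁻¹ * (a * s * a)) * a = a * (s : G)⁻¹ * (a * s * a) * a := by group
    _ = a * (s : G)⁻¹ * a⁻¹ * (a * (a * s * a) * a) := by group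
    _ = a * (s : G)⁻¹ * a * s := by rw [e, ha']
    _ = ((s : G)⁻¹ * (a * s * a))⁻¹ := by
      rw [mul_inv_rev, mul_inv_rev, mul_inv_rev, ha', inv_inv]; group

theorem exists_pow_eq {z : G} {q : ℕ} (hq : q.Coprime (orderOf z)) : ∃ m : ℕ, (z ^ q) ^ m = z :=
  exists_pow_eq_self_of_coprime hq

namespace Data

variable (D : Data G)

/-- The element of order three. -/
def y : G := ((D.ev.symm yM : D.C) : G)

/-- The inverting involution. -/
def av : G := ((D.ev.symm aM : D.C) : G)

theorem coe_symm_mul (m n : Mod) :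
    ((D.ev.symm (m * n) : D.C) : G) = (D.ev.symm m : D.C) * (D.ev.symm n : D.C) := by
  rw [map_mul, Subgroup.coe_mul]

theorem coe_symm_iota : ((D.ev.symm iota : D.C) : G) = D.t := by
  rw [← D.hev, MulEquiv.symm_apply_apply]

theorem coe_symm_eq_one {m : Mod} (h : ((D.ev.symm m : D.C) : G) = 1) : m = 1 :=
  D.ev.symm.map_eq_one_iff.1 (Subtype.ext h)

theorem orderOf_y : orderOf D.y = 3 := by
  have := Fact.mk Nat.prime_three
  refine orderOf_eq_prime ?_ fun h => yM_three.2 (D.coe_symm_eq_one h)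
  rw [y, ← SubmonoidClass.coe_pow, ← map_pow,
    show yM ^ 3 = 1 by rw [pow_succ, pow_two]; exact yM_three.1, map_one, OneMemClass.coe_one]

theorem t_comm_y : Commute D.t D.y :=
  (mem_centralizer_singleton_iff.1 (D.ev.symm yM).2).symm

theorem av_spec : D.av * D.av = 1 ∧ D.av ≠ 1 ∧ D.av ≠ D.t ∧ D.av * D.y * D.av⁻¹ = D.y⁻¹ ∧
    Commute D.t D.av := by
  obtain ⟨h1, h2, h3, h4, h5⟩ := aM_spec
  refine ⟨?_, fun h => h2 (D.coe_symm_eq_one h), fun h => h3 ?_, ?_, ?_⟩
  · rw [av, ← D.coe_symm_mul, h1, map_one, OneMemClass.coe_one]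
  · refine D.ev.symm.injective (Subtype.ext ?_)
    rw [D.coe_symm_iota]; exact h
  · simp only [av, y, ← Subgroup.coe_inv, ← Subgroup.coe_mul, ← map_inv, ← map_mul, h4]
  · exact (mem_centralizer_singleton_iff.1 (D.ev.symm aM).2).symm

/-- Elements of order three centralizing an involution are conjugate to `y`. -/
theorem isConj_y {x b : G} (hb : orderOf b = 2) (hbx : Commute b x) (hx : x * x * x = 1)
    (hx1 : x ≠ 1) : IsConj D.y x := by
  obtain ⟨c, hc⟩ := isConj_iff.1 (D.hconj b hb)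
  have hm : c⁻¹ * x * c ∈ D.C := by
    rw [mem_centralizer_singleton_iff]
    rw [← hc] at hbx
    calc c⁻¹ * x * c * D.t = c⁻¹ * (x * (c * D.t * c⁻¹)) * c := by group
      _ = c⁻¹ * ((c * D.t * c⁻¹) * x) * c := by rw [hbx.eq]
      _ = D.t * (c⁻¹ * x * c) := by group
  obtain ⟨r, hr⟩ := yM_unique (D.ev ⟨_, hm⟩) (by
    rw [← map_mul, ← map_mul, MulEquiv.map_eq_one_iff]
    refine Subtype.ext ?_
    show c⁻¹ * x * c * (c⁻¹ * x * c) * (c⁻¹ * x * c) = 1
    rw [show c⁻¹ * x * c * (c⁻¹ * x * c) * (c⁻¹ * x * c) = c⁻¹ * (x * x * x) * c by group, hx]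
    group) fun h => hx1 (by
      have := congrArg Subtype.val (D.ev.map_eq_one_iff.1 h)
      simpa [mul_assoc, inv_mul_eq_one] using this)
  refine isConj_iff.2 ⟨c * (D.ev.symm r : D.C), ?_⟩
  have h := congrArg (fun m => ((D.ev.symm m : D.C) : G)) hr
  simp only [map_mul, map_inv, Subgroup.coe_mul, Subgroup.coe_inv, MulEquiv.symm_apply_apply] at h
  rw [show c * ((D.ev.symm r : D.C) : G) * D.y * (c * ((D.ev.symm r : D.C) : G))⁻¹ =
    c * (((D.ev.symm r : D.C) : G) * D.y * ((D.ev.symm r : D.C) : G)⁻¹) * c⁻¹ by group, y, h]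
  group

theorem card_cent_y : Nat.card ↥(centralizer ({D.y} : Set G) ⊓ D.C) = 6 := by
  classical
  rw [← cent_yM_card, ← Nat.card_eq_finsetCard]
  refine Nat.card_congr ⟨fun c => ⟨D.ev ⟨c, c.2.2⟩, ?_⟩,
    fun m => ⟨(D.ev.symm m : D.C), ?_, (D.ev.symm m).2⟩, fun c => ?_, fun m => ?_⟩
  · refine Finset.mem_filter.2 ⟨Finset.mem_univ _, D.ev.symm.injective ?_⟩
    rw [map_mul, map_mul, MulEquiv.symm_apply_apply]
    exact Subtype.ext (mem_centralizer_singleton_iff.1 c.2.1)
  · have hm := (Finset.mem_filter.1 m.2).2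
    show _ ∈ centralizer ({D.y} : Set G)
    rw [mem_centralizer_singleton_iff, y, ← D.coe_symm_mul, ← D.coe_symm_mul, hm]
  · refine Subtype.ext ?_
    simp only [MulEquiv.symm_apply_apply]
  · exact Subtype.ext (D.ev.apply_symm_apply _)

/-- The odd part of the centralizer of `y`. -/
theorem exists_odd_core :
    ∃ M : Subgroup G, M ≤ centralizer ({D.y} : Set G) ∧ Odd (Nat.card M) ∧ D.y ∈ M ∧
      D.t ∈ normalizer (M : Set G) ∧ D.av ∈ normalizer (M : Set G) ∧
      ∀ k, 3 ^ k ∣ Nat.card (centralizer ({D.y} : Set G)) → 3 ^ k ∣ Nat.card M := by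
  classical
  have : Fact (Nat.Prime 2) := ⟨Nat.prime_two⟩
  set H := centralizer ({D.y} : Set G) with hH
  have htH : D.t ∈ H := mem_centralizer_singleton_iff.2 D.t_comm_y.eq
  obtain ⟨P, hP⟩ := ((isPGroup_zpowers_of_invol D.ht).comap_subtype (K := H)).exists_le_sylow
  -- the Sylow 2-subgroup has order two
  have htP : (⟨D.t, htH⟩ : H) ∈ P := hP (Subgroup.mem_comap.2 (mem_zpowers D.t))
  obtain ⟨Q, hQ⟩ := (P.2.map H.subtype).exists_le_sylow
  have hsq : ∀ p ∈ Q, p * p = 1 := by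
    intro p hp
    obtain ⟨k, hk⟩ := (IsPGroup.iff_orderOf.1 Q.2) ⟨p, hp⟩
    rw [Subgroup.orderOf_mk] at hk
    have hk1 : k ≤ 1 := by
      by_contra hk1
      exact D.h4 p (hk ▸ pow_dvd_pow 2 (show 2 ≤ k by omega))
    have := orderOf_dvd_iff_pow_eq_one.1 (show orderOf p ∣ 2 ^ 1 from hk ▸ pow_dvd_pow 2 hk1)
    rwa [pow_one, pow_two] at this
  have hcard : Nat.card P = 2 := by
    have hsub : ∀ p : P, ((p : H) : G) = 1 ∨ ((p : H) : G) = D.t := by
      intro p
      have hpQ : ((p : H) : G) ∈ Q := hQ ⟨p, p.2, rfl⟩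
      have htQ : D.t ∈ Q := hQ ⟨_, htP, rfl⟩
      have hcomm : ((p : H) : G) * D.t = D.t * ((p : H) : G) := by
        have h := hsq _ (mul_mem hpQ htQ)
        have hpi : ((p : H) : G)⁻¹ = ((p : H) : G) := inv_eq_of_mul_eq_one_right (hsq _ hpQ)
        have := inv_eq_of_mul_eq_one_right h
        rw [mul_inv_rev, invol_inv D.ht, hpi] at this
        exact this.symm
      have hpC : ((p : H) : G) ∈ D.C := mem_centralizer_singleton_iff.2 hcomm
      set m := D.ev ⟨_, hpC⟩ with hm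
      have hmy : m * yM = yM * m := by
        refine D.ev.symm.injective ?_
        rw [map_mul, map_mul, hm, MulEquiv.symm_apply_apply]
        exact Subtype.ext (mem_centralizer_singleton_iff.1 (p : H).2)
      rcases mod_two_part m hmy (by
        rw [hm, ← map_mul, MulEquiv.map_eq_one_iff]; exact Subtype.ext (hsq _ hpQ)) with h | h
      · exact Or.inl (congrArg Subtype.val (D.ev.map_eq_one_iff.1 h))
      · exact Or.inr (congrArg Subtype.val (D.ev.injective (h.trans D.hev.symm)))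
    have h2 : Nat.card P ≤ 2 := by
      refine (Nat.card_le_card_of_injective (fun p : P => decide (((p : H) : G) = 1))
        fun a b h => ?_).trans (by simp)
      have hne := invol_ne_one D.ht
      refine Subtype.ext (Subtype.ext ?_)
      rcases hsub a with ha | ha <;> rcases hsub b with hb | hb <;> simp_all
    have h1 : 1 < Nat.card P := by
      rw [Finite.one_lt_card_iff_nontrivial]
      exact ⟨⟨_, htP⟩, 1, fun h => invol_ne_one D.ht (congrArg (fun p : P => ((p : H) : G)) h)⟩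
    omega
  have hcomm : ∀ q ∈ (P : Subgroup H), q = 1 ∨ q = ⟨D.t, htH⟩ := by
    intro q hq
    have : Nat.card P = 2 := hcard
    obtain ⟨u, hu, huniv⟩ := (Nat.card_eq_two_iff' (1 : P)).1 this
    by_cases h : q = 1
    · exact Or.inl h
    refine Or.inr ?_
    have e1 := huniv ⟨q, hq⟩ (fun e => h (congrArg Subtype.val e))
    have e2 := huniv ⟨_, htP⟩ (fun e => invol_ne_one D.ht (congrArg (fun p : P => ((p : H) : G)) e))
    exact congrArg Subtype.val (e1.trans e2.symm)
  have hNC : normalizer ((P : Subgroup H) : Set H) ≤ centralizer ((P : Subgroup H) : Set H) := by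
    intro n hn
    refine mem_centralizer_iff.2 fun q hq => ?_
    rcases hcomm q hq with rfl | rfl
    · simp
    · rcases hcomm _ ((mem_normalizer_iff.1 hn _).1 hq) with h | h
      · exact absurd (congrArg Subtype.val (conj_eq_one_iff.1 h)) (invol_ne_one D.ht)
      · exact (mul_inv_eq_iff_eq_mul.1 h).symm
  have hcompl := MonoidHom.ker_transferSylow_isComplement' P hNC
  set K := (MonoidHom.transferSylow P hNC).ker with hK
  have hKH : 2 * Nat.card K = Nat.card H := by rw [← hcompl.card_mul_card, hcard, mul_comm]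
  have hKi : K.index = 2 := by
    have := K.card_mul_index
    rw [← hKH, mul_comm 2] at this
    exact Nat.eq_of_mul_eq_mul_left Nat.card_pos this
  have hodd : Odd (Nat.card K) := by
    rw [← Nat.not_even_iff_odd, even_iff_two_dvd]
    intro h
    refine P.not_dvd_index ?_
    rw [hcompl.index_eq_card]
    exact h
  have hmem : ∀ x : H, x ∈ K ↔ Odd (orderOf x) := by
    intro x
    constructor
    · intro hx
      exact Odd.of_dvd_nat hodd (orderOf_dvd_natCard K hx)
    · intro hx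
      obtain ⟨m, hm⟩ := hx
      have h2 : x ^ 2 ∈ K := by
        have := Subgroup.pow_index_mem K x
        rwa [hKi] at this
      have h := pow_mem h2 (m + 1)
      rw [← pow_mul, show 2 * (m + 1) = orderOf x + 1 by omega, pow_succ, pow_orderOf_eq_one,
        one_mul] at h
      exact h
  refine ⟨K.map H.subtype, map_subtype_le K, ?_, ?_, ?_, ?_, ?_⟩
  · rwa [card_map_of_injective H.subtype_injective]
  · refine ⟨⟨D.y, mem_centralizer_singleton_iff.2 rfl⟩, (hmem _).2 ?_, rfl⟩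
    rw [← Subgroup.orderOf_coe, D.orderOf_y]
    decide
  rotate_left 2
  · intro k hk
    rw [card_map_of_injective H.subtype_injective]
    rw [← hKH] at hk
    exact (Nat.Coprime.pow_left k (by norm_num : Nat.Coprime 3 2)).dvd_of_dvd_mul_left hk
  all_goals
    refine mem_normalizer_iff_map_conj_eq.2 (Subgroup.eq_of_le_of_card_ge ?_ ?_)
    rotate_left
    · exact le_of_eq (card_map_of_injective (K := K.map H.subtype) (MulAut.conj _).injective).symm
    rintro _ ⟨_, ⟨x, hx, rfl⟩, rfl⟩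
  · have hxt : D.t * (x : G) * D.t⁻¹ ∈ H := mul_mem (mul_mem htH x.2) (inv_mem htH)
    refine ⟨⟨_, hxt⟩, (hmem _).2 ?_, rfl⟩
    rw [← Subgroup.orderOf_coe, orderOf_conj_eq, Subgroup.orderOf_coe]
    exact (hmem x).1 hx
  · have hxt : D.av * (x : G) * D.av⁻¹ ∈ H := by
      rw [mem_centralizer_singleton_iff]
      have hxy : Commute (x : G) D.y := mem_centralizer_singleton_iff.1 x.2
      have h := hxy.inv_right.map (MulAut.conj D.av).toMonoidHom
      simp only [MulEquiv.coe_toMonoidHom, MulAut.conj_apply] at h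
      obtain ⟨-, -, -, hinv, -⟩ := D.av_spec
      rw [show D.av * D.y⁻¹ * D.av⁻¹ = (D.av * D.y * D.av⁻¹)⁻¹ by group, hinv, inv_inv] at h
      exact h.eq
    refine ⟨⟨_, hxt⟩, (hmem _).2 ?_, rfl⟩
    rw [← Subgroup.orderOf_coe, orderOf_conj_eq, Subgroup.orderOf_coe]
    exact (hmem x).1 hx

variable {D}

/-- Nine elements. -/
theorem span_nine {x y : G} (hx : x * x * x = 1) (hy : y * y * y = 1) (hxy : Commute x y)
    (hx1 : ∀ i : Fin 3, x ≠ y ^ (i : ℕ)) (hy1 : y ≠ 1) :
    Function.Injective fun p : Fin 3 × Fin 3 => x ^ (p.1 : ℕ) * y ^ (p.2 : ℕ) := by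
  have hy3 : y ^ 3 = 1 := by rw [pow_succ, pow_two, hy]
  have hx3 : x ^ 3 = 1 := by rw [pow_succ, pow_two, hx]
  have hoy : orderOf y = 3 := by
    have := Fact.mk Nat.prime_three
    exact orderOf_eq_prime hy3 hy1
  have hxp : ∀ m : ℕ, x ≠ y ^ m := fun m h =>
    hx1 ⟨m % 3, Nat.mod_lt _ (by norm_num)⟩ (by rw [h]; exact pow_eq_pow_mod m hy3)
  have hzero : ∀ i j : ℕ, i < 3 → j < 3 → x ^ i * y ^ j = 1 → i = 0 ∧ j = 0 := by
    intro i j hi hj h
    have hi' : x ^ i = y ^ (2 * j) := by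
      calc x ^ i = x ^ i * y ^ j * y ^ (2 * j) := by
            rw [mul_assoc, ← pow_add, show j + 2 * j = 3 * j by ring, pow_mul, hy3, one_pow, mul_one]
        _ = y ^ (2 * j) := by rw [h, one_mul]
    interval_cases i
    · rw [pow_zero, one_mul] at h
      have := orderOf_dvd_of_pow_eq_one h
      rw [hoy] at this
      omega
    · rw [pow_one] at hi'
      exact absurd hi' (hxp _)
    · refine absurd ?_ (hxp (2 * (2 * j)))
      calc x = x ^ 2 * x ^ 2 := by rw [← pow_add, show (2 + 2 : ℕ) = 3 + 1 from rfl, pow_succ, hx3, one_mul]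
        _ = y ^ (2 * (2 * j)) := by rw [hi', ← pow_add]; ring_nf
  rintro ⟨i, j⟩ ⟨k, l⟩ h
  simp only at h
  have h' : x ^ ((i : ℕ) + 2 * k) * y ^ ((j : ℕ) + 2 * l) = 1 := by
    rw [pow_add, pow_add, (hxy.pow_pow (2 * (k : ℕ)) (j : ℕ)).mul_mul_mul_comm, h,
      (hxy.symm.pow_pow (l : ℕ) (2 * (k : ℕ))).mul_mul_mul_comm, ← pow_add, ← pow_add,
      show (k : ℕ) + 2 * k = 3 * k by ring, show (l : ℕ) + 2 * l = 3 * l by ring,
      pow_mul, pow_mul, hx3, hy3, one_pow, one_pow, one_mul]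
  rw [pow_eq_pow_mod _ hx3, pow_eq_pow_mod _ hy3] at h'
  obtain ⟨e1, e2⟩ := hzero _ _ (Nat.mod_lt _ (by norm_num)) (Nat.mod_lt _ (by norm_num)) h'
  ext <;> simp only <;> omega

end Data

end CfsgLib.Invol.J1Cent
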