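import Cfsg.Agent.Lib.Invol.JankoOneUniqDataBad0
import Cfsg.Agent.Lib.Invol.JankoOneUniqDataBad1
import Cfsg.Agent.Lib.Invol.JankoOneUniqDataBad2

/-! Kernel checks of the certificates collapsing the unrealized candidates. -/

set_option autoImplicit false

namespace CfsgLib.Invol.J1Cent.Uniq

open CfsgLib.InvChar.Coset CfsgLib.Invol

theorem blocksBad0 : SCoset.chkBlocks certBad0 16 0 = true := by decide +kernel

theorem goalBad0_ok : goalBad0 < certBad0.nf ∧ certBad0.fa goalBad0 = 0 ∧ certBad0.fx goalBad0 = 6 ∧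
    certBad0.fb goalBad0 = 0 := by decide +kernel

theorem blocksBad1 : SCoset.chkBlocks certBad1 8 0 = true := by decide +kernel

theorem goalBad1_ok : goalBad1 < certBad1.nf ∧ certBad1.fa goalBad1 = 0 ∧ certBad1.fx goalBad1 = 6 ∧
    certBad1.fb goalBad1 = 0 := by decide +kernel

theorem blocksBad2 : SCoset.chkBlocks certBad2 11 0 = true := by decide +kernel

theorem goalBad2_ok : goalBad2 < certBad2.nf ∧ certBad2.fa goalBad2 = 0 ∧ certBad2.fx goalBad2 = 6 ∧
    certBad2.fb goalBad2 = 0 := by decide +kernel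

end CfsgLib.Invol.J1Cent.Uniq
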