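import Cfsg.Agent.Lib.Invol.JankoOneUniqDataGood

/-! Kernel checks of the certificate for the realized candidate. -/

set_option autoImplicit false

namespace CfsgLib.Invol.J1Cent.Uniq

open CfsgLib.InvChar.Coset CfsgLib.Invol

theorem blocks0 : SCoset.chkBlocks certGood 12 0 = true := by decide +kernel

theorem blocks1 : SCoset.chkBlocks certGood 12 12 = true := by decide +kernel

theorem blocks2 : SCoset.chkBlocks certGood 12 24 = true := by decide +kernel

theorem blocks3 : SCoset.chkBlocks certGood 12 36 = true := by decide +kernel

theorem blocks4 : SCoset.chkBlocks certGood 12 48 = true := by decide +kernel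

theorem blocks5 : SCoset.chkBlocks certGood 12 60 = true := by decide +kernel

theorem blocks6 : SCoset.chkBlocks certGood 12 72 = true := by decide +kernel

theorem blocks7 : SCoset.chkBlocks certGood 12 84 = true := by decide +kernel

theorem blocks8 : SCoset.chkBlocks certGood 11 96 = true := by decide +kernel

theorem rows0 : SCoset.chkRows certGood liveGood finGood 1463 8 200 0 = true := by decide +kernel

theorem rows1 : SCoset.chkRows certGood liveGood finGood 1463 8 200 200 = true := by decide +kernel

theorem rows2 : SCoset.chkRows certGood liveGood finGood 1463 8 200 400 = true := by decide +kernel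

theorem rows3 : SCoset.chkRows certGood liveGood finGood 1463 8 200 600 = true := by decide +kernel

theorem rows4 : SCoset.chkRows certGood liveGood finGood 1463 8 200 800 = true := by decide +kernel

theorem rows5 : SCoset.chkRows certGood liveGood finGood 1463 8 200 1000 = true := by decide +kernel

theorem rows6 : SCoset.chkRows certGood liveGood finGood 1463 8 200 1200 = true := by decide +kernel

theorem rows7 : SCoset.chkRows certGood liveGood finGood 1463 8 63 1400 = true := by decide +kernel

theorem live_zero : field liveGood 128 20 0 = 0 := by decide +kernel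

theorem good_blocks : ∀ j < 107, SCoset.chkRun certGood 128 (j * 128) (certGood.just.get j) = true := by
  intro j hj
  by_cases h0 : j < 12
  · have := SCoset.chkBlocks_get 12 0 blocks0 (j - 0) (by omega)
    rwa [show 0 + (j - 0) = j by omega] at this
  by_cases h1 : j < 24
  · have := SCoset.chkBlocks_get 12 12 blocks1 (j - 12) (by omega)
    rwa [show 12 + (j - 12) = j by omega] at this
  by_cases h2 : j < 36
  · have := SCoset.chkBlocks_get 12 24 blocks2 (j - 24) (by omega)
    rwa [show 24 + (j - 24) = j by omega] at this
  by_cases h3 : j < 48
  · have := SCoset.chkBlocks_get 12 36 blocks3 (j - 36) (by omega)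
    rwa [show 36 + (j - 36) = j by omega] at this
  by_cases h4 : j < 60
  · have := SCoset.chkBlocks_get 12 48 blocks4 (j - 48) (by omega)
    rwa [show 48 + (j - 48) = j by omega] at this
  by_cases h5 : j < 72
  · have := SCoset.chkBlocks_get 12 60 blocks5 (j - 60) (by omega)
    rwa [show 60 + (j - 60) = j by omega] at this
  by_cases h6 : j < 84
  · have := SCoset.chkBlocks_get 12 72 blocks6 (j - 72) (by omega)
    rwa [show 72 + (j - 72) = j by omega] at this
  by_cases h7 : j < 96
  · have := SCoset.chkBlocks_get 12 84 blocks7 (j - 84) (by omega)
    rwa [show 84 + (j - 84) = j by omega] at this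
  by_cases h8 : j < 107
  · have := SCoset.chkBlocks_get 11 96 blocks8 (j - 96) (by omega)
    rwa [show 96 + (j - 96) = j by omega] at this
  omega

theorem good_rows {G : Type*} [Group G] {s : ℕ → G} {H : Subgroup G} (hs : SCoset.LetterVal s)
    (hF : ∀ r < certGood.nf, Holds certGood s H r) :
    ∀ i < 1463, SCoset.Moves certGood liveGood 1463 8 s H i := by
  intro i hi
  by_cases h0 : i < 200
  · exact SCoset.chkRows_sound hs hF 200 0 rows0 i (by omega) (by omega)
  by_cases h1 : i < 400
  · exact SCoset.chkRows_sound hs hF 200 200 rows1 i (by omega) (by omega)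
  by_cases h2 : i < 600
  · exact SCoset.chkRows_sound hs hF 200 400 rows2 i (by omega) (by omega)
  by_cases h3 : i < 800
  · exact SCoset.chkRows_sound hs hF 200 600 rows3 i (by omega) (by omega)
  by_cases h4 : i < 1000
  · exact SCoset.chkRows_sound hs hF 200 800 rows4 i (by omega) (by omega)
  by_cases h5 : i < 1200
  · exact SCoset.chkRows_sound hs hF 200 1000 rows5 i (by omega) (by omega)
  by_cases h6 : i < 1400
  · exact SCoset.chkRows_sound hs hF 200 1200 rows6 i (by omega) (by omega)
  by_cases h7 : i < 1463
  · exact SCoset.chkRows_sound hs hF 63 1400 rows7 i (by omega) (by omega)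
  omega

end CfsgLib.Invol.J1Cent.Uniq
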