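import Cfsg.Agent.Lib.Invol.JankoOneUniqLocal
import Cfsg.Agent.Lib.Invol.JankoOneUniqCheckBad
import Cfsg.Agent.Lib.Invol.JankoOneUniqCheckGood
import Cfsg.Agent.Lib.Invol.JankoOneOrder
import Cfsg.Agent.Lib.KnownA.JankoOne.Iso
import Cfsg.Agent.Lib.StructC.JankoOneSimple

/-!
A simple group with a 2-central involution centralized by `Z/2 × A₅` is Janko's first group.
-/

set_option autoImplicit false
set_option maxRecDepth 100000
set_option synthInstance.maxSize 8000

namespace CfsgLib.Invol.J1Cent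

open CfsgLib.InvChar.Coset CfsgLib.Invol Subgroup

universe u

/-- The values of the letters in the model. -/
def sM (x : ℕ) : Mod :=
  if x = 0 then pM else if x = 1 then pM⁻¹ else if x = 2 then qM else if x = 3 then qM⁻¹
  else if x = 4 then iota else if x = 5 then iota⁻¹ else 1

namespace Gens

variable {G : Type u} [Group G] [Finite G] {D : Data G} (E : Gens D)

/-- The values of the letters. -/
def sv (x : ℕ) : G := if x = 6 then E.h else if x = 7 then E.h⁻¹ else E.f (sM x)

theorem letterVal : SCoset.LetterVal E.sv := by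
  refine ⟨by simp [sv, sM], fun x => ?_⟩
  rcases lt_or_ge x 8 with hx | hx
  · interval_cases x
    · show E.sv 1 = _; simp [sv, sM]
    · show E.sv 0 = _; simp [sv, sM]
    · show E.sv 3 = _; simp [sv, sM]
    · show E.sv 2 = _; simp [sv, sM]
    · show E.sv 5 = _; simp [sv, sM]
    · show E.sv 4 = _; simp [sv, sM]
    · show E.sv 7 = _; simp [sv, sM]
    · show E.sv 6 = _; simp [sv, sM]
  · have hflip : 8 ≤ SCoset.flipL x := by
      rcases eq_or_ne x 15 with rfl | h15
      · simp [SCoset.flipL]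
      · have : Nat.beq x 15 = false := by
          cases hb : Nat.beq x 15
          · rfl
          · exact absurd (Nat.eq_of_beq_eq_true hb) h15
        simp only [SCoset.flipL, this, cond_false]
        by_contra hlt
        have hsmall : ∀ y < 8, Nat.xor y 1 < 8 := by decide
        have h1 := hsmall _ (not_le.1 hlt)
        rw [show Nat.xor (Nat.xor x 1) 1 = x from by
          show (x ^^^ 1) ^^^ 1 = x
          rw [Nat.xor_assoc, Nat.xor_self, Nat.xor_zero]] at h1
        omega
    have hone : ∀ y, 8 ≤ y → E.sv y = 1 := fun y hy => by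
      simp only [sv, sM]
      rw [if_neg (by omega), if_neg (by omega), if_neg (by omega), if_neg (by omega),
        if_neg (by omega), if_neg (by omega), if_neg (by omega), if_neg (by omega), map_one]
    rw [hone _ hflip, hone _ hx, inv_one]

theorem wprod_low : ∀ L : List ℕ, (∀ x ∈ L, x < 6) → wprod E.sv L = E.f (wprod sM L) := by
  intro L
  induction L with
  | nil => intro _; simp [wprod]
  | cons a L ih =>
    intro h
    have ha := h a (by simp)
    have := ih fun x hx => h x (by simp [hx])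
    simp only [wprod, List.map_cons, List.prod_cons, map_mul] at this ⊢
    rw [this]
    congr 1
    simp [sv, show a ≠ 6 by omega, show a ≠ 7 by omega]

theorem wprod_replicate (n : ℕ) : wprod E.sv (List.replicate n 6) = E.h ^ n := by
  simp [wprod, sv]

theorem wprod_replicate' (n : ℕ) : wprod E.sv (List.replicate n 7) = (E.h ^ n)⁻¹ := by
  simp [wprod, sv]

end Gens

/-- The relators of the amalgam. -/
def fixedRels : List (List ℕ) :=
  [[0, 0], [2, 2, 2], [0, 2, 0, 2, 0, 2, 0, 2, 0, 2], [4, 4], [4, 0, 4, 0], [4, 2, 4, 3],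
    [6, 6, 6, 6, 6, 6, 6], [2, 6, 3, 7, 7], [6, 4, 7, 2, 1, 2, 1, 3, 1, 3],
    [6, 2, 0, 2, 0, 3, 0, 3, 7, 3, 1, 2, 1, 3, 1, 2],
    [6, 3, 0, 2, 0, 3, 0, 2, 7, 5, 2, 1, 2, 1, 3, 1, 3]]

/-- The formal inverse of a word. -/
def invW (L : List ℕ) : List ℕ := L.reverse.map fun x => x ^^^ 1

/-- All relators. -/
def allRels (r : List ℕ) : List (List ℕ) :=
  (fixedRels ++ [r]) ++ (fixedRels ++ [r]).map invW ++
    [[0, 1], [1, 0], [2, 3], [3, 2], [4, 5], [5, 4], [6, 7], [7, 6]]

/-- The word of the conjugate of a candidate. -/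
def candW (b : Bool) (L : List ℕ) : List ℕ :=
  [1, 3, 1, 2, 1, 3] ++ List.replicate (cIdx b) 6 ++ L ++ List.replicate (cIdx b) 7 ++
    [2, 0, 3, 0, 2, 0]

/-- The relator of a candidate. -/
def candRel (b : Bool) (L : List ℕ) : List ℕ := candW b L ++ [2] ++ candW b L ++ [3]

namespace Gens

variable {G : Type u} [Group G] [Finite G] {D : Data G} (E : Gens D)

theorem wprod_invW (L : List ℕ) (h : ∀ x ∈ L, x < 8) :
    wprod E.sv (invW L) = (wprod E.sv L)⁻¹ := by
  induction L with
  | nil => simp [invW, wprod]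
  | cons a L ih =>
    have ha : a < 8 := h a (by simp)
    have hf : a ^^^ 1 = SCoset.flipL a := by interval_cases a <;> rfl
    have := ih fun x hx => h x (by simp [hx])
    simp only [invW, List.reverse_cons, List.map_append, List.map_cons, List.map_nil] at this ⊢
    rw [wprod_append, this]
    simp [wprod, hf, E.letterVal.inv]

theorem fixed_ok : ∀ r ∈ fixedRels, wprod E.sv r = 1 := by
  have hlow : ∀ r : List ℕ, (∀ x ∈ r, x < 6) → wprod sM r = 1 → wprod E.sv r = 1 :=
    fun r h1 h2 => by rw [E.wprod_low r h1, h2, map_one]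
  have hsplit : ∀ (A B : List ℕ) (v : E8), (∀ x ∈ A, x < 6) → (∀ x ∈ B, x < 6) →
      wprod sM A = emb v → wprod sM B = (emb (sig v))⁻¹ →
      wprod E.sv ([6] ++ A ++ [7] ++ B) = 1 := by
    intro A B v hA hB eA eB
    rw [wprod_append, wprod_append, wprod_append, E.wprod_low A hA, E.wprod_low B hB, eA, eB,
      show wprod E.sv [6] = E.h by simp [wprod, sv], show wprod E.sv [7] = E.h⁻¹ by simp [wprod, sv],
      E.hsig, map_inv, mul_inv_cancel]
  intro r hr
  simp only [fixedRels, List.mem_cons, List.not_mem_nil, or_false] at hr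
  rcases hr with rfl | rfl | rfl | rfl | rfl | rfl | rfl | rfl | rfl | rfl | rfl
  · exact hlow _ (by decide) (by decide +kernel)
  · exact hlow _ (by decide) (by decide +kernel)
  · exact hlow _ (by decide) (by decide +kernel)
  · exact hlow _ (by decide) (by decide +kernel)
  · exact hlow _ (by decide) (by decide +kernel)
  · exact hlow _ (by decide) (by decide +kernel)
  · exact (E.wprod_replicate 7).trans E.h7
  · simp only [wprod, sv, sM, List.map_cons, List.map_nil, List.prod_cons, List.prod_nil]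
    simp only [show (2 : ℕ) ≠ 6 by decide, show (2 : ℕ) ≠ 7 by decide, show (3 : ℕ) ≠ 6 by decide,
      show (3 : ℕ) ≠ 7 by decide, show (7 : ℕ) ≠ 6 by decide, if_true, if_false, mul_one, map_inv,
      show (2 : ℕ) ≠ 0 by decide, show (2 : ℕ) ≠ 1 by decide, show (3 : ℕ) ≠ 0 by decide,
      show (3 : ℕ) ≠ 1 by decide, show (3 : ℕ) ≠ 2 by decide]
    rw [← mul_assoc, ← mul_assoc, ← mul_assoc, E.hq]
    group
  · exact hsplit [4] [2, 1, 2, 1, 3, 1, 3] (Multiplicative.ofAdd (1, 0, 0)) (by decide) (by decide)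
      (by decide +kernel) (by decide +kernel)
  · exact hsplit [2, 0, 2, 0, 3, 0, 3] [3, 1, 2, 1, 3, 1, 2] (Multiplicative.ofAdd (0, 1, 0))
      (by decide) (by decide) (by decide +kernel) (by decide +kernel)
  · exact hsplit [3, 0, 2, 0, 3, 0, 2] [5, 2, 1, 2, 1, 3, 1, 3] (Multiplicative.ofAdd (0, 0, 1))
      (by decide) (by decide) (by decide +kernel) (by decide +kernel)

theorem wprod_candW (b : Bool) (L : List ℕ) (m : Mod) (hL : ∀ x ∈ L, x < 6)
    (hm : wprod sM L = m) : wprod E.sv (candW b L) = E.gEl b * E.f m * (E.gEl b)⁻¹ := by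
  have e1 : wprod E.sv [1, 3, 1, 2, 1, 3] = E.f cM' := by
    rw [E.wprod_low _ (by decide)]
    exact congrArg E.f (show wprod sM [1, 3, 1, 2, 1, 3] = cM' by decide +kernel)
  have e2 : wprod E.sv [2, 0, 3, 0, 2, 0] = (E.f cM')⁻¹ := by
    rw [E.wprod_low _ (by decide), ← map_inv]
    exact congrArg E.f (show wprod sM [2, 0, 3, 0, 2, 0] = cM'⁻¹ by decide +kernel)
  rw [candW, wprod_append, wprod_append, wprod_append, wprod_append, e1, e2, E.wprod_replicate,
    E.wprod_replicate', E.wprod_low L hL, hm, gEl]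
  group

theorem candRel_ok (b : Bool) (L : List ℕ) (m : Mod) (hL : ∀ x ∈ L, x < 6)
    (hm : wprod sM L = m) (hm2 : m * m = 1) (hrel : E.Rel b m) :
    wprod E.sv (candRel b L) = 1 := by
  have h2 : wprod E.sv [2] = E.f qM := by simp [wprod, sv, sM]
  have h3 : wprod E.sv [3] = (E.f qM)⁻¹ := by simp [wprod, sv, sM]
  rw [candRel, wprod_append, wprod_append, wprod_append, E.wprod_candW b L m hL hm, h2, h3]
  have hX : (E.gEl b * E.f m * (E.gEl b)⁻¹) * (E.gEl b * E.f m * (E.gEl b)⁻¹) = 1 := by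
    calc _ = E.gEl b * (E.f m * E.f m) * (E.gEl b)⁻¹ := by group
      _ = 1 := by rw [E.f_sq_one hm2]; group
  unfold Rel at hrel
  generalize E.gEl b * E.f m * (E.gEl b)⁻¹ = X at hrel hX ⊢
  rw [hrel, mul_assoc (E.f qM), hX, mul_one, mul_inv_cancel]

theorem allRels_ok {r : List ℕ} (hr : ∀ x ∈ r, x < 8) (h : wprod E.sv r = 1) :
    ∀ w ∈ allRels r, wprod E.sv w = 1 := by
  intro w hw
  simp only [allRels, List.mem_append, List.mem_map] at hw
  have hbase : ∀ v, v ∈ fixedRels ∨ v ∈ [r] → wprod E.sv v = 1 ∧ ∀ x ∈ v, x < 8 := by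
    rintro v (hv | hv)
    · exact ⟨E.fixed_ok v hv, (show ∀ u ∈ fixedRels, ∀ x ∈ u, x < 8 by decide) v hv⟩
    · rw [List.mem_singleton] at hv
      subst hv
      exact ⟨h, hr⟩
  rcases hw with (hw | ⟨v, hv, rfl⟩) | hw
  · exact (hbase w hw).1
  · obtain ⟨h1, h2⟩ := hbase v hv
    rw [E.wprod_invW v h2, h1, inv_one]
  · simp only [List.mem_cons, List.not_mem_nil, or_false] at hw
    rcases hw with rfl | rfl | rfl | rfl | rfl | rfl | rfl | rfl <;>
      simp [wprod, sv, sM]

theorem subs_ok : ∀ r ∈ ([[0], [2], [4]] : List (List ℕ)), wprod E.sv r ∈ E.f.range := by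
  intro r hr
  refine ⟨wprod sM r, (E.wprod_low r ?_).symm⟩
  revert r
  decide

/-- A certificate of collapse refutes the relation. -/
theorem false_of_cert (b : Bool) (L : List ℕ) (m : Mod) (hL : ∀ x ∈ L, x < 6)
    (hm : wprod sM L = m) (hm2 : m * m = 1) (hrel : E.Rel b m) (C : Cert)
    (hlen : ∀ x ∈ candRel b L, x < 8) (hrels : C.rels = allRels (candRel b L))
    (hsubs : C.subs = [[0], [2], [4]]) (nb : ℕ) (hnb : C.nf ≤ nb * 128)
    (hblk : SCoset.chkBlocks C nb 0 = true) (i : ℕ)
    (hi : i < C.nf ∧ C.fa i = 0 ∧ C.fx i = 6 ∧ C.fb i = 0) : False := by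
  have hF := SCoset.holds_of_blocks (D := C) (H := E.f.range) E.letterVal
    (hrels ▸ E.allRels_ok hlen (E.candRel_ok b L m hL hm hm2 hrel)) (hsubs ▸ E.subs_ok) nb hnb
    (fun j hj => by
      have := SCoset.chkBlocks_get nb 0 hblk j hj
      rwa [zero_add] at this) i hi.1
  unfold Holds at hF
  rw [hi.2.1, hi.2.2.1, hi.2.2.2, SCoset.val_eq E.letterVal, nodeRep] at hF
  obtain ⟨n, hn⟩ := hF
  rw [one_mul, inv_one, mul_one, show E.sv 6 = E.h by simp [sv]] at hn
  refine sig_ne (emb_injective (E.inj ?_))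
  rw [← E.hsig, ← hn, ← map_inv, ← map_mul, ← map_mul, emb_e0, ← iota_comm n, mul_inv_cancel_right]

open Uniq in
theorem rel_good (hcard : Nat.card G = 175560) : E.Rel false mGood := by
  rcases E.exists_rep hcard with h | h | h | h
  · exact h
  · exact (E.false_of_cert false [0, 4] mBad0 (by decide) (by decide +kernel) (by decide +kernel) h
      certBad0 (by decide) (by decide +kernel) rfl 16 (by decide) blocksBad0 _ goalBad0_ok).elim
  · exact (E.false_of_cert true [2, 0, 3] mBad1 (by decide) (by decide +kernel) (by decide +kernel) h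
      certBad1 (by decide) (by decide +kernel) rfl 8 (by decide) blocksBad1 _ goalBad1_ok).elim
  · exact (E.false_of_cert true [2, 0, 3, 0, 2, 0, 3] mBad2 (by decide) (by decide +kernel)
      (by decide +kernel) h certBad2 (by decide) (by decide +kernel) rfl 11 (by decide) blocksBad2 _
      goalBad2_ok).elim

theorem good_ok (hcard : Nat.card G = 175560) : ∀ r ∈ Uniq.certGood.rels, wprod E.sv r = 1 := by
  rw [show Uniq.certGood.rels = allRels (candRel false [0, 3, 0, 2, 0, 3, 0, 3, 4]) by decide +kernel]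
  exact E.allRels_ok (by decide) (E.candRel_ok false _ mGood (by decide) (by decide +kernel)
    (by decide +kernel) (E.rel_good hcard))

end Gens

theorem wprod_prod {A B : Type*} [Group A] [Group B] (a : ℕ → A) (b : ℕ → B) (L : List ℕ) :
    wprod (fun x => (a x, b x)) L = (wprod a L, wprod b L) := by
  induction L with
  | nil => rfl
  | cons x L ih =>
    simp only [wprod, List.map_cons, List.prod_cons] at ih ⊢
    rw [ih]
    rfl

theorem mod_generators (K : Subgroup Mod) (hp : pM ∈ K) (hq : qM ∈ K) (hi : iota ∈ K) : K = ⊤ := by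
  set K' := K.map (MonoidHom.snd (Multiplicative (ZMod 2)) A5) with hK'
  have hp' : pM.2 ∈ K' := Subgroup.mem_map_of_mem _ hp
  have hq' : qM.2 ∈ K' := Subgroup.mem_map_of_mem _ hq
  have h2 : orderOf pM.2 = 2 :=
    have : Fact (Nat.Prime 2) := ⟨Nat.prime_two⟩
    orderOf_eq_prime (by decide +kernel) (by decide +kernel)
  have h3 : orderOf qM.2 = 3 :=
    have : Fact (Nat.Prime 3) := ⟨Nat.prime_three⟩
    orderOf_eq_prime (by decide +kernel) (by decide +kernel)
  have h5 : orderOf (pM.2 * qM.2) = 5 :=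
    have : Fact (Nat.Prime 5) := ⟨Nat.prime_five⟩
    orderOf_eq_prime (by decide +kernel) (by decide +kernel)
  have hd : ∀ x ∈ K', orderOf x ∣ Nat.card K' := fun x hx =>
    Subgroup.orderOf_mk x hx ▸ orderOf_dvd_natCard _
  have h30 : 30 ∣ Nat.card K' :=
    Nat.Coprime.mul_dvd_of_dvd_of_dvd (show Nat.Coprime 6 5 by norm_num)
      (Nat.Coprime.mul_dvd_of_dvd_of_dvd (show Nat.Coprime 2 3 by norm_num)
        (by have := hd _ hp'; rwa [h2] at this) (by have := hd _ hq'; rwa [h3] at this))
      (by have := hd _ (mul_mem hp' hq'); rwa [h5] at this)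
  have hc : Nat.card A5 = 60 := by
    rw [nat_card_alternatingGroup, Nat.card_eq_fintype_card, Fintype.card_fin]
    rfl
  have htop : K' = ⊤ := by
    have hmul := K'.card_mul_index
    rw [hc] at hmul
    obtain ⟨c, hc'⟩ := h30
    rw [hc', mul_assoc] at hmul
    have hci : c * K'.index = 2 := by omega
    have hidx : K'.index ∣ 2 := hci ▸ dvd_mul_left _ _
    rcases (Nat.dvd_prime Nat.prime_two).1 hidx with h | h
    · exact Subgroup.index_eq_one.1 h
    · rcases alternatingGroup.isSimpleGroup_five.eq_bot_or_eq_top_of_normal K'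
        (Subgroup.normal_of_index_eq_two h) with h' | h'
      · rw [h', Subgroup.mem_bot] at hp'
        rw [hp', orderOf_one] at h2
        norm_num at h2
      · exact h'
  refine eq_top_iff.2 fun m _ => ?_
  obtain ⟨y, hy, hy2⟩ : m.2 ∈ K' := htop ▸ Subgroup.mem_top _
  rcases (show ∀ a b : Multiplicative (ZMod 2), a = b ∨ a = iota.1 * b by decide) m.1 y.1 with h | h
  · rwa [show m = y from Prod.ext h hy2.symm]
  · rw [show m = iota * y from Prod.ext h (by show m.2 = 1 * y.2; rw [one_mul]; exact hy2.symm)]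
    exact mul_mem hi hy

theorem sig_transitive : ∀ w : E8, w = 1 ∨ ∃ i : Fin 7, sig^[i] e0 = w := by decide +kernel

open CfsgLib.KnownA.JankoOne in
/-- The local data of Janko's group. -/
theorem exists_data_J : ∃ D : Data J, D.t = T := by
  have : IsSimpleGroup J := CfsgLib.StructC.JankoOneSimple.isSimple_J
  obtain ⟨e⟩ := nonempty_centralizer_equiv
  refine exists_data T ⟨orderOf_T, S2, ?_, fun x hx => ?_⟩ e
  · show T ∈ (S2 : Subgroup J)
    rw [coe_S2, ← sEl_one]
    exact ⟨1, rfl⟩
  · have hx' : x ∈ (S2 : Subgroup J) := hx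
    rw [coe_S2] at hx'
    obtain ⟨i, rfl⟩ := hx'
    rw [← sEl_one, sEl_mul, sEl_mul]
    exact congrArg sEl ((by decide : ∀ a b : Fin 8, xr a b = xr b a) _ _)

open CfsgLib.KnownA.JankoOne in
theorem closure_eq_top_J {D : Data J} (E : Gens D) (hD : D.t = T) :
    Subgroup.closure (E.sv '' Set.Iio 8) = ⊤ := by
  set K := Subgroup.closure (E.sv '' Set.Iio 8) with hK
  have hmem : ∀ x < 8, E.sv x ∈ K := fun x hx => Subgroup.subset_closure ⟨x, hx, rfl⟩
  have hC : ∀ m, E.f m ∈ K := by
    intro m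
    have := mod_generators (K.comap E.f) (hmem 0 (by norm_num)) (hmem 2 (by norm_num))
      (hmem 4 (by norm_num))
    exact (this ▸ Subgroup.mem_top m : m ∈ K.comap E.f)
  have hCJ : ∀ g : J, g * T = T * g → g ∈ K := fun g hg => by
    obtain ⟨m, rfl⟩ := E.range g (by rw [hD]; exact hg)
    exact hC m
  refine eq_top_of_mem K (hCJ T rfl) (hCJ _ (commute_eEl 1).eq) (hCJ _ (commute_eEl 2).eq) ?_
  -- the element of order seven
  set T' := H * T * H⁻¹ with hT'
  have hcomm : T' * T = T * T' := by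
    rw [hT', ← sEl_one, H_conj, sEl_mul, sEl_mul]
    exact congrArg sEl ((by decide : ∀ a b : Fin 8, xr a b = xr b a) _ _)
  obtain ⟨m, hm⟩ := E.range T' (by rw [hD]; exact hcomm)
  obtain ⟨w, r, hr⟩ := mod_invol m (E.inj (by
    rw [map_mul, map_one, hm, hT']
    calc H * T * H⁻¹ * (H * T * H⁻¹) = H * (T * T) * H⁻¹ := by group
      _ = 1 := by rw [T_sq]; group))
  rcases sig_transitive w with rfl | ⟨i, rfl⟩
  · exfalso
    rw [map_one, mul_one, mul_inv_cancel] at hr
    rw [← hr, map_one, hT', eq_comm, conj_eq_one_iff] at hm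
    have := orderOf_T
    rw [hm, orderOf_one] at this
    norm_num at this
  · have hconj : E.f r * (E.h ^ (i : ℕ) * T * (E.h ^ (i : ℕ))⁻¹) * (E.f r)⁻¹ = H * T * H⁻¹ := by
      rw [← hD, ← E.f_emb_e0, E.conj_h_pow, ← map_inv, ← map_mul, ← map_mul, hr, E.f_emb_e0, hD]
      exact hm
    have hh : E.h ∈ K := hmem 6 (by norm_num)
    have hin : (E.f r * E.h ^ (i : ℕ))⁻¹ * H ∈ K := hCJ _ (by
      calc (E.f r * E.h ^ (i : ℕ))⁻¹ * H * T
          = (E.f r * E.h ^ (i : ℕ))⁻¹ * (H * T * H⁻¹) * H := by group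
        _ = T * ((E.f r * E.h ^ (i : ℕ))⁻¹ * H) := by rw [← hconj]; group)
    have := mul_mem (mul_mem (hC r) (pow_mem hh i)) hin
    rwa [mul_inv_cancel_left] at this

open CfsgLib.KnownA.JankoOne in
/-- A simple group of order 175560 with the local data is isomorphic to Janko's group. -/
theorem nonempty_equiv_J {G : Type u} [Group G] [Finite G] [IsSimpleGroup G] (D : Data G)
    (hcard : Nat.card G = 175560) : Nonempty (G ≃* J) := by
  classical
  have : IsSimpleGroup J := CfsgLib.StructC.JankoOneSimple.isSimple_J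
  obtain ⟨DJ, hDJ⟩ := exists_data_J
  obtain ⟨EG⟩ := D.exists_gens hcard
  obtain ⟨EJ⟩ := DJ.exists_gens card_J
  let s : ℕ → J × G := fun x => (EJ.sv x, EG.sv x)
  let fC : Mod →* J × G := EJ.f.prod EG.f
  have hs : SCoset.LetterVal s := ⟨Prod.ext EJ.letterVal.eps EG.letterVal.eps,
    fun x => Prod.ext (EJ.letterVal.inv x) (EG.letterVal.inv x)⟩
  have hR : ∀ r ∈ Uniq.certGood.rels, wprod s r = 1 := fun r hr => by
    rw [show wprod s r = (wprod EJ.sv r, wprod EG.sv r) from wprod_prod _ _ r,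
      EJ.good_ok card_J r hr, EG.good_ok hcard r hr]
    rfl
  have hS : ∀ r ∈ Uniq.certGood.subs, wprod s r ∈ fC.range := by
    intro r hr
    have h6 : ∀ x ∈ r, x < 6 := by
      have : ∀ u ∈ ([[0], [2], [4]] : List (List ℕ)), ∀ x ∈ u, x < 6 := by decide
      exact this r hr
    refine ⟨wprod sM r, ?_⟩
    rw [show wprod s r = (wprod EJ.sv r, wprod EG.sv r) from wprod_prod _ _ r, EJ.wprod_low r h6,
      EG.wprod_low r h6]
    rfl
  have hF := SCoset.holds_of_blocks (D := Uniq.certGood) (H := fC.range) hs hR hS 107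
    (by decide) Uniq.good_blocks
  obtain ⟨hfin, hle⟩ := SCoset.card_closure_le (D := Uniq.certGood) (s := s) (H := fC.range)
    (live := Uniq.liveGood) (n := 1463) (g := 8) hs (by norm_num) (by decide) Uniq.live_zero
    (Uniq.good_rows hs hF)
  have h120 : Nat.card fC.range ≤ 120 := by
    have h := Nat.card_le_card_of_surjective fC.rangeRestrict fC.rangeRestrict_surjective
    have hm : Nat.card Mod = 120 := by
      rw [Nat.card_prod, Nat.card_eq_fintype_card, Fintype.card_multiplicative, ZMod.card,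
        nat_card_alternatingGroup, Nat.card_eq_fintype_card, Fintype.card_fin]
      rfl
    exact h.trans hm.le
  set L := Subgroup.closure (s '' Set.Iio 8) with hL
  let π : L →* J := (MonoidHom.fst J G).comp L.subtype
  have hπ : Function.Surjective π := by
    rw [← MonoidHom.range_eq_top, eq_top_iff, ← closure_eq_top_J EJ hDJ, Subgroup.closure_le]
    rintro _ ⟨x, hx, rfl⟩
    exact ⟨⟨s x, Subgroup.subset_closure ⟨x, hx, rfl⟩⟩, rfl⟩
  have hcardL : Nat.card L = Nat.card J := le_antisymm
    (hle.trans ((Nat.mul_le_mul_left 1463 h120).trans (by rw [card_J])))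
    (Nat.card_le_card_of_surjective π hπ)
  let π' : L ≃* J := MulEquiv.ofBijective π ((Nat.bijective_iff_surjective_and_card π).2 ⟨hπ, hcardL⟩)
  let ψ : J →* G := ((MonoidHom.snd J G).comp L.subtype).comp π'.symm.toMonoidHom
  have hψt : ψ (EJ.sv 4) = EG.sv 4 := by
    have hmem : s 4 ∈ L := Subgroup.subset_closure ⟨4, by norm_num, rfl⟩
    have h4 : π'.symm (EJ.sv 4) = ⟨s 4, hmem⟩ := π'.symm_apply_eq.2 rfl
    show ((π'.symm (EJ.sv 4) : L) : J × G).2 = _
    rw [h4]
  have hinj : Function.Injective ψ := by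
    rw [← MonoidHom.ker_eq_bot_iff]
    refine (ψ.normal_ker.eq_bot_or_eq_top).resolve_right fun h => ?_
    have h1 : ψ (EJ.sv 4) = 1 := MonoidHom.mem_ker.1 (h ▸ Subgroup.mem_top _)
    rw [hψt, show EG.sv 4 = D.t by simp [Gens.sv, sM, EG.hι]] at h1
    exact invol_ne_one D.ht h1
  exact ⟨(MulEquiv.ofBijective ψ ((Nat.bijective_iff_injective_and_card ψ).2
    ⟨hinj, by rw [hcard, card_J]⟩)).symm⟩

/-- A simple group with a 2-central involution centralized by `Z/2 × A₅` is Janko's group. -/
theorem isoJ1 {G : Type u} [Group G] [Finite G] [IsSimpleGroup G] (t : G)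
    (ht : Cfsg.IsTwoCentralInvolution t)
    (e : Subgroup.centralizer ({t} : Set G) ≃* Mod) : Cfsg.Spor.IsoJ1 G := by
  obtain ⟨D, -⟩ := exists_data t ht e
  exact nonempty_equiv_J D (card_eq t ht e)

end CfsgLib.Invol.J1Cent
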