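import Cfsg.Agent.Lib.Invol.JankoOneUniqModel
import Cfsg.Agent.Lib.StructC.SmallCommutatorElement
import Cfsg.Agent.Lib.Transfer.Thompson
import Mathlib.GroupTheory.Sylow

/-!
A group of order 175560 with all involution centralizers `Z/2 × A₅`: generators of the centralizer,
an element of order 7 with prescribed action, and one more relation coming from a Sylow 3-count.
-/

set_option autoImplicit false
set_option synthInstance.maxSize 8000

namespace CfsgLib.Invol.J1Cent

open Cfsg Subgroup
open scoped Pointwise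

universe u

theorem a0_facts : (Multiplicative.ofAdd (0, 1, 0) : E8) ≠ 1 ∧
    (Multiplicative.ofAdd (0, 1, 0) : E8) ≠ e0 := by decide +kernel

theorem uM_invol : ∀ b : Bool, uM b * uM b = 1 ∧ uM b * qM * (uM b)⁻¹ = qM⁻¹ ∧
    uM b * iota = iota * uM b := by decide +kernel

theorem uM_mul : uM false * uM true = iota := by decide +kernel

variable {G : Type u} [Group G] [Finite G]

/-- The centralizer of the involution together with an element of order seven. -/
structure Gens (D : Data G) where
  f : Mod →* G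
  inj : Function.Injective f
  hι : f iota = D.t
  range : ∀ g : G, g * D.t = D.t * g → ∃ m, f m = g
  h : G
  h7 : h ^ 7 = 1
  hsig : ∀ w, h * f (emb w) * h⁻¹ = f (emb (sig w))
  hq : f qM * h * (f qM)⁻¹ = h * h

namespace Data

variable (D : Data G)

/-- The inclusion of the centralizer. -/
def incl : Mod →* G := (D.C).subtype.comp D.ev.symm.toMonoidHom

theorem incl_injective : Function.Injective D.incl := D.C.subtype_injective.comp D.ev.symm.injective

theorem incl_iota : D.incl iota = D.t := by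
  simp only [incl, MonoidHom.coe_comp, Function.comp_apply, MulEquiv.coe_toMonoidHom]
  rw [← D.hev, MulEquiv.symm_apply_apply]
  rfl

theorem incl_range {g : G} (hg : g * D.t = D.t * g) : ∃ m, D.incl m = g :=
  ⟨D.ev ⟨g, mem_centralizer_singleton_iff.2 hg⟩, by simp [incl]⟩

theorem incl_comm (m : Mod) : D.incl m * D.t = D.t * D.incl m := by
  rw [← D.incl_iota, ← map_mul, ← map_mul, iota_comm]

theorem incl_emb (w : E8) : D.incl (emb w) = D.embG w := rfl

theorem eq_embG_of_centralizes {g : G} (hg : ∀ w, g * D.embG w = D.embG w * g) :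
    ∃ w, D.embG w = g := by
  obtain ⟨m, hm⟩ := D.incl_range (g := g) (by rw [← D.embG_e0]; exact hg e0)
  obtain ⟨w, hw⟩ := emb_centralizer m fun w => D.incl_injective (by
    rw [map_mul, map_mul, hm]; exact hg w)
  exact ⟨w, by rw [← hm, ← hw]; rfl⟩

/-- The generators exist. -/
theorem exists_gens (hcard : Nat.card G = 175560) : Nonempty (Gens D) := by
  classical
  have : Fact (Nat.Prime 2) := ⟨Nat.prime_two⟩
  have : Fact (Nat.Prime 3) := ⟨Nat.prime_three⟩
  have : Fact (Nat.Prime 7) := ⟨by norm_num⟩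
  set Q := D.embG.range with hQ
  have hQ8 : Nat.card Q = 8 := by
    rw [hQ, ← Nat.card_congr (MonoidHom.ofInjective D.embG_injective).toEquiv,
      Nat.card_eq_fintype_card]
    rfl
  set N := normalizer (Q : Set G) with hN
  have hQab : ∀ a ∈ Q, ∀ b ∈ Q, a * b = b * a := by
    rintro _ ⟨v, rfl⟩ _ ⟨w, rfl⟩
    rw [← map_mul, ← map_mul, mul_comm]
  have hQsq : ∀ a ∈ Q, a ^ 2 = 1 := by
    rintro _ ⟨v, rfl⟩
    rw [← map_pow, e8_sq, map_one]
  -- the order of the normalizer divides 168
  let φ : N →* MulAut Q := Q.normalizerMonoidHom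
  have hker : φ.ker = (centralizer (Q : Set G)).subgroupOf N := Subgroup.normalizerMonoidHom_ker _
  have hkerQ : Nat.card φ.ker ∣ 8 := by
    rw [hker, ← hQ8]
    have hle : ∀ x : (centralizer (Q : Set G)).subgroupOf N, ((x : N) : G) ∈ Q := fun x =>
      D.eq_embG_of_centralizes fun w => (mem_centralizer_iff.1 x.2 _ ⟨w, rfl⟩).symm
    exact Subgroup.card_dvd_of_injective
      ({ toFun := fun x => (⟨((x : N) : G), hle x⟩ : Q)
         map_one' := rfl
         map_mul' := fun _ _ => rfl } : (centralizer (Q : Set G)).subgroupOf N →* Q)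
      fun a b h => Subtype.ext (Subtype.ext (congrArg (fun z : Q => (z : G)) h :))
  have hrange : Nat.card φ.range ∣ 168 := by
    have h := CfsgLib.StructC.SmallComm.card_mulAut_dvd (V := Q)
      (fun a b => Subtype.ext (hQab _ a.2 _ b.2))
      (fun a => Subtype.ext (by rw [SubmonoidClass.coe_pow]; exact hQsq a a.2)) (n := 3) hQ8
    rw [show ∏ i : Fin 3, (2 ^ 3 - 2 ^ (i : ℕ)) = 168 from rfl] at h
    exact (Subgroup.card_subgroup_dvd_card _).trans h
  have hN168 : Nat.card N ∣ 168 := by
    have h1 : Nat.card N ∣ 8 * 168 := by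
      rw [← φ.ker.card_mul_index, Subgroup.index_ker]
      exact Nat.mul_dvd_mul hkerQ hrange
    have h2 : Nat.card N ∣ 175560 := hcard ▸ Subgroup.card_subgroup_dvd_card N
    exact (Nat.dvd_gcd h1 h2).trans (by norm_num)
  have hqQ : ∀ w, D.incl qM * D.embG w * (D.incl qM)⁻¹ = D.embG (alp w) := fun w => by
    rw [← D.incl_emb, ← map_mul, ← map_inv, ← map_mul, qM_facts.2.2]
    rfl
  have hqN : D.incl qM ∈ N := by
    refine mem_normalizer_iff.2 fun x => ⟨?_, ?_⟩
    · rintro ⟨w, rfl⟩
      exact ⟨alp w, (hqQ w).symm⟩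
    · rintro ⟨w, hw⟩
      have h3 : ∀ v, alp (alp (alp v)) = v := by decide +kernel
      refine ⟨alp (alp w), ?_⟩
      have := hqQ (alp (alp w))
      rw [h3, hw] at this
      exact mul_left_cancel (mul_right_cancel this)
  have hQN : Q ≤ N := le_normalizer
  -- seven divides the order of the normalizer
  have h7N : 7 ∣ Nat.card N := by
    by_contra h7
    have h24 : Nat.card N ∣ 24 := (Nat.Coprime.dvd_of_dvd_mul_left
      (((show Nat.Prime 7 by norm_num).coprime_iff_not_dvd.2 h7).symm)
      (show Nat.card N ∣ 7 * 24 from hN168))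
    set K := N ⊓ centralizer ({D.t} : Set G)
    have hQK : Q ≤ K := le_inf hQN fun x hx => mem_centralizer_singleton_iff.2
      (hQab _ hx _ ⟨e0, D.embG_e0⟩)
    have hq3 : orderOf (D.incl qM) = 3 := by
      refine orderOf_eq_prime (by rw [← map_pow, qM_facts.1, map_one]) fun h => qM_facts.2.1 ?_
      exact D.incl_injective (h.trans (map_one _).symm)
    have h3K : 3 ∣ Nat.card K := by
      rw [← hq3, ← Subgroup.orderOf_mk (D.incl qM) (show D.incl qM ∈ K from
        ⟨hqN, mem_centralizer_singleton_iff.2 (D.incl_comm _)⟩)]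
      exact orderOf_dvd_natCard _
    have h8K : 8 ∣ Nat.card K := hQ8 ▸ Subgroup.card_dvd_of_le hQK
    have h24K : 24 ∣ Nat.card K := Nat.Coprime.mul_dvd_of_dvd_of_dvd (by norm_num) h3K h8K
    have hKN : K = N := Subgroup.eq_of_le_of_card_ge inf_le_left
      ((Nat.le_of_dvd (by norm_num) h24).trans (Nat.le_of_dvd Nat.card_pos h24K))
    let P : Sylow 2 G := Sylow.ofCard Q (by
      obtain ⟨P₀⟩ := (inferInstance : Nonempty (Sylow 2 G))
      rw [hQ8, ← D.hS P₀, P₀.card_eq_multiplicity])
    have hP : (P : Subgroup G) = Q := Sylow.coe_ofCard _ _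
    have : IsMulCommutative (P : Subgroup G) := ⟨⟨fun a b => Subtype.ext
      (hQab _ (hP ▸ a.2) _ (hP ▸ b.2))⟩⟩
    have ha0 := a0_facts
    obtain ⟨g, hg⟩ := isConj_iff.1 (D.isConj_embG ha0.1)
    obtain ⟨n, hn, hn'⟩ := CfsgLib.Transfer.abelian_sylow_controls P D.t
      (show D.t ∈ (P : Subgroup G) by rw [hP]; exact ⟨e0, D.embG_e0⟩) g
      (show _ ∈ (P : Subgroup G) by rw [hP, hg]; exact ⟨_, rfl⟩)
    rw [hg] at hn'
    rw [hP, ← hN, ← hKN] at hn
    rw [mem_centralizer_singleton_iff.1 hn.2, mul_inv_cancel_right, ← D.embG_e0] at hn'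
    exact ha0.2 (D.embG_injective hn').symm
  -- a Sylow 7-subgroup fixed by `q`
  let qN : N := ⟨D.incl qM, hqN⟩
  have hq3 : IsPGroup 3 (zpowers qN) := by
    refine IsPGroup.of_card (n := 1) ?_
    rw [Nat.card_zpowers, pow_one]
    refine orderOf_eq_prime (Subtype.ext ?_) fun h => qM_facts.2.1 (D.incl_injective ?_)
    · show D.incl qM ^ 3 = 1
      rw [← map_pow, qM_facts.1, map_one]
    · exact (congrArg Subtype.val h :).trans (map_one _).symm
  obtain ⟨P, hP⟩ : ∃ P : Sylow 7 N, P ∈ MulAction.fixedPoints (zpowers qN) (Sylow 7 N) := by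
    have hmod := hq3.card_modEq_card_fixedPoints (Sylow 7 N)
    have h1 := card_sylow_modEq_one 7 N
    obtain ⟨P₀⟩ := (inferInstance : Nonempty (Sylow 7 N))
    have hd := P₀.card_dvd_index
    have hcP : 7 ∣ Nat.card (P₀ : Subgroup N) := P₀.dvd_card_of_dvd_card h7N
    have hidx : (P₀ : Subgroup N).index ∣ 24 := by
      have := (P₀ : Subgroup N).card_mul_index
      refine Nat.dvd_of_mul_dvd_mul_left (show 0 < 7 by norm_num) ?_
      exact ((Nat.mul_dvd_mul_right hcP _).trans (by rw [this])).trans hN168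
    have hn : Nat.card (Sylow 7 N) = 1 ∨ Nat.card (Sylow 7 N) = 8 := by
      have hle := Nat.le_of_dvd (by norm_num) (hd.trans hidx)
      have h24 := hd.trans hidx
      generalize Nat.card (Sylow 7 N) = k at h1 hle h24
      unfold Nat.ModEq at h1
      interval_cases k <;> first | omega | norm_num at h24
    by_contra h
    push Not at h
    have : IsEmpty (MulAction.fixedPoints (zpowers qN) (Sylow 7 N)) := ⟨fun x => h x.1 x.2⟩
    rw [Nat.card_of_isEmpty (α := MulAction.fixedPoints (zpowers qN) (Sylow 7 N))] at hmod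
    rcases hn with hn | hn <;> rw [hn] at hmod <;> exact absurd hmod (by decide)
  obtain ⟨n, hn7⟩ := exists_prime_orderOf_dvd_card' 7 (P.dvd_card_of_dvd_card h7N)
  have hcardP : Nat.card (P : Subgroup N) = 7 := by
    obtain ⟨k, hk⟩ := IsPGroup.iff_card.1 P.2
    have h168 : 7 ^ k ∣ 168 := hk ▸ (Subgroup.card_subgroup_dvd_card _).trans hN168
    have hk0 : 7 ∣ 7 ^ k := hk ▸ P.dvd_card_of_dvd_card h7N
    rcases k with _ | _ | k
    · norm_num at hk0
    · simpa using hk
    · exact absurd ((pow_dvd_pow 7 (show 2 ≤ k + 1 + 1 by omega)).trans h168) (by norm_num)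
  have hgenP : ∀ x ∈ (P : Subgroup N), ∃ k : Fin 7, ((n : N) : G) ^ (k : ℕ) = (x : G) := by
    intro x hx
    have htop : zpowers n = ⊤ := Subgroup.eq_top_of_card_eq _ (by rw [Nat.card_zpowers, hn7, hcardP])
    obtain ⟨k, hk, hk'⟩ := Finset.mem_image.1 (mem_zpowers_iff_mem_range_orderOf.1
      (htop ▸ mem_top (⟨x, hx⟩ : (P : Subgroup N))))
    rw [Finset.mem_range, hn7] at hk
    refine ⟨⟨k, hk⟩, ?_⟩
    have := congrArg (fun z : (P : Subgroup N) => ((z : N) : G)) hk'
    simpa using this
  set g : G := ((n : N) : G) with hg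
  have hg7 : g ^ 7 = 1 := by
    have := congrArg (fun z : (P : Subgroup N) => ((z : N) : G)) (hn7 ▸ pow_orderOf_eq_one n)
    simpa using this
  have hg1 : g ≠ 1 := fun h => by
    have : n = 1 := Subtype.ext (Subtype.ext h)
    rw [this, orderOf_one] at hn7
    norm_num at hn7
  obtain ⟨k, hk⟩ : ∃ k : Fin 7, g ^ (k : ℕ) = D.incl qM * g * (D.incl qM)⁻¹ := by
    have hfix := hP ⟨qN, mem_zpowers qN⟩
    have hmem : (MulAut.conj qN • (P : Subgroup N)) = (P : Subgroup N) := by
      exact congrArg (fun R : Sylow 7 N => (R : Subgroup N)) hfix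
    exact hgenP _ (hmem ▸ Subgroup.smul_mem_pointwise_smul (n : N) (MulAut.conj qN) _ n.2)
  -- the action
  have himg : ∀ v : E8, ∃ v' : E8, D.embG v' = g * D.embG v * g⁻¹ := fun v =>
    ((mem_normalizer_iff.1 (n : N).2 _).1 ⟨v, rfl⟩)
  choose L hL using himg
  have hLmul : ∀ v v', L (v * v') = L v * L v' := fun v v' => D.embG_injective (by
    rw [hL, map_mul, map_mul, hL, hL]; group)
  let LH : E8 →* E8 := MonoidHom.mk' L hLmul
  have hLlin : L = lin3 (L (Multiplicative.ofAdd (1, 0, 0))) (L (Multiplicative.ofAdd (0, 1, 0)))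
      (L (Multiplicative.ofAdd (0, 0, 1))) := funext fun w => by
    conv_lhs => rw [lin3_basis w]
    show LH _ = _
    simp only [lin3, map_mul, map_pow]
    rfl
  have hLit : ∀ (j : ℕ) v, D.embG (L^[j] v) = g ^ j * D.embG v * (g ^ j)⁻¹ := by
    intro j
    induction j with
    | zero => intro v; simp
    | succ j ih =>
      intro v
      rw [Function.iterate_succ_apply', hL, ih, pow_succ']
      group
  have hL7 : ∀ w, L^[7] w = w := fun w => D.embG_injective (by rw [hLit, hg7]; group)
  have hLne : L ≠ id := by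
    intro h
    obtain ⟨w, hw⟩ := D.eq_embG_of_centralizes (g := g) fun w => by
      have := hL w
      rw [h] at this
      calc g * D.embG w = g * D.embG w * g⁻¹ * g := by group
        _ = D.embG w * g := by rw [← this]; rfl
    have h2 : g ^ 2 = 1 := by rw [← hw, ← map_pow, e8_sq, map_one]
    apply hg1
    calc g = g ^ 7 * (g ^ 2)⁻¹ * (g ^ 2)⁻¹ * (g ^ 2)⁻¹ := by group
      _ = 1 := by rw [hg7, h2]; simp
  have hLk : ∀ w, alp (L w) = L^[k] (alp w) := fun w => D.embG_injective (by
    rw [hLit, hk, ← hqQ, ← hqQ, hL]; group)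
  rw [hLlin] at hL7 hLne hLk hLit
  obtain ⟨j, hj⟩ := seven_cases_aux _ (Finset.mem_univ _) _ (Finset.mem_univ _) _
    (Finset.mem_univ _) hL7 hLne ⟨k, hLk⟩
  -- assembling
  have key : ∀ (f : Mod →* G), Function.Injective f → f iota = D.t →
      (∀ x, x * D.t = D.t * x → ∃ m, f m = x) →
      (∀ w, g ^ (j : ℕ) * f (emb w) * (g ^ (j : ℕ))⁻¹ = f (emb (sig w))) →
      (∃ l : ℕ, f qM * g * (f qM)⁻¹ = g ^ l) → Nonempty (Gens D) := by
    intro f hf hfι hfr hfs ⟨l, hl⟩
    have hh7 : (g ^ (j : ℕ)) ^ 7 = 1 := by rw [← pow_mul, mul_comm, pow_mul, hg7, one_pow]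
    have hconj : f qM * g ^ (j : ℕ) * (f qM)⁻¹ = (g ^ (j : ℕ)) ^ l := by
      rw [← conj_pow, hl, ← pow_mul, ← pow_mul, mul_comm]
    have hmod : ∀ i : ℕ, (g ^ (j : ℕ)) ^ i = (g ^ (j : ℕ)) ^ (i % 7) := fun i => by
      conv_lhs => rw [← Nat.mod_add_div i 7, pow_add, pow_mul, hh7, one_pow, mul_one]
    have hit : ∀ (i : ℕ) w,
        (g ^ (j : ℕ)) ^ i * f (emb w) * ((g ^ (j : ℕ)) ^ i)⁻¹ = f (emb (sig^[i] w)) := by
      intro i
      induction i with
      | zero => intro w; simp
      | succ i ih =>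
        intro w
        rw [Function.iterate_succ_apply', ← hfs, ← ih, pow_succ']
        group
    have h2 : (⟨l % 7, Nat.mod_lt _ (by norm_num)⟩ : Fin 7) = 2 := by
      refine sig_exponent _ fun w => emb_injective (hf ?_)
      show f (emb (alp (sig w))) = f (emb (sig^[l % 7] (alp w)))
      rw [← hit, ← hmod, ← hconj, ← qM_facts.2.2, ← qM_facts.2.2]
      simp only [map_mul, map_inv, ← hfs]
      group
    refine ⟨⟨f, hf, hfι, hfr, g ^ (j : ℕ), hh7, hfs, ?_⟩⟩
    rw [hconj, hmod, show l % 7 = 2 from congrArg Fin.val h2, pow_two]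
  rcases hj with hj | hj
  · refine key D.incl D.incl_injective D.incl_iota (fun x => D.incl_range) (fun w => ?_)
      ⟨k, hk.symm⟩
    rw [D.incl_emb, ← hLit, hj]
    rfl
  · refine key (D.incl.comp tauM.toMonoidHom) (D.incl_injective.comp tauM.injective)
      (by show D.incl (tauM iota) = D.t; rw [tauM_facts.1]; exact D.incl_iota)
      (fun x hx => ?_) (fun w => ?_) ⟨(k : ℕ) * k, ?_⟩
    · obtain ⟨m, hm⟩ := D.incl_range hx
      exact ⟨tauM.symm m, by show D.incl (tauM (tauM.symm m)) = x; rw [tauM.apply_symm_apply, hm]⟩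
    · show g ^ (j : ℕ) * D.incl (tauM (emb w)) * _ = D.incl (tauM (emb (sig w)))
      rw [tauM_facts.2.2, tauM_facts.2.2, ← hj w, swapE_swapE, D.incl_emb, ← hLit]
      rfl
    · show D.incl (tauM qM) * g * (D.incl (tauM qM))⁻¹ = _
      rw [tauM_facts.2.1, map_mul]
      calc D.incl qM * D.incl qM * g * (D.incl qM * D.incl qM)⁻¹
          = D.incl qM * (D.incl qM * g * (D.incl qM)⁻¹) * (D.incl qM)⁻¹ := by group
        _ = D.incl qM * g ^ (k : ℕ) * (D.incl qM)⁻¹ := by rw [hk]
        _ = (D.incl qM * g * (D.incl qM)⁻¹) ^ (k : ℕ) := conj_pow.symm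
        _ = g ^ ((k : ℕ) * k) := by rw [← hk, ← pow_mul]

end Data

namespace Gens

variable {D : Data G} (E : Gens D)

/-- The conjugating element towards the centralizer of `uM b`. -/
def gEl (b : Bool) : G := E.f cM' * E.h ^ cIdx b

theorem conj_h_pow (i : ℕ) (w : E8) :
    E.h ^ i * E.f (emb w) * (E.h ^ i)⁻¹ = E.f (emb (sig^[i] w)) := by
  induction i generalizing w with
  | zero => simp
  | succ i ih =>
    rw [Function.iterate_succ_apply', ← E.hsig, ← ih, pow_succ']
    group

theorem f_emb_e0 : E.f (emb e0) = D.t := by rw [emb_e0, E.hι]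

theorem gEl_t (b : Bool) : E.gEl b * D.t * (E.gEl b)⁻¹ = E.f (uM b) := by
  rw [← uM_facts b, map_mul, map_mul, map_inv, ← E.conj_h_pow, E.f_emb_e0]
  simp only [gEl]
  group

theorem gEl_tt (b : Bool) : E.gEl b * E.f (ttM b) * (E.gEl b)⁻¹ = D.t := by
  have h1 : E.h ^ cIdx b * E.h ^ (7 - cIdx b) = 1 := by
    rw [← pow_add, show cIdx b + (7 - cIdx b) = 7 by cases b <;> rfl, E.h7]
  have h2 := inv_eq_of_mul_eq_one_right h1
  calc E.gEl b * E.f (ttM b) * (E.gEl b)⁻¹
      = E.f cM' * (E.h ^ cIdx b * (E.h ^ (7 - cIdx b) * E.f (emb e0) *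
          (E.h ^ (7 - cIdx b))⁻¹) * (E.h ^ cIdx b)⁻¹) * (E.f cM')⁻¹ := by
        rw [ttM, ← E.conj_h_pow, gEl]; group
    _ = E.f cM' * E.f iota * (E.f cM')⁻¹ := by
        rw [← h2, inv_inv, E.f_emb_e0, E.hι]
        group
    _ = D.t := by rw [← map_mul, ← map_inv, ← map_mul, cM'_iota, E.hι]

/-- The relation coming from a candidate. -/
def Rel (b : Bool) (m : Mod) : Prop :=
  E.gEl b * E.f m * (E.gEl b)⁻¹ * E.f qM = E.f qM * (E.gEl b * E.f m * (E.gEl b)⁻¹)

theorem f_sq_one {m : Mod} (h : m * m = 1) : E.f m * E.f m = 1 := by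
  rw [← map_mul, h, map_one]

/-- Some candidate commutes with the element of order three. -/
theorem exists_rel (hcard : Nat.card G = 175560) :
    ∃ b m, IsCand b m ∧ E.Rel b m := by
  classical
  have : Fact (Nat.Prime 2) := ⟨Nat.prime_two⟩
  have : Fact (Nat.Prime 3) := ⟨Nat.prime_three⟩
  set q := E.f qM with hq
  set Ce := centralizer ({q} : Set G) with hCe
  have hq3 : orderOf q = 3 := orderOf_eq_prime (by rw [hq, ← map_pow, qM_facts.1, map_one])
    fun h => qM_facts.2.1 (E.inj (h.trans (map_one _).symm))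
  have h9 : ¬ 9 ∣ Nat.card G := by rw [hcard]; norm_num
  have htq : D.t * q = q * D.t := by rw [hq, ← E.hι, ← map_mul, ← map_mul, iota_comm]
  have htC : D.t ∈ Ce := mem_centralizer_singleton_iff.2 htq
  have hcases : ∀ x ∈ Ce, x * D.t = D.t * x →
      ∃ y ∈ zpowers q, x = y ∨ x = D.t * y := by
    intro x hx hxt
    obtain ⟨m, rfl⟩ := E.range x hxt
    have hm : m * qM = qM * m := E.inj (by
      rw [map_mul, map_mul]; exact mem_centralizer_singleton_iff.1 hx)
    have hm1 : E.f (1 : Mod) ∈ zpowers q := by rw [map_one]; exact one_mem _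
    have hm2 : E.f qM ∈ zpowers q := mem_zpowers q
    have hm3 : E.f (qM * qM) ∈ zpowers q := by rw [map_mul]; exact mul_mem hm2 hm2
    rcases qM_cen m hm with rfl | rfl | rfl | rfl | rfl | rfl
    · exact ⟨_, hm1, Or.inl rfl⟩
    · exact ⟨_, hm2, Or.inl rfl⟩
    · exact ⟨_, hm3, Or.inl rfl⟩
    · exact ⟨1, one_mem _, Or.inr (by rw [mul_one, E.hι])⟩
    · exact ⟨_, hm2, Or.inr (by rw [map_mul, E.hι])⟩
    · exact ⟨_, hm3, Or.inr (by rw [map_mul E.f iota, E.hι])⟩
  have hinvol : ∀ z ∈ Ce, z * D.t = D.t * z → orderOf z = 2 → z = D.t := by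
    intro z hz hzt hz2
    obtain ⟨y, hy, rfl | rfl⟩ := hcases z hz hzt
    · have := orderOf_dvd_of_mem_zpowers hy
      rw [hz2, hq3] at this
      norm_num at this
    · have hyt : Commute D.t y := by
        obtain ⟨i, rfl⟩ := mem_zpowers_iff.1 hy
        exact (show Commute D.t q from htq).zpow_right i
      have h2 : (D.t * y) ^ 2 = 1 := hz2 ▸ pow_orderOf_eq_one _
      rw [hyt.mul_pow, pow_two, invol_mul_self D.ht, one_mul] at h2
      have hd := orderOf_dvd_of_mem_zpowers hy
      rw [hq3] at hd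
      have : orderOf y = 1 := Nat.eq_one_of_dvd_coprimes (show Nat.Coprime 2 3 by norm_num)
        (orderOf_dvd_of_pow_eq_one h2) hd
      rw [orderOf_eq_one_iff.1 this, mul_one]
  set w := E.f wM with hw
  have hwq : w * q * w⁻¹ = q⁻¹ := by rw [hw, hq, ← map_mul, ← map_inv, ← map_mul, wM_facts.2.1, map_inv]
  -- the centralizer of `q` is not inside the centralizer of the involution
  obtain ⟨g, hg, hgt⟩ : ∃ g ∈ Ce, g * D.t ≠ D.t * g := by
    by_contra hcon
    push Not at hcon
    let P : Sylow 3 G := Sylow.ofCard (zpowers q) (by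
      rw [Nat.card_zpowers, hq3, hcard]
      rw [show (175560 : ℕ) = 3 * 58520 from rfl, Nat.factorization_mul (by norm_num) (by norm_num),
        Finsupp.add_apply, Nat.prime_three.factorization_self,
        Nat.factorization_eq_zero_of_not_dvd (by norm_num), pow_one])
    have hP : (P : Subgroup G) = zpowers q := Sylow.coe_ofCard _ _
    have hidx := card_sylow_modEq_one 3 G
    have hset : ((P : Subgroup G) : Set G) = (zpowers q : Set G) := by rw [hP]
    rw [Sylow.card_eq_index_normalizer P] at hidx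
    have hidx' : (normalizer (zpowers q : Set G)).index ≡ 1 [MOD 3] := hset ▸ hidx
    replace hidx := hidx'
    set Nq := normalizer (zpowers q : Set G)
    have hCN : Ce ≤ Nq := fun x hx => mem_normalizer_iff.2 fun y => by
      have hx' := mem_centralizer_singleton_iff.1 hx
      constructor
      · intro hy
        obtain ⟨i, rfl⟩ := mem_zpowers_iff.1 hy
        rw [((show Commute x q from hx').zpow_right i).eq, mul_inv_cancel_right]
        exact zpow_mem (mem_zpowers q) i
      · intro hy
        obtain ⟨i, hi⟩ := mem_zpowers_iff.1 hy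
        have h' : y = x⁻¹ * q ^ i * x := by rw [hi]; group
        rw [h', mul_assoc, ← ((show Commute x q from hx').zpow_right i).eq, inv_mul_cancel_left]
        exact zpow_mem (mem_zpowers q) i
    have hwN : w ∈ Nq := mem_normalizer_iff.2 fun y => by
      constructor
      · intro hy
        obtain ⟨i, rfl⟩ := mem_zpowers_iff.1 hy
        rw [← conj_zpow, hwq]
        exact zpow_mem (inv_mem (mem_zpowers q)) i
      · intro hy
        obtain ⟨i, hi⟩ := mem_zpowers_iff.1 hy
        have h' : y = w * q ^ i * w⁻¹ := by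
          have hww : w⁻¹ = w := inv_eq_of_mul_eq_one_right (E.f_sq_one wM_facts.1)
          rw [hi, hww]
          calc y = (w * w) * y * (w * w) := by rw [E.f_sq_one wM_facts.1]; simp
            _ = _ := by rw [hw]; group
        rw [h', ← conj_zpow, hwq]
        exact zpow_mem (inv_mem (mem_zpowers q)) i
    have hCcard : Nat.card Ce ∣ 6 ∧ 6 ∣ Nat.card Ce := by
      constructor
      · let C6 : Subgroup G := zpowers (D.t * q)
        have h6 : Nat.card C6 = 6 := by
          rw [Nat.card_zpowers, Commute.orderOf_mul_eq_mul_orderOf_of_coprime htq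
            (by rw [D.ht, hq3]; norm_num), D.ht, hq3]
        rw [← h6]
        refine Subgroup.card_dvd_of_le fun x hx => ?_
        have hqm : q ∈ C6 := by
          have h4 : (D.t * q) ^ 4 = q := by
            have hd2 : D.t ^ 4 = 1 := by
              rw [show (4 : ℕ) = 2 * 2 from rfl, pow_mul, pow_two D.t, invol_mul_self D.ht, one_pow]
            have hq4 : q ^ 4 = q := by
              have := pow_orderOf_eq_one q
              rw [hq3] at this
              rw [pow_succ, this, one_mul]
            rw [(show Commute D.t q from htq).mul_pow, hd2, hq4, one_mul]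
          exact h4 ▸ pow_mem (mem_zpowers _) 4
        have htm : D.t ∈ C6 := by
          have := mul_mem (mem_zpowers (D.t * q)) (inv_mem hqm)
          rwa [mul_inv_cancel_right] at this
        obtain ⟨y, hy, h | h⟩ := hcases x hx (hcon x hx) <;> rw [h]
        · exact zpowers_le.2 hqm hy
        · exact mul_mem htm (zpowers_le.2 hqm hy)
      · refine (show 6 = orderOf (D.t * q) from ?_) ▸ ?_
        · rw [Commute.orderOf_mul_eq_mul_orderOf_of_coprime htq
            (by rw [D.ht, hq3]; norm_num), D.ht, hq3]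
        · rw [← Subgroup.orderOf_mk (D.t * q)
            (mul_mem htC (mem_centralizer_singleton_iff.2 rfl) : D.t * q ∈ Ce)]
          exact orderOf_dvd_natCard _
    have hC6 : Nat.card Ce = 6 := Nat.dvd_antisymm hCcard.1 hCcard.2
    have hrel : Ce.relIndex Nq = 2 := by
      refine Subgroup.index_eq_two_iff.2 ⟨⟨w, hwN⟩, fun x => ?_⟩
      rw [mem_subgroupOf, mem_subgroupOf, Subgroup.coe_mul]
      have hx : (x : G) * q * (x : G)⁻¹ = q ∨ (x : G) * q * (x : G)⁻¹ = q⁻¹ := by
        have hmem := (mem_normalizer_iff.1 x.2 q).1 (mem_zpowers q)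
        obtain ⟨i, hi, hi'⟩ := Finset.mem_image.1 (mem_zpowers_iff_mem_range_orderOf.1 hmem)
        rw [Finset.mem_range, hq3] at hi
        interval_cases i
        · exfalso
          rw [pow_zero] at hi'
          have h1 : q = 1 := by
            calc q = (x : G)⁻¹ * ((x : G) * q * (x : G)⁻¹) * x := by group
              _ = 1 := by rw [← hi']; group
          rw [h1, orderOf_one] at hq3
          norm_num at hq3
        · exact Or.inl (by rw [← hi', pow_one])
        · refine Or.inr ?_
          rw [← hi']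
          exact eq_inv_of_mul_eq_one_left (by
            have := pow_orderOf_eq_one q
            rw [hq3, pow_succ] at this
            exact this)
      have hne : q⁻¹ ≠ q := fun h => by
        have : q ^ 2 = 1 := by rw [pow_two]; nth_rewrite 1 [← h]; exact inv_mul_cancel q
        have := orderOf_dvd_of_pow_eq_one this
        rw [hq3] at this
        norm_num at this
      simp only [hCe, mem_centralizer_singleton_iff]
      have hwinv : w * q = q⁻¹ * w := mul_inv_eq_iff_eq_mul.1 hwq
      rcases hx with hx | hx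
      · refine Or.inr ⟨mul_inv_eq_iff_eq_mul.1 hx, fun h => hne ?_⟩
        have h' : (x : G) * (q⁻¹ * w) = q * ((x : G) * w) := by
          rw [← hwinv, ← mul_assoc]; exact h
        rw [← mul_assoc, ← mul_assoc] at h'
        have h'' := mul_right_cancel h'
        rw [← mul_inv_eq_iff_eq_mul.1 hx] at h''
        exact mul_left_cancel h''
      · refine Or.inl ⟨?_, fun h => hne ?_⟩
        · rw [mul_assoc, hwinv, ← mul_assoc, ← mul_assoc]
          refine congrArg (· * w) ?_
          calc (x : G) * q⁻¹ = ((x : G) * q * (x : G)⁻¹)⁻¹ * x := by group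
            _ = q * x := by rw [hx, inv_inv]
        · rw [← hx]
          exact mul_inv_eq_iff_eq_mul.2 h
    have hN12 : Nat.card Nq = 12 := by
      rw [← Subgroup.relIndex_bot_left Nq, ← Subgroup.relIndex_mul_relIndex ⊥ Ce Nq bot_le hCN,
        Subgroup.relIndex_bot_left, hrel, hC6]
    have hi := Nq.card_mul_index
    rw [hN12, hcard] at hi
    rw [show Nq.index = 14630 by omega] at hidx
    exact absurd hidx (by decide)
  -- Sylow 2-subgroups of the centralizer of `q` have order two
  have h4 : ¬ 4 ∣ Nat.card Ce := by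
    intro h4
    obtain ⟨S, hS⟩ := (isPGroup_zpowers_of_invol (x := (⟨D.t, htC⟩ : Ce))
      (by rw [← Subgroup.orderOf_coe]; exact D.ht)).exists_le_sylow
    have hS4 : 2 ^ 2 ∣ Nat.card (S : Subgroup Ce) := S.pow_dvd_card_of_pow_dvd_card h4
    obtain ⟨k, hk⟩ := IsPGroup.iff_card.1 S.2
    have hex : ∃ z ∈ (S : Subgroup Ce), (z : G) ≠ 1 ∧ (z : G) ≠ D.t := by
      by_contra hcon
      push Not at hcon
      have : Nat.card (S : Subgroup Ce) ≤ 2 := by
        refine le_of_le_of_eq (Nat.card_le_card_of_injective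
          (fun z : (S : Subgroup Ce) => if ((z : Ce) : G) = 1 then (0 : Fin 2) else 1) ?_)
          (Nat.card_fin 2)
        intro a b hab
        simp only at hab
        refine Subtype.ext (Subtype.ext ?_)
        split_ifs at hab with ha hb hb
        · exact ha.trans hb.symm
        · exact absurd hab (by decide)
        · exact absurd hab (by decide)
        · rw [hcon a a.2 ha, hcon b b.2 hb]
      have := Nat.le_of_dvd Nat.card_pos hS4
      omega
    obtain ⟨z, hzS, hz1, hzt⟩ := hex
    obtain ⟨P, hP⟩ := (S.2.map Ce.subtype).exists_le_sylow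
    -- Sylow subgroups of `G` are elementary abelian
    have habel : ∀ a ∈ (P : Subgroup G), a * a = 1 := fun a ha => by
      obtain ⟨i, hi⟩ := IsPGroup.iff_orderOf.1 P.2 ⟨a, ha⟩
      have hi' : orderOf a = 2 ^ i := by rw [← hi, Subgroup.orderOf_mk]
      have : i ≤ 1 := by
        by_contra hc
        exact D.h4 a (hi' ▸ pow_dvd_pow 2 (show 2 ≤ i by omega))
      rw [← pow_two]
      exact orderOf_dvd_iff_pow_eq_one.1 (hi' ▸ (pow_dvd_pow 2 this).trans (by simp))
    have hzP : (z : G) ∈ (P : Subgroup G) := hP ⟨z, hzS, rfl⟩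
    have htP : D.t ∈ (P : Subgroup G) := hP ⟨⟨D.t, htC⟩, hS (mem_zpowers _), rfl⟩
    have hcomm : (z : G) * D.t = D.t * z := by
      have h1 := habel _ (mul_mem hzP htP)
      calc (z : G) * D.t = ((z : G) * D.t)⁻¹ := (inv_eq_of_mul_eq_one_right h1).symm
        _ = D.t * z := by
            rw [mul_inv_rev, inv_eq_of_mul_eq_one_right (habel _ hzP),
              inv_eq_of_mul_eq_one_right (habel _ htP)]
    exact hzt (hinvol z z.2 hcomm (invol_of_mul_self (habel _ hzP) hz1))
  -- the odd part
  let T2 : Ce := ⟨D.t, htC⟩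
  have hT2 : orderOf T2 = 2 := by rw [← Subgroup.orderOf_coe]; exact D.ht
  obtain ⟨S, hS⟩ := (isPGroup_zpowers_of_invol hT2).exists_le_sylow
  have hSc : Nat.card (S : Subgroup Ce) = 2 := by
    obtain ⟨k, hk⟩ := IsPGroup.iff_card.1 S.2
    have h2 : 2 ∣ Nat.card (S : Subgroup Ce) :=
      by have := Subgroup.card_dvd_of_le hS; rwa [Nat.card_zpowers, hT2] at this
    have h2' := Subgroup.card_subgroup_dvd_card (S : Subgroup Ce)
    rw [hk] at h2 h2' ⊢
    rcases k with _ | _ | k
    · norm_num at h2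
    · rfl
    · exact absurd ((pow_dvd_pow 2 (show 2 ≤ k + 1 + 1 by omega)).trans h2') h4
  rcases CfsgLib.Transfer.thompson_transfer_involution S (Q := (⊥ : Subgroup Ce)) bot_le
      (by rw [Subgroup.relIndex_bot_left, hSc]) (u := T2)
      (by rw [← hT2, pow_orderOf_eq_one]) (hS (mem_zpowers T2)) with
    ⟨K, hK, hKi, -⟩ | ⟨a, ha⟩
  swap
  · exact absurd (conj_eq_one_iff.1 (Subgroup.mem_bot.1 ha))
      (fun h => invol_ne_one D.ht (congrArg Subtype.val h))
  have hoddK : Odd (Nat.card K) := by
    have := K.card_mul_index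
    rw [hKi] at this
    refine Nat.not_even_iff_odd.1 fun ⟨j, hj⟩ => h4 ⟨j, ?_⟩
    omega
  have hKodd : ∀ x : Ce, x ∈ K → Odd (orderOf (x : G)) := fun x hx => by
    rw [Subgroup.orderOf_coe, ← Subgroup.orderOf_mk x hx]
    exact hoddK.of_dvd_nat (orderOf_dvd_natCard _)
  have hoddmem : ∀ x : Ce, Odd (orderOf (x : G)) → x ∈ K := fun x hx => by
    rw [Subgroup.orderOf_coe] at hx
    obtain ⟨i, hi⟩ := hx
    have h2 : x ^ 2 ∈ K := hKi ▸ Subgroup.pow_index_mem K x
    have : x = (x ^ 2) ^ (i + 1) := by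
      rw [← pow_mul, show 2 * (i + 1) = orderOf x + 1 by omega, pow_succ, pow_orderOf_eq_one,
        one_mul]
    rw [this]
    exact pow_mem h2 _
  -- the two involutions inverting `q`
  have hu : ∀ b, E.f (uM b) * E.f (uM b) = 1 ∧ E.f (uM b) * q * (E.f (uM b))⁻¹ = q⁻¹ ∧
      E.f (uM b) * D.t = D.t * E.f (uM b) := by
    have hdec := uM_invol
    intro b
    obtain ⟨h1, h2, h3⟩ := hdec b
    refine ⟨E.f_sq_one h1, ?_, ?_⟩
    · rw [hq, ← map_inv, ← map_mul, ← map_mul, h2, map_inv]
    · rw [← E.hι, ← map_mul, ← map_mul, h3]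
  obtain ⟨b, k, hkC, hk1, hku, hkK⟩ : ∃ b, ∃ k : G, k ∈ Ce ∧ k ≠ 1 ∧
      E.f (uM b) * k = k * E.f (uM b) ∧ Odd (orderOf k) := by
    by_contra hcon
    push Not at hcon
    have hinv : ∀ b, ∀ x : Ce, x ∈ K → E.f (uM b) * (x : G) * E.f (uM b) = (x : G)⁻¹ := by
      intro b
      obtain ⟨hu1, hu2, -⟩ := hu b
      set c := E.f (uM b) with hc
      have hci : c⁻¹ = c := inv_eq_of_mul_eq_one_right hu1
      have hcC : ∀ x : G, x ∈ Ce → c * x * c ∈ Ce := fun x hx => by
        rw [hCe, mem_centralizer_singleton_iff] at hx ⊢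
        have hxi : x * q⁻¹ = q⁻¹ * x := (show Commute x q from hx).inv_right.eq
        rw [hci] at hu2
        have h1 : c * q = q⁻¹ * c := by
          rw [← hu2]; rw [mul_assoc (c * q), hu1, mul_one]
        have h2 : c * q⁻¹ = q * c := by
          calc c * q⁻¹ = c * (q⁻¹ * c) * c := by rw [mul_assoc, mul_assoc, hu1, mul_one]
            _ = (c * c) * q * c := by rw [← h1]; simp [mul_assoc]
            _ = q * c := by rw [hu1, one_mul]
        calc c * x * c * q = c * x * (q⁻¹ * c) := by rw [mul_assoc (c * x), h1]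
          _ = c * (q⁻¹ * x) * c := by rw [← hxi]; simp [mul_assoc]
          _ = q * (c * x * c) := by rw [← mul_assoc c, h2]; simp [mul_assoc]
      have hcl : ∀ x : K, (⟨(x : Ce).1⁻¹ * (c * (x : Ce).1 * c), mul_mem (inv_mem (x : Ce).2)
          (hcC _ (x : Ce).2)⟩ : Ce) ∈ K := fun x => by
        have h1 : (⟨c * (x : Ce).1 * c, hcC _ (x : Ce).2⟩ : Ce) ∈ K := hoddmem _ (by
          show Odd (orderOf (c * (x : Ce).1 * c))
          nth_rewrite 2 [← hci]
          rw [orderOf_conj_eq]
          exact hKodd _ x.2)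
        exact mul_mem (inv_mem x.2) h1
      let F : K → K := fun x => ⟨_, hcl x⟩
      have hF : Function.Injective F := by
        intro x y hxy
        have h : (x : Ce).1⁻¹ * (c * (x : Ce).1 * c) = (y : Ce).1⁻¹ * (c * (y : Ce).1 * c) :=
          congrArg (fun z : K => ((z : Ce) : G)) hxy
        by_contra hne
        refine absurd (hKodd _ (mul_mem y.2 (inv_mem x.2))) ?_
        refine Nat.not_odd_iff_even.2 ?_
        have := hcon b ((y : Ce).1 * (x : Ce).1⁻¹) (mul_mem (y : Ce).2 (inv_mem (x : Ce).2))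
          (fun e => hne (Subtype.ext (Subtype.ext (mul_inv_eq_one.1 e).symm))) (by
          calc c * ((y : Ce).1 * (x : Ce).1⁻¹)
              = c * (y : Ce).1 * ((x : Ce).1⁻¹ * (c * (x : Ce).1 * c)) * (c⁻¹ * (x : Ce).1⁻¹ * c⁻¹) :=
                by group
            _ = c * (y : Ce).1 * ((y : Ce).1⁻¹ * (c * (y : Ce).1 * c)) *
                (c⁻¹ * (x : Ce).1⁻¹ * c⁻¹) := by rw [h]
            _ = (c * c) * (y : Ce).1 * (x : Ce).1⁻¹ * c⁻¹ := by group
            _ = (y : Ce).1 * (x : Ce).1⁻¹ * c := by rw [hu1, hci, one_mul])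
        exact Nat.not_odd_iff_even.1 this
      intro x hx
      obtain ⟨y, hy⟩ := Finite.surjective_of_injective hF ⟨x, hx⟩
      have hy' : (y : Ce).1⁻¹ * (c * (y : Ce).1 * c) = x := congrArg (fun z : K => ((z : Ce) : G)) hy
      rw [← hy']
      simp only [mul_inv_rev, inv_inv, hci, mul_assoc, ← mul_assoc c c, hu1, one_mul, mul_one]
    -- then `t` centralizes the odd part
    have htK : ∀ x : Ce, x ∈ K → (x : G) * D.t = D.t * x := by
      intro x hx
      have e2 := hinv true x hx
      have e1 := hinv false x⁻¹ (inv_mem hx)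
      rw [InvMemClass.coe_inv, inv_inv] at e1
      have ht' : E.f (uM false) * E.f (uM true) = D.t := by
        rw [← map_mul, ← E.hι]
        exact congrArg E.f uM_mul
      have hxx : E.f (uM false) * (E.f (uM true) * (x : G) * E.f (uM true)) * E.f (uM false) = x := by
        rw [e2, e1]
      have h2 := (hu true).1
      have h1 := (hu false).1
      rw [← ht']
      calc (x : G) * (E.f (uM false) * E.f (uM true))
          = E.f (uM false) * (E.f (uM true) * (x : G) * E.f (uM true)) * E.f (uM false) *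
              (E.f (uM false) * E.f (uM true)) := by rw [hxx]
        _ = E.f (uM false) * E.f (uM true) * x := by
            simp only [mul_assoc, ← mul_assoc (E.f (uM false)) (E.f (uM false)), h1, one_mul, h2,
              mul_one]
    refine hgt ?_
    have hgK : (⟨g, hg⟩ : Ce) ^ 2 ∈ K := hKi ▸ Subgroup.pow_index_mem K _
    by_cases hgm : (⟨g, hg⟩ : Ce) ∈ K
    · exact htK _ hgm
    · have hgt' : (⟨g, hg⟩ : Ce) * T2 ∈ K := by
        refine (Subgroup.mul_mem_iff_of_index_two hKi).2 ?_
        refine iff_of_false hgm fun h => ?_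
        have := hKodd _ h
        rw [show ((T2 : Ce) : G) = D.t from rfl, D.ht] at this
        exact absurd this (by decide)
      have h' := htK _ hgt'
      rw [show (((⟨g, hg⟩ : Ce) * T2 : Ce) : G) = g * D.t from rfl] at h'
      exact mul_right_cancel (b := D.t) (h'.trans (mul_assoc _ _ _).symm)
  obtain ⟨hu1, hu2, hu3⟩ := hu b
  set x := k * D.t * k⁻¹ with hx
  have hxC : x ∈ Ce := mul_mem (mul_mem hkC htC) (inv_mem hkC)
  have hkt : k * D.t ≠ D.t * k := by
    intro h
    obtain ⟨y, hy, hk'⟩ := hcases k hkC h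
    obtain ⟨i, hi, hi'⟩ := Finset.mem_image.1 (mem_zpowers_iff_mem_range_orderOf.1 hy)
    rw [Finset.mem_range, hq3] at hi
    have hyc : E.f (uM b) * y = y * E.f (uM b) := by
      rcases hk' with rfl | rfl
      · exact hku
      · have := hku
        rw [← mul_assoc, hu3, mul_assoc, mul_assoc] at this
        exact mul_left_cancel this
    have hy1 : y = 1 := by
      rw [← hi'] at hyc ⊢
      have h5 : (E.f (uM b) * q * (E.f (uM b))⁻¹) ^ i = q ^ i := by
        rw [conj_pow, hyc, mul_inv_cancel_right]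
      rw [hu2, inv_pow] at h5
      have h6 : q ^ (2 * i) = 1 := by
        rw [two_mul, pow_add]; nth_rewrite 1 [← h5]; exact inv_mul_cancel _
      have h7 := orderOf_dvd_of_pow_eq_one h6
      rw [hq3] at h7
      have : i = 0 := by omega
      rw [this, pow_zero]
    rw [hy1] at hk'
    rcases hk' with h' | h'
    · exact hk1 h'
    · rw [h', mul_one, D.ht] at hkK
      exact absurd hkK (by decide)
  have hxt : x ≠ D.t := fun h => hkt (mul_inv_eq_iff_eq_mul.1 h)
  have hx2 : orderOf x = 2 := by rw [hx, orderOf_conj_eq, D.ht]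
  set y := D.t * x with hy
  have hyC : y ∈ Ce := mul_mem htC hxC
  have hyodd : Odd (orderOf y) := by
    refine Nat.not_even_iff_odd.1 fun heven => hxt ?_
    obtain ⟨hz2, hzt, hzx⟩ : orderOf (y ^ (orderOf y / 2)) = 2 ∧
        y ^ (orderOf y / 2) * D.t = D.t * y ^ (orderOf y / 2) ∧
        y ^ (orderOf y / 2) * x = x * y ^ (orderOf y / 2) :=
      by
        rw [hy] at heven ⊢
        exact ⟨orderOf_pow_half heven, (commute_pow_half_left D.ht hx2 heven).eq,
          (commute_pow_half_right D.ht hx2 heven).eq⟩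
    have := hinvol _ (pow_mem hyC _) hzt hz2
    rw [this] at hzx
    exact hinvol x hxC hzx.symm hx2
  -- `x` lies in the centralizer of `uM b`
  have hxu : x * E.f (uM b) = E.f (uM b) * x := by
    have hk' : Commute k (E.f (uM b)) := hku.symm
    exact ((hk'.mul_left (show Commute D.t (E.f (uM b)) from hu3.symm)).mul_left hk'.inv_left).eq
  obtain ⟨m, hm⟩ := E.range ((E.gEl b)⁻¹ * x * E.gEl b) (by
    have hg' := E.gEl_t b
    calc (E.gEl b)⁻¹ * x * E.gEl b * D.t
        = (E.gEl b)⁻¹ * (x * (E.gEl b * D.t * (E.gEl b)⁻¹)) * E.gEl b := by group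
      _ = (E.gEl b)⁻¹ * (E.gEl b * D.t * (E.gEl b)⁻¹ * x) * E.gEl b := by rw [hg', hxu]
      _ = D.t * ((E.gEl b)⁻¹ * x * E.gEl b) := by group)
  have hxm : E.gEl b * E.f m * (E.gEl b)⁻¹ = x := by rw [hm]; group
  have hym : E.gEl b * E.f (ttM b * m) * (E.gEl b)⁻¹ = y := by
    rw [hy, ← hxm, map_mul]
    conv_rhs => rw [← E.gEl_tt b]
    group
  refine ⟨b, m, ⟨E.inj ?_, ?_, ?_⟩, ?_⟩
  · rw [map_mul, map_one, hm]
    calc (E.gEl b)⁻¹ * x * E.gEl b * ((E.gEl b)⁻¹ * x * E.gEl b)
        = (E.gEl b)⁻¹ * (x * x) * E.gEl b := by group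
      _ = 1 := by rw [invol_mul_self hx2]; group
  · have hd : orderOf (ttM b * m) ∣ 15 := by
      have h1 : orderOf (ttM b * m) = orderOf y := by
        rw [← hym, orderOf_conj_eq, orderOf_injective E.f E.inj]
      have h2 : orderOf (ttM b * m) ∣ 8 * 15 := by
        have := orderOf_dvd_natCard (ttM b * m)
        rwa [Nat.card_prod, Nat.card_eq_fintype_card, Fintype.card_multiplicative, ZMod.card,
          nat_card_alternatingGroup, Nat.card_eq_fintype_card, Fintype.card_fin] at this
      rw [← h1] at hyodd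
      exact ((Nat.coprime_two_right.2 hyodd).pow_right 3).dvd_of_dvd_mul_left h2
    exact orderOf_dvd_iff_pow_eq_one.1 hd
  · intro h3
    -- an element of order three centralized by `q` and inverted by `t`
    have hy3 : y ^ 3 = 1 := by rw [← hym, conj_pow, ← map_pow, h3, map_one]; group
    have hyq : y ∈ zpowers q := by
      by_contra hyq
      have hc : Commute y q := mem_centralizer_singleton_iff.1 hyC
      have hy3' : orderOf y = 3 := orderOf_eq_prime hy3 fun h => hyq (h ▸ one_mem _)
      let φ := MonoidHom.noncommCoprod (zpowers y).subtype (zpowers q).subtype (fun a b => by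
        obtain ⟨i, hi⟩ := mem_zpowers_iff.1 a.2
        obtain ⟨j, hj⟩ := mem_zpowers_iff.1 b.2
        show Commute (a : G) (b : G)
        rw [← hi, ← hj]
        exact hc.zpow_zpow i j)
      have hdis : _root_.Disjoint (zpowers y).subtype.range (zpowers q).subtype.range := by
        rw [Subgroup.range_subtype, Subgroup.range_subtype, disjoint_iff, eq_bot_iff]
        intro z ⟨hzy, hzq⟩
        rw [Subgroup.mem_bot]
        by_contra hz
        refine hyq ?_
        have hz3 : orderOf z = 3 := ((Nat.dvd_prime Nat.prime_three).1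
          (hy3' ▸ orderOf_dvd_of_mem_zpowers hzy)).resolve_left fun h => hz (orderOf_eq_one_iff.1 h)
        have : zpowers z = zpowers y := Subgroup.eq_of_le_of_card_ge (zpowers_le.2 hzy)
          (by rw [Nat.card_zpowers, Nat.card_zpowers, hy3', hz3])
        exact zpowers_le.2 hzq (this ▸ mem_zpowers y)
      refine h9 ?_
      have := Subgroup.card_dvd_of_injective φ ((MonoidHom.noncommCoprod_injective _ _ _).2
        ⟨Subgroup.subtype_injective _, Subgroup.subtype_injective _, hdis⟩)
      rwa [Nat.card_prod, Nat.card_zpowers, Nat.card_zpowers, hy3', hq3] at this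
    obtain ⟨i, hi⟩ := mem_zpowers_iff.1 hyq
    have hty : D.t * y = y * D.t := by
      rw [← hi]; exact ((show Commute D.t q from htq).zpow_right i).eq
    refine hxt (hinvol x hxC ?_ hx2)
    rw [hy, ← mul_assoc, invol_mul_self D.ht, one_mul, mul_assoc] at hty
    calc x * D.t = D.t * (D.t * (x * D.t)) := by
          rw [← mul_assoc, invol_mul_self D.ht, one_mul]
      _ = D.t * x := by rw [← hty]
  · show E.gEl b * E.f m * (E.gEl b)⁻¹ * q = q * (E.gEl b * E.f m * (E.gEl b)⁻¹)
    rw [hxm]
    exact mem_centralizer_singleton_iff.1 hxC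

/-- The relation for the two representatives of each value of `b`. -/
theorem exists_rep (hcard : Nat.card G = 175560) :
    E.Rel false mGood ∨ E.Rel false mBad0 ∨ E.Rel true mBad1 ∨ E.Rel true mBad2 := by
  obtain ⟨b, m, ⟨h1, h2, h3⟩, hrel⟩ := E.exists_rel hcard
  have hmem : ∀ j : ℕ, E.Rel b ((ttM b * m) ^ j * ttM b) := by
    intro j
    have htt : E.Rel b (ttM b) := by
      show E.gEl b * E.f (ttM b) * (E.gEl b)⁻¹ * _ = _ * (E.gEl b * E.f (ttM b) * (E.gEl b)⁻¹)
      rw [E.gEl_tt, ← E.hι, ← map_mul, ← map_mul, iota_comm]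
    let K : Subgroup Mod := (centralizer ({E.f qM} : Set G)).comap
      ((MulAut.conj (E.gEl b)).toMonoidHom.comp E.f)
    have hK : ∀ n, n ∈ K ↔ E.Rel b n := fun n => by
      rw [Subgroup.mem_comap, mem_centralizer_singleton_iff]; rfl
    exact (hK _).1 (mul_mem (pow_mem (mul_mem ((hK _).2 htt) ((hK _).2 hrel)) j) ((hK _).2 htt))
  cases b with
  | false =>
    obtain ⟨j, hj | hj⟩ := cand_cases_false m h1 h2 h3
    · exact Or.inl (hj ▸ hmem j)
    · exact Or.inr (Or.inl (hj ▸ hmem j))
  | true =>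
    obtain ⟨j, hj | hj⟩ := cand_cases_true m h1 h2 h3
    · exact Or.inr (Or.inr (Or.inl (hj ▸ hmem j)))
    · exact Or.inr (Or.inr (Or.inr (hj ▸ hmem j)))

end Gens

end CfsgLib.Invol.J1Cent
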