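import Cfsg.Agent.Lib.Invol.JankoOneLocal

/-!
The finite facts used to pin down a group of order 175560 with involution centralizer `Z/2 × A₅`
by generators of the centralizer and an element of order 7 normalizing a Sylow 2-subgroup.
-/

set_option autoImplicit false
set_option maxRecDepth 10000
set_option synthInstance.maxSize 8000
set_option synthInstance.maxHeartbeats 200000

namespace CfsgLib.Invol.J1Cent

open Equiv

/-- An element of `A₅` given by a product of two transpositions. -/
def a5Pair (a b c d : Fin 5) (h : Perm.sign (swap a b * swap c d) = 1) : A5 :=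
  ⟨swap a b * swap c d, Perm.mem_alternatingGroup.2 h⟩

/-- The involution generator of `A₅`. -/
def pM : Mod := (1, a5Pair 0 1 3 4 (by decide +kernel))

/-- The generator of order three, normalizing the four-group. -/
def qM : Mod := (1, a5Pair 1 2 2 3 (by decide +kernel))

/-- An involution inverting `qM`. -/
def wM : Mod := (1, a5Pair 0 4 2 3 (by decide +kernel))

/-- The first conjugating element. -/
def cM' : Mod := (1, a5Pair 2 4 4 1 (by decide +kernel))

/-- The action of the element of order seven on the Sylow subgroup. -/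
def sig (w : E8) : E8 :=
  Multiplicative.ofAdd (w.toAdd.2.2, w.toAdd.1 + w.toAdd.2.2, w.toAdd.2.1)

/-- The action of `qM` on the Sylow subgroup. -/
def alp (w : E8) : E8 :=
  Multiplicative.ofAdd (w.toAdd.1, w.toAdd.2.2, w.toAdd.2.1 + w.toAdd.2.2)

/-- The effect of the outer automorphism on the Sylow subgroup. -/
def swapE (w : E8) : E8 := Multiplicative.ofAdd (w.toAdd.1, w.toAdd.2.2, w.toAdd.2.1)

/-- The automorphism of `A₅` given by a transposition. -/
def tauA : A5 ≃* A5 where
  toFun g := ⟨swap 1 2 * (g : Perm (Fin 5)) * swap 1 2, by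
    have h : Perm.sign (g : Perm (Fin 5)) = 1 := Perm.mem_alternatingGroup.1 g.2
    have h12 : Perm.sign (swap (1 : Fin 5) 2) = -1 := Perm.sign_swap (by decide)
    rw [Perm.mem_alternatingGroup, map_mul, map_mul, h, h12]
    rfl⟩
  invFun g := ⟨swap 1 2 * (g : Perm (Fin 5)) * swap 1 2, by
    have h : Perm.sign (g : Perm (Fin 5)) = 1 := Perm.mem_alternatingGroup.1 g.2
    have h12 : Perm.sign (swap (1 : Fin 5) 2) = -1 := Perm.sign_swap (by decide)
    rw [Perm.mem_alternatingGroup, map_mul, map_mul, h, h12]
    rfl⟩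
  left_inv g := Subtype.ext (by simp [mul_assoc])
  right_inv g := Subtype.ext (by simp [mul_assoc])
  map_mul' g h := Subtype.ext (by simp [mul_assoc])

/-- The automorphism of the model given by a transposition. -/
def tauM : Mod ≃* Mod := (MulEquiv.refl _).prodCongr tauA

theorem tauM_facts : tauM iota = iota ∧ tauM qM = qM * qM ∧
    ∀ w, tauM (emb w) = emb (swapE w) := by decide +kernel

theorem qM_facts : qM ^ 3 = 1 ∧ qM ≠ 1 ∧ ∀ w, qM * emb w * qM⁻¹ = emb (alp w) := by
  decide +kernel

theorem emb_centralizer : ∀ m : Mod, (∀ w : E8, m * emb w = emb w * m) → ∃ w, emb w = m := by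
  decide +kernel

/-- The linear map with given images of the basis. -/
def lin3 (x y z : E8) (w : E8) : E8 :=
  x ^ w.toAdd.1.val * y ^ w.toAdd.2.1.val * z ^ w.toAdd.2.2.val

theorem lin3_basis : ∀ w : E8, w = lin3 (Multiplicative.ofAdd (1, 0, 0))
    (Multiplicative.ofAdd (0, 1, 0)) (Multiplicative.ofAdd (0, 0, 1)) w := by decide +kernel

/-- An element of order seven normalized by `α` is a power of `σ` or of its twist. -/
theorem seven_cases_aux : ∀ x ∈ (Finset.univ : Finset E8), ∀ y ∈ (Finset.univ : Finset E8),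
    ∀ z ∈ (Finset.univ : Finset E8),
    (∀ w, (lin3 x y z)^[7] w = w) → (lin3 x y z ≠ id) →
    (∃ k : Fin 7, ∀ w, alp (lin3 x y z w) = (lin3 x y z)^[k] (alp w)) →
    ∃ j : Fin 7, (∀ w, (lin3 x y z)^[j] w = sig w) ∨
      (∀ w, swapE ((lin3 x y z)^[j] (swapE w)) = sig w) := by
  decide +kernel

theorem sig_exponent : ∀ k : Fin 7, (∀ w, alp (sig w) = sig^[k] (alp w)) → k = 2 := by
  decide +kernel

theorem swapE_swapE : ∀ w, swapE (swapE w) = w := by decide +kernel

theorem sig_ne : sig e0 ≠ e0 := by decide +kernel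

theorem qM_cen : ∀ m : Mod, m * qM = qM * m →
    m = 1 ∨ m = qM ∨ m = qM * qM ∨ m = iota ∨ m = iota * qM ∨ m = iota * (qM * qM) := by
  decide +kernel

theorem wM_facts : wM * wM = 1 ∧ wM * qM * wM⁻¹ = qM⁻¹ ∧ iota * wM = wM * iota ∧
    wM ≠ 1 ∧ wM ≠ iota := by decide +kernel

/-- The conjugating data of the two involutions inverting `qM`: the exponent. -/
def cIdx (b : Bool) : ℕ := bif b then 6 else 2

/-- The two involutions inverting `qM`. -/
def uM (b : Bool) : Mod := bif b then iota * wM else wM

theorem uM_facts : ∀ b, cM' * emb (sig^[cIdx b] e0) * cM'⁻¹ = uM b := by decide +kernel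

/-- The centralized involution seen from the conjugate centralizer. -/
def ttM (b : Bool) : Mod := emb (sig^[7 - cIdx b] e0)

theorem cM'_iota : cM' * iota * cM'⁻¹ = iota := by decide +kernel

theorem sig_seven : ∀ w, sig^[7] w = w := by decide +kernel

/-- The candidates for the further involution. -/
def IsCand (b : Bool) (m : Mod) : Prop :=
  m * m = 1 ∧ (ttM b * m) ^ 15 = 1 ∧ (ttM b * m) ^ 3 ≠ 1

/-- The representative of the realized class of candidates. -/
def mGood : Mod := (Multiplicative.ofAdd 1, a5Pair 0 2 3 4 (by decide +kernel))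

/-- The representative of the other class for `false`. -/
def mBad0 : Mod := (Multiplicative.ofAdd 1, a5Pair 0 1 3 4 (by decide +kernel))

/-- A representative of a class for `true`. -/
def mBad1 : Mod := (1, a5Pair 0 2 1 4 (by decide +kernel))

/-- The representative of the last class. -/
def mBad2 : Mod := (1, a5Pair 1 3 2 4 (by decide +kernel))

theorem cand_cases_false : ∀ m : Mod, m * m = 1 → (ttM false * m) ^ 15 = 1 →
    (ttM false * m) ^ 3 ≠ 1 →
    ∃ j : Fin 5, (ttM false * m) ^ (j : ℕ) * ttM false = mGood ∨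
      (ttM false * m) ^ (j : ℕ) * ttM false = mBad0 := by decide +kernel

theorem cand_cases_true : ∀ m : Mod, m * m = 1 → (ttM true * m) ^ 15 = 1 →
    (ttM true * m) ^ 3 ≠ 1 →
    ∃ j : Fin 5, (ttM true * m) ^ (j : ℕ) * ttM true = mBad1 ∨
      (ttM true * m) ^ (j : ℕ) * ttM true = mBad2 := by decide +kernel

end CfsgLib.Invol.J1Cent
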