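import Cfsg.Agent.Lib.Invol.JankoOneWeakModel
import Cfsg.Agent.Lib.Invol.JankoOneAltModel
import Mathlib.GroupTheory.Sylow
import Mathlib.GroupTheory.Perm.Cycle.Type

/-!
An involution `t`, central in a Sylow 2-subgroup, whose weak closure in its centralizer is
`Z/2 × A₅`: fusion in the elementary abelian group of order eight and the structure of `C(t)`.
-/

set_option autoImplicit false
set_option synthInstance.maxSize 8000

namespace CfsgLib.Invol.J1Cent.Weak

open Cfsg Subgroup CfsgLib.Invol.J1Cent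

universe u

/-- The configuration. -/
structure Hyp (G : Type u) [Group G] [Finite G] where
  t : G
  f : Mod →* G
  inj : Function.Injective f
  hι : f iota = t
  hW : ∀ g : G, g * t * g⁻¹ * t = t * (g * t * g⁻¹) → ∃ m, f m = g * t * g⁻¹
  hgen : f.range ≤ closure {x : G | IsConj t x ∧ x * t = t * x}
  S : Sylow 2 G
  hES : ∀ w : E8, f (emb w) ∈ (S : Subgroup G)
  hSt : ∀ s ∈ (S : Subgroup G), s * t = t * s

theorem card_comap' {A : Type*} [Group A] {B : Type*} [Group B] {φ : A →* B}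
    (h : Function.Injective φ) {K : Subgroup B} (hK : K ≤ φ.range) :
    Nat.card (K.comap φ) = Nat.card K := by
  rw [← Subgroup.card_map_of_injective (K := K.comap φ) h, Subgroup.map_comap_eq_self hK]

/-- Inner twists of an embedding of the model. -/
theorem exists_conj_emb_range (K : Subgroup Mod) (h : Nat.card K = 8) :
    ∃ r : Mod, ∀ w : E8, r * emb w * r⁻¹ ∈ K := by
  have : Fact (Nat.Prime 2) := ⟨Nat.prime_two⟩
  have hf : (Nat.card Mod).factorization 2 = 3 := by
    rw [card_mod, show (120 : ℕ) = 2 ^ 3 * 15 from rfl,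
      Nat.factorization_mul (by norm_num) (by norm_num), Finsupp.add_apply,
      Nat.prime_two.factorization_pow, Finsupp.single_eq_same,
      Nat.factorization_eq_zero_of_not_dvd (by norm_num)]
  let P : Sylow 2 Mod := Sylow.ofCard K (by rw [h, hf]; rfl)
  have hc : Nat.card emb.range = 8 := by
    rw [← Nat.card_congr (MonoidHom.ofInjective emb_injective).toEquiv, Nat.card_eq_fintype_card]
    rfl
  obtain ⟨r, hr⟩ := exists_conj_mem_sylow P (H := emb.range) (IsPGroup.of_card (n := 3) hc)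
  exact ⟨r, fun w => hr _ ⟨w, rfl⟩⟩

namespace Hyp

variable {G : Type u} [Group G] [Finite G] (D : Hyp G)

include D

theorem ht : orderOf D.t = 2 := by
  rw [← D.hι, orderOf_injective D.f D.inj]
  have : Fact (Nat.Prime 2) := ⟨Nat.prime_two⟩
  exact orderOf_eq_prime (by decide +kernel) (by decide +kernel)

/-- The elementary abelian subgroup. -/
def em : E8 →* G := D.f.comp emb

/-- The normalizer of the elementary abelian subgroup. -/
abbrev NE : Subgroup G := normalizer (D.em.range : Set G)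

/-- The centralizer of the elementary abelian subgroup. -/
abbrev QE : Subgroup G := centralizer (D.em.range : Set G)

theorem em_e0 : D.em e0 = D.t := by
  show D.f (emb e0) = D.t
  rw [emb_e0, D.hι]

theorem em_injective : Function.Injective D.em := D.inj.comp emb_injective

theorem card_em : Nat.card D.em.range = 8 := by
  rw [← Nat.card_congr (MonoidHom.ofInjective D.em_injective).toEquiv, Nat.card_eq_fintype_card]
  rfl

theorem f_comm (m : Mod) : D.f m * D.t = D.t * D.f m := by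
  rw [← D.hι, ← map_mul, ← map_mul, iota_comm]

theorem conj_in_range {x : G} (h1 : IsConj D.t x) (h2 : x * D.t = D.t * x) : x ∈ D.f.range := by
  obtain ⟨g, rfl⟩ := isConj_iff.1 h1
  exact D.hW g h2

theorem range_eq : D.f.range = closure {x : G | IsConj D.t x ∧ x * D.t = D.t * x} :=
  le_antisymm D.hgen ((closure_le _).2 fun _ hx => D.conj_in_range hx.1 hx.2)

theorem conj_range {c : G} (hc : c * D.t = D.t * c) {x : G} (hx : x ∈ D.f.range) :
    c * x * c⁻¹ ∈ D.f.range := by
  rw [D.range_eq] at hx ⊢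
  induction hx using closure_induction with
  | mem y hy =>
    refine subset_closure ⟨hy.1.trans (isConj_iff.2 ⟨c, rfl⟩), ?_⟩
    have hci : c⁻¹ * D.t = D.t * c⁻¹ := (show Commute c D.t from hc).inv_left.eq
    calc c * y * c⁻¹ * D.t = c * (y * (c⁻¹ * D.t)) := by group
      _ = c * (y * D.t) * c⁻¹ := by rw [hci]; group
      _ = (c * D.t) * y * c⁻¹ := by rw [hy.2]; group
      _ = D.t * (c * y * c⁻¹) := by rw [hc]; group
  | one => simpa using one_mem _
  | mul y z _ _ hy hz =>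
    rw [show c * (y * z) * c⁻¹ = c * y * c⁻¹ * (c * z * c⁻¹) by group]
    exact mul_mem hy hz
  | inv y _ hy =>
    rw [show c * y⁻¹ * c⁻¹ = (c * y * c⁻¹)⁻¹ by group]
    exact inv_mem hy

theorem conj_f {c : G} (hc : c * D.t = D.t * c) (m : Mod) : ∃ m', D.f m' = c * D.f m * c⁻¹ :=
  D.conj_range hc ⟨m, rfl⟩

theorem odd_class : Odd (Nat.card {x : G | IsConj D.t x}) := by
  have h := CfsgLib.Invol.card_class_mul_card_centralizer D.t
  have hle : (D.S : Subgroup G) ≤ centralizer ({D.t} : Set G) := fun s hs =>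
    mem_centralizer_singleton_iff.2 (D.hSt s hs)
  refine Nat.not_even_iff_odd.1 fun he => D.S.not_dvd_index ?_
  have hi : (centralizer ({D.t} : Set G)).index = Nat.card {x : G | IsConj D.t x} := by
    have h2 := (centralizer ({D.t} : Set G)).card_mul_index
    rw [← h, mul_comm (Nat.card {x : G // IsConj D.t x})] at h2
    exact Nat.eq_of_mul_eq_mul_left Nat.card_pos h2
  exact ((even_iff_two_dvd.1 he).trans (hi ▸ dvd_rfl)).trans (index_dvd_of_le hle)

open Classical in
theorem odd_fix : Odd (Nat.card {x : G // IsConj D.t x ∧ x * D.t = D.t * x}) := by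
  let Xs := {x : G | IsConj D.t x}
  have htt := invol_mul_self D.ht
  let σ : Equiv.Perm Xs :=
    { toFun := fun x => ⟨D.t * x.1 * D.t, x.2.trans (isConj_iff.2 ⟨D.t, by rw [invol_inv D.ht]⟩)⟩
      invFun := fun x => ⟨D.t * x.1 * D.t, x.2.trans (isConj_iff.2 ⟨D.t, by rw [invol_inv D.ht]⟩)⟩
      left_inv := fun x => Subtype.ext (by simp [mul_assoc, htt]; simp [← mul_assoc, htt])
      right_inv := fun x => Subtype.ext (by simp [mul_assoc, htt]; simp [← mul_assoc, htt]) }
  have hσ : σ ^ 2 ^ 1 = 1 := by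
    ext x
    simp only [pow_one, pow_two, Equiv.Perm.mul_apply, Equiv.Perm.one_apply]
    show D.t * (D.t * x.1 * D.t) * D.t = x.1
    simp [mul_assoc, htt]; simp [← mul_assoc, htt]
  have : Fact (Nat.Prime 2) := ⟨Nat.prime_two⟩
  have : Fintype Xs := Fintype.ofFinite _
  have hmod := Equiv.Perm.card_compl_support_modEq (p := 2) (n := 1) hσ
  have hfix : Nat.card {x : G // IsConj D.t x ∧ x * D.t = D.t * x} = σ.supportᶜ.card := by
    rw [← Nat.card_eq_finsetCard]
    refine Nat.card_congr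
      { toFun := fun x => ⟨⟨x.1, x.2.1⟩, by
          rw [Finset.mem_compl, Equiv.Perm.mem_support, not_not]
          exact Subtype.ext (by
            show D.t * x.1 * D.t = x.1
            rw [← x.2.2, mul_assoc, htt, mul_one])⟩
        invFun := fun x => ⟨x.1.1, x.1.2, by
          have hx := x.2
          rw [Finset.mem_compl, Equiv.Perm.mem_support, not_not] at hx
          have h : D.t * x.1.1 * D.t = x.1.1 := congrArg Subtype.val hx
          calc x.1.1 * D.t = D.t * x.1.1 * D.t * D.t := by rw [h]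
            _ = D.t * x.1.1 := by rw [mul_assoc, htt, mul_one]⟩
        left_inv := fun _ => rfl
        right_inv := fun _ => rfl }
  have ho : Odd (Nat.card Xs) := D.odd_class
  rw [hfix, Nat.odd_iff]
  rw [Nat.odd_iff, Nat.card_eq_fintype_card] at ho
  unfold Nat.ModEq at hmod
  omega

/-- Every involution of the weak closure is a conjugate of `t`. -/
theorem isConj_f {m : Mod} (h2 : m * m = 1) (h1 : m ≠ 1) : IsConj D.t (D.f m) := by
  classical
  set O := Finset.univ.filter fun m : Mod => IsConj D.t (D.f m) with hO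
  have hmemO : ∀ m, m ∈ O ↔ IsConj D.t (D.f m) := fun m => by simp [hO]
  have hOc : O.card % 2 = 1 := by
    rw [← Nat.odd_iff]
    have heq : O.card = Nat.card {x : G // IsConj D.t x ∧ x * D.t = D.t * x} := by
      rw [← Nat.card_eq_finsetCard]
      refine Nat.card_eq_of_bijective
        (fun m : O => ⟨D.f m, (hmemO _).1 m.2, D.f_comm _⟩) ⟨fun a b h =>
          Subtype.ext (D.inj (congrArg Subtype.val h)), fun x => ?_⟩
      obtain ⟨n, hn⟩ := D.conj_in_range x.2.1 x.2.2
      exact ⟨⟨n, (hmemO _).2 (hn ▸ x.2.1)⟩, Subtype.ext hn⟩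
    exact heq ▸ D.odd_fix
  have hinv : ∀ n ∈ O, n * n = 1 ∧ n ≠ 1 := by
    intro n hn
    have hn2 : orderOf (D.f n) = 2 := (orderOf_eq_of_isConj ((hmemO n).1 hn)).trans D.ht
    refine ⟨D.inj ?_, fun h => invol_ne_one hn2 (by rw [h, map_one])⟩
    rw [map_mul, map_one, invol_mul_self hn2]
  have hrep : ∀ n ∈ O, n ≠ iota → invRep (invTag n) ∈ O := by
    intro n hn hne
    obtain ⟨r, hr⟩ := ((invol_classes n (hinv n hn).1).resolve_left (hinv n hn).2).resolve_left hne
    refine (hmemO _).2 (((hmemO n).1 hn).trans (isConj_iff.2 ⟨(D.f r)⁻¹, ?_⟩))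
    conv_lhs => rw [← hr]
    rw [map_mul, map_mul, map_inv]
    group
  have hiota : iota ∈ O := (hmemO _).2 (by rw [D.hι])
  have hcls : ∀ b, invRep b ∈ O → ∀ n : Mod, n * n = 1 → n ≠ 1 → n ≠ iota → invTag n = b →
      n ∈ O := by
    intro b hb n hn hn1 hni hnb
    obtain ⟨r, hr⟩ := ((invol_classes n hn).resolve_left hn1).resolve_left hni
    rw [hnb] at hr
    refine (hmemO _).2 (((hmemO _).1 hb).trans (isConj_iff.2 ⟨D.f r, ?_⟩))
    rw [← hr, map_mul, map_mul, map_inv]
  by_cases hb : ∀ b, invRep b ∈ O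
  · by_cases hi : m = iota
    · rw [hi, D.hι]
    · exact (hmemO m).1 (hcls _ (hb _) m h2 h1 hi rfl)
  exfalso
  push Not at hb
  obtain ⟨b, hb⟩ := hb
  by_cases hb' : invRep (!b) ∈ O
  · have heq : O = Finset.univ.filter fun n : Mod => n * n = 1 ∧ n ≠ 1 ∧ (n = iota ∨ invTag n = !b) := by
      ext n
      simp only [Finset.mem_filter, Finset.mem_univ, true_and]
      constructor
      · intro hn
        refine ⟨(hinv n hn).1, (hinv n hn).2, ?_⟩
        by_cases hni : n = iota
        · exact Or.inl hni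
        · refine Or.inr ?_
          have := hrep n hn hni
          cases h : invTag n <;> cases b <;> simp_all
      · rintro ⟨hn, hn1, h⟩
        by_cases hni : n = iota
        · exact hni ▸ hiota
        · exact hcls _ hb' n hn hn1 hni (h.resolve_left hni)
    rw [heq, card_invols] at hOc
    norm_num at hOc
  · have hsub : D.f.range ≤ zpowers D.t := by
      refine D.hgen.trans ((closure_le _).2 fun x hx => ?_)
      obtain ⟨n, rfl⟩ := D.conj_in_range hx.1 hx.2
      have hn := (hmemO n).2 hx.1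
      by_cases hni : n = iota
      · rw [hni, D.hι]; exact mem_zpowers _
      · exfalso
        have := hrep n hn hni
        cases h : invTag n <;> cases b <;> simp_all
    have hle := Subgroup.card_le_of_le hsub
    rw [← Nat.card_congr (MonoidHom.ofInjective D.inj).toEquiv, card_mod, Nat.card_zpowers,
      D.ht] at hle
    norm_num at hle

theorem isConj_em {w : E8} (hw : w ≠ 1) : IsConj D.t (D.em w) :=
  D.isConj_f (by rw [← map_mul, ← pow_two, e8_sq, map_one]) fun h => hw (emb_injective (by rw [h, map_one]))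

theorem em_mem_S (w : E8) : D.em w ∈ (D.S : Subgroup G) := D.hES w

/-- Conjugates of `t` in the Sylow subgroup lie in the elementary abelian group. -/
theorem conj_mem_S {x : G} (hx : IsConj D.t x) (hxS : x ∈ (D.S : Subgroup G)) :
    ∃ w, D.em w = x := by
  have : Fact (Nat.Prime 2) := ⟨Nat.prime_two⟩
  obtain ⟨m, rfl⟩ := D.conj_in_range hx (D.hSt x hxS)
  set M2 := (D.S : Subgroup G).comap D.f
  obtain ⟨k, hk⟩ := IsPGroup.iff_card.1 (D.S.2.comap_of_injective D.f D.inj : IsPGroup 2 M2)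
  have hle : emb.range ≤ M2 := by rintro _ ⟨w, rfl⟩; exact D.hES w
  have hc : Nat.card emb.range = 8 := by
    rw [← Nat.card_congr (MonoidHom.ofInjective emb_injective).toEquiv, Nat.card_eq_fintype_card]
    rfl
  have hk3 : k ≤ 3 := by
    by_contra h
    have h1 := (pow_dvd_pow 2 (show 4 ≤ k by omega)).trans (hk ▸ card_subgroup_dvd_card M2)
    rw [card_mod] at h1
    norm_num at h1
  have heq : emb.range = M2 := eq_of_le_of_card_ge hle (by
    rw [hk, hc]; exact (Nat.pow_le_pow_right (by norm_num) hk3))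
  obtain ⟨w, hw⟩ : m ∈ emb.range := heq ▸ (show m ∈ M2 from hxS)
  exact ⟨w, by rw [← hw]; rfl⟩

theorem exists_fusion {w : E8} (hw : w ≠ 1) : ∃ n ∈ D.NE, n * D.t * n⁻¹ = D.em w := by
  obtain ⟨g, hg⟩ := isConj_iff.1 (D.isConj_em hw)
  have hmem : ∀ v, g⁻¹ * D.em v * g ∈ D.f.range := by
    intro v
    by_cases hv : v = 1
    · rw [hv, map_one]; simpa using one_mem _
    refine D.conj_in_range ((D.isConj_em hv).trans (isConj_iff.2 ⟨g⁻¹, by rw [inv_inv]⟩)) ?_
    have hgt : D.t = g⁻¹ * D.em w * g := by rw [← hg]; group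
    conv_lhs => arg 2; rw [hgt]
    conv_rhs => arg 1; rw [hgt]
    calc g⁻¹ * D.em v * g * (g⁻¹ * D.em w * g) = g⁻¹ * (D.em v * D.em w) * g := by group
      _ = g⁻¹ * (D.em w * D.em v) * g := by rw [← map_mul, ← map_mul, mul_comm v]
      _ = g⁻¹ * D.em w * g * (g⁻¹ * D.em v * g) := by group
  let K : Subgroup Mod := (D.em.range.map (MulAut.conj g⁻¹).toMonoidHom).comap D.f
  have hK : Nat.card K = 8 := by
    rw [card_comap' D.inj]
    · rw [← Nat.card_congr (D.em.range.equivMapOfInjective _ (MulEquiv.injective _)).toEquiv, D.card_em]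
    · rintro _ ⟨_, ⟨v, rfl⟩, rfl⟩
      simpa only [MulEquiv.coe_toMonoidHom, MulAut.conj_apply, inv_inv] using hmem v
  obtain ⟨r, hr⟩ := exists_conj_emb_range K hK
  refine ⟨g * D.f r, ?_, ?_⟩
  · have himg : ∀ v, ∃ v', g * D.f r * D.em v * (g * D.f r)⁻¹ = D.em v' := by
      intro v
      obtain ⟨_, ⟨v', rfl⟩, hv'⟩ := hr v
      refine ⟨v', ?_⟩
      rw [MulEquiv.coe_toMonoidHom, MulAut.conj_apply, inv_inv, map_mul, map_mul, map_inv] at hv'
      rw [show g * D.f r * D.em v * (g * D.f r)⁻¹ = g * (D.f r * D.f (emb v) * (D.f r)⁻¹) * g⁻¹ by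
        show g * D.f r * D.f (emb v) * (g * D.f r)⁻¹ = _; group, ← hv']
      group
    choose φ hφ using himg
    have hinj : Function.Injective φ := fun a b h => D.em_injective (by
      have := (hφ a).trans ((congrArg D.em h).trans (hφ b).symm)
      exact mul_left_cancel (mul_right_cancel this))
    refine mem_normalizer_iff.2 fun x => ⟨?_, ?_⟩
    · rintro ⟨v, rfl⟩
      exact ⟨φ v, (hφ v).symm⟩
    · rintro ⟨v', hv'⟩
      obtain ⟨v, hv⟩ := (Finite.surjective_of_injective hinj) v'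
      refine ⟨v, ?_⟩
      have := hφ v
      rw [hv, hv'] at this
      exact mul_left_cancel (mul_right_cancel this)
  · rw [← hg]
    calc g * D.f r * D.t * (g * D.f r)⁻¹ = g * (D.f r * D.t) * (D.f r)⁻¹ * g⁻¹ := by group
      _ = g * D.t * g⁻¹ := by rw [D.f_comm]; group

theorem exists_lin {n : G} (hn : n ∈ D.NE) :
    ∃ x y z, (∀ w, n * D.em w * n⁻¹ = D.em (lin3 x y z w)) ∧ Function.Injective (lin3 x y z) := by
  have himg : ∀ v, ∃ v', n * D.em v * n⁻¹ = D.em v' := fun v => by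
    obtain ⟨v', hv'⟩ := (mem_normalizer_iff.1 hn _).1 ⟨v, rfl⟩
    exact ⟨v', hv'.symm⟩
  choose φ hφ using himg
  have hmul : ∀ v v', φ (v * v') = φ v * φ v' := fun v v' => D.em_injective (by
    rw [map_mul D.em (φ v), ← hφ, ← hφ, ← hφ, map_mul]; group)
  have hlin : φ = lin3 (φ (Multiplicative.ofAdd (1, 0, 0))) (φ (Multiplicative.ofAdd (0, 1, 0)))
      (φ (Multiplicative.ofAdd (0, 0, 1))) := funext fun w => by
    conv_lhs => rw [lin3_basis w]
    show MonoidHom.mk' φ hmul _ = _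
    simp only [lin3, map_mul, map_pow]
    rfl
  refine ⟨_, _, _, fun w => (hφ w).trans (congrArg D.em (congrFun hlin w)), ?_⟩
  rw [← hlin]
  intro a b h
  refine D.em_injective (mul_left_cancel (a := n) (mul_right_cancel (b := n⁻¹) ?_))
  rw [hφ, hφ, h]

theorem iterate_em {n : G} {L : E8 → E8} (h : ∀ w, n * D.em w * n⁻¹ = D.em (L w)) (k : ℕ) :
    ∀ w, n ^ k * D.em w * (n ^ k)⁻¹ = D.em (L^[k] w) := by
  induction k with
  | zero => intro w; simp
  | succ k ih =>
    intro w
    rw [Function.iterate_succ_apply', ← h, ← ih, pow_succ']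
    group

/-- Elements normalizing the group and fixing `t` preserve the hyperplane inside `A₅`. -/
theorem stab_lin {n : G} (hn : n ∈ D.NE) (hnt : n * D.t = D.t * n) :
    ∃ y z, inV y ∧ inV z ∧ (∀ w, n * D.em w * n⁻¹ = D.em (lin3 e0 y z w)) ∧
      (∀ w, inV w → inV (lin3 e0 y z w)) ∧ Function.Injective (lin3 e0 y z) := by
  obtain ⟨x, y, z, h, hinj⟩ := D.exists_lin hn
  have hx : x = e0 := D.em_injective (by
    have := h e0
    rw [D.em_e0, hnt, mul_inv_cancel_right] at this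
    exact (congrArg D.em ((by decide +kernel : ∀ x y z : E8, x = lin3 x y z e0) x y z)).trans
      (this.symm.trans D.em_e0.symm))
  subst hx
  have hV : ∀ w, inV w → inV (lin3 e0 y z w) := by
    intro w hw
    obtain ⟨a, ha, hb⟩ := inV_product w hw
    obtain ⟨a', ha'⟩ := D.conj_f hnt a
    have h15 : a' ^ 15 = 1 := D.inj (by rw [map_pow, ha', conj_pow, ← map_pow, ha, map_one]; group)
    have hb15 : (a' * emb (lin3 e0 y z w)) ^ 15 = 1 := D.inj (by
      rw [map_pow, map_mul, ha', show D.f (emb (lin3 e0 y z w)) = D.em (lin3 e0 y z w) from rfl,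
        ← h w, map_one]
      rw [show n * D.f a * n⁻¹ * (n * D.em w * n⁻¹) = n * D.f (a * emb w) * n⁻¹ by
        rw [map_mul]; show _ = n * (D.f a * D.em w) * n⁻¹; group, conj_pow, ← map_pow, hb, map_one]
      group)
    have h1 := fst_eq_one_of_pow _ (congrArg Prod.fst h15 : a'.1 ^ 15 = 1)
    have h2 := fst_eq_one_of_pow _ (congrArg Prod.fst hb15 : (a'.1 * (emb (lin3 e0 y z w)).1) ^ 15 = 1)
    rw [Prod.fst_mul, h1, one_mul] at h2
    exact h2
  have hy : lin3 e0 y z a0 = y := (by decide +kernel : ∀ y z : E8, lin3 e0 y z a0 = y) y z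
  have hz : lin3 e0 y z (Multiplicative.ofAdd (0, 0, 1)) = z :=
    (by decide +kernel : ∀ y z : E8, lin3 e0 y z (Multiplicative.ofAdd (0, 0, 1)) = z) y z
  exact ⟨y, z, hy ▸ hV a0 a0_ne.2.2, hz ▸ hV _ (by decide), h, hV, hinj⟩

theorem em_comm (v w : E8) : D.em v * D.em w = D.em w * D.em v := by
  rw [← map_mul, ← map_mul, mul_comm]

theorem conj_mem_S' {n : G} (hn : n ∈ (D.S : Subgroup G)) : n ∈ D.NE := by
  refine mem_normalizer_iff.2 fun x => ⟨?_, ?_⟩
  · rintro ⟨w, rfl⟩
    by_cases hw : w = 1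
    · exact ⟨1, by rw [hw, map_one]; group⟩
    exact D.conj_mem_S ((D.isConj_em hw).trans (isConj_iff.2 ⟨n, rfl⟩))
      (mul_mem (mul_mem hn (D.hES w)) (inv_mem hn))
  · rintro ⟨w, hw⟩
    by_cases hw1 : w = 1
    · rw [hw1, map_one] at hw
      exact ⟨1, by rw [map_one, conj_eq_one_iff.1 hw.symm]⟩
    have hx : x = n⁻¹ * D.em w * n := by rw [hw]; group
    rw [hx]
    exact D.conj_mem_S ((D.isConj_em hw1).trans (isConj_iff.2 ⟨n⁻¹, by rw [inv_inv]⟩))
      (mul_mem (mul_mem (inv_mem hn) (D.hES w)) hn)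

theorem not_exists_fixed (y z : E8) (hy : inV y) (hz : inV z)
    (h8 : ∀ w, (lin3 e0 y z)^[8] w = w) :
    ∃ u : E8, u ≠ 1 ∧ inV u ∧ lin3 e0 y z u = u := by
  have aux : ∀ y ∈ (Finset.univ : Finset E8), ∀ z ∈ (Finset.univ : Finset E8), inV y → inV z →
      (∀ w, (lin3 e0 y z)^[8] w = w) → ∃ u : E8, u ≠ 1 ∧ inV u ∧ lin3 e0 y z u = u := by
    decide +kernel
  exact aux y (Finset.mem_univ _) z (Finset.mem_univ _) hy hz h8

theorem mem_QE {q : G} : q ∈ D.QE ↔ ∀ w, q * D.em w = D.em w * q := by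
  rw [mem_centralizer_iff]
  exact ⟨fun h w => (h _ ⟨w, rfl⟩).symm, by rintro h _ ⟨w, rfl⟩; exact (h w).symm⟩

/-- The Sylow subgroup centralizes the elementary abelian group. -/
theorem S_le_QE : (D.S : Subgroup G) ≤ D.QE := by
  intro s hs
  obtain ⟨y, z, hy, hz, h, hV, -⟩ := D.stab_lin (D.conj_mem_S' hs) (D.hSt s hs)
  obtain ⟨k, hk⟩ := D.S.2 ⟨s, hs⟩
  have hk' : s ^ 2 ^ k = 1 := by simpa using congrArg Subtype.val hk
  set L := lin3 e0 y z with hL
  have hLk : ∀ w, L^[2 ^ k] w = w := fun w => D.em_injective (by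
    rw [← D.iterate_em h, hk']; group)
  have h8 : ∀ w, L^[8] w = w := by
    have aux : ∀ y ∈ (Finset.univ : Finset E8), ∀ z ∈ (Finset.univ : Finset E8), inV y → inV z →
        Function.Injective (lin3 e0 y z) →
        (∀ w, (lin3 e0 y z)^[8] w = w) ∨ ((∀ w, (lin3 e0 y z)^[3] w = w) ∧
          ∀ w, inV w → w ≠ 1 → lin3 e0 y z w ≠ w) := by decide +kernel
    rcases aux y (Finset.mem_univ _) z (Finset.mem_univ _) hy hz (fun a b hab => D.em_injective
        (mul_left_cancel (a := s) (mul_right_cancel (b := s⁻¹) (by rw [h, h]; exact congrArg D.em hab)))) with h8 | ⟨h3, hne⟩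
    · exact h8
    · exfalso
      have hmod : ∀ j : ℕ, 2 ^ j % 3 = 1 ∨ 2 ^ j % 3 = 2 := by
        intro j
        induction j with
        | zero => simp
        | succ j ih => rw [pow_succ]; omega
      have e : L^[2 ^ k % 3] a0 = a0 := by
        have hper : ∀ j w, L^[3 * j] w = w := by
          intro j
          induction j with
          | zero => intro w; rfl
          | succ j ih => intro w; rw [Nat.mul_succ, Function.iterate_add_apply, h3, ih]
        have := hLk a0
        rwa [← Nat.mod_add_div (2 ^ k) 3, Function.iterate_add_apply, hper] at this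
      rcases hmod k with hm | hm <;> rw [hm] at e
      · exact hne a0 a0_ne.2.2 a0_ne.1 e
      · refine hne a0 a0_ne.2.2 a0_ne.1 ?_
        have h' := h3 a0
        rwa [show (3 : ℕ) = 1 + 2 from rfl, Function.iterate_add_apply, e] at h'
  obtain ⟨u, hu1, huV, hu⟩ := D.not_exists_fixed y z hy hz h8
  obtain ⟨n, hn, hnu⟩ := D.exists_fusion hu1
  obtain ⟨x', y', z', h', -⟩ := D.exists_lin hn
  obtain ⟨p, q, r, hp, -⟩ := D.exists_lin (inv_mem hn)
  have hs' : n⁻¹ * s * n * D.t = D.t * (n⁻¹ * s * n) := by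
    have hsu : s * D.em u = D.em u * s := mul_inv_eq_iff_eq_mul.1 ((h u).trans (congrArg D.em hu))
    rw [show D.t = n⁻¹ * D.em u * n by rw [← hnu]; group]
    calc n⁻¹ * s * n * (n⁻¹ * D.em u * n) = n⁻¹ * (s * D.em u) * n := by group
      _ = _ := by rw [hsu]; group
  obtain ⟨y₂, z₂, -, -, h₂, hV₂, -⟩ := D.stab_lin (n := n⁻¹ * s * n)
    (mul_mem (mul_mem (inv_mem hn) (D.conj_mem_S' hs)) hn) hs'
  -- the functional cutting out the conjugate hyperplane
  have hcoord : ∀ (p q r w : E8), (lin3 p q r w).toAdd.1 =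
      p.toAdd.1 * w.toAdd.1 + q.toAdd.1 * w.toAdd.2.1 + r.toAdd.1 * w.toAdd.2.2 := by
    decide +kernel
  let c : E8 := Multiplicative.ofAdd (p.toAdd.1, q.toAdd.1, r.toAdd.1)
  have hcu : lin3 p q r u = e0 := D.em_injective (by
    rw [← hp, ← hnu, D.em_e0]; group)
  have hpres : ∀ w, (lin3 p q r w).toAdd.1 = 0 → (lin3 p q r (L w)).toAdd.1 = 0 := by
    intro w hw
    have e : lin3 p q r (L w) = lin3 e0 y₂ z₂ (lin3 p q r w) := D.em_injective (by
      rw [← h₂, ← hp, ← hp, ← h w]; group)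
    rw [e]
    exact hV₂ _ hw
  have hid := transvection_aux y (Finset.mem_univ _) z (Finset.mem_univ _) c (Finset.mem_univ _) u
    (Finset.mem_univ _) hy hz huV hu1 h8 hu
    (by
      have := hcoord p q r u
      rw [hcu] at this
      exact this.symm)
    (fun w hw => by
      have h1 := hpres w (by rw [hcoord]; exact hw)
      rw [hcoord] at h1
      exact h1)
  rw [D.mem_QE]
  intro w
  exact mul_inv_eq_iff_eq_mul.1 ((h w).trans (congrArg D.em (hid w)))

/-- A 2-subgroup containing the elementary abelian group centralizes it. -/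
theorem two_group (P : Subgroup G) (hP : IsPGroup 2 P) (hE : ∀ w, D.em w ∈ P) :
    P ≤ D.QE ∧ ∀ x ∈ P, IsConj D.t x → ∃ w, D.em w = x := by
  have : Fact (Nat.Prime 2) := ⟨Nat.prime_two⟩
  obtain ⟨a, ha⟩ := exists_conj_mem_sylow D.S hP
  have himg : ∀ v, ∃ v', a * D.em v * a⁻¹ = D.em v' := by
    intro v
    by_cases hv : v = 1
    · exact ⟨1, by rw [hv, map_one]; group⟩
    obtain ⟨v', hv'⟩ := D.conj_mem_S ((D.isConj_em hv).trans (isConj_iff.2 ⟨a, rfl⟩)) (ha _ (hE v))
    exact ⟨v', hv'.symm⟩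
  choose φ hφ using himg
  have hsurj : Function.Surjective φ := Finite.surjective_of_injective fun x y h =>
    D.em_injective (mul_left_cancel (a := a) (mul_right_cancel (b := a⁻¹) (by rw [hφ, hφ, h])))
  refine ⟨fun p hp => D.mem_QE.2 fun w => ?_, fun x hx hconj => ?_⟩
  · have h1 := D.mem_QE.1 (D.S_le_QE (ha p hp)) (φ w)
    rw [← hφ] at h1
    calc p * D.em w = a⁻¹ * (a * p * a⁻¹ * (a * D.em w * a⁻¹)) * a := by group
      _ = a⁻¹ * (a * D.em w * a⁻¹ * (a * p * a⁻¹)) * a := by rw [h1]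
      _ = D.em w * p := by group
  · obtain ⟨v', hv'⟩ := D.conj_mem_S (hconj.trans (isConj_iff.2 ⟨a, rfl⟩)) (ha x hx)
    obtain ⟨v, rfl⟩ := hsurj v'
    refine ⟨v, mul_left_cancel (a := a) (mul_right_cancel (b := a⁻¹) ?_)⟩
    rw [hφ, hv']

theorem qM_norm (w : E8) : D.f qM * D.em w * (D.f qM)⁻¹ = D.em (alp w) := by
  show D.f qM * D.f (emb w) * _ = D.f (emb (alp w))
  rw [← map_inv, ← map_mul, ← map_mul, qM_facts.2.2]

theorem qM_mem_NE : D.f qM ∈ D.NE := by
  refine mem_normalizer_iff.2 fun x => ⟨?_, ?_⟩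
  · rintro ⟨w, rfl⟩
    exact ⟨alp w, (D.qM_norm w).symm⟩
  · rintro ⟨w, hw⟩
    refine ⟨alp (alp w), ?_⟩
    have := D.qM_norm (alp (alp w))
    rw [(by decide +kernel : ∀ v, alp (alp (alp v)) = v) w, hw] at this
    exact mul_left_cancel (mul_right_cancel this)

/-- Elements normalizing the group and centralizing `t`. -/
theorem stab_structure {n : G} (hn : n ∈ D.NE) (hnt : n * D.t = D.t * n) :
    ∃ i : Fin 3, ((D.f qM) ^ (i : ℕ))⁻¹ * n ∈ D.QE := by
  have : Fact (Nat.Prime 2) := ⟨Nat.prime_two⟩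
  obtain ⟨y, z, hy, hz, h, -, hinj⟩ := D.stab_lin hn hnt
  rcases stab_cases y (Finset.mem_univ _) z (Finset.mem_univ _) hy hz hinj with ⟨i, hi⟩ | ⟨h2, hne⟩
  · refine ⟨i, D.mem_QE.2 fun w => ?_⟩
    have h1 : n * D.em w * n⁻¹ = (D.f qM) ^ (i : ℕ) * D.em w * ((D.f qM) ^ (i : ℕ))⁻¹ := by
      rw [D.iterate_em D.qM_norm, h, hi]
    calc ((D.f qM) ^ (i : ℕ))⁻¹ * n * D.em w
        = ((D.f qM) ^ (i : ℕ))⁻¹ * (n * D.em w * n⁻¹) * n := by group
      _ = D.em w * (((D.f qM) ^ (i : ℕ))⁻¹ * n) := by rw [h1]; group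
  · exfalso
    obtain ⟨k, hk⟩ := Nat.exists_eq_two_pow_mul_odd (orderOf_pos n).ne' |> fun ⟨a, b, hb, hab⟩ =>
      (⟨a, b, hb, hab⟩ : ∃ a b, Odd b ∧ orderOf n = 2 ^ a * b)
    obtain ⟨b, hb, hord⟩ := hk
    set m := n ^ b with hm
    have hmact : ∀ w, m * D.em w * m⁻¹ = D.em (lin3 e0 y z w) := by
      intro w
      rw [hm, D.iterate_em h]
      obtain ⟨j, rfl⟩ := hb
      congr 1
      rw [Function.iterate_add_apply, Function.iterate_one, Function.iterate_mul]
      have e : (lin3 e0 y z)^[2] = id := funext h2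
      rw [e, Function.iterate_id]
      rfl
    -- a 2-element of the stabilizer centralizes
    set H := D.NE ⊓ centralizer ({D.t} : Set G)
    have hSH : (D.S : Subgroup G) ≤ H := le_inf (fun s hs => D.conj_mem_S' hs)
      fun s hs => mem_centralizer_singleton_iff.2 (D.hSt s hs)
    have hmH : m ∈ H := pow_mem (show n ∈ H from mem_inf.2 ⟨hn, mem_centralizer_singleton_iff.2 hnt⟩) b
    have hp : IsPGroup 2 (zpowers (⟨m, hmH⟩ : H)) := by
      refine IsPGroup.of_card_dvd_pow (n := k) ?_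
      rw [Nat.card_zpowers]
      refine orderOf_dvd_of_pow_eq_one (Subtype.ext ?_)
      show m ^ 2 ^ k = 1
      rw [hm, ← pow_mul, mul_comm, ← hord, pow_orderOf_eq_one]
    obtain ⟨a, ha⟩ := exists_conj_mem_sylow (D.S.subtype hSH) hp
    have hq : (a : G) * m * (a : G)⁻¹ ∈ D.QE := D.S_le_QE (ha _ (mem_zpowers _))
    obtain ⟨_, _, _, hlin, -⟩ := D.exists_lin (inv_mem a.2.1)
    refine hne fun w => D.em_injective ?_
    rw [← hmact]
    obtain ⟨v, hv⟩ := (mem_normalizer_iff.1 a.2.1 (D.em w)).1 ⟨w, rfl⟩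
    have h1 := D.mem_QE.1 hq v
    rw [hv] at h1
    calc m * D.em w * m⁻¹
        = (a : G)⁻¹ * ((a : G) * m * (a : G)⁻¹ * ((a : G) * D.em w * (a : G)⁻¹)) * a * m⁻¹ := by group
      _ = (a : G)⁻¹ * ((a : G) * D.em w * (a : G)⁻¹ * ((a : G) * m * (a : G)⁻¹)) * a * m⁻¹ := by rw [h1]
      _ = D.em w := by group

theorem comm_of_generators {c : G} (hq : c * D.f qM = D.f qM * c) (hw : c * D.f wM = D.f wM * c)
    (hE : c ∈ D.QE) (m : Mod) : c * D.f m = D.f m * c := by
  let K : Subgroup Mod := (centralizer ({c} : Set G)).comap D.f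
  have hmem : ∀ n, n ∈ K ↔ D.f n * c = c * D.f n := fun n => by
    rw [mem_comap, mem_centralizer_singleton_iff]
  have hem : ∀ v, emb v ∈ K := fun v => (hmem _).2 (D.mem_QE.1 hE v).symm
  set K' := K.map (MonoidHom.snd (Multiplicative (ZMod 2)) A5) with hK'
  have hd : ∀ x ∈ K', orderOf x ∣ Nat.card K' := fun x hx =>
    Subgroup.orderOf_mk x hx ▸ orderOf_dvd_natCard _
  obtain ⟨⟨hq3, hq1⟩, ⟨ha2, ha1⟩, h5, hne1, hne2⟩ := gen_orders
  have h3 : 3 ∣ Nat.card K' := by
    have : Fact (Nat.Prime 3) := ⟨Nat.prime_three⟩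
    have := hd _ (mem_map_of_mem (MonoidHom.snd _ _) ((hmem qM).2 hq.symm))
    rwa [show orderOf ((MonoidHom.snd _ _) qM) = 3 from orderOf_eq_prime hq3 hq1] at this
  have h2 : 2 ∣ Nat.card K' := by
    have : Fact (Nat.Prime 2) := ⟨Nat.prime_two⟩
    have := hd _ (mem_map_of_mem (MonoidHom.snd _ _) (hem a0))
    rwa [show orderOf ((MonoidHom.snd _ _) (emb a0)) = 2 from orderOf_eq_prime ha2 ha1] at this
  have h5' : 5 ∣ Nat.card K' := by
    have : Fact (Nat.Prime 5) := ⟨Nat.prime_five⟩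
    rcases h5 with h | h
    · have := hd _ (mul_mem (mem_map_of_mem (MonoidHom.snd _ _) ((hmem wM).2 hw.symm))
        (mem_map_of_mem (MonoidHom.snd _ _) (hem (Multiplicative.ofAdd (0, 0, 1)))))
      rwa [show orderOf ((MonoidHom.snd _ _) wM * (MonoidHom.snd _ _) (emb _)) = 5 from
        orderOf_eq_prime h hne2] at this
    · have := hd _ (mul_mem (mem_map_of_mem (MonoidHom.snd _ _) ((hmem wM).2 hw.symm))
        (mem_map_of_mem (MonoidHom.snd _ _) (hem a0)))
      rwa [show orderOf ((MonoidHom.snd _ _) wM * (MonoidHom.snd _ _) (emb a0)) = 5 from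
        orderOf_eq_prime h hne1] at this
  have h30 : 30 ∣ Nat.card K' := Nat.Coprime.mul_dvd_of_dvd_of_dvd (show Nat.Coprime 6 5 by norm_num)
    (Nat.Coprime.mul_dvd_of_dvd_of_dvd (show Nat.Coprime 2 3 by norm_num) h2 h3) h5'
  have hc : Nat.card A5 = 60 := by
    rw [nat_card_alternatingGroup, Nat.card_eq_fintype_card, Fintype.card_fin]
    rfl
  have htop : K' = ⊤ := by
    have hmul := K'.card_mul_index
    rw [hc] at hmul
    obtain ⟨c', hc'⟩ := h30
    rw [hc', mul_assoc] at hmul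
    have hci : c' * K'.index = 2 := by omega
    rcases (Nat.dvd_prime Nat.prime_two).1 (hci ▸ dvd_mul_left K'.index c') with h | h
    · exact Subgroup.index_eq_one.1 h
    · rcases alternatingGroup.isSimpleGroup_five.eq_bot_or_eq_top_of_normal K'
        (Subgroup.normal_of_index_eq_two h) with h' | h'
      · rw [h', Subgroup.card_bot] at h2; norm_num at h2
      · exact h'
  have hiota : iota ∈ K := emb_e0 ▸ hem e0
  obtain ⟨y, hy, hy2⟩ : m.2 ∈ K' := htop ▸ Subgroup.mem_top _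
  refine ((hmem m).1 ?_).symm
  rcases (show ∀ a b : Multiplicative (ZMod 2), a = b ∨ a = iota.1 * b by decide) m.1 y.1 with h | h
  · rwa [show m = y from Prod.ext h hy2.symm]
  · rw [show m = iota * y from Prod.ext h (by show m.2 = 1 * y.2; rw [one_mul]; exact hy2.symm)]
    exact mul_mem hiota hy

theorem f_qM_emb (v : E8) : D.f (emb v) = D.em v := rfl

/-- `C(E)` is `E` times the centralizer of the weak closure. -/
theorem QE_split {c : G} (hc : c ∈ D.QE) :
    ∃ v : E8, ∀ m, D.em v * c * D.f m = D.f m * (D.em v * c) := by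
  have hct : c * D.t = D.t * c := by rw [← D.em_e0]; exact D.mem_QE.1 hc e0
  have himg : ∀ m, ∃ m', D.f m' = c * D.f m * c⁻¹ := D.conj_f hct
  choose ψ hψ using himg
  have hmul : ∀ m n, ψ (m * n) = ψ m * ψ n := fun m n => D.inj (by
    rw [map_mul, hψ, hψ, hψ, map_mul]; group)
  let Ψ : Mod →* Mod := MonoidHom.mk' ψ hmul
  have hfix : ∀ w, ψ (emb w) = emb w := fun w => D.inj (by
    rw [hψ, D.f_qM_emb, D.mem_QE.1 hc w, mul_inv_cancel_right])
  obtain ⟨v₁, hv₁⟩ := rigid_q (ψ qM) (by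
    show Ψ qM ^ 3 = 1
    rw [← map_pow, qM_facts.1, map_one]) (fun w => by
    have := congrArg Ψ (qM_facts.2.2 w)
    rw [map_mul, map_mul, map_inv] at this
    simp only [Ψ, MonoidHom.mk'_apply, hfix] at this
    exact this)
  have hsq : emb v₁ * emb v₁ = 1 := by rw [← map_mul, ← pow_two, e8_sq, map_one]
  have hinv : (emb v₁)⁻¹ = emb v₁ := inv_eq_of_mul_eq_one_right hsq
  have hmove : ∀ w, emb v₁ * emb w = emb w * emb v₁ := fun w => by
    rw [← map_mul, ← map_mul, mul_comm]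
  let Φ : Mod →* Mod := (MulAut.conj (emb v₁)).toMonoidHom.comp Ψ
  have hΦ : ∀ m, Φ m = emb v₁ * ψ m * (emb v₁)⁻¹ := fun m => rfl
  have hΦq : Φ qM = qM := by
    rw [hΦ, ← hv₁, hinv]
    simp only [← mul_assoc, hsq, one_mul]
    rw [mul_assoc, hsq, mul_one]
  have hΦe : ∀ w, Φ (emb w) = emb w := fun w => by rw [hΦ, hfix, hmove, mul_inv_cancel_right]
  have hΦinj : Function.Injective Φ := (MulAut.conj (emb v₁)).injective.comp fun a b h => D.inj (by
    have := congrArg D.f (show ψ a = ψ b from h)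
    rw [hψ, hψ] at this
    exact mul_left_cancel (mul_right_cancel this))
  obtain ⟨v₂, hv₂q, hv₂w⟩ := rigid_w (Φ wM) (by rw [← map_mul, wM_facts.1, map_one])
    (by
      have := congrArg Φ wM_facts.2.1
      rwa [map_mul, map_mul, map_inv, map_inv, hΦq] at this)
    (fun w => by
      conv_lhs => rw [← hΦe w, ← map_mul, ← map_pow]
      exact ⟨fun h => hΦinj (h.trans (map_one Φ).symm), fun h => by rw [h, map_one]⟩)
    (by rw [← map_pow, pow_two, wM_facts.1, map_one])
  refine ⟨v₂ * v₁, fun m => ?_⟩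
  have hsq₂ : emb v₂ * emb v₂ = 1 := by rw [← map_mul, ← pow_two, e8_sq, map_one]
  have hinv₂ : (emb v₂)⁻¹ = emb v₂ := inv_eq_of_mul_eq_one_right hsq₂
  have key : ∀ n, D.em (v₂ * v₁) * c * D.f n * (D.em (v₂ * v₁) * c)⁻¹ =
      D.f (emb v₂ * Φ n * (emb v₂)⁻¹) := by
    intro n
    rw [hΦ, map_mul D.f, map_mul D.f, map_mul D.f, map_mul D.f, map_inv, map_inv, hψ, map_mul]
    show _ = D.em v₂ * (D.em v₁ * _ * (D.em v₁)⁻¹) * (D.em v₂)⁻¹
    group
  refine D.comm_of_generators ?_ ?_ (mul_mem (D.mem_QE.2 fun w => D.em_comm _ w) hc) m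
  · refine mul_inv_eq_iff_eq_mul.1 ((key qM).trans ?_)
    rw [hΦq, hv₂q]
  · refine mul_inv_eq_iff_eq_mul.1 ((key wM).trans ?_)
    rw [hinv₂]
    conv_lhs => rw [← hv₂w]
    rw [hinv₂]
    simp only [← mul_assoc, hsq₂, one_mul]
    rw [mul_assoc, hsq₂, mul_one]

/-- The centralizer of `t` is the weak closure times its centralizer. -/
theorem centralizer_split {c : G} (hc : c * D.t = D.t * c) :
    ∃ m, ∀ n, D.f m * c * D.f n = D.f n * (D.f m * c) := by
  let K : Subgroup Mod := (D.em.range.map (MulAut.conj c).toMonoidHom).comap D.f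
  have hK : Nat.card K = 8 := by
    rw [card_comap' D.inj]
    · rw [← Nat.card_congr (D.em.range.equivMapOfInjective _ (MulEquiv.injective _)).toEquiv, D.card_em]
    · rintro _ ⟨_, ⟨v, rfl⟩, rfl⟩
      exact D.conj_range hc ⟨emb v, rfl⟩
  obtain ⟨r, hr⟩ := exists_conj_emb_range K hK
  set n := c⁻¹ * D.f r with hn
  have himg : ∀ v, ∃ v', n * D.em v * n⁻¹ = D.em v' := by
    intro v
    obtain ⟨_, ⟨v', rfl⟩, hv'⟩ := hr v
    refine ⟨v', ?_⟩
    simp only [MulEquiv.coe_toMonoidHom, MulAut.conj_apply, map_mul, map_inv] at hv'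
    rw [show n * D.em v * n⁻¹ = c⁻¹ * (D.f r * D.f (emb v) * (D.f r)⁻¹) * c by
      rw [hn]; show c⁻¹ * D.f r * D.f (emb v) * _ = _; group, ← hv']
    group
  choose φ hφ using himg
  have hinj : Function.Injective φ := fun a b h => D.em_injective
    (mul_left_cancel (a := n) (mul_right_cancel (b := n⁻¹) (by rw [hφ, hφ, h])))
  have hnN : n ∈ D.NE := by
    refine mem_normalizer_iff.2 fun x => ⟨?_, ?_⟩
    · rintro ⟨v, rfl⟩; exact ⟨φ v, (hφ v).symm⟩
    · rintro ⟨v', hv'⟩
      obtain ⟨v, hv⟩ := (Finite.surjective_of_injective hinj) v'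
      refine ⟨v, mul_left_cancel (a := n) (mul_right_cancel (b := n⁻¹) ?_)⟩
      rw [hφ, hv, hv']
  have hnt : n * D.t = D.t * n := ((show Commute c D.t from hc).inv_left.mul_left (D.f_comm r)).eq
  obtain ⟨i, hi⟩ := D.stab_structure hnN hnt
  set q := ((D.f qM) ^ (i : ℕ))⁻¹ * n
  obtain ⟨v, hv⟩ := D.QE_split hi
  refine ⟨qM ^ (i : ℕ) * emb v * r⁻¹, fun k => ?_⟩
  have hz : ∀ m, Commute (D.em v * q) (D.f m) := hv
  have hv2 : D.em v * D.em v = 1 := by rw [← map_mul, ← pow_two, e8_sq, map_one]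
  have heq : D.f (qM ^ (i : ℕ) * emb v * r⁻¹) * c = (D.em v * q)⁻¹ := by
    have hc' : c = D.f r * n⁻¹ := by rw [hn]; group
    have hn' : n⁻¹ = q⁻¹ * ((D.f qM) ^ (i : ℕ))⁻¹ := by simp only [q]; group
    have hvq : D.em v * q⁻¹ = (D.em v * q)⁻¹ := by
      rw [show (D.em v * q)⁻¹ = q⁻¹ * (D.em v)⁻¹ from mul_inv_rev _ _,
        inv_eq_of_mul_eq_one_right hv2]
      exact (show Commute q (D.em v) from D.mem_QE.1 hi v).inv_left.eq.symm
    rw [map_mul, map_mul, map_pow, map_inv, D.f_qM_emb, hc', hn']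
    calc D.f qM ^ (i : ℕ) * D.em v * (D.f r)⁻¹ * (D.f r * (q⁻¹ * (D.f qM ^ (i : ℕ))⁻¹))
        = D.f qM ^ (i : ℕ) * (D.em v * q⁻¹) * (D.f qM ^ (i : ℕ))⁻¹ := by group
      _ = (D.em v * q)⁻¹ := by
        rw [hvq, mul_inv_eq_iff_eq_mul]
        exact ((hz qM).pow_right _).inv_left.eq.symm
  rw [heq]
  exact (hz k).inv_left.eq

end Hyp

end CfsgLib.Invol.J1Cent.Weak
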