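import Cfsg.Agent.Lib.Invol.JankoOneUniq
import Cfsg.Agent.Lib.Recog.JankoOneOrders
import Mathlib.GroupTheory.Sylow

/-!
Janko's first group has 1463 involutions and no subgroup of odd order at least 1463; and the
generation of a group of odd order by the centralisers of a four-group.
-/

set_option autoImplicit false

namespace CfsgLib.Invol.J1Cent.Weak

open Subgroup

section FourGen

variable {G : Type*} [Group G] [Finite G]

/-- A square root which is a power. -/
theorem exists_root {H : Subgroup G} (hH : Odd (Nat.card H)) {x : G} (hx : x ∈ H) :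
    ∃ n : ℕ, x ^ n * x ^ n = x := by
  obtain ⟨k, hk⟩ := hH
  refine ⟨k + 1, ?_⟩
  rw [← pow_add, show k + 1 + (k + 1) = Nat.card H + 1 by omega, pow_succ]
  have : (⟨x, hx⟩ : H) ^ Nat.card H = 1 := pow_card_eq_one'
  rw [show x ^ Nat.card H = 1 from congrArg Subtype.val this, one_mul]

/-- A group of odd order is generated by the centralisers of a four-group acting on it. -/
theorem le_of_four {H W : Subgroup G} (hH : Odd (Nat.card H)) {s t : G} (hs : s * s = 1)
    (ht : t * t = 1) (hst : s * t = t * s) (hsH : ∀ h ∈ H, s * h * s ∈ H)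
    (htH : ∀ h ∈ H, t * h * t ∈ H) (h1 : ∀ h ∈ H, s * h * s = h → h ∈ W)
    (h2 : ∀ h ∈ H, t * h * t = h → h ∈ W) (h3 : ∀ h ∈ H, s * (t * h * t) * s = h → h ∈ W) :
    H ≤ W := by
  intro h hh
  -- `s` as an automorphism
  have si : ∀ x : G, s * x⁻¹ * s = (s * x * s)⁻¹ := fun x => by
    rw [mul_inv_rev, mul_inv_rev, inv_eq_of_mul_eq_one_right hs, mul_assoc]
  have sm : ∀ x y : G, s * (x * y) * s = (s * x * s) * (s * y * s) := fun x y => by
    calc s * (x * y) * s = s * x * (s * s) * y * s := by rw [hs]; group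
      _ = _ := by group
  have ti : ∀ x : G, t * x⁻¹ * t = (t * x * t)⁻¹ := fun x => by
    rw [mul_inv_rev, mul_inv_rev, inv_eq_of_mul_eq_one_right ht, mul_assoc]
  have tm : ∀ x y : G, t * (x * y) * t = (t * x * t) * (t * y * t) := fun x y => by
    calc t * (x * y) * t = t * x * (t * t) * y * t := by rw [ht]; group
      _ = _ := by group
  have sp : ∀ (x : G) (n : ℕ), s * x ^ n * s = (s * x * s) ^ n := fun x n => by
    induction n with
    | zero => simp [hs]
    | succ n ih => rw [pow_succ, pow_succ, sm, ih]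
  have tp : ∀ (x : G) (n : ℕ), t * x ^ n * t = (t * x * t) ^ n := fun x n => by
    induction n with
    | zero => simp [ht]
    | succ n ih => rw [pow_succ, pow_succ, tm, ih]
  have ss : ∀ x : G, s * (s * x * s) * s = x := fun x => by
    calc s * (s * x * s) * s = (s * s) * x * (s * s) := by group
      _ = x := by rw [hs, one_mul, mul_one]
  have tt : ∀ x : G, t * (t * x * t) * t = x := fun x => by
    calc t * (t * x * t) * t = (t * t) * x * (t * t) := by group
      _ = x := by rw [ht, one_mul, mul_one]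
  have st : ∀ x : G, s * (t * x * t) * s = t * (s * x * s) * t := fun x => by
    calc s * (t * x * t) * s = (s * t) * x * (t * s) := by group
      _ = (t * s) * x * (s * t) := by rw [hst]
      _ = _ := by group
  -- `h = c * i` with `c` fixed and `i` inverted by `s`
  obtain ⟨x, hx⟩ : ∃ x, x = (s * h * s)⁻¹ * h := ⟨_, rfl⟩
  have hxH : x ∈ H := hx ▸ mul_mem (inv_mem (hsH h hh)) hh
  have hxs : s * x * s = x⁻¹ := by rw [hx, sm, si, ss, mul_inv_rev, inv_inv]
  obtain ⟨n, hn⟩ := exists_root hH hxH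
  obtain ⟨i, hi⟩ : ∃ i, i = x ^ n := ⟨_, rfl⟩
  have hiH : i ∈ H := hi ▸ pow_mem hxH n
  have hii : i * i = x := hi ▸ hn
  have his : s * i * s = i⁻¹ := by rw [hi, sp, hxs, inv_pow]
  have hcW : h * i⁻¹ ∈ W := by
    refine h1 _ (mul_mem hh (inv_mem hiH)) ?_
    rw [sm, si, his, inv_inv]
    have e : s * h * s = h * (i * i)⁻¹ := by rw [hii, hx]; group
    rw [e]; group
  -- `i = r * c * r`
  obtain ⟨a, ha⟩ : ∃ a, a = t * i * t := ⟨_, rfl⟩
  have haH : a ∈ H := ha ▸ htH i hiH
  have hai : s * a * s = a⁻¹ := by rw [ha, st, his, ti]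
  obtain ⟨m, hm⟩ := exists_root hH (mul_mem hiH haH)
  obtain ⟨y, hy⟩ : ∃ y, y = (i * a) ^ m := ⟨_, rfl⟩
  have hyy : y * y = i * a := hy ▸ hm
  obtain ⟨σ, hσ⟩ : ∃ σ, σ = y * a⁻¹ := ⟨_, rfl⟩
  have hyH : y ∈ H := hy ▸ pow_mem (mul_mem hiH haH) m
  have hσH : σ ∈ H := hσ ▸ mul_mem hyH (inv_mem haH)
  have hta : t * a * t = i := by rw [ha, tt]
  have hconj : a * y * a⁻¹ = (a * i) ^ m := by
    rw [hy, ← conj_pow]; congr 1; group
  have hσt : t * σ * t = σ⁻¹ := by
    have e1 : t * y * t = a * y * a⁻¹ := by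
      rw [hconj, hy, tp, tm, hta, ← ha]
    rw [hσ, tm, ti, hta, e1, mul_inv_rev, inv_inv, mul_assoc (a * y), ← mul_inv_rev i a, ← hyy]
    group
  have hσs : s * σ * s = σ⁻¹ := by
    have e1 : s * y * s = (a * y * a⁻¹)⁻¹ := by
      rw [hconj, hy, sp, sm, his, hai, ← inv_pow, mul_inv_rev]
    rw [hσ, sm, si, hai, inv_inv, e1]
    group
  obtain ⟨k, hk⟩ := exists_root hH hσH
  obtain ⟨r, hr⟩ : ∃ r, r = σ ^ k := ⟨_, rfl⟩
  have hrr : r * r = σ := hr ▸ hk
  have hrH : r ∈ H := hr ▸ pow_mem hσH k
  have hrW : r ∈ W := h3 r hrH (by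
    rw [hr, tp, hσt, sp, si, hσs, inv_inv])
  have hc2 : r⁻¹ * i * r⁻¹ ∈ W := by
    refine h2 _ (mul_mem (mul_mem (inv_mem hrH) hiH) (inv_mem hrH)) ?_
    have e1 : t * r⁻¹ * t = r := by rw [ti, hr, tp, hσt, ← inv_pow, inv_inv]
    rw [tm, tm, e1, ← ha]
    have e2 : i = r * r * a * (r * r) := by
      rw [hrr, hσ]
      calc i = i * a * a⁻¹ := by group
        _ = y * y * a⁻¹ := by rw [hyy]
        _ = _ := by group
    rw [e2]; group
  have : h = h * i⁻¹ * (r * (r⁻¹ * i * r⁻¹) * r) := by group
  rw [this]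
  exact mul_mem hcW (mul_mem (mul_mem hrW hc2) hrW)

end FourGen

/-- Sylow's congruence for a self-centralizing subgroup of prime order. -/
theorem sylow_arith {K : Type*} [Group K] [Finite K] (p : ℕ) [hp : Fact p.Prime]
    (h1 : p ∣ Nat.card K) (h2 : ¬ p ^ 2 ∣ Nat.card K)
    (hfree : ∀ x : K, p ∣ orderOf x → orderOf x = p) :
    ∃ m n, n * (p * m) = Nat.card K ∧ n % p = 1 ∧ m ∣ p - 1 := by
  classical
  let P : Sylow p K := default
  have hP : Nat.card (P : Subgroup K) = p := by
    obtain ⟨k, hk⟩ := IsPGroup.iff_card.1 P.2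
    have hle : k ≤ 1 := by
      by_contra h
      exact h2 ((pow_dvd_pow p (show 2 ≤ k by omega)).trans (hk ▸ card_subgroup_dvd_card _))
    rcases Nat.le_one_iff_eq_zero_or_eq_one.1 hle with rfl | rfl
    · exact absurd h1 (fun h => P.not_dvd_index (by
        have := (P : Subgroup K).card_mul_index
        rw [hk, pow_zero, one_mul] at this
        rwa [this]))
    · rw [hk, pow_one]
  have : IsCyclic (P : Subgroup K) := isCyclic_of_prime_card hP
  set N := normalizer ((P : Subgroup K) : Set K)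
  have hC : centralizer ((P : Subgroup K) : Set K) = (P : Subgroup K) := by
    refine le_antisymm (fun c hc => ?_) ?_
    · obtain ⟨g, hg⟩ := IsCyclic.exists_generator (α := (P : Subgroup K))
      have hgo : orderOf (g : K) = p := by
        rw [Subgroup.orderOf_coe, orderOf_eq_card_of_forall_mem_zpowers hg, hP]
      have hcomm : Commute c (g : K) := (mem_centralizer_iff.1 hc _ g.2).symm
      by_cases hd : p ∣ orderOf c
      · have hpg : IsPGroup p (zpowers c ⊔ (P : Subgroup K) : Subgroup K) :=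
          (IsPGroup.of_card (n := 1) (by rw [Nat.card_zpowers, hfree c hd, pow_one])).to_sup_of_normal_right'
            P.2 ((zpowers_le.2 hc).trans (centralizer_le_normalizer _))
        have := P.3 hpg le_sup_right
        exact this ▸ mem_sup_left (mem_zpowers c)
      · have hco : Nat.Coprime (orderOf c) (orderOf (g : K)) := by
          rw [hgo]; exact (hp.out.coprime_iff_not_dvd.2 hd).symm
        have h := hcomm.orderOf_mul_eq_mul_orderOf_of_coprime hco
        have h' := hfree (c * g) (by rw [h, hgo]; exact dvd_mul_left _ _)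
        rw [h, hgo] at h'
        have h1c : orderOf c = 1 := Nat.eq_of_mul_eq_mul_right hp.out.pos (h'.trans (one_mul p).symm)
        rw [orderOf_eq_one_iff.1 h1c]
        exact one_mem _
    · exact fun x hx => mem_centralizer_iff.2 fun y hy => by
        have := IsMulCommutative.is_comm.comm (⟨y, hy⟩ : (P : Subgroup K)) ⟨x, hx⟩
        exact congrArg Subtype.val this
  let φ := normalizerMonoidHom (P : Subgroup K)
  have hker : Nat.card φ.ker = p := by
    rw [show φ.ker = _ from normalizerMonoidHom_ker _, hC,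
      Nat.card_congr (Subgroup.subgroupOfEquivOfLe le_normalizer).toEquiv, hP]
  have hN : Nat.card N = p * Nat.card φ.range := by
    rw [← Subgroup.card_mul_index φ.ker, hker, Subgroup.index_ker]
  refine ⟨Nat.card φ.range, Nat.card (Sylow p K), ?_, ?_, ?_⟩
  · rw [P.card_eq_index_normalizer, ← hN]
    exact Subgroup.index_mul_card _
  · rw [card_sylow_modEq_one p K, Nat.mod_eq_of_lt hp.out.one_lt]
  · refine (card_subgroup_dvd_card φ.range).trans ?_
    rw [IsCyclic.card_mulAut, hP, Nat.totient_prime hp.out]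

open CfsgLib.KnownA.JankoOne in
/-- Janko's group has no subgroup of odd order at least 1463. -/
theorem no_odd_subgroup (K : Subgroup J) (hodd : Odd (Nat.card K)) : Nat.card K < 1463 := by
  by_contra hK
  push Not at hK
  have hdvd : Nat.card K ∣ 175560 := card_J ▸ card_subgroup_dvd_card K
  have h21945 : Nat.card K ∣ 21945 :=
    (Nat.Coprime.dvd_of_dvd_mul_left (Nat.Coprime.pow_right 3 (Nat.coprime_two_right.2 hodd))
      (show Nat.card K ∣ 2 ^ 3 * 21945 from hdvd))
  have key : ∀ p : ℕ, p.Prime → (p = 7 ∨ p = 11 ∨ p = 19) → p ∣ Nat.card K →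
      ∃ m n, n * (p * m) = Nat.card K ∧ n % p = 1 ∧ m ∣ p - 1 ∧ Odd m := by
    intro p hp hp' hd
    have : Fact p.Prime := ⟨hp⟩
    have h2 : ¬ p ^ 2 ∣ Nat.card K := fun h => by
      have h' := h.trans h21945
      rcases hp' with rfl | rfl | rfl <;> revert h' <;> decide
    obtain ⟨m, n, h, hn, hm⟩ := sylow_arith (K := K) p hd h2 fun x hx => by
      have hmem : orderOf (x : J) ∈ Set.range (orderOf : J → ℕ) := ⟨x, rfl⟩
      rw [show Set.range (orderOf : J → ℕ) = _ from
        CfsgLib.Recog.JankoOne.jankoOne_range, Subgroup.orderOf_coe] at hmem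
      have hxo : Odd (orderOf x) := hodd.of_dvd_nat (orderOf_dvd_natCard x)
      simp only [Set.mem_insert_iff, Set.mem_singleton_iff] at hmem
      generalize orderOf x = k at hx hxo hmem ⊢
      rcases hmem with rfl | rfl | rfl | rfl | rfl | rfl | rfl | rfl | rfl | rfl <;>
        rcases hp' with rfl | rfl | rfl <;>
        first | rfl | exact absurd hxo (by decide) | exact absurd hx (by decide)
    exact ⟨m, n, h, hn, hm, hodd.of_dvd_nat (h ▸ (dvd_mul_left m p).trans (dvd_mul_left _ n))⟩
  have hcases : Nat.card K = 1463 ∨ Nat.card K = 1995 ∨ Nat.card K = 3135 ∨ Nat.card K = 4389 ∨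
      Nat.card K = 7315 ∨ Nat.card K = 21945 := by
    have hmem : Nat.card K ∈ Nat.divisors 21945 := Nat.mem_divisors.2 ⟨h21945, by norm_num⟩
    have aux : ∀ d ∈ Nat.divisors 21945, 1463 ≤ d →
        d = 1463 ∨ d = 1995 ∨ d = 3135 ∨ d = 4389 ∨ d = 7315 ∨ d = 21945 := by decide +kernel
    exact aux _ hmem hK
  have hm19 : ∀ m, m ∣ 18 → Odd m → m = 1 ∨ m = 3 ∨ m = 9 := by
    intro m hm ho
    have : m ≤ 18 := Nat.le_of_dvd (by norm_num) hm
    interval_cases m <;> simp_all (config := { decide := true })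
  have hd19 : 19 ∣ Nat.card K := by
    rcases hcases with h | h | h | h | h | h <;> rw [h] <;> norm_num
  obtain ⟨m, n, h, hn, hm, hmo⟩ := key 19 (by norm_num) (by simp) hd19
  rcases hcases with hc | hc | hc | hc | hc | hc
  · obtain ⟨m', n', h', hn', hm', hmo'⟩ := key 7 (by norm_num) (by simp) (by rw [hc]; norm_num)
    rw [hc] at h'
    have : m' ≤ 6 := Nat.le_of_dvd (by norm_num) hm'
    interval_cases m' <;> revert hmo' hm' <;> simp_all (config := { decide := true }) <;> omega
  · rw [hc] at h; rcases hm19 m hm hmo with rfl | rfl | rfl <;> omega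
  · rw [hc] at h; rcases hm19 m hm hmo with rfl | rfl | rfl <;> omega
  · obtain ⟨m', n', h', hn', hm', hmo'⟩ := key 11 (by norm_num) (by simp) (by rw [hc]; norm_num)
    rw [hc] at h'
    have : m' ≤ 10 := Nat.le_of_dvd (by norm_num) hm'
    interval_cases m' <;> revert hmo' hm' <;> simp_all (config := { decide := true }) <;> omega
  · rw [hc] at h; rcases hm19 m hm hmo with rfl | rfl | rfl <;> omega
  · rw [hc] at h; rcases hm19 m hm hmo with rfl | rfl | rfl <;> omega

open CfsgLib.KnownA.JankoOne in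
/-- Facts about the involutions of Janko's group. -/
theorem invols_J : ∀ {L : Type*} [Group L] [Finite L], (L ≃* J) →
    (∀ x y : L, orderOf x = 2 → orderOf y = 2 → IsConj x y) ∧
    (∀ x : L, orderOf x = 2 → Nat.card (centralizer ({x} : Set L)) = 120) ∧
    Nat.card {x : L // orderOf x = 2} = 1463 := by
  intro L _ _ e
  have : IsSimpleGroup J := CfsgLib.StructC.JankoOneSimple.isSimple_J
  obtain ⟨D, -⟩ := exists_data_J
  have hconj : ∀ x y : L, orderOf x = 2 → orderOf y = 2 → IsConj x y := by
    intro x y hx hy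
    have := ((D.hconj (e x) (by rwa [MulEquiv.orderOf_eq])).symm.trans
      (D.hconj (e y) (by rwa [MulEquiv.orderOf_eq])))
    simpa using MonoidHom.map_isConj e.symm.toMonoidHom this
  have hJ : Nat.card L = 175560 := by rw [Nat.card_congr e.toEquiv, card_J]
  have hcen : ∀ x : L, orderOf x = 2 → Nat.card (centralizer ({x} : Set L)) = 120 := by
    intro x hx
    have h1 := CfsgLib.Invol.card_class_mul_card_centralizer x
    have h2 := CfsgLib.Invol.card_class_mul_card_centralizer D.t
    have hcls : Nat.card {t : L // IsConj x t} = Nat.card {t : J // IsConj D.t t} := by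
      refine Nat.card_congr (e.toEquiv.subtypeEquiv fun t => ⟨fun h => ?_, fun h => ?_⟩)
      · exact D.hconj _ (by
          show orderOf (e t) = 2
          rw [MulEquiv.orderOf_eq, CfsgLib.Invol.orderOf_eq_of_isConj h, hx])
      · refine hconj x t hx ?_
        rw [← MulEquiv.orderOf_eq e, ← D.ht]
        exact CfsgLib.Invol.orderOf_eq_of_isConj h
    rw [hcls, hJ] at h1
    rw [show centralizer ({D.t} : Set J) = D.C from rfl, D.card_C, card_J] at h2
    exact Nat.eq_of_mul_eq_mul_left (by omega) (h1.trans h2.symm)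
  refine ⟨hconj, hcen, ?_⟩
  have hT : orderOf (e.symm D.t) = 2 := by rw [MulEquiv.orderOf_eq, D.ht]
  have h1 := CfsgLib.Invol.card_class_mul_card_centralizer (e.symm D.t)
  rw [hcen _ hT, hJ] at h1
  have heq : Nat.card {x : L // orderOf x = 2} = Nat.card {t : L // IsConj (e.symm D.t) t} :=
    Nat.card_congr (Equiv.subtypeEquivRight fun t =>
      ⟨fun h => hconj _ _ hT h, fun h => (CfsgLib.Invol.orderOf_eq_of_isConj h).trans hT⟩)
  omega

end CfsgLib.Invol.J1Cent.Weak
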