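import Cfsg.Agent.Lib.Invol.JankoOneWeakSmall
import Cfsg.Agent.Lib.Invol.Strong
import Cfsg.Agent.Lib.KnownA.JankoOne.Auto

/-!
Two conjugate weak closures generate the group, as otherwise the normalizer of the subgroup they
generate would be strongly embedded; the characterisation of Janko's group follows.
-/

set_option autoImplicit false
set_option synthInstance.maxSize 8000

namespace CfsgLib.Invol.J1Cent.Weak

open scoped Pointwise
open Cfsg Subgroup CfsgLib.Invol.J1Cent CfsgLib.KnownA.JankoOne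

universe u

/-- Every automorphism of a copy of Janko's group is inner, in exactly one way. -/
theorem conj_bijective {L : Type*} [Group L] (e : L ≃* J) :
    Function.Bijective (MulAut.conj : L →* MulAut L) := by
  have : IsSimpleGroup J := CfsgLib.StructC.JankoOneSimple.isSimple_J
  refine ⟨(injective_iff_map_eq_one _).2 fun a ha => ?_, fun φ => ?_⟩
  · have hac : e a ∈ center J := mem_center_iff.2 fun y => by
      obtain ⟨b, rfl⟩ := e.surjective y
      have h : a * b * a⁻¹ = b := by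
        have := DFunLike.congr_fun ha b
        simpa using this
      rw [← map_mul, ← map_mul, mul_inv_eq_iff_eq_mul.1 h]
    rcases (center J).normal_of_characteristic.eq_bot_or_eq_top with h | h
    · rw [h, mem_bot, EmbeddingLike.map_eq_one_iff] at hac
      exact hac
    · exfalso
      obtain ⟨D, -⟩ := exists_data_J
      refine mod_noncomm (D.ev.symm.injective ?_)
      apply Subtype.ext
      rw [map_mul, map_mul]
      exact mem_center_iff.1 (h ▸ mem_top _) _
  · obtain ⟨j, hj⟩ := mem_inn ((e.symm.trans φ).trans e)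
    refine ⟨e.symm j, MulEquiv.ext fun x => e.injective ?_⟩
    have h := DFunLike.congr_fun hj (e x)
    simpa using h

namespace Hyp

variable {G : Type u} [Group G] [Finite G] (D : Hyp G)

include D

theorem good_Lsub {n : G} (hn : n ∈ D.NE) (hnt : n * D.t * n⁻¹ = D.em a0) :
    D.Good (D.Lsub n) :=
  ⟨le_sup_left, n, hn, hnt, fun m => mem_sup_right ⟨D.f m, ⟨m, rfl⟩, rfl⟩⟩

theorem Lsub_eq_closure (n : G) :
    D.Lsub n = closure {x : G | x ∈ D.Lsub n ∧ IsConj D.t x} := by
  refine le_antisymm ?_ ((closure_le _).2 fun x hx => hx.1)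
  refine sup_le ?_ ?_
  · refine D.hgen.trans ((closure_le _).2 fun x hx => subset_closure ⟨?_, hx.1⟩)
    exact mem_sup_left (D.conj_in_range hx.1 hx.2)
  · conv_lhs => rw [D.range_eq]
    rw [MonoidHom.map_closure]
    refine (closure_le _).2 ?_
    rintro _ ⟨x, hx, rfl⟩
    exact subset_closure ⟨mem_sup_right (mem_map_of_mem _ (D.conj_in_range hx.1 hx.2)),
      hx.1.trans (isConj_iff.2 ⟨n, rfl⟩)⟩

/-- The data of a proper subgroup generated by two conjugate weak closures. -/
structure Proper (n : G) : Prop where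
  simple : IsSimpleGroup G
  ind : Ind G
  hn : n ∈ D.NE
  hnt : n * D.t * n⁻¹ = D.em a0
  hZ : center G = ⊥
  hne : D.Lsub n ≠ ⊤

namespace Proper

variable {D} {n : G} (P : D.Proper n)

include P

theorem good : D.Good (D.Lsub n) := D.good_Lsub P.hn P.hnt

theorem iso : Nonempty (↥(D.Lsub n) ≃* J) := by
  obtain ⟨e⟩ := D.sub_iso P.ind P.good P.hne
  exact ⟨(MulEquiv.subgroupCongr (D.Lsub_eq_closure n)).trans e⟩

theorem cent_L {x : G} (hx : x ∈ D.Lsub n) (hxt : x * D.t = D.t * x) : x ∈ D.f.range := by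
  obtain ⟨e⟩ := P.iso
  have htL : D.t ∈ D.Lsub n := P.good.1 D.t_mem
  have hc := (invols_J e).2.1 ⟨D.t, htL⟩ (by rw [← Subgroup.orderOf_coe]; exact D.ht)
  have heq : D.f.range =
      (centralizer ({⟨D.t, htL⟩} : Set ↥(D.Lsub n))).map (D.Lsub n).subtype := by
    refine eq_of_le_of_card_ge ?_ ?_
    · rintro _ ⟨m, rfl⟩
      exact ⟨⟨D.f m, P.good.1 ⟨m, rfl⟩⟩, mem_centralizer_singleton_iff.2
        (Subtype.ext (D.f_comm m)), rfl⟩
    · rw [card_map_of_injective (D.Lsub n).subtype_injective, hc,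
        ← Nat.card_congr (MonoidHom.ofInjective D.inj).toEquiv, card_mod]
  rw [heq]
  exact ⟨⟨x, hx⟩, mem_centralizer_singleton_iff.2 (Subtype.ext hxt), rfl⟩

theorem centralizer_t_le {c : G} (hc : c * D.t = D.t * c) :
    c ∈ normalizer (D.Lsub n : Set G) := by
  obtain ⟨m, hm⟩ := D.centralizer_split hc
  set z := D.f m * c
  have hzn : n⁻¹ * z * n * D.t = D.t * (n⁻¹ * z * n) := by
    calc n⁻¹ * z * n * D.t = n⁻¹ * (z * (n * D.t * n⁻¹)) * n := by group
      _ = n⁻¹ * ((n * D.t * n⁻¹) * z) * n := by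
        rw [P.hnt, show D.em a0 = D.f (emb a0) from rfl, hm]
      _ = _ := by group
  have hle : (D.Lsub n).map (MulAut.conj z).toMonoidHom ≤ D.Lsub n := by
    rw [Hyp.Lsub, Subgroup.map_sup]
    refine sup_le ?_ ?_
    · rintro _ ⟨_, ⟨k, rfl⟩, rfl⟩
      simp only [MulEquiv.coe_toMonoidHom, MulAut.conj_apply]
      rw [hm, mul_inv_cancel_right]
      exact mem_sup_left ⟨k, rfl⟩
    · rintro _ ⟨_, ⟨_, ⟨k, rfl⟩, rfl⟩, rfl⟩
      simp only [MulEquiv.coe_toMonoidHom, MulAut.conj_apply]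
      obtain ⟨k', hk'⟩ := D.conj_f hzn k
      refine mem_sup_right ⟨D.f k', ⟨k', rfl⟩, ?_⟩
      simp only [MulEquiv.coe_toMonoidHom, MulAut.conj_apply]
      rw [hk']; group
  have hz : z ∈ normalizer (D.Lsub n : Set G) := mem_normalizer_iff_map_conj_eq.2
    (eq_of_le_of_card_ge hle (card_map_of_injective (MulEquiv.injective _)).ge)
  have hf : D.f m ∈ normalizer (D.Lsub n : Set G) := le_normalizer (P.good.1 ⟨m, rfl⟩)
  rw [show c = (D.f m)⁻¹ * z by simp [z]]
  exact mul_mem (inv_mem hf) hz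

/-- The centralizer of a conjugate of `t` in `L`. -/
theorem centralizer_conj_le {x c : G} (hx : x ∈ D.Lsub n) (hxc : IsConj D.t x)
    (hc : c * x = x * c) : c ∈ normalizer (D.Lsub n : Set G) := by
  obtain ⟨h, hh, rfl⟩ := D.fusion_sub P.good hx hxc
  have h1 : h⁻¹ * c * h * D.t = D.t * (h⁻¹ * c * h) := by
    calc h⁻¹ * c * h * D.t = h⁻¹ * (c * (h * D.t * h⁻¹)) * h := by group
      _ = h⁻¹ * (h * D.t * h⁻¹ * c) * h := by rw [hc]
      _ = _ := by group
  have := mul_mem (mul_mem (le_normalizer hh) (P.centralizer_t_le h1)) (inv_mem (le_normalizer hh))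
  rwa [show h * (h⁻¹ * c * h) * h⁻¹ = c by group] at this

theorem good_normalizer : D.Good (normalizer (D.Lsub n : Set G)) :=
  P.good.mono D le_normalizer

theorem mem_L_of_normalizer {x : G} (hx : x ∈ normalizer (D.Lsub n : Set G))
    (hxc : IsConj D.t x) : x ∈ D.Lsub n := by
  obtain ⟨h, hh, rfl⟩ := D.fusion_sub P.good_normalizer hx hxc
  exact (mem_normalizer_iff.1 hh _).1 (P.good.1 D.t_mem)

/-- Centralizers of elements centralizing `L`. -/
theorem cent_d {d : G} (hd : d ∈ centralizer (D.Lsub n : Set G)) (hd1 : d ≠ 1) :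
    (∀ c, c * d = d * c → c ∈ normalizer (D.Lsub n : Set G)) ∧
      ∀ x, x * d = d * x → IsConj D.t x → x ∈ D.Lsub n := by
  set K := centralizer ({d} : Set G) with hK
  have hLK : D.Lsub n ≤ K := fun x hx => mem_centralizer_singleton_iff.2
    (mem_centralizer_iff.1 hd x hx)
  have hgood : D.Good K := P.good.mono D hLK
  have hne : K ≠ ⊤ := fun h => hd1 (by
    have : d ∈ center G := mem_center_iff.2 fun g =>
      mem_centralizer_singleton_iff.1 (show g ∈ centralizer ({d} : Set G) from hK ▸ h ▸ mem_top g)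
    rwa [P.hZ, mem_bot] at this)
  obtain ⟨e⟩ := D.sub_iso P.ind hgood hne
  obtain ⟨eL⟩ := P.iso
  have heq : D.Lsub n = closure {x : G | x ∈ K ∧ IsConj D.t x} := by
    refine eq_of_le_of_card_ge ?_ (by rw [Nat.card_congr e.toEquiv, Nat.card_congr eL.toEquiv])
    conv_lhs => rw [D.Lsub_eq_closure n]
    exact closure_mono fun x hx => ⟨hLK hx.1, hx.2⟩
  refine ⟨fun c hc => ?_, fun x hx hxc => ?_⟩
  · refine mem_normalizer_iff_map_conj_eq.2 (eq_of_le_of_card_ge ?_
      (card_map_of_injective (MulEquiv.injective _)).ge)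
    conv_lhs => rw [heq, MonoidHom.map_closure]
    rw [closure_le]
    rintro _ ⟨x, ⟨hxK, hxc⟩, rfl⟩
    have hcK : c ∈ K := mem_centralizer_singleton_iff.2 hc
    exact heq.ge (subset_closure ⟨mul_mem (mul_mem hcK hxK) (inv_mem hcK),
      hxc.trans (isConj_iff.2 ⟨c, rfl⟩)⟩)
  · exact heq.ge (subset_closure ⟨mem_centralizer_singleton_iff.2 hx, hxc⟩)

/-- Centralizers of diagonal involutions. -/
theorem cent_td {d : G} (hd : d ∈ centralizer (D.Lsub n : Set G)) (hd1 : d ≠ 1) {c : G}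
    (hc : c * (D.t * d) = D.t * d * c) : c ∈ normalizer (D.Lsub n : Set G) := by
  have htL : D.t ∈ D.Lsub n := P.good.1 D.t_mem
  have htd : D.t * d = d * D.t := mem_centralizer_iff.1 hd _ htL
  have huL : D.em a0 ∈ D.Lsub n := P.good.1 ⟨emb a0, rfl⟩
  have htt := invol_mul_self D.ht
  set s := D.t * d with hs
  set Y := centralizer ({s} : Set G) with hY
  have hmY : ∀ {y : G}, y ∈ Y ↔ y * s = s * y := mem_centralizer_singleton_iff
  have htY : D.t ∈ Y := hmY.2 (by rw [hs, mul_assoc D.t d, ← htd])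
  have hfd : ∀ m, D.f m * d = d * D.f m := fun m => mem_centralizer_iff.1 hd _ (P.good.1 ⟨m, rfl⟩)
  have hiso : ∀ y ∈ Y, y * D.t * y⁻¹ * D.t = D.t * (y * D.t * y⁻¹) → y * D.t * y⁻¹ = D.t := by
    intro y hy hcomm
    obtain ⟨k, hk⟩ := D.hW y hcomm
    have hys : y * s * y⁻¹ = s := by rw [hmY.1 hy, mul_inv_cancel_right]
    have hkd : y * d * y⁻¹ = D.f (k * iota) * d := by
      have e : y * D.t * y⁻¹ * (y * d * y⁻¹) = s := by
        rw [← hys, hs]; group
      have hxx : y * D.t * y⁻¹ * (y * D.t * y⁻¹) = 1 :=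
        invol_mul_self (by rw [orderOf_conj_eq, D.ht])
      rw [map_mul, D.hι, hk, mul_assoc (y * D.t * y⁻¹), ← hs, ← e]
      calc y * d * y⁻¹ = y * D.t * y⁻¹ * (y * D.t * y⁻¹) * (y * d * y⁻¹) := by
            rw [hxx, one_mul]
        _ = _ := by group
    have htd' : D.t * (y * d * y⁻¹) = y * d * y⁻¹ * D.t := by
      rw [hkd, ← mul_assoc, ← D.f_comm, mul_assoc, mul_assoc]
      exact congrArg _ htd
    have hyt : y⁻¹ * D.t * y ∈ D.Lsub n := by
      refine (P.cent_d hd hd1).2 _ ?_ (isConj_iff.2 ⟨y⁻¹, by rw [inv_inv]⟩)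
      calc y⁻¹ * D.t * y * d = y⁻¹ * (D.t * (y * d * y⁻¹)) * y := by group
        _ = _ := by rw [htd']; group
    have hcen : ∀ m, D.f (k * iota) * D.f m = D.f m * D.f (k * iota) := by
      intro m
      have h1 : y⁻¹ * D.f m * y ∈ D.Lsub n := by
        have := D.conj_mem_good P.good (g := y⁻¹) (by rwa [inv_inv]) m
        rwa [inv_inv] at this
      have h2 : D.f m * (y * d * y⁻¹) = y * d * y⁻¹ * D.f m := by
        calc D.f m * (y * d * y⁻¹) = y * (y⁻¹ * D.f m * y * d) * y⁻¹ := by group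
          _ = y * (d * (y⁻¹ * D.f m * y)) * y⁻¹ := by rw [mem_centralizer_iff.1 hd _ h1]
          _ = _ := by group
      rw [hkd, ← mul_assoc, mul_assoc (D.f (k * iota)), ← hfd, ← mul_assoc] at h2
      exact (mul_right_cancel h2).symm
    by_cases hk1 : k * iota = 1
    · have : k = iota := (mul_eq_one_iff_eq_inv.1 hk1).trans
        (inv_eq_of_mul_eq_one_right (by decide +kernel))
      rw [← hk, this, D.hι]
    · exfalso
      have := mod_center (k * iota) (fun r => D.inj (by rw [map_mul D.f (k * iota), map_mul D.f r]; exact hcen r)) hk1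
      rw [mul_eq_right] at this
      rw [this, map_one, eq_comm, conj_eq_one_iff] at hk
      exact invol_ne_one D.ht hk
  have hisoY : IsIsolatedInvolution (⟨D.t, htY⟩ : Y) :=
    ⟨by rw [← Subgroup.orderOf_coe]; exact D.ht, fun y hy => Subtype.ext
      (hiso y y.2 (congrArg Subtype.val hy.eq).symm)⟩
  let u := D.em a0
  have huu : u * u = 1 := by rw [← map_mul, ← pow_two, e8_sq, map_one]
  have hut : D.t * u = u * D.t := (D.f_comm (emb a0)).symm
  have huY : u ∈ Y := hmY.2 (by
    show u * (D.t * d) = D.t * d * u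
    calc u * (D.t * d) = u * D.t * d := (mul_assoc _ _ _).symm
      _ = D.t * (u * d) := by rw [← hut, mul_assoc]
      _ = D.t * (d * u) := congrArg _ (hfd (emb a0))
      _ = D.t * d * u := (mul_assoc _ _ _).symm)
  have : (oddCore ↥Y).Normal := CfsgLib.Solvable.pPrimeCore_normal 2 ↥Y
  set K := (oddCore ↥Y).map Y.subtype
  have hKn : ∀ g ∈ Y, ∀ k ∈ K, g * k * g⁻¹ ∈ K := by
    rintro g hg _ ⟨k, hk, rfl⟩
    exact ⟨⟨g, hg⟩ * k * ⟨g, hg⟩⁻¹, this.conj_mem k hk _, rfl⟩
  have hKH : K ≤ normalizer (D.Lsub n : Set G) := by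
    have hodd : Odd (Nat.card K) := by
      rw [card_map_of_injective Y.subtype_injective]
      exact odd_card_oddCore Y
    have hsq : ∀ {s h : G}, s * s = 1 → s * h * s = h → h * s = s * h := by
      intro s h hs hh
      calc h * s = s * h * s * s := by rw [hh]
        _ = s * h := by rw [mul_assoc, hs, mul_one]
    refine le_of_four hodd htt huu hut (fun h hh => ?_) (fun h hh => ?_) (fun h hh e => ?_)
      (fun h hh e => ?_) (fun h hh e => ?_)
    · have := hKn _ htY h hh; rwa [invol_inv D.ht] at this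
    · have := hKn _ huY h hh; rwa [inv_eq_of_mul_eq_one_right huu] at this
    · exact P.centralizer_t_le (hsq htt e)
    · exact P.centralizer_conj_le huL (D.isConj_em a0_ne.1) (hsq huu e)
    · refine P.centralizer_conj_le (x := D.em (e0 * a0)) (P.good.1 ⟨emb (e0 * a0), rfl⟩)
        (D.isConj_em (by decide +kernel)) (hsq (by rw [← map_mul, ← pow_two, e8_sq, map_one]) ?_)
      rw [map_mul, D.em_e0]
      calc D.t * u * h * (D.t * u) = D.t * (u * h * u) * D.t := by nth_rewrite 2 [hut]; group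
        _ = h := e
  have hcY : c ∈ Y := hmY.2 hc
  have hz := hKH ⟨_, zstar ↥Y hisoY ⟨c, hcY⟩, rfl⟩
  simp only [coe_subtype, Subgroup.coe_mul, InvMemClass.coe_inv] at hz
  have hx : c * D.t * c⁻¹ ∈ normalizer (D.Lsub n : Set G) := by
    have := mul_mem (inv_mem hz) (le_normalizer htL)
    rwa [show (D.t * c * D.t⁻¹ * c⁻¹)⁻¹ * D.t = c * D.t * c⁻¹ by group] at this
  have hxL : c * D.t * c⁻¹ ∈ D.Lsub n := P.mem_L_of_normalizer hx (isConj_iff.2 ⟨c, rfl⟩)
  have hxd : c * D.t * c⁻¹ * d = d * (c * D.t * c⁻¹) := mem_centralizer_iff.1 hd _ hxL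
  have hxs : c * D.t * c⁻¹ * s = s * (c * D.t * c⁻¹) := by
    have hts : D.t * s = s * D.t := hmY.1 htY
    conv_lhs => rw [← mul_inv_cancel_right s c, ← hc]
    conv_rhs => rw [← mul_inv_cancel_right s c, ← hc]
    calc c * D.t * c⁻¹ * (c * s * c⁻¹) = c * (D.t * s) * c⁻¹ := by group
      _ = _ := by rw [hts]; group
  have hfix := hiso c hcY (by
    have e : D.t = s * d⁻¹ := by rw [hs, mul_inv_cancel_right]
    have h3 : Commute (c * D.t * c⁻¹) (s * d⁻¹) :=
      (show Commute _ s from hxs).mul_right (show Commute _ d from hxd).inv_right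
    rw [← e] at h3
    exact h3.eq)
  exact P.centralizer_t_le (mul_inv_eq_iff_eq_mul.1 hfix)

/-- Every involution of the normalizer has its centralizer there, and commutes there with a
conjugate of `t`. -/
theorem cent_invol {s : G} (hs : s ∈ normalizer (D.Lsub n : Set G)) (hs2 : orderOf s = 2) :
    (∀ c, c * s = s * c → c ∈ normalizer (D.Lsub n : Set G)) ∧
    ∃ x ∈ normalizer (D.Lsub n : Set G), IsConj D.t x ∧ x * s = s * x := by
  have : Fact (Nat.Prime 2) := ⟨Nat.prime_two⟩
  set H := normalizer (D.Lsub n : Set G) with hH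
  obtain ⟨D', hD't, hD'f⟩ := D.exists_restrict P.good_normalizer
  have hs2' : orderOf (⟨s, hs⟩ : H) = 2 := by rw [← Subgroup.orderOf_coe]; exact hs2
  obtain ⟨a, ha⟩ := exists_conj_invol_mem_sylow D'.S hs2'
  set s' := (a : G) * s * (a : G)⁻¹ with hs'
  have hQ : ∀ w, s' * D.em w = D.em w * s' := by
    intro w
    have h := congrArg Subtype.val (D'.mem_QE.1 (D'.S_le_QE ha) w)
    simp only [Subgroup.coe_mul, InvMemClass.coe_inv] at h
    rw [show (D'.em w : G) = D.em w from hD'f (emb w)] at h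
    exact h
  have hs'H : s' ∈ H := mul_mem (mul_mem a.2 hs) (inv_mem a.2)
  have hs'2 : orderOf s' = 2 := by rw [hs', orderOf_conj_eq, hs2]
  suffices hmain : ∀ c, c * s' = s' * c → c ∈ H by
    refine ⟨fun c hc => ?_, (a : G)⁻¹ * D.t * a, ?_, isConj_iff.2 ⟨(a : G)⁻¹, by rw [inv_inv]⟩, ?_⟩
    · have h1 := hmain ((a : G) * c * (a : G)⁻¹) (by
        calc (a : G) * c * (a : G)⁻¹ * s' = (a : G) * (c * s) * (a : G)⁻¹ := by rw [hs']; group
          _ = _ := by rw [hc, hs']; group)
      have := mul_mem (mul_mem (inv_mem a.2) h1) a.2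
      rwa [show (a : G)⁻¹ * ((a : G) * c * (a : G)⁻¹) * a = c by group] at this
    · exact mul_mem (mul_mem (inv_mem a.2) (le_normalizer (P.good.1 D.t_mem))) a.2
    · have h := hQ e0
      rw [D.em_e0] at h
      calc (a : G)⁻¹ * D.t * a * s = (a : G)⁻¹ * (D.t * s') * a := by rw [hs']; group
        _ = (a : G)⁻¹ * (s' * D.t) * a := by rw [h]
        _ = _ := by rw [hs']; group
  obtain ⟨e⟩ := P.iso
  obtain ⟨l, hl⟩ := (conj_bijective e).2 (normalizerMonoidHom (D.Lsub n) ⟨s', hs'H⟩)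
  have hlx : ∀ x ∈ D.Lsub n, (l : G) * x * (l : G)⁻¹ = s' * x * s'⁻¹ := by
    intro x hx
    have := congrArg Subtype.val (DFunLike.congr_fun hl ⟨x, hx⟩)
    exact this
  have hlE : ∀ w, (l : G) * D.em w = D.em w * l := fun w => by
    have h := hlx _ (P.good.1 ⟨emb w, rfl⟩ : D.em w ∈ D.Lsub n)
    rw [hQ, mul_inv_cancel_right] at h
    exact mul_inv_eq_iff_eq_mul.1 h
  obtain ⟨m, hm⟩ := P.cent_L l.2 (by rw [← D.em_e0]; exact hlE e0)
  obtain ⟨v, hv⟩ := emb_centralizer m (fun w => D.inj (by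
    rw [map_mul, map_mul, hm]; exact hlE w))
  have hlv : (l : G) = D.em v := by rw [← hm, ← hv]; rfl
  set d := D.em v * s' with hd
  have hv2 : D.em v * D.em v = 1 := by rw [← map_mul, ← pow_two, e8_sq, map_one]
  have hdL : d ∈ centralizer (D.Lsub n : Set G) := by
    refine mem_centralizer_iff.2 fun x hx => ?_
    have h := hlx x hx
    rw [hlv, inv_eq_of_mul_eq_one_right hv2] at h
    have h' : D.em v * (s' * x * s'⁻¹) * D.em v = x := by
      rw [← h]; simp [← mul_assoc, hv2]; simp [mul_assoc, hv2]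
    calc x * d = D.em v * (s' * x * s'⁻¹) * D.em v * (D.em v * s') := by rw [h']
      _ = D.em v * (s' * x * s'⁻¹) * (D.em v * D.em v) * s' := by group
      _ = d * x := by rw [hv2, hd]; group
  intro c hc
  have hsd : s' = D.em v * d := by rw [hd, ← mul_assoc, hv2, one_mul]
  by_cases hd1 : d = 1
  · rw [hd1, mul_one] at hsd
    refine P.centralizer_conj_le (P.good.1 ⟨emb v, rfl⟩) (D.isConj_em ?_) (hsd ▸ hc)
    rintro rfl
    rw [map_one] at hsd
    exact invol_ne_one hs'2 hsd
  by_cases hv1 : v = 1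
  · rw [hv1, map_one, one_mul] at hsd
    exact (P.cent_d hdL hd1).1 c (hsd ▸ hc)
  obtain ⟨h, hh, hht⟩ := D.fusion_sub P.good (P.good.1 ⟨emb v, rfl⟩ : D.em v ∈ D.Lsub n)
    (D.isConj_em hv1)
  have hhd : h * d = d * h := mem_centralizer_iff.1 hdL h hh
  have hst : s' = h * (D.t * d) * h⁻¹ := by
    rw [hsd, ← hht, mul_assoc (h * D.t), (show Commute h d from hhd).inv_left.eq]
    group
  have h1 : h⁻¹ * c * h * (D.t * d) = D.t * d * (h⁻¹ * c * h) := by
    calc h⁻¹ * c * h * (D.t * d) = h⁻¹ * (c * s') * h := by rw [hst]; group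
      _ = h⁻¹ * (s' * c) * h := by rw [hc]
      _ = _ := by rw [hst]; group
  have := mul_mem (mul_mem (le_normalizer hh) (P.cent_td hdL hd1 h1)) (inv_mem (le_normalizer hh))
  rwa [show h * (h⁻¹ * c * h) * h⁻¹ = c by group] at this

theorem stronglyEmbedded : IsStronglyEmbedded (normalizer (D.Lsub n : Set G)) := by
  have := P.simple
  have htH : D.t ∈ normalizer (D.Lsub n : Set G) := le_normalizer (P.good.1 D.t_mem)
  refine ⟨fun h => ?_, even_card_of_invol_mem D.ht htH, fun g hg => ?_⟩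
  · rcases (normalizer_eq_top_iff.1 h).eq_bot_or_eq_top with h1 | h1
    · exact invol_ne_one D.ht (mem_bot.1 (h1 ▸ P.good.1 D.t_mem))
    · exact P.hne h1
  rw [← Nat.not_even_iff_odd]
  intro he
  obtain ⟨u, hu, hu2⟩ := exists_invol_mem he
  obtain ⟨huH, v, hvH, hvu⟩ := hu
  simp only [MulEquiv.coe_toMonoidHom, MulAut.conj_apply] at hvu
  obtain ⟨-, x, hxH, hxc, hxu⟩ := P.cent_invol huH hu2
  have hv2 : orderOf v = 2 := by rw [← orderOf_conj_eq g v, hvu, hu2]
  have hgx : g⁻¹ * x * g ∈ normalizer (D.Lsub n : Set G) :=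
    (P.cent_invol hvH hv2).1 _ (by
      calc g⁻¹ * x * g * v = g⁻¹ * (x * (g * v * g⁻¹)) * g := by group
        _ = g⁻¹ * (g * v * g⁻¹ * x) * g := by rw [hvu, hxu]
        _ = _ := by group)
  obtain ⟨a, ha, hat⟩ := D.fusion_sub P.good_normalizer hgx
    (hxc.trans (isConj_iff.2 ⟨g⁻¹, by rw [inv_inv]⟩))
  obtain ⟨b, hb, hbt⟩ := D.fusion_sub P.good_normalizer hxH hxc
  have hc : b⁻¹ * g * a * D.t = D.t * (b⁻¹ * g * a) := by
    calc b⁻¹ * g * a * D.t = b⁻¹ * g * (a * D.t * a⁻¹) * a := by group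
      _ = b⁻¹ * (x * g) * a := by rw [hat]; group
      _ = b⁻¹ * (b * D.t * b⁻¹ * g) * a := by rw [hbt]
      _ = _ := by group
  have h1 := mul_mem (mul_mem hb (P.centralizer_t_le hc)) (inv_mem ha)
  rw [show b * (b⁻¹ * g * a) * a⁻¹ = g by group] at h1
  exact hg h1

/-- The subgroup cannot be proper. -/
theorem elim_false : False := by
  classical
  set L := D.Lsub n with hL
  set H := normalizer (L : Set G) with hH
  have hSE : IsStronglyEmbedded H := P.stronglyEmbedded
  obtain ⟨e⟩ := P.iso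
  obtain ⟨-, -, hcard⟩ := invols_J e
  have hinv : ∀ x, orderOf x = 2 → x ∈ H → x ∈ L := fun x hx hxH =>
    P.mem_L_of_normalizer hxH (se_isConj hSE D.ht hx)
  have hn1463 : Nat.card {x : G // orderOf x = 2 ∧ x ∈ H} = 1463 := by
    rw [← hcard]
    exact Nat.card_congr
      { toFun := fun x => ⟨⟨x.1, hinv x.1 x.2.1 x.2.2⟩, by rw [← Subgroup.orderOf_coe]; exact x.2.1⟩
        invFun := fun x => ⟨x.1.1, by rw [Subgroup.orderOf_coe]; exact x.2, le_normalizer x.1.2⟩
        left_inv := fun _ => rfl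
        right_inv := fun _ => rfl }
  obtain ⟨g, -, hg⟩ := SetLike.exists_of_lt hSE.1.lt_top
  let p : G ⧸ H := QuotientGroup.mk 1
  let q : G ⧸ H := QuotientGroup.mk g
  have hpq : p ≠ q := fun h => hg (by
    have := QuotientGroup.eq.1 h
    simpa using this)
  let F : Subgroup G := MulAction.stabilizer G p ⊓ MulAction.stabilizer G q
  have hFH : F ≤ H := fun a ha => by
    have := (fix_coset_iff a (1 : G)).1 (mem_inf.1 ha).1
    simpa using this
  have hFodd : Odd (Nat.card F) := by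
    refine (hSE.2.2 g hg).of_dvd_nat (card_dvd_of_le ?_)
    refine fun a ha => mem_inf.2 ⟨hFH ha, g⁻¹ * a * g, (fix_coset_iff a g).1 (mem_inf.1 ha).2, ?_⟩
    show g * (g⁻¹ * a * g) * g⁻¹ = a
    group
  obtain ⟨i0, hi0, hi0p⟩ := se_swap_exists hSE hpq
  have hmemF : ∀ i, orderOf i = 2 ∧ i • p = q → i0 * i ∈ F := by
    rintro i ⟨hi, hip⟩
    refine mem_inf.2 ⟨?_, ?_⟩ <;> rw [MulAction.mem_stabilizer_iff, mul_smul]
    · rw [hip, invol_smul_swap hi0 hi0p]
    · rw [invol_smul_swap hi hip, hi0p]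
  let cA := MulEquiv.ofBijective _ (conj_bijective e)
  let K : Subgroup J :=
    ((F.subgroupOf H).map (normalizerMonoidHom L)).map (cA.symm.trans e).toMonoidHom
  have hKodd : Odd (Nat.card K) := by
    have h1 : Nat.card K ∣ Nat.card ↥(F.subgroupOf H) :=
      (card_map_dvd _ _).trans (card_map_dvd _ _)
    rw [Nat.card_congr (subgroupOfEquivOfLe hFH).toEquiv] at h1
    exact hFodd.of_dvd_nat h1
  have hbig : 1463 ≤ Nat.card K := by
    rw [← hn1463, ← se_card_swap hSE hpq]
    refine Nat.card_le_card_of_injective (fun i => ⟨(cA.symm.trans e)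
      (normalizerMonoidHom L ⟨i0 * i.1, hFH (hmemF _ i.2)⟩),
      ⟨_, ⟨_, (show (⟨i0 * i.1, hFH (hmemF _ i.2)⟩ : H) ∈ F.subgroupOf H from hmemF _ i.2), rfl⟩,
        rfl⟩⟩) ?_
    rintro ⟨i, hi, hip⟩ ⟨i', hi', hi'p⟩ h
    have h' := (cA.symm.trans e).injective (congrArg Subtype.val h)
    refine Subtype.ext ?_
    show i = i'
    set j := i * i' with hj
    have hjC : ∀ x ∈ L, j * x * j⁻¹ = x := by
      intro x hx
      have h1 := congrArg Subtype.val (DFunLike.congr_fun h' ⟨x, hx⟩)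
      change i0 * i * x * (i0 * i)⁻¹ = i0 * i' * x * (i0 * i')⁻¹ at h1
      calc j * x * j⁻¹ = i * (i0⁻¹ * (i0 * i' * x * (i0 * i')⁻¹) * i0) * i⁻¹ := by
            rw [hj]; group
        _ = i * (i0⁻¹ * (i0 * i * x * (i0 * i)⁻¹) * i0) * i⁻¹ := by rw [h1]
        _ = (i * i) * x * (i * i)⁻¹ := by group
        _ = x := by rw [invol_mul_self hi]; group
    have hjt : Commute D.t j := (mul_inv_eq_iff_eq_mul.1 (hjC _ (P.good.1 D.t_mem))).symm
    have htp : D.t • p = p := (fix_coset_iff _ _).2 (by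
      simpa using le_normalizer (H := L) (P.good.1 D.t_mem))
    have hjj := se_inverted_centralized hSE D.ht hi hjt (conj_left_mul hi hi') htp
      (by rw [hip]; exact hpq.symm)
    have hjH : j ∈ H := by
      refine hFH (mem_inf.2 ⟨?_, ?_⟩) <;> rw [MulAction.mem_stabilizer_iff, hj, mul_smul]
      · rw [hi'p, invol_smul_swap hi hip]
      · rw [invol_smul_swap hi' hi'p, hip]
    by_contra hne
    have hj2 : orderOf j = 2 := invol_of_mul_self hjj fun h => hne (by
      rw [← invol_inv hi', eq_inv_of_mul_eq_one_left h])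
    have hjL := hinv j hj2 hjH
    have h1 : MulAut.conj (⟨j, hjL⟩ : L) = MulAut.conj 1 := by
      rw [map_one]
      exact MulEquiv.ext fun x => Subtype.ext (hjC x x.2)
    exact invol_ne_one hj2 (congrArg Subtype.val ((conj_bijective e).1 h1))
  exact absurd hbig (no_odd_subgroup K hKodd).not_ge

end Proper

end Hyp

/-- The normal closure of `t` is Janko's group. -/
theorem main : ∀ (N : ℕ) (G : Type u) [Group G] [Finite G] (D : Hyp G), Nat.card G = N →
    Nonempty (↥(normalClosure ({D.t} : Set G)) ≃* J) := by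
  intro N
  induction N using Nat.strong_induction_on with
  | _ N ih =>
    intro G _ _ D hN
    have IH : Ind G := fun K _ _ E hlt => ih _ (hN ▸ hlt) K E rfl
    by_cases htop : normalClosure ({D.t} : Set G) = ⊤
    · have hZ := D.center_eq_bot IH htop
      have := D.isSimple htop hZ
      have hperf : commutator G = ⊤ := by
        rw [eq_top_iff, ← htop]
        exact normalClosure_le_normal (Set.singleton_subset_iff.2 D.t_mem_commutator)
      obtain ⟨n, hn, hnt⟩ := D.exists_n0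
      by_cases hL : D.Lsub n = ⊤
      · obtain ⟨e⟩ := D.of_top hperf hZ hn hnt hL
        exact ⟨((MulEquiv.subgroupCongr htop).trans Subgroup.topEquiv).trans e⟩
      · exact (Hyp.Proper.elim_false ⟨this, IH, hn, hnt, hZ, hL⟩).elim
    · exact D.of_proper IH htop

end CfsgLib.Invol.J1Cent.Weak
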