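import Cfsg.Agent.Lib.Invol.JankoOneUniqModel

/-!
Finite facts for the weak-closure characterisation of Janko's first group.
-/

set_option autoImplicit false
set_option maxRecDepth 10000
set_option synthInstance.maxSize 8000
set_option synthInstance.maxHeartbeats 200000

namespace CfsgLib.Invol.J1Cent.Weak

open Equiv CfsgLib.Invol.J1Cent

/-- The hyperplane of the elementary abelian group inside `A₅`. -/
def inV (w : E8) : Prop := w.toAdd.1 = 0

instance (w : E8) : Decidable (inV w) := inferInstanceAs (Decidable (w.toAdd.1 = 0))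

/-- The representatives of the two further classes of involutions. -/
def invRep (b : Bool) : Mod := bif b then iota * (1, rep 1) else (1, rep 1)

/-- The class of an involution outside the centre. -/
def invTag (m : Mod) : Bool := m.1 != 1

theorem invol_classes : ∀ m : Mod, m * m = 1 → m = 1 ∨ m = iota ∨
    ∃ r : Mod, r * invRep (invTag m) * r⁻¹ = m := by decide +kernel

theorem invRep_conj : ∀ (b : Bool) (r : Mod), invTag (r * invRep b * r⁻¹) = b ∧
    r * invRep b * r⁻¹ ≠ iota ∧ r * invRep b * r⁻¹ ≠ 1 ∧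
    (r * invRep b * r⁻¹) * (r * invRep b * r⁻¹) = 1 := by decide +kernel

theorem card_invols : ∀ b : Bool, (Finset.univ.filter fun m : Mod =>
    m * m = 1 ∧ m ≠ 1 ∧ (m = iota ∨ invTag m = b)).card = 16 := by decide +kernel

theorem inV_product : ∀ w : E8, inV w → ∃ a : Mod, a ^ 15 = 1 ∧
    ((a * emb w) ^ 15 = 1) := by decide +kernel

theorem fst_eq_one_of_pow : ∀ a : Multiplicative (ZMod 2), a ^ 15 = 1 → a = 1 := by decide +kernel

/-- The 2-element of a hyperplane stabilizer preserving two hyperplane systems is trivial. -/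
theorem transvection_aux : ∀ y ∈ (Finset.univ : Finset E8), ∀ z ∈ (Finset.univ : Finset E8),
    ∀ c ∈ (Finset.univ : Finset E8), ∀ u ∈ (Finset.univ : Finset E8),
    inV y → inV z → inV u → u ≠ 1 →
    (∀ w, (lin3 e0 y z)^[8] w = w) → lin3 e0 y z u = u →
    (c.toAdd.1 * u.toAdd.1 + c.toAdd.2.1 * u.toAdd.2.1 + c.toAdd.2.2 * u.toAdd.2.2 = 1) →
    (∀ w, c.toAdd.1 * w.toAdd.1 + c.toAdd.2.1 * w.toAdd.2.1 + c.toAdd.2.2 * w.toAdd.2.2 = 0 →
      c.toAdd.1 * (lin3 e0 y z w).toAdd.1 + c.toAdd.2.1 * (lin3 e0 y z w).toAdd.2.1 +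
        c.toAdd.2.2 * (lin3 e0 y z w).toAdd.2.2 = 0) →
    ∀ w, lin3 e0 y z w = w := by decide +kernel

/-- A stabilizer element is a power of `α` or an involution. -/
theorem stab_cases : ∀ y ∈ (Finset.univ : Finset E8), ∀ z ∈ (Finset.univ : Finset E8),
    inV y → inV z → Function.Injective (lin3 e0 y z) →
    (∃ i : Fin 3, ∀ w, lin3 e0 y z w = alp^[i] w) ∨
      ((∀ w, lin3 e0 y z (lin3 e0 y z w) = w) ∧ ¬ ∀ w, lin3 e0 y z w = w) := by decide +kernel

/-- Words in two elements of order three. -/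
def wordAct (f g : E8 → E8) : List Bool → E8 → E8
  | [], w => w
  | true :: L, w => f (wordAct f g L w)
  | false :: L, w => g (wordAct f g L w)

/-- A vertex outside the centre. -/
def a0 : E8 := Multiplicative.ofAdd (0, 1, 0)

theorem a0_ne : a0 ≠ 1 ∧ a0 ≠ e0 ∧ inV a0 := by decide +kernel

theorem transitive_aux : ∀ y ∈ (Finset.univ : Finset E8), ∀ z ∈ (Finset.univ : Finset E8),
    (∀ w, (lin3 a0 y z)^[21] w = w) → (∀ i : Fin 3, ∀ w, (lin3 a0 y z ∘ alp^[i])^[21] w = w) →
    ∀ w : E8, w ≠ 1 → ∃ L ∈ ([[], [true], [false], [true, true], [false, false], [true, false],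
      [false, true], [true, true, false], [false, false, true], [true, false, false],
      [false, true, true], [true, true, false, false], [false, false, true, true],
      [true, false, true], [false, true, false]] : List (List Bool)),
      wordAct alp (fun v => lin3 a0 y z (alp ((lin3 a0 y z)^[20] v))) L e0 = w := by decide +kernel

theorem rigid_q : ∀ a : Mod, a ^ 3 = 1 → (∀ w, a * emb w * a⁻¹ = emb (alp w)) →
    ∃ v : E8, emb v * qM * (emb v)⁻¹ = a := by decide +kernel

theorem rigid_w : ∀ b : Mod, b * b = 1 → b * qM * b⁻¹ = qM⁻¹ →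
    (∀ w : E8, ((b * emb w) ^ 3 = 1 ↔ (wM * emb w) ^ 3 = 1)) → b ^ 2 = 1 →
    ∃ v : E8, emb v * qM * (emb v)⁻¹ = qM ∧ emb v * wM * (emb v)⁻¹ = b := by decide +kernel

theorem gen_orders : (qM.2 ^ 3 = 1 ∧ qM.2 ≠ 1) ∧ ((emb a0).2 ^ 2 = 1 ∧ (emb a0).2 ≠ 1) ∧
    ((wM.2 * (emb (Multiplicative.ofAdd (0, 0, 1))).2) ^ 5 = 1 ∨
      (wM.2 * (emb a0).2) ^ 5 = 1) ∧
    wM.2 * (emb a0).2 ≠ 1 ∧ wM.2 * (emb (Multiplicative.ofAdd (0, 0, 1))).2 ≠ 1 := by
  decide +kernel

end CfsgLib.Invol.J1Cent.Weak
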