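import Cfsg.Agent.Lib.Invol.JankoOneWeakStep
import Cfsg.Agent.Lib.Transfer.Focal
import Mathlib.GroupTheory.Transfer

/-!
When two conjugate weak closures generate the simple group, its centralizer of `t` is `Z/2 × A₅`.
-/

set_option autoImplicit false
set_option synthInstance.maxSize 8000

namespace CfsgLib.Invol.J1Cent.Weak

open scoped Pointwise
open Cfsg Subgroup CfsgLib.Invol.J1Cent CfsgLib.KnownA.JankoOne

universe u

namespace Hyp

variable {G : Type u} [Group G] [Finite G] (D : Hyp G)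

include D

/-- The subgroup generated by two conjugate weak closures. -/
def Lsub (n : G) : Subgroup G := D.f.range ⊔ D.f.range.map (MulAut.conj n).toMonoidHom

/-- A central element commuting with both weak closures. -/
theorem sq_eq_one_of_top (hZ : center G = ⊥) {n : G} (hn : n ∈ D.NE) (hL : D.Lsub n = ⊤) {q : G}
    (hq : q ∈ D.QE) : q * q = 1 := by
  have key : ∀ q ∈ D.QE, ∀ m, q * q * D.f m = D.f m * (q * q) := by
    intro q hq m
    obtain ⟨v, hv⟩ := D.QE_split hq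
    have hv2 : D.em v * D.em v = 1 := by rw [← map_mul, ← pow_two, e8_sq, map_one]
    have hqv : q * D.em v = D.em v * q := D.mem_QE.1 hq v
    have e : q * q = (D.em v * q) * (D.em v * q) := by
      rw [mul_assoc, ← mul_assoc q, hqv, ← mul_assoc, ← mul_assoc, hv2, one_mul]
    have hc : Commute (D.em v * q) (D.f m) := hv m
    rw [e]
    exact (hc.mul_left hc).eq
  have hle : D.Lsub n ≤ centralizer ({q * q} : Set G) := by
    refine sup_le ?_ ?_
    · rintro _ ⟨m, rfl⟩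
      exact mem_centralizer_singleton_iff.2 (key q hq m).symm
    · rintro _ ⟨_, ⟨m, rfl⟩, rfl⟩
      refine mem_centralizer_singleton_iff.2 ?_
      have h := key _ (D.conj_QE (inv_mem hn) hq) m
      simp only [MulEquiv.coe_toMonoidHom, MulAut.conj_apply]
      calc n * D.f m * n⁻¹ * (q * q)
          = n * (D.f m * (n⁻¹ * q * n⁻¹⁻¹ * (n⁻¹ * q * n⁻¹⁻¹))) * n⁻¹ := by group
        _ = n * (n⁻¹ * q * n⁻¹⁻¹ * (n⁻¹ * q * n⁻¹⁻¹) * D.f m) * n⁻¹ := by rw [h]
        _ = _ := by group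
  have hc : q * q ∈ center G := mem_center_iff.2 fun g =>
    mem_centralizer_singleton_iff.1 (hle (hL ▸ mem_top g))
  rwa [hZ, mem_bot] at hc

/-- The Sylow subgroup is then elementary abelian of order eight. -/
theorem QE_le_of_top [IsSimpleGroup G] (hperf : commutator G = ⊤) (hZ : center G = ⊥) {n : G}
    (hn : n ∈ D.NE) (hnt : n * D.t * n⁻¹ = D.em a0) (hL : D.Lsub n = ⊤) :
    D.QE ≤ D.em.range := by
  classical
  have : Fact (Nat.Prime 2) := ⟨Nat.prime_two⟩
  have hsq : ∀ q ∈ D.QE, q * q = 1 := fun q hq => D.sq_eq_one_of_top hZ hn hL hq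
  have hQp : IsPGroup 2 D.QE := fun q => ⟨1, Subtype.ext (by
    simpa [pow_two] using hsq q q.2)⟩
  have hQS : D.QE = (D.S : Subgroup G) := D.S.3 hQp D.S_le_QE
  have hcomm : ∀ a ∈ D.QE, ∀ b ∈ D.QE, a * b = b * a := fun a ha b hb => by
    have h := hsq _ (mul_mem ha hb)
    rw [← inv_eq_iff_mul_eq_one, mul_inv_rev, inv_eq_of_mul_eq_one_right (hsq a ha),
      inv_eq_of_mul_eq_one_right (hsq b hb)] at h
    exact h.symm
  have : IsMulCommutative (D.S : Subgroup G) := ⟨⟨fun a b => Subtype.ext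
    (hcomm a (hQS.ge a.2) b (hQS.ge b.2))⟩⟩
  have hNS : normalizer ((D.S : Subgroup G) : Set G) ≤ D.NE := by
    intro g hg
    have himg : ∀ v, ∃ v', g * D.em v * g⁻¹ = D.em v' := by
      intro v
      by_cases hv : v = 1
      · exact ⟨1, by rw [hv, map_one]; group⟩
      obtain ⟨v', hv'⟩ := D.conj_mem_S ((D.isConj_em hv).trans (isConj_iff.2 ⟨g, rfl⟩))
        ((mem_normalizer_iff.1 hg _).1 (D.hES v))
      exact ⟨v', hv'.symm⟩
    choose φ hφ using himg
    have hinj : Function.Injective φ := fun a b h => D.em_injective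
      (mul_left_cancel (a := g) (mul_right_cancel (b := g⁻¹) (by rw [hφ, hφ, h])))
    refine mem_normalizer_iff.2 fun x => ⟨?_, ?_⟩
    · rintro ⟨v, rfl⟩; exact ⟨φ v, (hφ v).symm⟩
    · rintro ⟨v', hv'⟩
      obtain ⟨v, hv⟩ := (Finite.surjective_of_injective hinj) v'
      refine ⟨v, mul_left_cancel (a := g) (mul_right_cancel (b := g⁻¹) ?_)⟩
      rw [hφ, hv, hv']
  have hSN : (D.S : Subgroup G) ≤ D.NE := fun s hs => D.conj_mem_S' hs
  have hctrl : ∀ x ∈ D.S, ∀ g : G, g * x * g⁻¹ ∈ D.S →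
      ∃ v ∈ D.NE, v * x * v⁻¹ = g * x * g⁻¹ := fun x hx g hg =>
    (CfsgLib.Transfer.abelian_sylow_controls D.S x hx g hg).imp fun v hv => ⟨hNS hv.1, hv.2⟩
  have hfocal := CfsgLib.Transfer.commutator_inf_eq_of_controls D.S hSN hctrl
  rw [hperf, top_inf_eq] at hfocal
  -- the normalizer acts trivially modulo the elementary abelian group
  let M : Subgroup G :=
    { carrier := {g | g ∈ D.NE ∧ ∀ q ∈ D.QE, g * q * g⁻¹ * q⁻¹ ∈ D.em.range}
      one_mem' := ⟨one_mem _, fun q _ => by simp⟩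
      mul_mem' := fun {a b} ha hb => ⟨mul_mem ha.1 hb.1, fun q hq => by
        have := mul_mem (ha.2 _ (D.conj_QE hb.1 hq)) (hb.2 q hq)
        rwa [show a * (b * q * b⁻¹) * a⁻¹ * (b * q * b⁻¹)⁻¹ * (b * q * b⁻¹ * q⁻¹) =
          a * b * q * (a * b)⁻¹ * q⁻¹ by group] at this⟩
      inv_mem' := fun {a} ha => ⟨inv_mem ha.1, fun q hq => by
        have := inv_mem (ha.2 _ (D.conj_QE (inv_mem ha.1) hq))
        rwa [show (a * (a⁻¹ * q * a⁻¹⁻¹) * a⁻¹ * (a⁻¹ * q * a⁻¹⁻¹)⁻¹)⁻¹ =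
          a⁻¹ * q * a⁻¹⁻¹ * q⁻¹ by group] at this⟩ }
  have hqM : D.f qM ∈ M := by
    refine ⟨D.qM_mem_NE, fun q hq => ?_⟩
    obtain ⟨v, hv⟩ := D.QE_split hq
    have hz : D.f qM * (D.em v * q) = (D.em v * q) * D.f qM := (hv qM).symm
    have e : D.f qM * q * (D.f qM)⁻¹ * q⁻¹ =
        (D.f qM * D.em v * (D.f qM)⁻¹)⁻¹ * D.em v := by
      calc D.f qM * q * (D.f qM)⁻¹ * q⁻¹
          = D.f qM * (D.em v)⁻¹ * (D.f qM)⁻¹ *
              (D.f qM * (D.em v * q) * (D.f qM)⁻¹ * (D.em v * q)⁻¹) * D.em v := by group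
        _ = _ := by rw [hz]; group
    rw [e, D.qM_norm, ← map_inv, ← map_mul]
    exact ⟨_, rfl⟩
  have hnqM : n * D.f qM * n⁻¹ ∈ M := by
    refine ⟨mul_mem (mul_mem hn D.qM_mem_NE) (inv_mem hn), fun q hq => ?_⟩
    have h1 := hqM.2 _ (D.conj_QE (inv_mem hn) hq)
    have h2 := (mem_normalizer_iff.1 hn _).1 h1
    rwa [show n * (D.f qM * (n⁻¹ * q * n⁻¹⁻¹) * (D.f qM)⁻¹ * (n⁻¹ * q * n⁻¹⁻¹)⁻¹) * n⁻¹ =
      n * D.f qM * n⁻¹ * q * (n * D.f qM * n⁻¹)⁻¹ * q⁻¹ by group] at h2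
  have hQM : ∀ q ∈ D.QE, q ∈ M := fun q hq => ⟨D.QE_le_NE hq, fun q' hq' => by
    rw [hcomm q hq q' hq', mul_inv_cancel_right, mul_inv_cancel]
    exact one_mem _⟩
  have hM : ∀ g ∈ D.NE, g ∈ M := by
    intro g hg
    obtain ⟨w, hw⟩ : ∃ w, D.em w = g * D.t * g⁻¹ :=
      (mem_normalizer_iff.1 hg _).1 ⟨e0, D.em_e0⟩
    have hw1 : w ≠ 1 := by
      rintro rfl
      rw [map_one, eq_comm, conj_eq_one_iff] at hw
      exact invol_ne_one D.ht hw
    obtain ⟨h, hhM, hhN, hht⟩ := D.trans_of_mem M hqM hn hnt hnqM hw1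
    have hc : h⁻¹ * g * D.t = D.t * (h⁻¹ * g) := by
      calc h⁻¹ * g * D.t = h⁻¹ * (g * D.t * g⁻¹) * g := by group
        _ = h⁻¹ * (h * D.t * h⁻¹) * g := by rw [← hw, hht]
        _ = D.t * (h⁻¹ * g) := by group
    obtain ⟨i, hi⟩ := D.stab_structure (mul_mem (inv_mem hhN) hg) hc
    have h4 := mul_mem hhM (mul_mem (pow_mem hqM (i : ℕ)) (hQM _ hi))
    rwa [show h * (D.f qM ^ (i : ℕ) * ((D.f qM ^ (i : ℕ))⁻¹ * (h⁻¹ * g))) = g by group] at h4
  intro s hs
  have hsS : s ∈ (D.S : Subgroup G) := hQS ▸ hs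
  have hs' : s ∈ (commutator ↥D.NE).map (D.NE).subtype := by
    rw [_root_.commutator_def, map_commutator, ← MonoidHom.range_eq_map, range_subtype]
    exact (hfocal ▸ hsS : s ∈ ⁅D.NE, D.NE⁆ ⊓ (D.S : Subgroup G)).1
  obtain ⟨s', hs'c, rfl⟩ := hs'
  let E' : Subgroup D.NE := D.em.range.subgroupOf D.NE
  have hE'n : E'.Normal := ⟨fun a ha g => (mem_normalizer_iff.1 g.2 _).1 ha⟩
  let π := QuotientGroup.mk' E'
  let S' : Subgroup D.NE := (D.S : Subgroup G).subgroupOf D.NE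
  have hScen : S'.map π ≤ center _ := by
    rintro _ ⟨a, ha, rfl⟩
    refine mem_center_iff.2 fun y => ?_
    obtain ⟨y, rfl⟩ := QuotientGroup.mk'_surjective _ y
    rw [← map_mul, ← map_mul]
    refine (QuotientGroup.eq_iff_div_mem.2 ?_)
    show ((y * a / (a * y) : D.NE) : G) ∈ D.em.range
    have := (hM y y.2).2 a (hQS ▸ ha)
    rw [div_eq_mul_inv, mul_inv_rev]
    simpa [mul_assoc] using this
  have hodd : Odd ((center (↥D.NE ⧸ E')).index) := by
    refine Odd.of_dvd_nat ?_ ((index_dvd_of_le hScen).trans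
      (S'.index_map_dvd (QuotientGroup.mk'_surjective _)))
    rw [← Nat.not_even_iff_odd]
    exact fun h => (D.S.subtype hSN).not_dvd_index (even_iff_two_dvd.1 h)
  obtain ⟨k, hk⟩ := hodd
  let θ := MonoidHom.transferCenterPow (↥D.NE ⧸ E')
  have h1 : θ (π s') = 1 := by
    have : commutator ↥D.NE ≤ (θ.comp π).ker := by
      rw [_root_.commutator_def, commutator_le]
      intro a _ b _
      rw [MonoidHom.mem_ker, map_commutatorElement, commutatorElement_eq_one_iff_mul_comm]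
      exact Subtype.ext (mem_center_iff.1 ((θ.comp π) b).2 _)
    exact MonoidHom.mem_ker.1 (this hs'c)
  have h2 : π s' ^ (2 * k + 1) = 1 := by
    have := congrArg Subtype.val h1
    rw [MonoidHom.transferCenterPow_apply] at this
    rwa [hk] at this
  have h3 : π s' * π s' = 1 := by
    rw [← map_mul, show s' * s' = 1 from Subtype.ext (hsq _ hs), map_one]
  have h4 : π s' = 1 := by
    rwa [pow_succ, pow_mul, pow_two, h3, one_pow, one_mul] at h2
  exact (QuotientGroup.eq_one_iff s').1 h4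

/-- If two conjugate weak closures generate the group, it is Janko's group. -/
theorem of_top [IsSimpleGroup G] (hperf : commutator G = ⊤) (hZ : center G = ⊥) {n : G}
    (hn : n ∈ D.NE) (hnt : n * D.t * n⁻¹ = D.em a0) (hL : D.Lsub n = ⊤) : Cfsg.Spor.IsoJ1 G := by
  have hQ := D.QE_le_of_top hperf hZ hn hnt hL
  have hC : centralizer ({D.t} : Set G) = D.f.range := by
    refine le_antisymm (fun c hc => ?_) ?_
    · obtain ⟨m, hm⟩ := D.centralizer_split (mem_centralizer_singleton_iff.1 hc)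
      obtain ⟨w, hw⟩ := hQ (D.mem_QE.2 fun v => hm (emb v) : D.f m * c ∈ D.QE)
      refine ⟨m⁻¹ * emb w, ?_⟩
      rw [map_mul, map_inv, show D.f (emb w) = D.em w from rfl, hw, inv_mul_cancel_left]
    · rintro _ ⟨m, rfl⟩
      exact mem_centralizer_singleton_iff.2 (D.f_comm m)
  exact isoJ1 D.t ⟨D.ht, D.S, D.em_e0 ▸ D.hES e0, D.hSt⟩
    ((MulEquiv.subgroupCongr hC).trans (MonoidHom.ofInjective D.inj).symm)

end Hyp

end CfsgLib.Invol.J1Cent.Weak
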