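import Cfsg.Agent.Lib.Invol.JankoOneWeakSub
import Cfsg.Agent.Lib.Invol.JankoOneWeakFour
import Cfsg.Agent.Lib.KnownA.JankoOne.Mult
import Cfsg.Agent.Lib.Invol.BrauerSuzuki

/-!
Reduction of the weak-closure characterisation of Janko's group to simple groups.
-/

set_option autoImplicit false
set_option synthInstance.maxSize 8000

namespace CfsgLib.Invol.J1Cent.Weak

open scoped Pointwise
open Cfsg Subgroup CfsgLib.Invol.J1Cent CfsgLib.KnownA.JankoOne

universe u

/-- The conclusion for all smaller groups. -/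
def Ind (G : Type u) : Prop :=
  ∀ (K : Type u) [Group K] [Finite K] (E : Hyp K), Nat.card K < Nat.card G →
    Nonempty (↥(normalClosure ({E.t} : Set K)) ≃* J)

namespace Hyp

variable {G : Type u} [Group G] [Finite G] (D : Hyp G)

include D

/-- The conjugates of `t` inside a subgroup generate Janko's group. -/
theorem sub_iso (IH : Ind G) {H : Subgroup G} (hH : D.Good H) (hne : H ≠ ⊤) :
    Nonempty (↥(closure {x : G | x ∈ H ∧ IsConj D.t x}) ≃* J) := by
  obtain ⟨D', hD', -⟩ := D.exists_restrict hH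
  have hlt : Nat.card H < Nat.card G := by
    refine lt_of_le_of_ne H.card_le_card_group fun h => hne (eq_top_of_card_eq H h)
  obtain ⟨e⟩ := IH H D' hlt
  exact ⟨(MulEquiv.subgroupCongr (D.map_normalClosure hH hD').symm).trans
    ((equivMapOfInjective _ _ H.subtype_injective).symm.trans e)⟩

/-- If the normal closure is proper, induction applies. -/
theorem of_proper (IH : Ind G) (hN : normalClosure ({D.t} : Set G) ≠ ⊤) :
    Nonempty (↥(normalClosure ({D.t} : Set G)) ≃* J) := by
  set N := normalClosure ({D.t} : Set G)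
  obtain ⟨e⟩ := D.sub_iso IH (D.good_of_normal normalClosure_normal
    (subset_normalClosure (Set.mem_singleton D.t))) hN
  have hcl : N = closure {x : G | x ∈ N ∧ IsConj D.t x} := by
    refine le_antisymm ((closure_le _).2 fun x hx => ?_) ((closure_le _).2 fun x hx => hx.1)
    obtain ⟨a, rfl, hax⟩ := Group.mem_conjugatesOfSet_iff.1 hx
    exact subset_closure ⟨subset_closure hx, hax⟩
  exact ⟨(MulEquiv.subgroupCongr hcl).trans e⟩

/-- `t` lies in the derived group. -/
theorem t_mem_commutator : D.t ∈ commutator G := by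
  rw [← Abelianization.ker_of, MonoidHom.mem_ker]
  have key : ∀ w : E8, w ≠ 1 → Abelianization.of (D.em w) = Abelianization.of D.t := fun w hw =>
    (isConj_iff_eq.1 (MonoidHom.map_isConj Abelianization.of (D.isConj_em hw))).symm
  have h := congrArg Abelianization.of (map_mul D.em a0 (a0 * e0))
  rw [(by decide +kernel : a0 * (a0 * e0) = e0), D.em_e0, map_mul, key _ a0_ne.1,
    key _ (by decide +kernel : a0 * e0 ≠ 1)] at h
  simpa using h

/-- A minimal example has trivial centre. -/
theorem center_eq_bot (IH : Ind G) (hN : normalClosure ({D.t} : Set G) = ⊤) : center G = ⊥ := by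
  by_contra hZ
  obtain ⟨D', hD'⟩ := D.exists_quotient
  have hlt : Nat.card (G ⧸ center G) < Nat.card G := by
    rw [card_eq_card_quotient_mul_card_subgroup (center G)]
    exact lt_mul_of_one_lt_right Nat.card_pos ((one_lt_card_iff_ne_bot _).2 hZ)
  obtain ⟨e⟩ := IH _ D' hlt
  have htop : normalClosure ({D'.t} : Set (G ⧸ center G)) = ⊤ := by
    rw [hD', ← Set.image_singleton, ← Subgroup.map_normalClosure _ _ (QuotientGroup.mk'_surjective _), hN,
      map_top_of_surjective _ (QuotientGroup.mk'_surjective _)]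
  let e' : G ⧸ center G ≃* J :=
    (Subgroup.topEquiv.symm.trans (MulEquiv.subgroupCongr htop.symm)).trans e
  let σ : G →* J := e'.toMonoidHom.comp (QuotientGroup.mk' (center G))
  have hker : σ.ker = center G := by
    ext x
    simp only [σ, MonoidHom.mem_ker, MonoidHom.comp_apply, MulEquiv.coe_toMonoidHom,
      EmbeddingLike.map_eq_one_iff, QuotientGroup.mk'_apply, QuotientGroup.eq_one_iff]
  have hperf : commutator G = ⊤ := by
    rw [eq_top_iff, ← hN]
    exact normalClosure_le_normal (Set.singleton_subset_iff.2 D.t_mem_commutator)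
  refine hZ (hker ▸ stem_ker_eq_bot σ ⟨e'.surjective.comp (QuotientGroup.mk'_surjective _),
    hker.le, ?_⟩)
  rw [hperf]
  exact le_top

/-- A minimal example is simple. -/
theorem isSimple (hN : normalClosure ({D.t} : Set G) = ⊤) (hZ : center G = ⊥) :
    IsSimpleGroup G := by
  have : Nontrivial G := ⟨D.t, 1, invol_ne_one D.ht⟩
  refine ⟨fun R hR => ?_⟩
  by_cases htR : D.t ∈ R
  · exact Or.inr (eq_top_iff.2 (hN ▸ normalClosure_le_normal (Set.singleton_subset_iff.2 htR)))
  left
  have hRW : ∀ m, D.f m ∈ R → m = 1 := by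
    intro m hm
    have hodd : Odd (Nat.card (R.comap D.f)) := by
      rw [← Nat.not_even_iff_odd]
      intro he
      obtain ⟨k, hk, hk2⟩ := exists_invol_mem he
      obtain ⟨g, hg⟩ := isConj_iff.1 (D.isConj_f (invol_mul_self hk2) (invol_ne_one hk2))
      refine htR ?_
      have := hR.conj_mem _ (show D.f k ∈ R from hk) g⁻¹
      rwa [← hg, show g⁻¹ * (g * D.t * g⁻¹) * g⁻¹⁻¹ = D.t by group] at this
    have := mod_odd _ (hR.comap D.f) hodd
    exact mem_bot.1 (this ▸ (show m ∈ R.comap D.f from hm))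
  have hCE : ∀ c ∈ R, c * D.t = D.t * c → c ∈ D.QE := by
    intro c hc hct
    refine D.mem_QE.2 fun w => ?_
    obtain ⟨m, hm⟩ := D.conj_f hct (emb w)
    have h1 : D.f (m * (emb w)⁻¹) ∈ R := by
      rw [map_mul, map_inv, hm]
      rw [show c * D.f (emb w) * c⁻¹ * (D.f (emb w))⁻¹ =
        c * (D.f (emb w) * c⁻¹ * (D.f (emb w))⁻¹) by group]
      exact mul_mem hc (hR.conj_mem _ (inv_mem hc) _)
    have h2 := mul_inv_eq_one.1 (hRW _ h1)
    rw [h2] at hm
    exact mul_inv_eq_iff_eq_mul.1 hm.symm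
  have hC : ∀ w : E8, w ≠ 1 → ∀ c ∈ R, c * D.em w = D.em w * c → c * D.t = D.t * c := by
    intro w hw c hc hcw
    obtain ⟨n, hn, hnt⟩ := D.exists_fusion hw
    have h1 : n⁻¹ * c * n * D.t = D.t * (n⁻¹ * c * n) := by
      calc n⁻¹ * c * n * D.t = n⁻¹ * (c * (n * D.t * n⁻¹)) * n := by group
        _ = n⁻¹ * (n * D.t * n⁻¹ * c) * n := by rw [hnt, hcw]
        _ = _ := by group
    have h2 := hCE _ (by simpa using hR.conj_mem c hc n⁻¹) h1
    have h3 := D.conj_QE hn h2
    rw [show n * (n⁻¹ * c * n) * n⁻¹ = c by group] at h3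
    have := D.mem_QE.1 h3 e0
    rwa [D.em_e0] at this
  set Y := R ⊔ zpowers D.t with hY
  have htY : D.t ∈ Y := mem_sup_right (mem_zpowers _)
  have hiso : IsIsolatedInvolution (⟨D.t, htY⟩ : Y) := by
    refine ⟨by rw [← Subgroup.orderOf_coe]; exact D.ht, fun y hy => Subtype.ext ?_⟩
    obtain ⟨r, hr, b, ⟨k, rfl⟩, hrb⟩ :=
      Set.mem_mul.1 (show (y : G) ∈ (R : Set G) * (zpowers D.t : Set G) by
        rw [← normal_mul]; exact y.2)
    have hyr : (y : G) * D.t * (y : G)⁻¹ = r * D.t * r⁻¹ := by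
      rw [← hrb]
      show r * D.t ^ k * D.t * (r * D.t ^ k)⁻¹ = _
      group
    have hy' : (y : G) * D.t * (y : G)⁻¹ * D.t = D.t * ((y : G) * D.t * (y : G)⁻¹) :=
      (congrArg Subtype.val hy.eq).symm
    show (y : G) * D.t * (y : G)⁻¹ = D.t
    rw [hyr] at hy' ⊢
    obtain ⟨m, hm⟩ := D.hW r hy'
    have h1 : D.f (m * iota⁻¹) ∈ R := by
      rw [map_mul, map_inv, D.hι, hm, show r * D.t * r⁻¹ * D.t⁻¹ = r * (D.t * r⁻¹ * D.t⁻¹) by group]
      exact mul_mem hr (hR.conj_mem _ (inv_mem hr) _)
    rw [← hm, mul_inv_eq_one.1 (hRW _ h1), D.hι]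
  -- the odd core of the normal subgroup
  have : (oddCore ↥R).Characteristic := CfsgLib.Solvable.pPrimeCore_characteristic 2 ↥R
  set K := (oddCore ↥R).map R.subtype with hK
  have hKn : K.Normal := inferInstance
  have hKodd : Odd (Nat.card K) := by
    rw [card_map_of_injective R.subtype_injective]
    exact odd_card_oddCore R
  let u := D.em a0
  have huu : u * u = 1 := by rw [← map_mul, ← pow_two, e8_sq, map_one]
  have htt := invol_mul_self D.ht
  have hut : D.t * u = u * D.t := (D.f_comm (emb a0)).symm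
  have hKC : K ≤ centralizer ({D.t} : Set G) := by
    have hsq : ∀ {s h : G}, s * s = 1 → s * h * s = h → h * s = s * h := by
      intro s h hs hh
      calc h * s = s * h * s * s := by rw [hh]
        _ = s * h := by rw [mul_assoc, hs, mul_one]
    refine le_of_four hKodd htt huu hut (fun h hh => ?_) (fun h hh => ?_) (fun h hh e => ?_)
      (fun h hh e => ?_) (fun h hh e => ?_)
    · have := hKn.conj_mem h hh D.t; rwa [invol_inv D.ht] at this
    · have := hKn.conj_mem h hh u; rwa [inv_eq_of_mul_eq_one_right huu] at this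
    · exact mem_centralizer_singleton_iff.2 (hsq htt e)
    · exact mem_centralizer_singleton_iff.2 (hC a0 a0_ne.1 h
        (map_subtype_le _ hh) (hsq huu e))
    · refine mem_centralizer_singleton_iff.2 (hC (e0 * a0) (by decide +kernel) h
        (map_subtype_le _ hh) (hsq (by rw [← map_mul, ← pow_two, e8_sq, map_one]) ?_))
      rw [map_mul, D.em_e0]
      calc D.t * u * h * (D.t * u) = D.t * (u * h * u) * D.t := by nth_rewrite 2 [hut]; group
        _ = h := e
  have hcen : ∀ r ∈ R, r * D.t = D.t * r := by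
    intro r hr
    let K0 := ((oddCore ↥Y).map Y.subtype).subgroupOf R
    have hK0n : K0.Normal := ⟨fun a ha g => by
      obtain ⟨b, hb, hba⟩ := ha
      exact ⟨⟨g, mem_sup_left g.2⟩ * b * ⟨g, mem_sup_left g.2⟩⁻¹,
        (CfsgLib.Solvable.pPrimeCore_normal 2 ↥Y).conj_mem b hb _, by
          simp only [coe_subtype] at hba
          simp [hba]⟩⟩
    have hK0odd : Odd (Nat.card K0) := by
      rw [← card_map_of_injective R.subtype_injective, Subgroup.subgroupOf_map_subtype]
      refine Odd.of_dvd_nat ?_ (card_dvd_of_le inf_le_left)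
      rw [card_map_of_injective Y.subtype_injective]
      exact odd_card_oddCore Y
    have hz := zstar ↥Y hiso ⟨r, mem_sup_left hr⟩
    set c := D.t * r * D.t⁻¹ * r⁻¹ with hc
    have hcR : c ∈ R := mul_mem (hR.conj_mem r hr _) (inv_mem hr)
    have hcK : c ∈ K := ⟨⟨c, hcR⟩, le_oddCore hK0n hK0odd ⟨_, hz, rfl⟩, rfl⟩
    have hct : D.t * c = c * D.t := (mem_centralizer_singleton_iff.1 (hKC hcK)).symm
    have hcc : c * c = 1 := by
      have e1 : D.t * c * D.t = c⁻¹ := by
        rw [hc, mul_inv_rev, mul_inv_rev, mul_inv_rev, inv_inv, inv_inv, invol_inv D.ht]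
        simp [← mul_assoc, htt]
      rw [hct, mul_assoc, htt, mul_one] at e1
      exact eq_inv_iff_mul_eq_one.1 e1
    have hc1 : c = 1 := eq_one_of_sq_of_odd hcc
      (hKodd.of_dvd_nat (Subgroup.orderOf_mk c hcK ▸ orderOf_dvd_natCard _))
    rw [hc, mul_inv_eq_one, mul_inv_eq_iff_eq_mul] at hc1
    exact hc1.symm
  rw [eq_bot_iff, ← hZ]
  intro r hr
  refine mem_center_iff.2 fun g => ?_
  have hle : normalClosure ({D.t} : Set G) ≤ centralizer ({r} : Set G) := by
    refine (closure_le _).2 fun x hx => ?_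
    obtain ⟨a, rfl, hax⟩ := Group.mem_conjugatesOfSet_iff.1 hx
    obtain ⟨h, rfl⟩ := isConj_iff.1 hax
    refine mem_centralizer_singleton_iff.2 ?_
    have := hcen _ (hR.conj_mem r hr h⁻¹)
    rw [inv_inv] at this
    calc h * D.t * h⁻¹ * r = h * (D.t * (h⁻¹ * r * h)) * h⁻¹ := by group
      _ = _ := by rw [← this]; group
  exact mem_centralizer_singleton_iff.1 (hle (hN ▸ mem_top g))

end Hyp

end CfsgLib.Invol.J1Cent.Weak
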