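import Cfsg.Agent.Lib.Invol.JankoOneWeakBase
import Cfsg.Agent.Lib.Transfer.Frobenius
import Mathlib.GroupTheory.QuotientGroup.Basic

/-!
The configuration passes to subgroups containing two conjugate weak closures and to the quotient
by the centre; fusion of the conjugates of `t` in such subgroups.
-/

set_option autoImplicit false
set_option synthInstance.maxSize 8000

namespace CfsgLib.Invol.J1Cent.Weak

open Cfsg Subgroup CfsgLib.Invol.J1Cent

universe u

theorem iterate_orders : ∀ x ∈ (Finset.univ : Finset E8), ∀ y ∈ (Finset.univ : Finset E8),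
    ∀ z ∈ (Finset.univ : Finset E8), Function.Injective (lin3 x y z) →
    (∀ w, (lin3 x y z)^[8] w = w) ∨ ∀ w, (lin3 x y z)^[21] w = w := by decide +kernel

theorem lin3_e0 : ∀ x y z : E8, lin3 x y z e0 = x := by decide +kernel

namespace Hyp

variable {G : Type u} [Group G] [Finite G] (D : Hyp G)

include D

theorem t_mem : D.t ∈ D.f.range := ⟨iota, D.hι⟩

theorem conj_QE {n q : G} (hn : n ∈ D.NE) (hq : q ∈ D.QE) : n * q * n⁻¹ ∈ D.QE := by
  refine D.mem_QE.2 fun w => ?_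
  obtain ⟨v, hv⟩ := (mem_normalizer_iff.1 (inv_mem hn) (D.em w)).1 ⟨w, rfl⟩
  rw [inv_inv] at hv
  calc n * q * n⁻¹ * D.em w = n * (q * (n⁻¹ * D.em w * n)) * n⁻¹ := by group
    _ = n * (q * D.em v) * n⁻¹ := by rw [hv]
    _ = n * (D.em v * q) * n⁻¹ := by rw [D.mem_QE.1 hq]
    _ = D.em w * (n * q * n⁻¹) := by rw [hv]; group

theorem QE_le_NE : D.QE ≤ D.NE := fun q hq => by
  refine mem_normalizer_iff.2 fun x => ⟨?_, ?_⟩
  · rintro ⟨w, rfl⟩
    exact ⟨w, by rw [D.mem_QE.1 hq, mul_inv_cancel_right]⟩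
  · rintro ⟨w, hw⟩
    refine ⟨w, mul_left_cancel (a := q) (mul_right_cancel (b := q⁻¹) ?_)⟩
    rw [D.mem_QE.1 hq, mul_inv_cancel_right, hw]

/-- The normalizer of the elementary abelian group induces a group of exponent dividing 21. -/
theorem pow_twentyone {n : G} (hn : n ∈ D.NE) : n ^ 21 ∈ D.QE := by
  have : Fact (Nat.Prime 2) := ⟨Nat.prime_two⟩
  obtain ⟨x, y, z, h, hinj⟩ := D.exists_lin hn
  have hfix : ∀ k, (∀ w, (lin3 x y z)^[k] w = w) → n ^ k ∈ D.QE := fun k hk => D.mem_QE.2 fun w => by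
    exact mul_inv_eq_iff_eq_mul.1 ((D.iterate_em h k w).trans (congrArg D.em (hk w)))
  rcases iterate_orders x (Finset.mem_univ _) y (Finset.mem_univ _) z (Finset.mem_univ _) hinj
    with h8 | h21
  · obtain ⟨a, b, hb, hord⟩ := Nat.exists_eq_two_pow_mul_odd (orderOf_pos n).ne'
    have hSN : (D.S : Subgroup G) ≤ D.NE := fun s hs => D.conj_mem_S' hs
    have hp : IsPGroup 2 (zpowers (⟨n ^ b, pow_mem hn b⟩ : D.NE)) := by
      refine IsPGroup.of_card_dvd_pow (n := a) ?_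
      rw [Nat.card_zpowers]
      refine orderOf_dvd_of_pow_eq_one (Subtype.ext ?_)
      show (n ^ b) ^ 2 ^ a = 1
      rw [← pow_mul, mul_comm, ← hord, pow_orderOf_eq_one]
    obtain ⟨c, hc⟩ := exists_conj_mem_sylow (D.S.subtype hSN) hp
    have hq : (c : G) * n ^ b * (c : G)⁻¹ ∈ D.QE := D.S_le_QE (hc _ (mem_zpowers _))
    have hb' : n ^ b ∈ D.QE := by
      have := D.conj_QE (inv_mem c.2) hq
      rw [show (c : G)⁻¹ * ((c : G) * n ^ b * (c : G)⁻¹) * (c : G)⁻¹⁻¹ = n ^ b by group] at this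
      exact this
    obtain ⟨q, hq8⟩ : ∃ q, b * b = 8 * q + 1 := by
      obtain ⟨j, rfl⟩ := hb
      obtain ⟨l, hl⟩ := (Nat.even_mul_succ_self j)
      exact ⟨l, by nlinarith⟩
    have hn1 : n = (n ^ b) ^ b * ((n ^ 8) ^ q)⁻¹ := by
      rw [← pow_mul, ← pow_mul, hq8, pow_succ']
      group
    exact pow_mem (hn1 ▸ mul_mem (pow_mem hb' b) (inv_mem (pow_mem (hfix 8 h8) q))) 21
  · exact hfix 21 h21

/-- A vertex of the fusion. -/
theorem exists_n0 : ∃ n ∈ D.NE, n * D.t * n⁻¹ = D.em a0 := D.exists_fusion a0_ne.1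

/-- Two conjugate elements of order three are transitive on the involutions. -/
theorem trans_of_mem (K : Subgroup G) (hK : D.f qM ∈ K) {n : G} (hn : n ∈ D.NE)
    (hnt : n * D.t * n⁻¹ = D.em a0) (hK1 : n * D.f qM * n⁻¹ ∈ K) {w : E8} (hw : w ≠ 1) :
    ∃ h ∈ K, h ∈ D.NE ∧ h * D.t * h⁻¹ = D.em w := by
  obtain ⟨x, y, z, h, -⟩ := D.exists_lin hn
  have hx : x = a0 := D.em_injective (by
    rw [← hnt, ← D.em_e0, h, lin3_e0])
  rw [hx] at h
  have h21 : ∀ w, (lin3 a0 y z)^[21] w = w := fun w => D.em_injective (by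
    rw [← D.iterate_em h, D.mem_QE.1 (D.pow_twentyone hn), mul_inv_cancel_right])
  have hmix : ∀ i : Fin 3, ∀ w, (lin3 a0 y z ∘ alp^[i])^[21] w = w := by
    intro i w
    have hact : ∀ v, n * D.f qM ^ (i : ℕ) * D.em v * (n * D.f qM ^ (i : ℕ))⁻¹ =
        D.em ((lin3 a0 y z ∘ alp^[i]) v) := by
      intro v
      rw [show (lin3 a0 y z ∘ alp^[i]) v = lin3 a0 y z (alp^[i] v) from rfl, ← h,
        ← D.iterate_em D.qM_norm]
      group
    refine D.em_injective ?_
    rw [← D.iterate_em hact, D.mem_QE.1 (D.pow_twentyone (mul_mem hn (pow_mem D.qM_mem_NE _))),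
      mul_inv_cancel_right]
  obtain ⟨L, -, hL⟩ := transitive_aux y (Finset.mem_univ _) z (Finset.mem_univ _) h21 hmix w hw
  rw [← hL]
  have hback : ∀ v, n⁻¹ * D.em v * n = D.em ((lin3 a0 y z)^[20] v) := by
    intro v
    have e := h21 v
    rw [show (21 : ℕ) = 1 + 20 from rfl, Function.iterate_add_apply, Function.iterate_one] at e
    conv_lhs => rw [← e, ← h]
    group
  clear hL
  induction L with
  | nil => exact ⟨1, one_mem _, one_mem _, by rw [show wordAct _ _ [] e0 = e0 from rfl, D.em_e0]; group⟩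
  | cons b L ih =>
    obtain ⟨g, hgK, hgN, hg⟩ := ih
    cases b
    · refine ⟨n * D.f qM * n⁻¹ * g, mul_mem hK1 hgK,
        mul_mem (mul_mem (mul_mem hn D.qM_mem_NE) (inv_mem hn)) hgN, ?_⟩
      show _ = D.em (lin3 a0 y z (alp ((lin3 a0 y z)^[20] _)))
      rw [← h, ← D.qM_norm, ← hback, ← hg]
      group
    · refine ⟨D.f qM * g, mul_mem hK hgK, mul_mem D.qM_mem_NE hgN, ?_⟩
      show _ = D.em (alp _)
      rw [← D.qM_norm, ← hg]
      group

/-- A subgroup containing two conjugate weak closures. -/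
def Good (H : Subgroup G) : Prop :=
  D.f.range ≤ H ∧ ∃ n ∈ D.NE, n * D.t * n⁻¹ = D.em a0 ∧ ∀ m, n * D.f m * n⁻¹ ∈ H

theorem Good.mono {H K : Subgroup G} (h : D.Good H) (hle : H ≤ K) : D.Good K := by
  obtain ⟨h1, n, hn, hnt, h2⟩ := h
  exact ⟨h1.trans hle, n, hn, hnt, fun m => hle (h2 m)⟩

theorem good_of_normal {N : Subgroup G} (hN : N.Normal) (ht : D.t ∈ N) : D.Good N := by
  obtain ⟨n, hn, hnt⟩ := D.exists_n0
  have hle : D.f.range ≤ N := by
    refine D.hgen.trans ((closure_le _).2 fun x hx => ?_)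
    obtain ⟨g, rfl⟩ := isConj_iff.1 hx.1
    exact hN.conj_mem _ ht g
  exact ⟨hle, n, hn, hnt, fun m => hN.conj_mem _ (hle ⟨m, rfl⟩) n⟩

/-- In such a subgroup the conjugates of `t` form one class. -/
theorem fusion_sub {H : Subgroup G} (hH : D.Good H) {x : G} (hxH : x ∈ H) (hx : IsConj D.t x) :
    ∃ h ∈ H, h * D.t * h⁻¹ = x := by
  have : Fact (Nat.Prime 2) := ⟨Nat.prime_two⟩
  obtain ⟨hle, n, hn, hnt, hn2⟩ := hH
  let E' : Subgroup H := D.em.range.subgroupOf H
  have hE' : IsPGroup 2 E' := (IsPGroup.of_card (n := 3) D.card_em).comap_subtype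
  obtain ⟨P, hP⟩ := hE'.exists_le_sylow
  have hPG : IsPGroup 2 ((P : Subgroup H).map H.subtype) := P.2.map _
  have hEP : ∀ w, D.em w ∈ (P : Subgroup H).map H.subtype := fun w =>
    ⟨⟨D.em w, hle ⟨emb w, rfl⟩⟩, hP ⟨w, rfl⟩, rfl⟩
  have hx2 : orderOf (⟨x, hxH⟩ : H) = 2 := by
    rw [← Subgroup.orderOf_coe]
    exact (orderOf_eq_of_isConj hx).trans D.ht
  obtain ⟨a, ha⟩ := exists_conj_invol_mem_sylow P hx2
  have hax : IsConj D.t ((a : G) * x * (a : G)⁻¹) := hx.trans (isConj_iff.2 ⟨a, rfl⟩)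
  obtain ⟨w, hw⟩ := (D.two_group _ hPG hEP).2 _ ⟨_, ha, rfl⟩ hax
  have hw1 : w ≠ 1 := by
    rintro rfl
    rw [map_one] at hw
    have := orderOf_eq_of_isConj hax
    simp only [coe_subtype, Subgroup.coe_mul, InvMemClass.coe_inv] at hw
    rw [← hw, orderOf_one, D.ht] at this
    norm_num at this
  simp only [coe_subtype, Subgroup.coe_mul, InvMemClass.coe_inv] at hw
  obtain ⟨h, hh, -, hht⟩ := D.trans_of_mem H (hle ⟨qM, rfl⟩) hn hnt (hn2 qM) hw1
  refine ⟨(a : G)⁻¹ * h, mul_mem (inv_mem a.2) hh, ?_⟩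
  calc (a : G)⁻¹ * h * D.t * ((a : G)⁻¹ * h)⁻¹ = (a : G)⁻¹ * (h * D.t * h⁻¹) * a := by group
    _ = x := by rw [hht, hw]; group

/-- Conjugates of the weak closure at conjugates of `t` in such a subgroup lie in it. -/
theorem conj_mem_good {H : Subgroup G} (hH : D.Good H) {g : G} (hg : g * D.t * g⁻¹ ∈ H) (m : Mod) :
    g * D.f m * g⁻¹ ∈ H := by
  obtain ⟨h, hh, hht⟩ := D.fusion_sub hH hg (isConj_iff.2 ⟨g, rfl⟩)
  have hc : h⁻¹ * g * D.t = D.t * (h⁻¹ * g) := by
    calc h⁻¹ * g * D.t = h⁻¹ * (g * D.t * g⁻¹) * g := by group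
      _ = h⁻¹ * (h * D.t * h⁻¹) * g := by rw [hht]
      _ = D.t * (h⁻¹ * g) := by group
  obtain ⟨m', hm'⟩ := D.conj_f hc m
  have e : g * D.f m * g⁻¹ = h * D.f m' * h⁻¹ := by rw [hm']; group
  rw [e]
  exact mul_mem (mul_mem hh (hH.1 ⟨m', rfl⟩)) (inv_mem hh)

/-- The configuration in a subgroup. -/
theorem exists_restrict {H : Subgroup G} (hH : D.Good H) :
    ∃ D' : Hyp H, (D'.t : G) = D.t ∧ ∀ m, (D'.f m : G) = D.f m := by
  have : Fact (Nat.Prime 2) := ⟨Nat.prime_two⟩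
  have hle := hH.1
  let E' : Subgroup H := D.em.range.subgroupOf H
  have hE' : IsPGroup 2 E' := (IsPGroup.of_card (n := 3) D.card_em).comap_subtype
  obtain ⟨P, hP⟩ := hE'.exists_le_sylow
  have hPG : IsPGroup 2 ((P : Subgroup H).map H.subtype) := P.2.map _
  have hEP : ∀ w, D.em w ∈ (P : Subgroup H).map H.subtype := fun w =>
    ⟨⟨D.em w, hle ⟨emb w, rfl⟩⟩, hP ⟨w, rfl⟩, rfl⟩
  let f' : Mod →* H := D.f.codRestrict H fun m => hle ⟨m, rfl⟩
  refine ⟨
    { t := ⟨D.t, hle D.t_mem⟩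
      f := f'
      inj := fun a b h => D.inj (congrArg Subtype.val h)
      hι := Subtype.ext D.hι
      hW := fun g hg => by
        obtain ⟨m, hm⟩ := D.hW (g : G) (congrArg Subtype.val hg)
        exact ⟨m, Subtype.ext hm⟩
      hgen := ?_
      S := P
      hES := fun w => hP ⟨w, rfl⟩
      hSt := fun s hs => Subtype.ext ?_ }, rfl, fun m => rfl⟩
  · rintro _ ⟨m, rfl⟩
    have hm : D.f m ∈ (closure {x : H | IsConj (⟨D.t, hle D.t_mem⟩ : H) x ∧
        x * ⟨D.t, hle D.t_mem⟩ = ⟨D.t, hle D.t_mem⟩ * x}).map H.subtype := by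
      refine (D.hgen.trans ((closure_le _).2 fun x hx => ?_)) ⟨m, rfl⟩
      obtain ⟨k, rfl⟩ := D.conj_in_range hx.1 hx.2
      obtain ⟨h, hh, hht⟩ := D.fusion_sub hH (hle ⟨k, rfl⟩) hx.1
      exact ⟨⟨D.f k, hle ⟨k, rfl⟩⟩, subset_closure ⟨isConj_iff.2 ⟨⟨h, hh⟩, Subtype.ext hht⟩,
        Subtype.ext hx.2⟩, rfl⟩
    obtain ⟨y, hy, hym⟩ := hm
    rwa [show f' m = y from Subtype.ext hym.symm]
  · have := D.mem_QE.1 ((D.two_group _ hPG hEP).1 ⟨s, hs, rfl⟩) e0
    rwa [D.em_e0] at this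

/-- The conjugates of `t` in a subgroup generate the normal closure of `t` in it. -/
theorem map_normalClosure {H : Subgroup G} (hH : D.Good H) {t' : H} (ht' : (t' : G) = D.t) :
    (normalClosure ({t'} : Set H)).map H.subtype = closure {x : G | x ∈ H ∧ IsConj D.t x} := by
  rw [normalClosure, MonoidHom.map_closure]
  congr 1
  ext x
  simp only [Set.mem_image, Group.mem_conjugatesOfSet_iff, Set.mem_singleton_iff, exists_eq_left,
    Set.mem_setOf_eq, coe_subtype]
  constructor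
  · rintro ⟨y, hy, rfl⟩
    exact ⟨y.2, ht' ▸ MonoidHom.map_isConj H.subtype hy⟩
  · rintro ⟨hxH, hx⟩
    obtain ⟨h, hh, hht⟩ := D.fusion_sub hH hxH hx
    exact ⟨⟨x, hxH⟩, isConj_iff.2 ⟨⟨h, hh⟩, Subtype.ext (by
      show h * (t' : G) * h⁻¹ = x
      rw [ht', hht])⟩, rfl⟩

theorem t_not_central : D.t ∉ center G := fun h => by
  obtain ⟨g, hg⟩ := isConj_iff.1 (D.isConj_em a0_ne.1)
  rw [mem_center_iff.1 h g, mul_inv_cancel_right, ← D.em_e0] at hg
  exact a0_ne.2.1 (D.em_injective hg).symm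

theorem eq_one_of_central {m : Mod} (h : D.f m ∈ center G) : m = 1 := by
  by_contra hm
  have hc : ∀ r : Mod, m * r = r * m := fun r => D.inj (by
    rw [map_mul, map_mul]; exact (mem_center_iff.1 h (D.f r)).symm)
  rw [mod_center m hc hm, D.hι] at h
  exact D.t_not_central h

/-- The configuration modulo the centre. -/
theorem exists_quotient :
    ∃ D' : Hyp (G ⧸ center G), D'.t = QuotientGroup.mk' (center G) D.t := by
  have : Fact (Nat.Prime 2) := ⟨Nat.prime_two⟩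
  set π := QuotientGroup.mk' (center G) with hπ
  have hker : ∀ x, π x = 1 ↔ x ∈ center G := fun x => QuotientGroup.eq_one_iff x
  refine ⟨
    { t := π D.t
      f := π.comp D.f
      inj := (injective_iff_map_eq_one _).2 fun m hm => D.eq_one_of_central ((hker _).1 hm)
      hι := congrArg π D.hι
      hW := fun g hg => ?_
      hgen := ?_
      S := D.S.mapSurjective (QuotientGroup.mk'_surjective _)
      hES := fun w => ?_
      hSt := fun s hs => ?_ }, rfl⟩
  · obtain ⟨g, rfl⟩ := QuotientGroup.mk'_surjective _ g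
    set x := g * D.t * g⁻¹ with hx
    rw [← map_inv, ← map_mul, ← map_mul, ← hx, ← map_mul, ← map_mul] at hg
    have htt := invol_mul_self D.ht
    have hxx : x * x = 1 := invol_mul_self (by rw [hx, orderOf_conj_eq, D.ht])
    set z := (D.t * x)⁻¹ * (x * D.t) with hz
    have hzc : z ∈ center G := by
      rw [← hker, hz, map_mul, map_inv]
      exact inv_mul_eq_one.2 hg.symm
    have hzx : D.t * x * z = x * D.t := by rw [hz]; group
    set x' := D.t * x * D.t with hx'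
    have hx'z : x' = x * z⁻¹ := by
      rw [eq_mul_inv_iff_mul_eq, hx', mul_assoc (D.t * x), mem_center_iff.1 hzc D.t,
        ← mul_assoc, hzx, mul_assoc, htt, mul_one]
    have hcomm : g⁻¹ * x' * g * D.t = D.t * (g⁻¹ * x' * g) := by
      have h1 : x' * x = x * x' := by
        rw [hx'z, mul_assoc, ← mem_center_iff.1 (inv_mem hzc) x]
      calc g⁻¹ * x' * g * D.t = g⁻¹ * (x' * x) * g := by rw [hx]; group
        _ = g⁻¹ * (x * x') * g := by rw [h1]
        _ = D.t * (g⁻¹ * x' * g) := by rw [hx]; group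
    have hconj : g⁻¹ * D.t * g * D.t * (g⁻¹ * D.t * g)⁻¹ = g⁻¹ * x' * g := by
      rw [mul_inv_rev, mul_inv_rev, inv_inv, invol_inv D.ht, hx', hx]; group
    obtain ⟨k, hk⟩ := D.hW (g⁻¹ * D.t * g) (by rw [hconj]; exact hcomm)
    have hk' : D.f k = g⁻¹ * x' * g := hk.trans hconj
    have hzk : D.f (iota * k) = g⁻¹ * z⁻¹ * g := by
      rw [map_mul, D.hι, hk', hx'z, hx]
      calc D.t * (g⁻¹ * (g * D.t * g⁻¹ * z⁻¹) * g)
          = D.t * D.t * (g⁻¹ * z⁻¹ * g) := by group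
        _ = _ := by rw [htt, one_mul]
    have hzc' : g⁻¹ * z⁻¹ * g = z⁻¹ := by
      rw [mul_assoc, ← mem_center_iff.1 (inv_mem hzc) g, ← mul_assoc, inv_mul_cancel, one_mul]
    rw [hzc'] at hzk
    have h1 := D.eq_one_of_central (hzk ▸ inv_mem hzc : D.f (iota * k) ∈ center G)
    rw [h1, map_one, eq_comm, inv_eq_one] at hzk
    obtain ⟨m, hm⟩ := D.hW g (by rw [← hx, ← hzx, hzk, mul_one])
    exact ⟨m, by rw [← map_inv, ← map_mul, ← map_mul, ← hm]; rfl⟩
  · rw [MonoidHom.range_comp, D.range_eq, MonoidHom.map_closure]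
    refine closure_mono ?_
    rintro _ ⟨x, ⟨h1, h2⟩, rfl⟩
    exact ⟨MonoidHom.map_isConj π h1, by rw [← map_mul, ← map_mul, h2]⟩
  · rw [Sylow.coe_mapSurjective]
    exact ⟨_, D.hES w, rfl⟩
  · rw [Sylow.coe_mapSurjective] at hs
    obtain ⟨s, hs', rfl⟩ := hs
    rw [← map_mul, ← map_mul, D.hSt s hs']

end Hyp

/-- The configuration from the hypotheses. -/
theorem exists_hyp {G : Type u} [Group G] [Finite G] (t : G) (ht : orderOf t = 2) (S : Sylow 2 G)
    (htc : ∀ s ∈ (S : Subgroup G), s * t = t * s)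
    (e : ↥(closure {x : G | ∃ g : G, x = g * t * g⁻¹ ∧ x * t = t * x}) ≃* Mod) :
    ∃ D : Hyp G, D.t = t := by
  have : Fact (Nat.Prime 2) := ⟨Nat.prime_two⟩
  set X := {x : G | ∃ g : G, x = g * t * g⁻¹ ∧ x * t = t * x}
  set W := closure X
  have htW : t ∈ W := subset_closure ⟨1, by group, rfl⟩
  have hι : e ⟨t, htW⟩ = iota := by
    refine mod_center _ (fun r => ?_) fun h => ?_
    · obtain ⟨c, rfl⟩ := e.surjective r
      rw [← map_mul, ← map_mul]
      congr 1
      apply Subtype.ext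
      show t * (c : G) = (c : G) * t
      have hc : (c : G) ∈ centralizer ({t} : Set G) := (closure_le _).2
        (fun x hx => mem_centralizer_singleton_iff.2 (by obtain ⟨g, -, h⟩ := hx; exact h)) c.2
      exact (mem_centralizer_singleton_iff.1 hc).symm
    · rw [EmbeddingLike.map_eq_one_iff] at h
      exact invol_ne_one ht (congrArg Subtype.val h)
  let f : Mod →* G := W.subtype.comp e.symm.toMonoidHom
  have hfι : f iota = t := by
    show ((e.symm iota : W) : G) = t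
    rw [← hι, e.symm_apply_apply]
  set C := centralizer ({t} : Set G)
  have hSC : (S : Subgroup G) ≤ C := fun s hs => mem_centralizer_singleton_iff.2 (htc s hs)
  have hEC : ∀ w, f (emb w) ∈ C := fun w => mem_centralizer_singleton_iff.2 (by
    rw [← hfι, ← map_mul, ← map_mul, iota_comm])
  let P0 : E8 →* C := (f.comp emb).codRestrict C hEC
  have hP0 : IsPGroup 2 P0.range := by
    refine IsPGroup.of_surjective ?_ P0.rangeRestrict P0.rangeRestrict_surjective
    exact fun w => ⟨1, e8_sq w⟩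
  obtain ⟨a, ha⟩ := exists_conj_mem_sylow (S.subtype hSC) hP0
  refine ⟨
    { t := t
      f := f
      inj := W.subtype_injective.comp e.symm.injective
      hι := hfι
      hW := fun g hg => ⟨e ⟨_, subset_closure ⟨g, rfl, hg⟩⟩, by
        show ((e.symm (e _) : W) : G) = _
        rw [e.symm_apply_apply]⟩
      hgen := ?_
      S := (a : G)⁻¹ • S
      hES := fun w => ?_
      hSt := fun s hs => ?_ }, rfl⟩
  · rintro _ ⟨m, rfl⟩
    refine closure_mono ?_ (e.symm m).2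
    rintro x ⟨g, rfl, h⟩
    exact ⟨isConj_iff.2 ⟨g, rfl⟩, h⟩
  · refine CfsgLib.Transfer.sylow_smul_mem_iff.2 ?_
    rw [inv_inv]
    exact ha _ ⟨w, rfl⟩
  · replace hs := CfsgLib.Transfer.sylow_smul_mem_iff.1 hs
    rw [inv_inv] at hs
    have hat : (a : G) * t = t * a := mem_centralizer_singleton_iff.1 a.2
    have h := htc _ hs
    have hai : (a : G)⁻¹ * t = t * (a : G)⁻¹ := (show Commute (a : G) t from hat).inv_left.eq
    calc s * t = (a : G)⁻¹ * ((a : G) * s * (a : G)⁻¹) * ((a : G) * t) := by group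
      _ = (a : G)⁻¹ * ((a : G) * s * (a : G)⁻¹ * t) * a := by rw [hat]; group
      _ = (a : G)⁻¹ * t * ((a : G) * s) := by rw [h]; group
      _ = t * s := by rw [hai]; group

end CfsgLib.Invol.J1Cent.Weak
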