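import Mathlib.LinearAlgebra.Matrix.Adjugate
import Mathlib.LinearAlgebra.Matrix.Symmetric
import Mathlib.Algebra.Order.BigOperators.Group.Finset
import Mathlib.Tactic

/-!
Quadratic forms of symmetric positive rational matrices: the Schur complement of the first
coordinate, determinants and the inverse form.
-/

set_option autoImplicit false

namespace CfsgLib.Invol.LatticeTheta

open Finset Matrix

variable {n : ℕ} {K : Type*} [Field K] [CharZero K]

/-- The quadratic form of a rational matrix. -/
def rf (M : Matrix (Fin n) (Fin n) ℚ) (z : Fin n → K) : K := ∑ i, ∑ j, z i * (M i j : K) * z j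

/-- Symmetric and positive definite over the rationals. -/
def QPos (M : Matrix (Fin n) (Fin n) ℚ) : Prop :=
  (∀ i j, M i j = M j i) ∧ ∀ x : Fin n → ℚ, x ≠ 0 → 0 < rf M x

theorem rf_zero (M : Matrix (Fin n) (Fin n) ℚ) : rf M (0 : Fin n → K) = 0 := by simp [rf]

theorem rf_nonneg {M : Matrix (Fin n) (Fin n) ℚ} (hM : QPos M) (x : Fin n → ℚ) : 0 ≤ rf M x := by
  by_cases h : x = 0
  · simp [h, rf_zero]
  · exact (hM.2 x h).le

/-- Expansion of the form at a translate. -/
theorem rf_sub {M : Matrix (Fin n) (Fin n) ℚ} (hM : ∀ i j, M i j = M j i) (x y : Fin n → K) :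
    rf M (fun i => x i - y i) =
      rf M x - 2 * ∑ i, x i * ∑ j, (M i j : K) * y j + rf M y := by
  have e : ∑ i, ∑ j, y i * (M i j : K) * x j = ∑ i, x i * ∑ j, (M i j : K) * y j := by
    rw [Finset.sum_comm]
    refine Finset.sum_congr rfl fun i _ => ?_
    rw [Finset.mul_sum]
    refine Finset.sum_congr rfl fun j _ => ?_
    rw [hM j i]; ring
  have e2 : ∑ i, ∑ j, x i * (M i j : K) * y j = ∑ i, x i * ∑ j, (M i j : K) * y j :=
    Finset.sum_congr rfl fun i _ => by rw [Finset.mul_sum]; exact Finset.sum_congr rfl fun j _ => by ring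
  simp only [rf, sub_mul, mul_sub, Finset.sum_sub_distrib]
  rw [e, e2]
  ring

theorem rf_smul (M : Matrix (Fin n) (Fin n) ℚ) (c : K) (y : Fin n → K) :
    rf M (fun i => c * y i) = c ^ 2 * rf M y := by
  simp only [rf, Finset.mul_sum]
  exact Finset.sum_congr rfl fun i _ => Finset.sum_congr rfl fun j _ => by ring

theorem mul_apply' {M N : Matrix (Fin n) (Fin n) ℚ} (h : M * N = 1) (i k : Fin n) :
    ∑ j, M i j * N j k = if i = k then 1 else 0 := by
  have := congrFun (congrFun h i) k
  rwa [Matrix.mul_apply, Matrix.one_apply] at this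

theorem symm_inv {M N : Matrix (Fin n) (Fin n) ℚ} (hM : ∀ i j, M i j = M j i) (h : M * N = 1) :
    ∀ i j, N i j = N j i := by
  have hs : Mᵀ = M := by ext i j; exact hM j i
  have h' : Nᵀ * M = 1 := by rw [← hs, ← Matrix.transpose_mul, h, Matrix.transpose_one]
  have e : Nᵀ = N := by
    calc Nᵀ = Nᵀ * (M * N) := by rw [h, Matrix.mul_one]
      _ = N := by rw [← Matrix.mul_assoc, h', Matrix.one_mul]
  intro i j
  conv_lhs => rw [← e]
  rfl

/-- The inverse form at the image. -/
theorem rf_inv {M N : Matrix (Fin n) (Fin n) ℚ} (hM : ∀ i j, M i j = M j i) (h : M * N = 1)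
    (y : Fin n → ℚ) : rf M (fun i => ∑ j, N i j * y j) = rf N y := by
  have hN := symm_inv hM h
  simp only [rf, Rat.cast_id]
  have e : ∀ i, ∑ j, M i j * (∑ k, N j k * y k) = y i := by
    intro i
    simp only [Finset.mul_sum]
    rw [Finset.sum_comm]
    simp only [← mul_assoc, ← Finset.sum_mul, mul_apply' h]
    simp
  calc ∑ i, ∑ j, (∑ k, N i k * y k) * M i j * (∑ k, N j k * y k)
      = ∑ i, (∑ k, N i k * y k) * y i := by
        refine Finset.sum_congr rfl fun i _ => ?_
        conv_rhs => rw [← e i, Finset.mul_sum]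
        exact Finset.sum_congr rfl fun j _ => by ring
    _ = ∑ i, ∑ j, y i * N i j * y j := by
        simp only [Finset.sum_mul]
        exact Finset.sum_congr rfl fun i _ => Finset.sum_congr rfl fun j _ => by ring

theorem qpos_inv {M N : Matrix (Fin n) (Fin n) ℚ} (hM : QPos M) (h : M * N = 1) : QPos N := by
  refine ⟨symm_inv hM.1 h, fun y hy => ?_⟩
  rw [← rf_inv hM.1 h y]
  refine hM.2 _ fun h0 => hy (funext fun i => ?_)
  have e : ∑ j, M i j * (∑ k, N j k * y k) = y i := by
    simp only [Finset.mul_sum]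
    rw [Finset.sum_comm]
    simp only [← mul_assoc, ← Finset.sum_mul, mul_apply' h]
    simp
  have h1 : ∀ j, ∑ k, N j k * y k = 0 := congrFun h0
  simp only [h1, mul_zero, Finset.sum_const_zero] at e
  exact e.symm

/-- A coordinate is bounded by the form. -/
theorem sq_le {M N : Matrix (Fin n) (Fin n) ℚ} (hM : QPos M) (h : M * N = 1) (x : Fin n → ℚ)
    (i : Fin n) : x i ^ 2 ≤ N i i * rf M x := by
  have hN : ∀ a, ∑ j, M a j * N j i = if a = i then 1 else 0 := fun a => mul_apply' h a i
  have hc : rf M (fun j => N j i) = N i i := by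
    simp only [rf, Rat.cast_id, mul_assoc, ← Finset.mul_sum, hN]
    simp
  have hcne : (fun j => N j i) ≠ 0 := fun h0 => by
    have := hN i
    simp [show ∀ j, N j i = 0 from congrFun h0] at this
  have hpos : 0 < N i i := hc ▸ hM.2 _ hcne
  have hq := rf_nonneg hM (fun j => x j - (x i / N i i) * N j i)
  rw [rf_sub hM.1, rf_smul, hc] at hq
  have e : ∑ a, x a * ∑ j, (M a j : ℚ) * (x i / N i i * N j i) = x i * (x i / N i i) := by
    simp only [mul_left_comm (M _ _), ← Finset.mul_sum, hN]
    simp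
  simp only [Rat.cast_id] at hq
  rw [e] at hq
  have : N i i * (rf M x - 2 * (x i * (x i / N i i)) + (x i / N i i) ^ 2 * N i i) =
      N i i * rf M x - x i ^ 2 := by field_simp; ring
  have h2 := mul_nonneg hpos.le hq
  rw [this] at h2
  linarith

section Schur

variable (M : Matrix (Fin (n + 1)) (Fin (n + 1)) ℚ)

/-- The Schur complement of the first coordinate. -/
def schur : Matrix (Fin n) (Fin n) ℚ :=
  fun i j => M i.succ j.succ - M i.succ 0 * M j.succ 0 / M 0 0

/-- The first column without the first entry. -/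
def col (z : Fin n → K) : K := ∑ i : Fin n, (M i.succ 0 : K) * z i

theorem rf_cons (hM : ∀ i j, M i j = M j i) (t : K) (z : Fin n → K) :
    rf M (Fin.cons t z) = (M 0 0 : K) * t ^ 2 + 2 * t * col M z +
      rf (M.submatrix Fin.succ Fin.succ) z := by
  simp only [rf, col, Fin.sum_univ_succ, Fin.cons_zero, Fin.cons_succ, Finset.sum_add_distrib,
    Matrix.submatrix_apply, Finset.mul_sum]
  have e1 : ∀ i : Fin n, t * (M 0 i.succ : K) * z i = t * ((M i.succ 0 : K) * z i) := fun i => by
    rw [hM 0 i.succ]; ring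
  have e2 : ∀ i : Fin n, z i * (M i.succ 0 : K) * t = t * ((M i.succ 0 : K) * z i) := fun i => by ring
  simp only [e1, e2, two_mul, add_mul, Finset.sum_add_distrib]
  ring

theorem rf_schur (z : Fin n → K) :
    rf (schur M) z = rf (M.submatrix Fin.succ Fin.succ) z - col M z ^ 2 / (M 0 0 : K) := by
  simp only [rf, schur, col, Matrix.submatrix_apply, Rat.cast_sub, Rat.cast_div, Rat.cast_mul,
    mul_sub, sub_mul, Finset.sum_sub_distrib]
  congr 1
  rw [sq, Finset.sum_mul_sum, Finset.sum_div]
  refine Finset.sum_congr rfl fun i _ => ?_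
  rw [Finset.sum_div]
  exact Finset.sum_congr rfl fun j _ => by ring

variable {M}

theorem qpos_head (hM : QPos M) : 0 < M 0 0 := by
  have h := hM.2 (Fin.cons 1 0) fun h => one_ne_zero (congrFun h 0)
  rw [rf_cons M hM.1, rf_zero] at h
  simpa [col] using h

theorem qpos_schur (hM : QPos M) : QPos (schur M) := by
  refine ⟨fun i j => by simp [schur, hM.1 i.succ j.succ, mul_comm], fun x hx => ?_⟩
  have hm := qpos_head hM
  have h := hM.2 (Fin.cons (-col M x / M 0 0) x) fun h0 => hx (funext fun i => by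
    simpa using congrFun h0 i.succ)
  rw [rf_cons M hM.1] at h
  rw [rf_schur]
  simp only [Rat.cast_id] at h ⊢
  have e : M 0 0 * (-col M x / M 0 0) ^ 2 + 2 * (-col M x / M 0 0) * col M x =
      -(col M x ^ 2 / M 0 0) := by field_simp; ring
  linarith

variable {N : Matrix (Fin (n + 1)) (Fin (n + 1)) ℚ}

theorem schur_mul (hM : QPos M) (h : M * N = 1) :
    schur M * N.submatrix Fin.succ Fin.succ = 1 := by
  have hm := (qpos_head hM).ne'
  ext i k
  have h0 := mul_apply' h 0 k.succ
  have hi := mul_apply' h i.succ k.succ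
  simp only [Fin.sum_univ_succ, (Fin.succ_ne_zero k).symm, if_false, Fin.succ_inj] at h0 hi
  rw [Matrix.mul_apply, Matrix.one_apply, ← hi]
  simp only [schur, Matrix.submatrix_apply, sub_mul, Finset.sum_sub_distrib]
  have e : ∑ j : Fin n, M i.succ 0 * M j.succ 0 / M 0 0 * N j.succ k.succ =
      M i.succ 0 / M 0 0 * ∑ j : Fin n, M 0 j.succ * N j.succ k.succ := by
    rw [Finset.mul_sum]
    exact Finset.sum_congr rfl fun j _ => by rw [hM.1 0 j.succ]; ring
  rw [e, eq_neg_of_add_eq_zero_right h0]
  field_simp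
  ring

theorem det_schur (hM : QPos M) (h : M * N = 1) : M.det = M 0 0 * (schur M).det := by
  have hN : N * M = 1 := mul_eq_one_comm.1 h
  have hd : M.det * N.det = 1 := by rw [← Matrix.det_mul, h, Matrix.det_one]
  have hs : (schur M).det * (N.submatrix Fin.succ Fin.succ).det = 1 := by
    rw [← Matrix.det_mul, schur_mul hM h, Matrix.det_one]
  have hadj : Matrix.adjugate N = N.det • M := by
    calc Matrix.adjugate N = Matrix.adjugate N * (N * M) := by rw [hN, Matrix.mul_one]
      _ = _ := by rw [← Matrix.mul_assoc, Matrix.adjugate_mul, Matrix.smul_mul, Matrix.one_mul]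
  have h00 := congrFun (congrFun hadj 0) 0
  rw [Matrix.adjugate_fin_succ_eq_det_submatrix] at h00
  simp [Fin.succAbove_zero] at h00
  have hne : (N.submatrix Fin.succ Fin.succ).det ≠ 0 := right_ne_zero_of_mul_eq_one hs
  apply mul_right_cancel₀ hne
  rw [mul_assoc, hs, mul_one, h00, ← mul_assoc, hd, one_mul]

/-- The inverse form in Schur coordinates. -/
theorem rf_inv_cons (hM : QPos M) (h : M * N = 1) (t : K) (z : Fin n → K) :
    rf N (Fin.cons t z) = t ^ 2 / (M 0 0 : K) +
      rf (N.submatrix Fin.succ Fin.succ) (fun i => z i - t / (M 0 0 : K) * (M i.succ 0 : K)) := by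
  have hNs := symm_inv hM.1 h
  have hm : (M 0 0 : K) ≠ 0 := by exact_mod_cast (qpos_head hM).ne'
  have hk : ∀ i : Fin n, ∑ j : Fin n, N i.succ j.succ * M j.succ 0 = -(N i.succ 0 * M 0 0) := by
    intro i
    have := mul_apply' (mul_eq_one_comm.1 h : N * M = 1) i.succ 0
    simp only [Fin.sum_univ_succ, Fin.succ_ne_zero, if_false] at this
    linarith
  have h00 : N 0 0 * M 0 0 + ∑ j : Fin n, N j.succ 0 * M j.succ 0 = 1 := by
    have := mul_apply' (mul_eq_one_comm.1 h : N * M = 1) 0 0
    simp only [Fin.sum_univ_succ, if_true] at this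
    rw [← this]
    congr 1
    exact Finset.sum_congr rfl fun j _ => by rw [hNs 0 j.succ]
  have hkK : ∀ i : Fin n, ∑ j : Fin n, (N i.succ j.succ : K) * (M j.succ 0 : K) =
      -((N i.succ 0 : K) * (M 0 0 : K)) := fun i => by exact_mod_cast hk i
  have h00K : (N 0 0 : K) * (M 0 0 : K) + ∑ j : Fin n, (N j.succ 0 : K) * (M j.succ 0 : K) = 1 := by
    exact_mod_cast h00
  rw [rf_cons N hNs, rf_sub (M := N.submatrix Fin.succ Fin.succ) (fun i j => hNs i.succ j.succ),
    rf_smul]
  have e1 : ∑ i, z i * ∑ j, ((N.submatrix Fin.succ Fin.succ) i j : K) *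
      (t / (M 0 0 : K) * (M j.succ 0 : K)) = -(t * col N z) := by
    simp only [Matrix.submatrix_apply, mul_left_comm ((N _ _ : ℚ) : K), ← Finset.mul_sum, hkK, col]
    rw [Finset.mul_sum, ← Finset.sum_neg_distrib]
    exact Finset.sum_congr rfl fun i _ => by field_simp
  have e2 : rf (N.submatrix Fin.succ Fin.succ) (fun i => (M i.succ 0 : K)) =
      -((M 0 0 : K) * ∑ j : Fin n, (N j.succ 0 : K) * (M j.succ 0 : K)) := by
    simp only [rf, Matrix.submatrix_apply, mul_assoc, ← Finset.mul_sum, hkK]
    rw [Finset.mul_sum, ← Finset.sum_neg_distrib]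
    exact Finset.sum_congr rfl fun i _ => by ring
  rw [e1, e2, eq_sub_of_add_eq' h00K]
  field_simp
  ring

end Schur

theorem det_pos : ∀ {n : ℕ} {M N : Matrix (Fin n) (Fin n) ℚ}, QPos M → M * N = 1 → 0 < M.det := by
  intro n
  induction n with
  | zero => intro M N _ _; simp
  | succ n ih =>
    intro M N hM h
    rw [det_schur hM h]
    exact mul_pos (qpos_head hM) (ih (qpos_schur hM) (schur_mul hM h))

end CfsgLib.Invol.LatticeTheta
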