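import Mathlib.Analysis.SpecialFunctions.Gaussian.PoissonSummation
import Mathlib.NumberTheory.ModularForms.JacobiTheta.TwoVariable
import Mathlib.Topology.Algebra.InfiniteSum.Ring
import Cfsg.Agent.Lib.Invol.LatticeThetaAlg

/-!
Poisson summation for a positive definite rational quadratic form in several variables, with a
complex scaling factor.
-/

set_option autoImplicit false

namespace CfsgLib.Invol.LatticeTheta

open Finset Complex
open scoped Real

variable {n : ℕ}

/-- The integral vector as a vector over a field. -/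
def zc (K : Type*) [Field K] (x : Fin n → ℤ) : Fin n → K := fun i => (x i : K)

/-- The linear form. -/
def lin {K : Type*} [Field K] (b : Fin n → K) (x : Fin n → ℤ) : K := ∑ i, b i * (x i : K)

/-- A term of the theta series. -/
noncomputable def term (M : Matrix (Fin n) (Fin n) ℚ) (s : ℂ) (b : Fin n → ℂ) (x : Fin n → ℤ) : ℂ :=
  cexp (-π * s * rf M (zc ℂ x) + 2 * π * lin b x)

/-- A term of the transformed series. -/
noncomputable def dual (N : Matrix (Fin n) (Fin n) ℚ) (s : ℂ) (b : Fin n → ℂ) (k : Fin n → ℤ) : ℂ :=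
  cexp (π / s * rf N (fun i => b i - I * (k i : ℂ)))

theorem rf_zc (M : Matrix (Fin n) (Fin n) ℚ) (x : Fin n → ℤ) :
    rf M (zc ℂ x) = (((rf M (zc ℚ x) : ℚ) : ℝ) : ℂ) := by
  simp [rf, zc]

/-! ### Summability -/

theorem summable_pi {g : ℤ → ℝ} (hg : Summable g) (h0 : ∀ m, 0 ≤ g m) :
    ∀ n : ℕ, Summable fun x : Fin n → ℤ => ∏ i, g (x i) := by
  intro n
  induction n with
  | zero => exact Summable.of_finite
  | succ n ih =>
    rw [← (Fin.consEquiv fun _ : Fin (n + 1) => ℤ).summable_iff]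
    have e : (fun x : Fin (n + 1) → ℤ => ∏ i, g (x i)) ∘ (Fin.consEquiv fun _ => ℤ) =
        fun p : ℤ × (Fin n → ℤ) => g p.1 * ∏ i, g (p.2 i) := by
      funext p
      simp [Fin.consEquiv, Fin.prod_univ_succ]
    rw [e]
    exact hg.mul_of_nonneg ih h0 fun x => Finset.prod_nonneg fun i _ => h0 _

theorem summable_gauss {σ : ℝ} (hσ : 0 < σ) (L : ℝ) :
    Summable fun m : ℤ => Real.exp (-σ * (m : ℝ) ^ 2 + L * |(m : ℝ)|) := by
  have := summable_pow_mul_jacobiTheta₂_term_bound (L / (2 * π)) (T := σ / π)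
    (div_pos hσ Real.pi_pos) 0
  refine this.congr fun m => ?_
  rw [pow_zero, one_mul, Int.cast_abs]
  congr 1
  field_simp
  ring

theorem norm_term {M : Matrix (Fin n) (Fin n) ℚ} (s : ℂ) (b : Fin n → ℂ) (x : Fin n → ℤ) :
    ‖term M s b x‖ =
      Real.exp (-π * s.re * (rf M (zc ℚ x) : ℚ) + 2 * π * ∑ i, (b i).re * (x i : ℝ)) := by
  rw [term, Complex.norm_exp, rf_zc]
  congr 1
  simp [lin, Complex.re_sum, Finset.mul_sum, mul_assoc]

theorem summable_term {M N : Matrix (Fin n) (Fin n) ℚ} (hM : QPos M) (h : M * N = 1) {s : ℂ}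
    (hs : 0 < s.re) (b : Fin n → ℂ) : Summable fun x => ‖term M s b x‖ := by
  set c : ℝ := ∑ i, ((N i i : ℚ) : ℝ) + 1 with hc
  have hNii : ∀ i, 0 ≤ ((N i i : ℚ) : ℝ) := fun i => by
    have hN := (qpos_inv hM h).2 (Pi.single i 1) (by simp)
    have e : rf N (Pi.single i (1 : ℚ)) = N i i := by simp [rf, Pi.single_apply]
    rw [e] at hN
    exact_mod_cast hN.le
  have hcpos : 0 < c := by
    have : 0 ≤ ∑ i, ((N i i : ℚ) : ℝ) := Finset.sum_nonneg fun i _ => hNii i
    rw [hc]; linarith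
  set L : ℝ := 2 * π * ∑ i, |(b i).re| with hL
  set σ : ℝ := π * s.re / c with hσ
  have hσpos : 0 < σ := div_pos (mul_pos Real.pi_pos hs) hcpos
  refine (summable_pi (summable_gauss hσpos L) (fun m => (Real.exp_pos _).le) n).of_nonneg_of_le
    (fun x => norm_nonneg _) fun x => ?_
  rw [norm_term, ← Real.exp_sum, Finset.sum_add_distrib]
  refine Real.exp_le_exp.2 (add_le_add ?_ ?_)
  · have hq0 : 0 ≤ ((rf M (zc ℚ x) : ℚ) : ℝ) := by exact_mod_cast rf_nonneg hM _
    have hsum : ∑ i, (x i : ℝ) ^ 2 ≤ c * ((rf M (zc ℚ x) : ℚ) : ℝ) := by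
      refine (Finset.sum_le_sum fun i _ => (?_ : (x i : ℝ) ^ 2 ≤
        ((N i i : ℚ) : ℝ) * ((rf M (zc ℚ x) : ℚ) : ℝ))).trans ?_
      · exact_mod_cast sq_le hM h (zc ℚ x) i
      · rw [← Finset.sum_mul, hc, add_mul, one_mul]
        linarith
    have := mul_le_mul_of_nonneg_left hsum hσpos.le
    rw [← Finset.mul_sum]
    have e : σ * (c * ((rf M (zc ℚ x) : ℚ) : ℝ)) = π * s.re * ((rf M (zc ℚ x) : ℚ) : ℝ) := by
      rw [hσ]; field_simp
    linarith
  · rw [Finset.mul_sum]
    refine Finset.sum_le_sum fun i _ => ?_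
    have h1 : (b i).re * (x i : ℝ) ≤ |(b i).re| * |(x i : ℝ)| := (le_abs_self _).trans (abs_mul _ _).le
    have h2 : |(b i).re| ≤ ∑ j, |(b j).re| :=
      Finset.single_le_sum (f := fun j => |(b j).re|) (fun j _ => abs_nonneg _) (Finset.mem_univ i)
    rw [hL, mul_assoc (2 * π)]
    exact mul_le_mul_of_nonneg_left
      (h1.trans (mul_le_mul_of_nonneg_right h2 (abs_nonneg _))) (by positivity)

theorem dual_eq {N : Matrix (Fin n) (Fin n) ℚ} (hN : ∀ i j, N i j = N j i) (s : ℂ) (b : Fin n → ℂ)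
    (k : Fin n → ℤ) :
    dual N s b k = cexp (π / s * rf N b) *
      term N (1 / s) (fun i => -I / s * ∑ j, (N i j : ℂ) * b j) k := by
  rw [dual, term, ← Complex.exp_add]
  congr 1
  have e : ∑ i, b i * ∑ j, (N i j : ℂ) * (I * (k j : ℂ)) =
      I * ∑ j, (∑ i, (N j i : ℂ) * b i) * (k j : ℂ) := by
    simp only [Finset.mul_sum, Finset.sum_mul]
    rw [Finset.sum_comm]
    exact Finset.sum_congr rfl fun j _ => Finset.sum_congr rfl fun i _ => by rw [hN i j]; ring
  rw [rf_sub hN, rf_smul, e, I_sq]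
  unfold zc
  simp only [lin, mul_assoc, ← Finset.mul_sum]
  ring

theorem summable_dual {M N : Matrix (Fin n) (Fin n) ℚ} (hM : QPos M) (h : M * N = 1) {s : ℂ}
    (hs : 0 < s.re) (b : Fin n → ℂ) : Summable fun k => ‖dual N s b k‖ := by
  simp only [dual_eq (symm_inv hM.1 h), norm_mul]
  refine Summable.mul_left _ (summable_term (qpos_inv hM h) (mul_eq_one_comm.1 h) ?_ _)
  rw [one_div, Complex.inv_re]
  exact div_pos hs (Complex.normSq_pos.2 fun h0 => by simp [h0] at hs)

theorem mul_cpow_ofReal {r : ℝ} (hr : 0 < r) {z : ℂ} (hz : z ≠ 0) (w : ℂ) :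
    ((r : ℂ) * z) ^ w = (r : ℂ) ^ w * z ^ w := by
  have hr' : (r : ℂ) ≠ 0 := ofReal_ne_zero.2 hr.ne'
  rw [cpow_def_of_ne_zero (mul_ne_zero hr' hz), cpow_def_of_ne_zero hr', cpow_def_of_ne_zero hz,
    ← Complex.exp_add, Complex.log_ofReal_mul hr hz, Complex.ofReal_log hr.le]
  ring_nf

/-- Poisson summation. -/
theorem poisson : ∀ {n : ℕ} {M N : Matrix (Fin n) (Fin n) ℚ}, QPos M → M * N = 1 →
    ∀ {s : ℂ}, 0 < s.re → ∀ b : Fin n → ℂ,
      ∑' x, term M s b x =
        (1 / s ^ (1 / 2 : ℂ)) ^ n / (Real.sqrt (M.det : ℚ) : ℂ) * ∑' k, dual N s b k := by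
  intro n
  induction n with
  | zero =>
    intro M N _ _ s _ b
    simp [tsum_eq_single (default : Fin 0 → ℤ) (fun x hx => absurd (Subsingleton.elim x _) hx),
      term, dual, rf, lin]
  | succ n ih =>
    intro M N hM h s hs b
    have hm : (0 : ℚ) < M 0 0 := qpos_head hM
    have hmR : (0 : ℝ) < ((M 0 0 : ℚ) : ℝ) := by exact_mod_cast hm
    have hmC : ((M 0 0 : ℚ) : ℂ) = (((M 0 0 : ℚ) : ℝ) : ℂ) := by simp
    have hm0 : ((M 0 0 : ℚ) : ℂ) ≠ 0 := by exact_mod_cast hm.ne'
    have hs0 : s ≠ 0 := fun h0 => by simp [h0] at hs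
    have hsm : 0 < ((M 0 0 : ℚ) * s : ℂ).re := by
      rw [hmC, re_ofReal_mul]; exact mul_pos hmR hs
    set S := schur M with hSdef
    set N1 := N.submatrix Fin.succ Fin.succ with hN1
    have hS : QPos S := qpos_schur hM
    have hSN : S * N1 = 1 := schur_mul hM h
    -- the twisted linear part
    let bk : ℤ → Fin n → ℂ := fun k i =>
      b i.succ - (b 0 - I * k) / (M 0 0 : ℚ) * (M i.succ 0 : ℚ)
    let A : ℤ → ℂ := fun k => cexp (π / ((M 0 0 : ℚ) * s) * (b 0 - I * k) ^ 2)
    have inner : ∀ x' : Fin n → ℤ, ∑' t : ℤ, term M s b (Fin.cons t x') =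
        1 / ((M 0 0 : ℚ) * s : ℂ) ^ (1 / 2 : ℂ) * ∑' k : ℤ, A k * term S s (bk k) x' := by
      intro x'
      set c : ℂ := cexp (-π * s * rf (M.submatrix Fin.succ Fin.succ) (zc ℂ x') +
        2 * π * ∑ i, b i.succ * (x' i : ℂ))
      have e : ∀ t : ℤ, term M s b (Fin.cons t x') = c *
          cexp (-π * ((M 0 0 : ℚ) * s) * (t : ℂ) ^ 2 +
            2 * π * (b 0 - s * col M (zc ℂ x')) * t) := by
        intro t
        rw [term, show zc ℂ (Fin.cons t x') = Fin.cons (t : ℂ) (zc ℂ x') from by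
          funext i; cases i using Fin.cases <;> simp [zc], rf_cons M hM.1, ← Complex.exp_add]
        congr 1
        simp only [lin, Fin.sum_univ_succ, Fin.cons_zero, Fin.cons_succ]
        ring
      rw [tsum_congr e, tsum_mul_left, Complex.tsum_exp_neg_quadratic hsm, mul_left_comm,
        ← tsum_mul_left]
      congr 1
      refine tsum_congr fun k => ?_
      rw [← Complex.exp_add]
      show _ = cexp _ * cexp _
      rw [← Complex.exp_add]
      congr 1
      have e2 : lin (bk k) x' = ∑ i, b i.succ * (x' i : ℂ) -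
          (b 0 - I * k) / (M 0 0 : ℚ) * col M (zc ℂ x') := by
        simp only [lin, bk, col, zc, sub_mul, Finset.sum_sub_distrib, Finset.mul_sum, mul_assoc]
      have e3 : ∀ β : ℂ, ((k : ℂ) + I * β) ^ 2 = -(β - I * k) ^ 2 := fun β => by
        ring_nf; rw [I_sq]; ring
      rw [hSdef, rf_schur, e2, e3]
      field_simp
      ring
    -- summability
    have hT : Summable fun p : (Fin n → ℤ) × ℤ => A p.2 * term S s (bk p.2) p.1 := by
      refine Summable.of_norm ?_
      let M1 : Matrix (Fin 1) (Fin 1) ℚ := fun _ _ => M 0 0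
      let N1' : Matrix (Fin 1) (Fin 1) ℚ := fun _ _ => (M 0 0)⁻¹
      have hA : Summable fun k : ℤ => ‖A k‖ := by
        have hM1 : QPos M1 := ⟨fun i j => rfl, fun x hx => by
          simp only [rf, Fin.sum_univ_one, Rat.cast_id, M1]
          have hx0 : x 0 ≠ 0 := fun h0 => hx (funext fun i => by rw [Subsingleton.elim i 0, h0]; rfl)
          have := mul_pos hm (mul_self_pos.2 hx0)
          linarith⟩
        have h1 : M1 * N1' = 1 := by
          ext i j
          rw [Matrix.mul_apply, Matrix.one_apply, Fin.sum_univ_one, if_pos (Subsingleton.elim i j)]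
          exact mul_inv_cancel₀ hm.ne'
        have h2 := (summable_dual hM1 h1 hs (fun _ => b 0)).comp_injective
          (i := fun (k : ℤ) (_ : Fin 1) => k) fun a a' e => congrFun e 0
        refine h2.congr fun k => ?_
        simp only [Function.comp_def, dual, A, rf, Fin.sum_univ_one, N1', Rat.cast_inv]
        congr 2
        field_simp
      have hB := summable_term hS hSN hs (bk 0)
      refine (hB.mul_of_nonneg hA (fun x => norm_nonneg _) (fun k => norm_nonneg _)).congr fun p => ?_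
      rw [norm_mul, mul_comm]
      congr 1
      simp only [norm_term]
      congr 3
      refine Finset.sum_congr rfl fun i _ => ?_
      simp [bk, Complex.sub_re, Complex.mul_re, Complex.div_re, Complex.div_im]
    have hsplit : ∑' x, term M s b x = ∑' x' : Fin n → ℤ, ∑' t : ℤ, term M s b (Fin.cons t x') := by
      rw [← ((Equiv.prodComm _ _).trans (Fin.consEquiv fun _ : Fin (n + 1) => ℤ)).tsum_eq
        (term M s b), Summable.tsum_prod]
      · rfl
      · exact ((Equiv.prodComm _ _).trans (Fin.consEquiv fun _ : Fin (n + 1) => ℤ)).summable_iff.2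
          (Summable.of_norm (summable_term hM h hs b))
    rw [hsplit, tsum_congr inner, tsum_mul_left, Summable.tsum_comm hT.prod_symm]
    have hk : ∀ k : ℤ, ∑' x', A k * term S s (bk k) x' =
        (1 / s ^ (1 / 2 : ℂ)) ^ n / (Real.sqrt (S.det : ℚ) : ℂ) *
          ∑' k', dual N s b (Fin.cons k k') := by
      intro k
      rw [tsum_mul_left, ih hS hSN hs, mul_left_comm, ← tsum_mul_left]
      congr 1
      refine tsum_congr fun k' => ?_
      rw [dual, dual, ← Complex.exp_add]
      congr 1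
      have e : (fun i => b i - I * ((Fin.cons k k' : Fin (n + 1) → ℤ) i : ℂ)) =
          Fin.cons (b 0 - I * k) (fun i => b i.succ - I * (k' i : ℂ)) := by
        funext i; cases i using Fin.cases <;> simp
      rw [e, rf_inv_cons hM h]
      have e2 : (fun i => bk k i - I * (k' i : ℂ)) = fun i => b i.succ - I * (k' i : ℂ) -
          (b 0 - I * k) / (M 0 0 : ℚ) * (M i.succ 0 : ℚ) := by
        funext i; simp only [bk]; ring
      rw [e2, hN1]
      field_simp
    rw [tsum_congr hk, tsum_mul_left, ← mul_assoc]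
    have hd : Summable fun p : ℤ × (Fin n → ℤ) => dual N s b (Fin.cons p.1 p.2) :=
      ((Fin.consEquiv fun _ : Fin (n + 1) => ℤ)).summable_iff.2
        (Summable.of_norm (summable_dual hM h hs b))
    rw [← hd.tsum_prod, ← (Fin.consEquiv fun _ : Fin (n + 1) => ℤ).tsum_eq (dual N s b)]
    congr 1
    have hSd : (0 : ℝ) ≤ ((S.det : ℚ) : ℝ) := by exact_mod_cast (det_pos hS hSN).le
    rw [det_schur hM h, Rat.cast_mul, Real.sqrt_mul hmR.le, hmC, mul_cpow_ofReal hmR hs0, pow_succ,
      ofReal_mul, Real.sqrt_eq_rpow ((M 0 0 : ℚ) : ℝ), ofReal_cpow hmR.le]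
    push_cast
    rw [← hSdef]
    ring

end CfsgLib.Invol.LatticeTheta
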