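import Mathlib.NumberTheory.ModularForms.LevelOne.GradedRing
import Mathlib.Analysis.Complex.LocallyUniformLimit
import Cfsg.Agent.Lib.Invol.LatticeThetaPoisson

/-!
The theta series of an even unimodular positive lattice of rank 24 as a modular form of weight 12,
and its coefficients when there are no vectors of norm 2.
-/

set_option autoImplicit false

namespace CfsgLib.Invol.LatticeTheta

open Finset Complex ModularForm EisensteinSeries SlashInvariantForm
open UpperHalfPlane hiding I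
open scoped Real MatrixGroups ArithmeticFunction.sigma

/-- The hypotheses. -/
structure Lattice where
  B : Matrix (Fin 24) (Fin 24) ℤ
  symm : B.IsSymm
  pos : ∀ x : Fin 24 → ℤ, x ≠ 0 → 0 < dotProduct x (B.mulVec x)
  even : ∀ x : Fin 24 → ℤ, (2 : ℤ) ∣ dotProduct x (B.mulVec x)
  det : B.det = 1

namespace Lattice

variable (L : Lattice)

/-- The norm. -/
def Q (x : Fin 24 → ℤ) : ℤ := dotProduct x (L.B.mulVec x)

/-- Half of the norm. -/
def half (x : Fin 24 → ℤ) : ℕ := (L.Q x / 2).toNat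

/-- The rational Gram matrix. -/
def M : Matrix (Fin 24) (Fin 24) ℚ := L.B.map (fun z => (z : ℚ))

/-- Its inverse. -/
def N : Matrix (Fin 24) (Fin 24) ℚ := L.B.adjugate.map (fun z => (z : ℚ))

theorem M_mul_N : L.M * L.N = 1 := by
  have h : L.B * L.B.adjugate = 1 := by rw [Matrix.mul_adjugate, L.det, one_smul]
  have h2 := congrArg ((Int.castRingHom ℚ).mapMatrix) h
  rwa [map_mul, map_one] at h2

theorem det_M : L.M.det = 1 := by
  have := (Int.castRingHom ℚ).map_det L.B
  simp only [L.det, map_one] at this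
  exact this.symm

theorem rf_M (x : Fin 24 → ℤ) : rf L.M (zc ℚ x) = (L.Q x : ℚ) := by
  simp [rf, zc, M, Q, dotProduct, Matrix.mulVec, Finset.mul_sum, mul_assoc]

theorem qpos : QPos L.M := by
  refine ⟨fun i j => by simp [M, L.symm.apply i j], fun x hx => ?_⟩
  set d : ℕ := ∏ i, (x i).den
  have hd : (d : ℚ) ≠ 0 := by
    exact_mod_cast Finset.prod_ne_zero_iff.2 fun i _ => (x i).den_ne_zero
  let y : Fin 24 → ℤ := fun i => (x i).num * ∏ j ∈ Finset.univ.erase i, ((x j).den : ℤ)
  have hy : ∀ i, (y i : ℚ) = d * x i := by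
    intro i
    have e : d = (x i).den * ∏ j ∈ Finset.univ.erase i, (x j).den :=
      (Finset.mul_prod_erase _ _ (Finset.mem_univ i)).symm
    simp only [y, e]
    push_cast
    calc ((x i).num : ℚ) * ∏ j ∈ Finset.univ.erase i, ((x j).den : ℚ)
        = (x i * (x i).den) * ∏ j ∈ Finset.univ.erase i, ((x j).den : ℚ) := by rw [Rat.mul_den_eq_num]
      _ = _ := by ring
  clear_value y d
  have hyne : y ≠ 0 := fun h => hx (funext fun i => by
    have h0 := hy i
    rw [show y i = 0 from congrFun h i, Int.cast_zero] at h0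
    exact (mul_eq_zero.1 h0.symm).resolve_left hd)
  have h1 : (0 : ℚ) < rf L.M (zc ℚ y) := by rw [rf_M]; exact_mod_cast L.pos y hyne
  rw [show zc ℚ y = fun i => (d : ℚ) * x i from funext hy, rf_smul] at h1
  exact (pos_iff_pos_of_mul_pos h1).1 (by positivity)

theorem Q_nonneg (x : Fin 24 → ℤ) : 0 ≤ L.Q x := by
  have := rf_nonneg L.qpos (zc ℚ x)
  rw [rf_M] at this
  exact_mod_cast this

theorem Q_eq (x : Fin 24 → ℤ) : L.Q x = 2 * (L.half x : ℤ) := by
  rw [half, Int.toNat_of_nonneg (Int.ediv_nonneg (L.Q_nonneg x) (by norm_num)),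
    Int.mul_ediv_cancel' (show (2 : ℤ) ∣ L.Q x from L.even x)]

theorem finite_fiber (m : ℕ) : Finite {x : Fin 24 → ℤ // L.half x = m} := by
  let R : Fin 24 → ℤ := fun i => ⌈L.N i i * (2 * m : ℚ)⌉
  refine Set.Finite.to_subtype ((Set.Finite.pi' fun i => Set.finite_Icc (-R i) (R i)).subset ?_)
  intro x hx i
  have h := sq_le L.qpos L.M_mul_N (zc ℚ x) i
  rw [rf_M, Q_eq, show L.half x = m from hx] at h
  push_cast at h
  have h2 : (x i : ℚ) ^ 2 ≤ (R i : ℚ) := h.trans (Int.le_ceil _)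
  have h3 : x i ^ 2 ≤ R i := by exact_mod_cast h2
  have h4 : |x i| ≤ x i ^ 2 := by
    rw [← sq_abs]
    rcases eq_or_ne (x i) 0 with h0 | h0
    · simp [h0]
    · exact le_self_pow₀ (Int.one_le_abs h0) two_ne_zero
  exact abs_le.1 (h4.trans h3)

/-- The number of vectors of norm `2 m`. -/
noncomputable def count (m : ℕ) : ℕ := Nat.card {x : Fin 24 → ℤ // L.half x = m}

/-- The theta series. -/
noncomputable def theta (z : ℂ) : ℂ := ∑' x : Fin 24 → ℤ, cexp (2 * π * I * z * (L.half x : ℕ))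

theorem term_eq (z : ℂ) (x : Fin 24 → ℤ) :
    term L.M (-I * z) 0 x = cexp (2 * π * I * z * (L.half x : ℕ)) := by
  rw [term, rf_zc, rf_M, Q_eq]
  congr 1
  simp [lin]
  ring

theorem summable {z : ℂ} (hz : 0 < z.im) :
    Summable fun x : Fin 24 → ℤ => ‖cexp (2 * π * I * z * (L.half x : ℕ))‖ :=
  (summable_term L.qpos L.M_mul_N (s := -I * z) (by simpa using hz) 0).congr fun x => by
    rw [term_eq]

theorem hasSum (τ : ℍ) :
    HasSum (fun m => (L.count m : ℂ) • Function.Periodic.qParam (1 : ℝ) τ ^ m) (L.theta τ) := by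
  have h := (Summable.of_norm (L.summable τ.im_pos)).hasSum
  rw [← (Equiv.sigmaFiberEquiv L.half).hasSum_iff] at h
  refine h.sigma fun m => ?_
  have := L.finite_fiber m
  have := Fintype.ofFinite {x : Fin 24 → ℤ // L.half x = m}
  convert hasSum_fintype _ using 1
  simp only [Function.comp_apply, Equiv.sigmaFiberEquiv_apply]
  rw [Finset.sum_congr rfl (g := fun _ => Function.Periodic.qParam (1 : ℝ) τ ^ m) fun x _ => by
    rw [Function.Periodic.qParam, x.2, ← Complex.exp_nat_mul]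
    congr 1
    push_cast
    ring]
  rw [Finset.sum_const, Finset.card_univ, ← Nat.card_eq_fintype_card, smul_eq_mul, nsmul_eq_mul]
  rfl

theorem theta_inversion {z : ℂ} (hz : 0 < z.im) : L.theta (-z⁻¹) = z ^ 12 * L.theta z := by
  have hz0 : z ≠ 0 := fun h => by simp [h] at hz
  have hz' : 0 < (-z⁻¹).im := by
    rw [Complex.neg_im, Complex.inv_im, neg_div, neg_neg]
    exact div_pos hz (Complex.normSq_pos.2 hz0)
  have hs : 0 < (-I * -z⁻¹).re := by simpa using hz'
  show ∑' x, _ = _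
  rw [← tsum_congr fun x => L.term_eq (-z⁻¹) x, poisson L.qpos L.M_mul_N hs, det_M,
    show ((((1 : ℚ) : ℝ)).sqrt : ℂ) = 1 from by simp, div_one]
  congr 1
  · rw [one_div, inv_pow, show (24 : ℕ) = 2 * 12 from rfl, pow_mul, ← Complex.cpow_nat_mul]
    norm_num
    rw [mul_pow, show (I : ℂ) ^ 12 = 1 by rw [show 12 = 4 * 3 from rfl, pow_mul, I_pow_four, one_pow]]
    ring_nf
    rw [inv_inv]
  · let e : (Fin 24 → ℤ) ≃ (Fin 24 → ℤ) :=
      { toFun := fun y => L.B.mulVec y
        invFun := fun y => L.B.adjugate.mulVec y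
        left_inv := fun y => by
          simp [Matrix.mulVec_mulVec, Matrix.adjugate_mul, L.det]
        right_inv := fun y => by
          simp [Matrix.mulVec_mulVec, Matrix.mul_adjugate, L.det] }
    rw [theta, ← e.tsum_eq]
    refine tsum_congr fun y => ?_
    rw [← term_eq, dual, term, rf_zc L.M y]
    congr 1
    have e1 : (fun i => (0 : Fin 24 → ℂ) i - I * ((e y i : ℤ) : ℂ)) =
        fun i => -I * ((e y i : ℤ) : ℂ) := by funext i; simp
    rw [e1, rf_smul]
    have e2 : rf L.N (fun i => ((e y i : ℤ) : ℂ)) = (((rf L.M (zc ℚ y) : ℚ) : ℝ) : ℂ) := by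
      rw [show (fun i => ((e y i : ℤ) : ℂ)) = zc ℂ (e y) from rfl, rf_zc]
      congr 2
      rw [← rf_inv (symm_inv L.qpos.1 L.M_mul_N) (mul_eq_one_comm.1 L.M_mul_N) (zc ℚ y)]
      congr 1
      funext i
      simp [zc, e, M, Matrix.mulVec, dotProduct]
    rw [e2]
    simp only [lin, Pi.zero_apply, zero_mul, Finset.sum_const_zero, neg_sq, I_sq]
    field_simp
    ring_nf
    simp only [I_sq]
    ring

theorem theta_add_one (z : ℂ) : L.theta (z + 1) = L.theta z :=
  tsum_congr fun x => by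
    rw [mul_add, mul_one, add_mul, Complex.exp_add, mul_comm (2 * (π : ℂ) * I) (L.half x : ℂ),
      Complex.exp_nat_mul_two_pi_mul_I, mul_one]

theorem differentiableAt_theta {z : ℂ} (hz : 0 < z.im) : DifferentiableAt ℂ L.theta z := by
  set U : Set ℂ := {w | z.im / 2 < w.im}
  have hU : IsOpen U := isOpen_lt continuous_const Complex.continuous_im
  have hw : 0 < (↑(z.im / 2) * I : ℂ).im := by simpa using hz
  refine DifferentiableOn.differentiableAt (s := U) ?_ (hU.mem_nhds (show z.im / 2 < z.im by linarith))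
  refine differentiableOn_tsum_of_summable_norm (L.summable hw) (fun x => ?_) hU fun x w hwU => ?_
  · exact (Differentiable.cexp (by fun_prop)).differentiableOn
  · rw [Complex.norm_exp, Complex.norm_exp]
    refine Real.exp_le_exp.2 ?_
    have hwU' : z.im / 2 ≤ w.im := (show z.im / 2 < w.im from hwU).le
    have : (0 : ℝ) ≤ 2 * π * (L.half x : ℝ) := by positivity
    simp [Complex.mul_re, Complex.mul_im]
    nlinarith

/-- The theta series on the upper half plane. -/
noncomputable def thetaH : ℍ → ℂ := fun τ => L.theta τ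

set_option backward.isDefEq.respectTransparency.types false in
theorem slash_T : (L.thetaH ∣[(12 : ℤ)] ModularGroup.T) = L.thetaH := by
  ext τ
  rw [SL_slash_apply, denom, modular_T_smul, ModularGroup.T]
  simp [thetaH, add_comm (1 : ℂ), L.theta_add_one]

set_option backward.isDefEq.respectTransparency.types false in
theorem slash_S : (L.thetaH ∣[(12 : ℤ)] ModularGroup.S) = L.thetaH := by
  ext τ
  suffices L.theta (-(τ : ℂ)⁻¹) * ((τ : ℂ) ^ 12)⁻¹ = L.theta τ by
    rw [SL_slash_apply, UpperHalfPlane.modular_S_smul]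
    simpa [denom, ModularGroup.S, thetaH, neg_div] using this
  rw [L.theta_inversion τ.im_pos]
  have := τ.ne_zero
  field_simp

/-- The modular form. -/
noncomputable def form : ModularForm 𝒮ℒ 12 where
  toFun := L.thetaH
  slash_action_eq' A hA := by
    obtain ⟨A, rfl⟩ := hA
    exact slash_action_generators_SL2Z L.slash_S L.slash_T A
  holo' := by
    rw [UpperHalfPlane.mdifferentiable_iff]
    refine DifferentiableOn.congr
      (fun z hz => (L.differentiableAt_theta hz).differentiableWithinAt) fun z hz => ?_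
    simp [thetaH, ofComplex_apply_of_im_pos hz]
  bdd_at_cusps' hc := by
    rw [Subgroup.IsArithmetic.isCusp_iff_isCusp_SL2Z] at hc
    rw [OnePoint.isBoundedAt_iff_forall_SL2Z hc]
    intro γ _
    rw [slash_action_generators_SL2Z L.slash_S L.slash_T]
    exact isBoundedAtImInfty_of_hasSum_qExpansion one_pos L.hasSum

theorem coeff_form (m : ℕ) : (qExpansion 1 L.form).coeff m = (L.count m : ℂ) :=
  (ModularFormClass.qExpansion_coeff_unique (h := 1) (f := L.form) one_pos one_mem_strictPeriods_SL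
    L.hasSum m).symm

theorem count_zero : L.count 0 = 1 := by
  rw [count, Nat.card_eq_one_iff_unique]
  refine ⟨⟨fun x y => Subtype.ext ?_⟩, ⟨⟨0, by simp [half, Q]⟩⟩⟩
  have key : ∀ w : {x : Fin 24 → ℤ // L.half x = 0}, w.1 = 0 := fun w => by
    by_contra h
    have h1 := L.pos _ h
    have h2 := L.Q_eq w.1
    rw [w.2] at h2
    simp [Q] at h2
    omega
  rw [key x, key y]

theorem coeff_E4 (i : ℕ) : (qExpansion 1 E₄).coeff i = if i = 0 then 1 else 240 * (σ 3 i : ℂ) := by
  rw [E_qExpansion_coeff _ ⟨2, rfl⟩, show bernoulli 4 = -1 / 30 by decide +kernel]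
  split_ifs <;> norm_num

theorem coeff_E6 (i : ℕ) : (qExpansion 1 E₆).coeff i = if i = 0 then 1 else -504 * (σ 5 i : ℂ) := by
  rw [E_qExpansion_coeff _ ⟨3, rfl⟩, show bernoulli 6 = 1 / 42 by decide +kernel]
  split_ifs <;> norm_num

theorem sigma_values : σ 3 1 = 1 ∧ σ 3 2 = 9 ∧ σ 3 3 = 28 ∧ σ 3 4 = 73 ∧
    σ 5 1 = 1 ∧ σ 5 2 = 33 ∧ σ 5 3 = 244 ∧ σ 5 4 = 1057 := by
  refine ⟨?_, ?_, ?_, ?_, ?_, ?_, ?_, ?_⟩ <;> decide +kernel

/-- The counts without roots. -/
theorem counts (h2 : L.count 1 = 0) :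
    L.count 2 = 196560 ∧ L.count 3 = 16773120 ∧ L.count 4 = 398034000 := by
  let C4 : ModularForm 𝒮ℒ 12 := ModularForm.mcast (by decide) (E₄.pow 3)
  let C6 : ModularForm 𝒮ℒ 12 := ModularForm.mcast (by decide) (E₆.pow 2)
  let G : ModularForm 𝒮ℒ 12 := L.form - ((7 / 12 : ℂ) • C4 + (5 / 12 : ℂ) • C6)
  have e1 : qExpansion 1 G = qExpansion 1 L.form -
      qExpansion 1 ⇑((7 / 12 : ℂ) • C4 + (5 / 12 : ℂ) • C6) :=
    ModularForm.qExpansion_sub one_pos one_mem_strictPeriods_SL L.form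
      ((7 / 12 : ℂ) • C4 + (5 / 12 : ℂ) • C6)
  have e2 : qExpansion 1 ⇑((7 / 12 : ℂ) • C4 + (5 / 12 : ℂ) • C6) =
      qExpansion 1 ⇑((7 / 12 : ℂ) • C4) + qExpansion 1 ⇑((5 / 12 : ℂ) • C6) :=
    ModularForm.qExpansion_add one_pos one_mem_strictPeriods_SL ((7 / 12 : ℂ) • C4)
      ((5 / 12 : ℂ) • C6)
  have e3 : qExpansion 1 ⇑((7 / 12 : ℂ) • C4) = (7 / 12 : ℂ) • qExpansion 1 E₄ ^ 3 :=
    (ModularForm.qExpansion_smul one_pos one_mem_strictPeriods_SL (7 / 12 : ℂ) C4).trans
      (congrArg _ (ModularForm.qExpansion_pow one_pos one_mem_strictPeriods_SL E₄ 3))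
  have e4 : qExpansion 1 ⇑((5 / 12 : ℂ) • C6) = (5 / 12 : ℂ) • qExpansion 1 E₆ ^ 2 :=
    (ModularForm.qExpansion_smul one_pos one_mem_strictPeriods_SL (5 / 12 : ℂ) C6).trans
      (congrArg _ (ModularForm.qExpansion_pow one_pos one_mem_strictPeriods_SL E₆ 2))
  have hG : ∀ m, (qExpansion 1 G).coeff m = (L.count m : ℂ) -
      ((7 / 12 : ℂ) * (qExpansion 1 E₄ * qExpansion 1 E₄ * qExpansion 1 E₄).coeff m +
        (5 / 12 : ℂ) * (qExpansion 1 E₆ * qExpansion 1 E₆).coeff m) := by
    intro m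
    rw [e1, e2, e3, e4, map_sub, map_add, PowerSeries.coeff_smul, PowerSeries.coeff_smul,
      coeff_form, smul_eq_mul, smul_eq_mul, pow_three, pow_two, mul_assoc]
  obtain ⟨a1, a2, a3, a4, b1, b2, b3, b4⟩ := sigma_values
  have hG0 : G = 0 := by
    refine sturm_bound_levelOne ((show ((1 : ℕ) : ℕ∞) < (2 : ℕ) by norm_num).trans_le ?_)
    refine PowerSeries.nat_le_order _ 2 fun i hi => ?_
    rw [hG]
    interval_cases i <;>
      norm_num [PowerSeries.coeff_mul, Finset.Nat.antidiagonal_succ, coeff_E4, coeff_E6, count_zero,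
        h2, a1, b1, -PowerSeries.coeff_zero_eq_constantCoeff]
  have hz : ∀ m, (qExpansion 1 G).coeff m = 0 := fun m => by
    rw [hG0, FunLike.coe_zero, qExpansion_zero]; simp
  have c2 := (hG 2).symm.trans (hz 2)
  have c3 := (hG 3).symm.trans (hz 3)
  have c4 := (hG 4).symm.trans (hz 4)
  norm_num [PowerSeries.coeff_mul, Finset.Nat.antidiagonal_succ, coeff_E4, coeff_E6, a1, a2, a3, a4,
    b1, b2, b3, b4, -PowerSeries.coeff_zero_eq_constantCoeff] at c2 c3 c4
  rw [sub_eq_zero] at c2 c3 c4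
  exact ⟨by exact_mod_cast c2, by exact_mod_cast c3, by exact_mod_cast c4⟩

theorem ncard_eq (m : ℕ) : {x : Fin 24 → ℤ | L.Q x = 2 * (m : ℤ)}.ncard = L.count m := by
  have e : {x : Fin 24 → ℤ | L.Q x = 2 * (m : ℤ)} = {x | L.half x = m} := by
    ext x
    simp [L.Q_eq x]
  rw [e, ← Nat.card_coe_set_eq]
  rfl

end Lattice

end CfsgLib.Invol.LatticeTheta
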