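import Cfsg.Agent.Lib.Invol.MaxClassRank
import Mathlib

/-!
# `p`-th powers in `p`-groups of maximal class
-/

set_option autoImplicit false
set_option linter.style.haveILetI false

namespace CfsgLib.Invol.MaxClassPowers

open Subgroup CfsgLib.Coprime.MaxClassUniform CfsgLib.Invol.MaxClassRank
open scoped commutatorElement

universe u

theorem comm_zpow_central {H : Type*} [Group H] {x y : H} (hc : ∀ w : H, Commute ⁅x, y⁆ w) (m k : ℤ) :
    ⁅x ^ m, y ^ k⁆ = ⁅x, y⁆ ^ (m * k) := by
  set c := ⁅x, y⁆ with hc'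
  have key : ∀ {s t d : H}, (∀ w : H, Commute d w) → ⁅s, t⁆ = d → ∀ i : ℤ, ⁅s, t ^ i⁆ = d ^ i := by
    intro s t d hd hst i
    have h : s * t * s⁻¹ = d * t := by rw [← hst, commutatorElement_def]; group
    rw [commutatorElement_def, ← conj_zpow, h, (hd t).mul_zpow, mul_inv_cancel_right]
  have h1 : ⁅x, y ^ k⁆ = c ^ k := key hc hc'.symm k
  have h2 : ⁅y ^ k, x⁆ = (c ^ k)⁻¹ := by rw [← commutatorElement_inv, h1]
  have h3 := key (fun w => ((hc w).zpow_left k).inv_left) h2 m
  rw [← commutatorElement_inv, h3, inv_zpow, inv_inv, ← zpow_mul, mul_comm]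

/-- Commutators are bilinear modulo two steps of the lower central series. -/
theorem comm_mod {P : Type*} [Group P] {m : ℕ} {c x : P} (z : P) (hc : c ∈ LC P m) {e : ℤ}
    (hx : (c ^ e)⁻¹ * x ∈ LC P (m + 1)) (l : ℤ) :
    (⁅c, z⁆ ^ (e * l))⁻¹ * ⁅x, z ^ l⁆ ∈ LC P (m + 2) := by
  let π := QuotientGroup.mk' (LC P (m + 2))
  have hcen : ∀ a ∈ LC P (m + 1), ∀ w : P ⧸ LC P (m + 2), Commute (π a) w := by
    intro a ha w
    obtain ⟨b, rfl⟩ := QuotientGroup.mk'_surjective _ w
    rw [← commutatorElement_eq_one_iff_commute, ← map_commutatorElement]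
    exact (QuotientGroup.eq_one_iff _).2 (comm_LC_left ha b)
  refine (QuotientGroup.eq_one_iff _).1 ?_
  show π ((⁅c, z⁆ ^ (e * l))⁻¹ * ⁅x, z ^ l⁆) = 1
  have e1 : π x = π c ^ e * π ((c ^ e)⁻¹ * x) := by rw [map_mul, map_inv, map_zpow, mul_inv_cancel_left]
  have e2 : ⁅π x, π z ^ l⁆ = ⁅π c, π z⁆ ^ (e * l) := by
    rw [e1, ← comm_zpow_central (x := π c) (y := π z) (fun w => by
      rw [← map_commutatorElement]; exact hcen _ (comm_LC_left hc z) w) e l]
    have hv := hcen _ hx (π z ^ l)
    calc ⁅π c ^ e * π ((c ^ e)⁻¹ * x), π z ^ l⁆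
          = π c ^ e * (π ((c ^ e)⁻¹ * x) * π z ^ l * (π ((c ^ e)⁻¹ * x))⁻¹) * (π c ^ e)⁻¹ *
              (π z ^ l)⁻¹ := by simp only [commutatorElement_def, mul_inv_rev, mul_assoc]
      _ = ⁅π c ^ e, π z ^ l⁆ := by rw [hv.eq, mul_inv_cancel_right, commutatorElement_def]
  rw [map_mul, map_inv, map_zpow, map_commutatorElement, map_commutatorElement, map_zpow, e2,
    inv_mul_cancel]

section Engel

variable {p : ℕ} [hp : Fact p.Prime] {P : Type u} [Group P] [Finite P]

/-- A group of exponent `p` and maximal class has order at most `p ^ p`. -/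
theorem not_exponent_prime (h : IsMC p (p + 1) P) (hexp : ∀ x : P, x ^ p = 1) : False := by
  classical
  have hp2 := hp.out.two_le
  obtain ⟨s, t, hs, -, hts⟩ := h.exists_two_good
  obtain ⟨W, _, _, Bs, σ, τ, hBn, hτ, hBc, hBe, hWB, hWp, hσ, hστ⟩ := exists_model p
  let cc : ℕ → P := fun m => Nat.rec t (fun _ c => ⁅c, s⁆) m
  let dd : ℕ → W := fun m => Nat.rec τ (fun _ c => ⁅c, σ⁆) m
  have hcc : ∀ m, cc m ∈ LC P m := by
    intro m
    induction m with
    | zero => exact mem_top _
    | succ m ihm => exact comm_LC_left ihm s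
  have hdd : ∀ m, dd m ∈ LC W m ∧ dd m ∈ Bs := by
    intro m
    induction m with
    | zero => exact ⟨mem_top _, hτ⟩
    | succ m ihm =>
      refine ⟨comm_LC_left ihm.1 σ, ?_⟩
      show ⁅dd m, σ⁆ ∈ Bs
      rw [commutatorElement_def, mul_assoc, mul_assoc, ← mul_assoc σ]
      exact mul_mem ihm.2 (hBn.conj_mem _ (inv_mem ihm.2) σ)
  have hcc' : ∀ m, m + 1 ≤ p - 1 → cc (m + 1) ∉ LC P (m + 2) := by
    intro m
    induction m with
    | zero =>
      intro _ hmem
      obtain ⟨w, hw, hw'⟩ := h.exists_mem_not_mem (i := 1) le_rfl (by omega)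
      refine hw' ?_
      let π := QuotientGroup.mk' (LC P 2)
      have hcm : π t * π s = π s * π t := by
        rw [← commutatorElement_eq_one_iff_mul_comm, ← map_commutatorElement]
        exact (QuotientGroup.eq_one_iff _).2 hmem
      have hgen : closure ({s, t} : Set P) = ⊤ :=
        h.eq_top_of_gen' (t := t) hs.1 hts (subset_closure (by simp)) (subset_closure (by simp))
      have hle : ⁅closure ({s, t} : Set P), closure ({s, t} : Set P)⁆ ≤ LC P 2 := by
        refine commutator_closure_le ?_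
        have key : ∀ x y : P, π x * π y = π y * π x → ⁅x, y⁆ ∈ LC P 2 := fun x y e =>
          (QuotientGroup.eq_one_iff _).1
            ((map_commutatorElement π x y).trans (commutatorElement_eq_one_iff_mul_comm.2 e))
        rintro x (rfl | rfl) y (rfl | rfl)
        · exact key _ _ rfl
        · exact key _ _ hcm.symm
        · exact key _ _ hcm
        · exact key _ _ rfl
      rw [hgen] at hle
      exact hle (by rwa [LC, top_lowerCentralSeries_one] at hw)
    | succ m ihm =>
      intro hm hmem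
      refine hs.comm_not_mem h (i := m + 1) (by omega) (by omega) (hcc (m + 1)) (ihm (by omega)) ?_
      rw [← commutatorElement_inv]
      exact inv_mem hmem
  let G := (Fin (p - 1) → P) × W
  let lam : Fin (p - 1) → ℕ := fun j => j.val + 1
  let S : G := (fun _ => s, σ)
  let U : G := (fun j => t ^ lam j, τ)
  let X := closure ({S, U} : Set G)
  let D : ℕ → Subgroup G := fun m =>
    { carrier := {x | ∃ f : Polynomial ℤ, f.natDegree ≤ m ∧ f.coeff 0 = 0 ∧
        (∀ j, (cc m ^ f.eval (lam j : ℤ))⁻¹ * x.1 j ∈ LC P (m + 1)) ∧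
        (dd m ^ f.coeff 1)⁻¹ * x.2 ∈ LC W (m + 1)}
      one_mem' := ⟨0, by simp, by simp, fun j => by simp, by simp⟩
      mul_mem' := by
        rintro x y ⟨f, hf1, hf2, hf3, hf4⟩ ⟨g, hg1, hg2, hg3, hg4⟩
        refine ⟨f + g, (Polynomial.natDegree_add_le f g).trans (max_le hf1 hg1), by simp [hf2, hg2],
          fun j => ?_, ?_⟩
        · rw [← QuotientGroup.eq, Prod.fst_mul, Pi.mul_apply, Polynomial.eval_add, zpow_add,
            QuotientGroup.mk_mul, QuotientGroup.mk_mul, QuotientGroup.eq.2 (hf3 j),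
            QuotientGroup.eq.2 (hg3 j)]
        · rw [← QuotientGroup.eq, Prod.snd_mul, Polynomial.coeff_add, zpow_add,
            QuotientGroup.mk_mul, QuotientGroup.mk_mul, QuotientGroup.eq.2 hf4,
            QuotientGroup.eq.2 hg4]
      inv_mem' := by
        rintro x ⟨f, hf1, hf2, hf3, hf4⟩
        refine ⟨-f, by rwa [Polynomial.natDegree_neg], by simp [hf2], fun j => ?_, ?_⟩
        · rw [← QuotientGroup.eq, Prod.fst_inv, Pi.inv_apply, Polynomial.eval_neg, zpow_neg,
            QuotientGroup.mk_inv, QuotientGroup.mk_inv, QuotientGroup.eq.2 (hf3 j)]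
        · rw [← QuotientGroup.eq, Prod.snd_inv, Polynomial.coeff_neg, zpow_neg,
            QuotientGroup.mk_inv, QuotientGroup.mk_inv, QuotientGroup.eq.2 hf4] }
  have hDB : ∀ m, ∀ x ∈ D m, (∀ j, x.1 j ∈ LC P m) ∧ x.2 ∈ LC W m := by
    rintro m x ⟨f, -, -, h3, h4⟩
    refine ⟨fun j => ?_, ?_⟩
    · have := mul_mem (zpow_mem (hcc m) (f.eval (lam j : ℤ))) (LC_le (Nat.le_succ m) (h3 j))
      rwa [mul_inv_cancel_left] at this
    · have := mul_mem (zpow_mem (hdd m).1 (f.coeff 1)) (LC_le (Nat.le_succ m) h4)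
      rwa [mul_inv_cancel_left] at this
  have hBD : ∀ m, ∀ x : G, (∀ j, x.1 j ∈ LC P (m + 1)) → x.2 ∈ LC W (m + 1) → x ∈ D m :=
    fun m x h1 h2 => ⟨0, by simp, by simp, fun j => by simpa using h1 j, by simpa using h2⟩
  have hDn : ∀ m, (D m).Normal := by
    intro m
    refine ⟨fun x hx g => ?_⟩
    rw [show g * x * g⁻¹ = ⁅x, g⁆⁻¹ * x by
      rw [commutatorElement_inv, commutatorElement_def, inv_mul_cancel_right]]
    refine mul_mem (inv_mem (hBD m _ (fun j => ?_) ?_)) hx
    · show ⁅x.1 j, g.1 j⁆ ∈ _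
      exact comm_LC_left ((hDB m x hx).1 j) _
    · show ⁅x.2, g.2⁆ ∈ _
      exact comm_LC_left (hDB m x hx).2 _
  have hlcs : ∀ m, 1 ≤ m → m ≤ p - 1 → X.lowerCentralSeries m ≤ D m := by
    intro m
    induction m with
    | zero => omega
    | succ m ihm =>
      intro _ hm
      haveI := hDn (m + 1)
      rw [Subgroup.lowerCentralSeries_succ]
      rcases Nat.eq_zero_or_pos m with rfl | hm0
      · rw [Subgroup.lowerCentralSeries_zero]
        refine commutator_closure_le ?_
        have hUS : ⁅U, S⁆ ∈ D 1 := by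
          refine ⟨Polynomial.X, Polynomial.natDegree_X_le, by simp, fun j => ?_, ?_⟩
          · have := comm_mod (x := t ^ lam j) (e := (lam j : ℤ)) s (m := 0) (c := t) (mem_top _)
              (by simp) 1
            show (⁅t, s⁆ ^ (Polynomial.X : Polynomial ℤ).eval (lam j : ℤ))⁻¹ * ⁅t ^ lam j, s⁆ ∈ _
            simpa using this
          · show (⁅τ, σ⁆ ^ (Polynomial.X : Polynomial ℤ).coeff 1)⁻¹ * ⁅τ, σ⁆ ∈ _
            rw [Polynomial.coeff_X_one, zpow_one, inv_mul_cancel]
            exact one_mem _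
        rintro a (rfl | rfl) b (rfl | rfl)
        · rw [commutatorElement_self]; exact one_mem _
        · rw [← commutatorElement_inv]; exact inv_mem hUS
        · exact hUS
        · rw [commutatorElement_self]; exact one_mem _
      · refine (commutator_mono (ihm hm0 (by omega)) le_rfl).trans ?_
        rw [show D m = closure (D m : Set G) from (closure_eq _).symm]
        refine commutator_closure_le ?_
        rintro a ⟨f, hf1, hf2, hf3, hf4⟩ b (rfl | rfl)
        · refine ⟨f, hf1.trans (Nat.le_succ m), hf2, fun j => ?_, ?_⟩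
          · have := comm_mod s (hcc m) (hf3 j) 1
            rw [mul_one, zpow_one] at this
            exact this
          · have := comm_mod σ (hdd m).1 hf4 1
            rw [mul_one, zpow_one] at this
            exact this
        · obtain ⟨k, hk⟩ : ∃ k : ℤ, (cc (m + 1) ^ k)⁻¹ * ⁅cc m, t⁆ ∈ LC P (m + 2) := by
            obtain ⟨x, hx, y, hy, hxy⟩ := mem_sup_of_normal_right.1
              (h.LC_gen (i := m + 1) (by omega) (hcc (m + 1)) (hcc' m (by omega))
                (comm_LC_left (hcc m) t))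
            obtain ⟨k, rfl⟩ := mem_zpowers_iff.1 hx
            exact ⟨k, by rw [← hxy, inv_mul_cancel_left]; exact hy⟩
          refine ⟨Polynomial.C k * Polynomial.X * f, ?_, by simp [Polynomial.mul_coeff_zero],
            fun j => ?_, ?_⟩
          · refine Polynomial.natDegree_mul_le.trans ?_
            have := (Polynomial.natDegree_mul_le (p := Polynomial.C k) (q := Polynomial.X)).trans
              (add_le_add (Polynomial.natDegree_C k).le Polynomial.natDegree_X_le)
            omega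
          · have h5 := comm_mod t (hcc m) (hf3 j) (lam j : ℤ)
            rw [← QuotientGroup.eq] at h5 hk ⊢
            rw [show (⁅a, U⁆).1 j = ⁅a.1 j, t ^ (lam j : ℤ)⁆ by
              rw [zpow_natCast]; rfl, ← h5, QuotientGroup.mk_zpow, QuotientGroup.mk_zpow, ← hk,
              QuotientGroup.mk_zpow, ← zpow_mul]
            congr 1
            simp
            ring
          · have e : (Polynomial.C k * Polynomial.X * f).coeff 1 = 0 := by
              rw [mul_assoc, Polynomial.coeff_C_mul, Polynomial.coeff_X_mul, hf2, mul_zero]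
            rw [e, zpow_zero, inv_one, one_mul]
            have h5 := comm_mod τ (hdd m).1 hf4 1
            rw [mul_one, zpow_one, commutatorElement_eq_one_iff_commute.2 (hBc _ (hdd m).2 _ hτ),
              one_zpow, inv_one, one_mul] at h5
            exact h5
  have hXe : ∀ x ∈ ⁅X, X⁆, x ^ p = 1 := by
    intro x hx
    refine Prod.ext (funext fun j => hexp _) (hBe _ (hWB ?_))
    have h1 : x.2 ∈ (⁅X, X⁆).map (MonoidHom.snd _ W) := mem_map_of_mem _ hx
    rw [map_commutator] at h1
    exact (commutator_mono le_top le_top) h1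
  obtain ⟨c, hc, he⟩ := pow_mul_eq hp.out S U hXe
  obtain ⟨f, hf1, hf2, hf3, hf4⟩ := hlcs (p - 1) (by omega) le_rfl hc
  have hc1 : ∀ j, c.1 j = 1 := by
    intro j
    have h1 := congrFun (congrArg Prod.fst he) j
    change (s * t ^ lam j) ^ p = s ^ p * (t ^ lam j) ^ p * c.1 j at h1
    rw [hexp, hexp, hexp, one_mul, one_mul] at h1
    exact h1.symm
  have hc2 : c.2 = (σ * τ) ^ p := by
    have h1 := congrArg Prod.snd he
    change (σ * τ) ^ p = σ ^ p * τ ^ p * c.2 at h1
    rw [h1, hσ, hBe _ hτ, one_mul, one_mul]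
  rw [show p - 1 + 1 = p by omega, h.LC_eq_bot (show p + 1 - 1 ≤ p by omega)] at hf3
  rw [show p - 1 + 1 = p by omega, hWp, mem_bot, inv_mul_eq_one] at hf4
  have hord : orderOf (cc (p - 1)) = p := by
    refine orderOf_eq_prime (hexp _) fun e => ?_
    have h1 := hcc' (p - 2) (by omega)
    rw [show p - 2 + 1 = p - 1 by omega, e] at h1
    exact h1 (one_mem _)
  let g : Polynomial (ZMod p) := f.map (Int.castRingHom (ZMod p))
  have hg : g = 0 := by
    refine Polynomial.eq_zero_of_natDegree_lt_card_of_eval_eq_zero' g Finset.univ (fun a _ => ?_) ?_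
    · by_cases ha : a = 0
      · subst ha
        rw [← Polynomial.coeff_zero_eq_eval_zero, Polynomial.coeff_map, hf2, map_zero]
      · have hv : a.val ≠ 0 := fun e => ha ((ZMod.val_eq_zero a).1 e)
        have hlt := a.val_lt
        have h1 := hf3 ⟨a.val - 1, by omega⟩
        rw [hc1, mul_one, mem_bot, inv_eq_one, ← orderOf_dvd_iff_zpow_eq_one, hord,
          ← ZMod.intCast_zmod_eq_zero_iff_dvd] at h1
        rw [show lam ⟨a.val - 1, by omega⟩ = a.val by simp only [lam]; omega] at h1
        have h2 : (Int.castRingHom (ZMod p)) (f.eval (a.val : ℤ)) = g.eval a := by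
          rw [← Polynomial.eval₂_hom, show (Int.castRingHom (ZMod p)) (a.val : ℤ) = a by simp,
            Polynomial.eval_map]
        rw [← h2]
        exact h1
    · rw [Finset.card_univ, ZMod.card]
      exact lt_of_le_of_lt (Polynomial.natDegree_map_le.trans hf1) (by omega)
  have h2 : (p : ℤ) ∣ f.coeff 1 := by
    rw [← ZMod.intCast_zmod_eq_zero_iff_dvd]
    have h3 := congrArg (fun q => Polynomial.coeff q 1) hg
    simpa [g, Polynomial.coeff_map] using h3
  obtain ⟨k, hk⟩ := h2
  refine hστ ?_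
  rw [← hc2, ← hf4, hk, zpow_mul, zpow_natCast, hBe _ (hdd (p - 1)).2, one_zpow]

end Engel

section Count

variable {p : ℕ} [hp : Fact p.Prime] {n : ℕ} {P : Type u} [Group P] [Finite P]

/-- Comparing orders layer by layer. -/
theorem card_le_of_jumps (h : IsMC p n P) (H K : Subgroup P) (M : Finset ℕ)
    (hM : ∀ i, 1 ≤ i → i + 2 ≤ n → (∃ v ∈ H, v ∈ LC P i ∧ v ∉ LC P (i + 1)) →
      i ∈ M ∨ ∃ w ∈ K, w ∈ LC P i ∧ w ∉ LC P (i + 1)) :
    Nat.card (H ⊓ LC P 1 : Subgroup P) ≤ Nat.card (K ⊓ LC P 1 : Subgroup P) * p ^ M.card := by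
  classical
  have hp2 := hp.out.two_le
  have key : ∀ d i, 1 ≤ i → n - i ≤ d → Nat.card (H ⊓ LC P i : Subgroup P) ≤
      Nat.card (K ⊓ LC P i : Subgroup P) * p ^ (M.filter (i ≤ ·)).card := by
    intro d
    induction d with
    | zero =>
      intro i h1 hi
      rw [h.LC_eq_bot (show n - 1 ≤ i by omega), inf_bot_eq, inf_bot_eq, card_bot]
      simpa using Nat.one_le_pow _ p hp.out.pos
    | succ d ih =>
      intro i h1 hi
      by_cases hin : i + 2 ≤ n
      swap
      · rw [h.LC_eq_bot (show n - 1 ≤ i by omega), inf_bot_eq, inf_bot_eq, card_bot]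
        simpa using Nat.one_le_pow _ p hp.out.pos
      have hrec := ih (i + 1) (by omega) (by omega)
      have hsub : M.filter (i + 1 ≤ ·) ⊆ M.filter (i ≤ ·) := fun x hx => by
        rw [Finset.mem_filter] at hx ⊢; exact ⟨hx.1, by omega⟩
      have hKle : Nat.card (K ⊓ LC P (i + 1) : Subgroup P) ≤ Nat.card (K ⊓ LC P i : Subgroup P) :=
        card_le_of_le (inf_le_inf_left _ (LC_le (Nat.le_succ i)))
      by_cases hj : ∃ v ∈ H, v ∈ LC P i ∧ v ∉ LC P (i + 1)
      swap
      · push Not at hj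
        rw [show H ⊓ LC P i = H ⊓ LC P (i + 1) from le_antisymm
          (fun v hv => mem_inf.2 ⟨(mem_inf.1 hv).1, hj v (mem_inf.1 hv).1 (mem_inf.1 hv).2⟩)
          (inf_le_inf_left _ (LC_le (Nat.le_succ i)))]
        exact hrec.trans (Nat.mul_le_mul hKle (Nat.pow_le_pow_right hp.out.pos (Finset.card_le_card hsub)))
      have hstep : Nat.card (H ⊓ LC P i : Subgroup P) ≤ p * Nat.card (H ⊓ LC P (i + 1) : Subgroup P) := by
        have hle : LC P (i + 1) ≤ LC P i := LC_le (Nat.le_succ i)
        have h2 := relIndex_mul_relIndex ⊥ (LC P (i + 1)) (LC P i) bot_le hle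
        rw [relIndex_bot_left, relIndex_bot_left, h.card_LC (by omega) (by omega),
          h.card_LC h1 (by omega), show n - 1 - i = n - 1 - (i + 1) + 1 by omega, pow_succ] at h2
        have h3 := Nat.eq_of_mul_eq_mul_left (Nat.pow_pos hp.out.pos) h2
        have h4 := relIndex_mul_relIndex ⊥ (H ⊓ LC P (i + 1)) (H ⊓ LC P i) bot_le
          (inf_le_inf_left _ hle)
        rw [relIndex_bot_left, relIndex_bot_left] at h4
        rw [← h4, mul_comm]
        refine Nat.mul_le_mul_right _ ?_
        rw [show H ⊓ LC P (i + 1) = LC P (i + 1) ⊓ (H ⊓ LC P i) by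
          rw [inf_left_comm, inf_eq_left.2 hle], inf_relIndex_right, ← h3]
        exact relIndex_le_of_le_right inf_le_right (by rw [h3]; exact hp.out.ne_zero)
      rcases hM i h1 hin hj with hiM | ⟨w, hwK, hw1, hw2⟩
      · have hlt : (M.filter (i + 1 ≤ ·)).card + 1 ≤ (M.filter (i ≤ ·)).card := by
          refine Finset.card_lt_card ⟨hsub, fun hc => ?_⟩
          have := Finset.mem_filter.1 (hc (Finset.mem_filter.2 ⟨hiM, le_rfl⟩))
          omega
        refine hstep.trans ((Nat.mul_le_mul_left p hrec).trans ?_)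
        rw [mul_left_comm, ← pow_succ']
        exact Nat.mul_le_mul hKle (Nat.pow_le_pow_right hp.out.pos hlt)
      · have hK : p * Nat.card (K ⊓ LC P (i + 1) : Subgroup P) ≤ Nat.card (K ⊓ LC P i : Subgroup P) := by
          have hle : K ⊓ LC P (i + 1) ≤ K ⊓ LC P i := inf_le_inf_left _ (LC_le (Nat.le_succ i))
          have hlt : Nat.card (K ⊓ LC P (i + 1) : Subgroup P) < Nat.card (K ⊓ LC P i : Subgroup P) :=
            lt_of_le_of_ne (card_le_of_le hle) fun e =>
              hw2 (mem_inf.1 ((eq_of_le_of_card_ge hle e.ge).ge (mem_inf.2 ⟨hwK, hw1⟩))).2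
          obtain ⟨a, ha⟩ := (h.isPGroup.to_subgroup (K ⊓ LC P (i + 1))).exists_card_eq
          obtain ⟨b, hb⟩ := (h.isPGroup.to_subgroup (K ⊓ LC P i)).exists_card_eq
          rw [ha, hb, Nat.pow_lt_pow_iff_right hp.out.one_lt] at hlt
          rw [ha, hb, ← pow_succ']
          exact Nat.pow_le_pow_right hp.out.pos hlt
        refine hstep.trans ((Nat.mul_le_mul_left p hrec).trans ?_)
        rw [← mul_assoc]
        exact Nat.mul_le_mul hK (Nat.pow_le_pow_right hp.out.pos (Finset.card_le_card hsub))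
  refine (key n 1 le_rfl (by omega)).trans (Nat.mul_le_mul_left _ ?_)
  exact Nat.pow_le_pow_right hp.out.pos (Finset.card_filter_le _ _)

/-- Some `p`-th power lies in a layer below `LC p`. -/
theorem exists_low_pow (h : IsMC p n P) (hn : p + 1 ≤ n) :
    ∃ (y : P) (j : ℕ), 1 ≤ j ∧ j ≤ p - 1 ∧ y ^ p ∈ LC P j ∧ y ^ p ∉ LC P (j + 1) := by
  classical
  have hp2 := hp.out.two_le
  obtain ⟨y, hy⟩ : ∃ y : P, y ^ p ∉ LC P p := by
    by_contra hc
    push Not at hc
    let π := QuotientGroup.mk' (LC P p)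
    have hπ := QuotientGroup.mk'_surjective (LC P p)
    have hcard : Nat.card (P ⧸ LC P p) = p ^ (p + 1) := by
      have h1 := (LC P p).card_mul_index
      rw [h.card_LC (by omega) (by omega), h.card_eq] at h1
      rw [← index_eq_card]
      refine Nat.eq_of_mul_eq_mul_left (Nat.pow_pos (n := n - 1 - p) hp.out.pos) ?_
      rw [h1, ← pow_add]
      congr 1
      omega
    haveI := (IsPGroup.of_card hcard).isNilpotent
    have hcl : Group.nilpotencyClass (P ⧸ LC P p) = p := by
      have hb : LC (P ⧸ LC P p) p = ⊥ := by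
        rw [← map_LC π hπ, Subgroup.map_eq_bot_iff, QuotientGroup.ker_mk']
      have hnb : LC (P ⧸ LC P p) (p - 1) ≠ ⊥ := by
        rw [← map_LC π hπ, Ne, Subgroup.map_eq_bot_iff, QuotientGroup.ker_mk']
        intro hle
        obtain ⟨u, hu, hu'⟩ := h.exists_mem_not_mem (i := p - 1) (by omega) (by omega)
        rw [show p - 1 + 1 = p by omega] at hu'
        exact hu' (hle hu)
      rw [Subgroup.lowerCentralSeries_eq_bot_iff_nilpotencyClass_le] at hb
      rw [Ne, Subgroup.lowerCentralSeries_eq_bot_iff_nilpotencyClass_le] at hnb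
      omega
    refine not_exponent_prime (P := P ⧸ LC P p) ⟨by omega, hcard, by rw [hcl]; omega⟩ fun q => ?_
    obtain ⟨x, rfl⟩ := hπ q
    rw [← map_pow]
    exact (QuotientGroup.eq_one_iff _).2 (hc x)
  have hex : ∃ j, y ^ p ∉ LC P (j + 1) := ⟨p - 1, by rwa [show p - 1 + 1 = p by omega]⟩
  refine ⟨y, Nat.find hex, ?_, Nat.find_min' hex (by rwa [show p - 1 + 1 = p by omega]), ?_,
    Nat.find_spec hex⟩
  · by_contra hc
    have h1 := Nat.find_spec hex
    rw [show Nat.find hex = 0 by omega] at h1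
    exact h1 (h.pow_mem_LC_one y)
  · rcases Nat.eq_zero_or_pos (Nat.find hex) with e | e
    · rw [e]; exact mem_top _
    · have h1 := Nat.find_min hex (show Nat.find hex - 1 < Nat.find hex by omega)
      push Not at h1
      rwa [show Nat.find hex - 1 + 1 = Nat.find hex by omega] at h1

/-- A subgroup modulo the subgroup generated by its `p`-th powers has order at most `p ^ p`. -/
theorem relIndex_pow_le (h : IsMC p n P) (H : Subgroup P) :
    (closure {y : P | ∃ x ∈ H, y = x ^ p}).relIndex H ≤ p ^ p := by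
  classical
  have hp2 := hp.out.two_le
  set K := closure {y : P | ∃ x ∈ H, y = x ^ p}
  have hKH : K ≤ H := (closure_le H).2 fun y ⟨x, hx, e⟩ => e ▸ pow_mem hx p
  suffices hsuff : Nat.card H ≤ Nat.card K * p ^ p by
    have h1 := relIndex_mul_relIndex ⊥ K H bot_le hKH
    rw [relIndex_bot_left, relIndex_bot_left] at h1
    rw [← h1] at hsuff
    exact Nat.le_of_mul_le_mul_left hsuff Nat.card_pos
  have hKle : Nat.card (K ⊓ LC P 1 : Subgroup P) ≤ Nat.card K := card_le_of_le inf_le_left
  obtain ⟨s, _, hs, -, -⟩ := h.exists_two_good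
  have hpow : ∀ i, 1 ≤ i → i + (p - 1) + 2 ≤ n → ∀ v ∈ H, v ∈ LC P i → v ∉ LC P (i + 1) →
      ∃ w ∈ K, w ∈ LC P (i + (p - 1)) ∧ w ∉ LC P (i + (p - 1) + 1) := by
    intro i h1 hi v hv hv1 hv2
    obtain ⟨h2, h3⟩ := pow_iter h hs 1 h1 hv1 hv2 (by omega)
    rw [one_mul, pow_one] at h2 h3
    exact ⟨_, subset_closure ⟨v, hv, rfl⟩, h2, h3⟩
  have htop : Nat.card P ≤ p ^ 2 * Nat.card (LC P 1) := by
    rw [← card_mul_index (LC P 1), index_eq_card, h.card_quotient_LC_one, mul_comm]
  by_cases hHt : H = ⊤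
  · by_cases hn : n ≤ p
    · rw [hHt, card_top, h.card_eq]
      exact (Nat.pow_le_pow_right hp.out.pos hn).trans (Nat.le_mul_of_pos_left _ Nat.card_pos)
    obtain ⟨y, j, hj1, hj2, hy1, hy2⟩ := exists_low_pow h (by omega)
    have hM := card_le_of_jumps h H K ((Finset.Icc 1 (p - 1)).erase j) fun i h1 hi hv => by
      by_cases hij : i = j
      · exact Or.inr ⟨_, subset_closure ⟨y, by rw [hHt]; exact mem_top _, rfl⟩, hij ▸ hy1, hij ▸ hy2⟩
      by_cases hip : i ≤ p - 1
      · exact Or.inl (Finset.mem_erase.2 ⟨hij, Finset.mem_Icc.2 ⟨h1, hip⟩⟩)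
      · obtain ⟨v, hv1, hv2⟩ := h.exists_mem_not_mem (i := i - (p - 1)) (by omega) (by omega)
        have := hpow (i - (p - 1)) (by omega) (by omega) v (by rw [hHt]; exact mem_top _) hv1 hv2
        rw [show i - (p - 1) + (p - 1) = i by omega] at this
        exact Or.inr this
    rw [Finset.card_erase_of_mem (Finset.mem_Icc.2 ⟨hj1, hj2⟩), Nat.card_Icc,
      show p - 1 + 1 - 1 - 1 = p - 2 by omega, hHt, top_inf_eq] at hM
    rw [hHt, card_top]
    refine htop.trans ((Nat.mul_le_mul_left _ hM).trans ?_)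
    rw [mul_left_comm, ← pow_add, show 2 + (p - 2) = p by omega]
    exact Nat.mul_le_mul_right _ hKle
  -- a proper subgroup
  let J : ℕ → ℕ → Prop := fun r i =>
    1 ≤ i ∧ i % (p - 1) = r ∧ ∃ v ∈ H, v ∈ LC P i ∧ v ∉ LC P (i + 1)
  let f : ℕ → ℕ := fun r => if hr : ∃ i, J r i then Nat.find hr else 0
  have hM := card_le_of_jumps h H K ((Finset.range (p - 1)).image f) fun i h1 hi hv => by
    have hr : ∃ j, J (i % (p - 1)) j := ⟨i, h1, rfl, hv⟩
    obtain ⟨hj1, hjr, -⟩ := Nat.find_spec hr
    have hji : Nat.find hr ≤ i := Nat.find_min' hr ⟨h1, rfl, hv⟩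
    rcases eq_or_lt_of_le hji with e | e
    · exact Or.inl (Finset.mem_image.2 ⟨i % (p - 1), Finset.mem_range.2 (Nat.mod_lt _ (by omega)),
        (dif_pos hr).trans e⟩)
    obtain ⟨k, hk⟩ : p - 1 ∣ i - Nat.find hr := (Nat.modEq_iff_dvd' hji).1 hjr
    obtain ⟨v, hvH, hv1, hv2⟩ := (Nat.find_spec hr).2.2
    obtain ⟨k, rfl⟩ : ∃ k', k = k' + 1 := ⟨k - 1, by
      rcases k with _ | k
      · simp at hk; omega
      · omega⟩
    have hik : Nat.find hr + (k + 1) * (p - 1) = i := by rw [mul_comm, ← hk]; omega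
    rw [add_one_mul, ← add_assoc] at hik
    obtain ⟨h2, h3⟩ := pow_iter h hs k hj1 hv1 hv2 (by omega)
    have := hpow _ (by omega) (by omega) _ (pow_mem hvH _) h2 h3
    rw [hik] at this
    exact Or.inr this
  have hcard : ((Finset.range (p - 1)).image f).card ≤ p - 1 :=
    Finset.card_image_le.trans (by simp)
  have hH1 : Nat.card H ≤ p * Nat.card (H ⊓ LC P 1 : Subgroup P) := by
    by_cases hle : H ≤ LC P 1
    · rw [inf_eq_left.2 hle]; exact Nat.le_mul_of_pos_left _ hp.out.pos
    obtain ⟨x, hxH, hx⟩ := SetLike.not_le_iff_exists.1 hle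
    have hline : H ≤ zpowers x ⊔ LC P 1 := by
      by_contra hc
      obtain ⟨y, hyH, hy⟩ := SetLike.not_le_iff_exists.1 hc
      exact hHt (h.eq_top_of_gen' hx hy hxH hyH)
    have h2 := relIndex_mul_relIndex ⊥ (H ⊓ LC P 1) H bot_le inf_le_left
    rw [relIndex_bot_left, relIndex_bot_left] at h2
    rw [← h2, mul_comm]
    refine Nat.mul_le_mul_right _ ?_
    have h3 := relIndex_mul_relIndex ⊥ (LC P 1) (zpowers x ⊔ LC P 1) bot_le le_sup_right
    rw [relIndex_bot_left, relIndex_bot_left, card_zpowers_sup hx (h.pow_mem_LC_one x)] at h3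
    have h4 := Nat.eq_of_mul_eq_mul_left Nat.card_pos h3
    rw [inf_comm, inf_relIndex_right, ← h4]
    exact relIndex_le_of_le_right hline (by rw [h4]; exact hp.out.ne_zero)
  refine hH1.trans ((Nat.mul_le_mul_left p (hM.trans (Nat.mul_le_mul hKle
    (Nat.pow_le_pow_right hp.out.pos hcard)))).trans ?_)
  rw [mul_left_comm, ← pow_succ', show p - 1 + 1 = p by omega]

end Count

end CfsgLib.Invol.MaxClassPowers
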