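import Cfsg.Agent.Lib.Invol.MaxClassRank
import Cfsg.Agent.Lib.Fusion.Alperin

/-!
# The second centre of a group of maximal class and its centralizer
-/

set_option autoImplicit false
set_option linter.style.haveILetI false

namespace CfsgLib.Invol.MaxClassSecond

open Subgroup CfsgLib.Coprime.MaxClassUniform
open scoped commutatorElement

universe u

section Group

variable {p : ℕ} [hp : Fact p.Prime] {n : ℕ} {P : Type u} [Group P] [Finite P]

/-- The second centre is the term `n - 3` of the lower central series. -/
theorem upper_two_eq (h : IsMC p n P) (hn : 4 ≤ n) : Subgroup.upperCentralSeries P 2 = LC P (n - 3) := by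
  let π := QuotientGroup.mk' (center P)
  have hπ := QuotientGroup.mk'_surjective (center P)
  have hQ : IsMC p (n - 1) (P ⧸ center P) := h.of_surjective hn π hπ (QuotientGroup.ker_mk' _)
  have he : Subgroup.upperCentralSeries P 2 = (center (P ⧸ center P)).comap π := by
    ext x
    rw [Subgroup.mem_upperCentralSeries_succ_iff, mem_comap, mem_center_iff]
    constructor
    · intro hx q
      obtain ⟨y, rfl⟩ := hπ q
      have h1 := hx y
      rw [Subgroup.upperCentralSeries_one, ← QuotientGroup.eq_one_iff] at h1
      have h2 : ⁅π x, π y⁆ = 1 := by rw [← map_commutatorElement]; exact h1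
      exact (commutatorElement_eq_one_iff_mul_comm.1 h2).symm
    · intro hx y
      rw [Subgroup.upperCentralSeries_one, ← QuotientGroup.eq_one_iff]
      show π ⁅x, y⁆ = 1
      rw [map_commutatorElement, commutatorElement_eq_one_iff_mul_comm]
      exact (hx (π y)).symm
  have hidx : (Subgroup.upperCentralSeries P 2).index = p ^ (n - 2) := by
    rw [he, index_comap_of_surjective _ hπ]
    have h1 := (center (P ⧸ center P)).card_mul_index
    rw [hQ.card_center, hQ.card_eq, show p ^ (n - 1) = p * p ^ (n - 2) by
      rw [← pow_succ']; congr 1; omega] at h1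
    exact Nat.eq_of_mul_eq_mul_left hp.out.pos h1
  rw [CfsgLib.PGroup.maxClass_normal_eq h.three_le h.card_eq h.class_eq _ (r := n - 2) (by omega) hidx,
    show n - 2 - 1 = n - 3 by omega]

/-- The centralizer of the second centre is the last two-step centralizer. -/
theorem centralizer_upper_two (h : IsMC p n P) (hn : 4 ≤ n) :
    centralizer (Subgroup.upperCentralSeries P 2 : Set P) = TC P (n - 3) := by
  ext g
  rw [upper_two_eq h hn, mem_centralizer_iff, mem_TC_iff, h.LC_eq_bot (show n - 1 ≤ n - 3 + 2 by omega)]
  refine forall₂_congr fun u _ => ?_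
  rw [mem_bot, commutatorElement_eq_one_iff_mul_comm]
  exact eq_comm

end Group

end CfsgLib.Invol.MaxClassSecond
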