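import Cfsg.Agent.Lib.Invol.MaxClassRank
import Cfsg.Agent.Lib.Solvable.Nilpotent

/-!
# Subgroups of `3`-groups of maximal class
-/

set_option autoImplicit false
set_option linter.style.haveILetI false

namespace CfsgLib.Invol.MaxClassRank

open Subgroup CfsgLib.Coprime.MaxClassUniform
open scoped commutatorElement

universe u

section General

variable {p : ℕ} [hp : Fact p.Prime] {n : ℕ} {P : Type u} [Group P] [Finite P]

/-- A subgroup of the derived group lies in `C` once `C` meets every layer that it meets. -/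
theorem le_of_witness (h : IsMC p n P) {C H : Subgroup P} (hH : H ≤ LC P 1)
    (hC : C ⊓ LC P 1 ≤ H)
    (hw : ∀ i, 1 ≤ i → i + 2 ≤ n → (∃ v ∈ H, v ∈ LC P i ∧ v ∉ LC P (i + 1)) →
      ∃ w ∈ C, w ∈ LC P i ∧ w ∉ LC P (i + 1)) : H ≤ C := by
  have key : ∀ d i, 1 ≤ i → n - i ≤ d → ∀ v ∈ H, v ∈ LC P i → v ∈ C := by
    intro d
    induction d with
    | zero =>
      intro i h1 hi v _ hv
      rw [h.LC_eq_bot (show n - 1 ≤ i by omega), mem_bot] at hv
      rw [hv]
      exact one_mem C
    | succ d ih =>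
      intro i h1 hi v hvH hv
      by_cases hv' : v ∈ LC P (i + 1)
      · exact ih (i + 1) (by omega) (by omega) v hvH hv'
      have hin : i + 2 ≤ n := by
        by_contra hc
        rw [h.LC_eq_bot (show n - 1 ≤ i by omega), mem_bot] at hv
        exact hv' (hv ▸ one_mem _)
      obtain ⟨w, hwC, hw1, hw2⟩ := hw i h1 hin ⟨v, hvH, hv, hv'⟩
      obtain ⟨a, ha, b, hb, rfl⟩ := mem_sup_of_normal_right.1 (h.LC_gen h1 hw1 hw2 hv)
      have haC : a ∈ C := zpowers_le.2 hwC ha
      have ha1 : a ∈ LC P 1 := zpowers_le.2 (LC_le h1 hw1) ha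
      refine mul_mem haC (ih (i + 1) (by omega) (by omega) b ?_ hb)
      have h5 := mul_mem (inv_mem (hC (mem_inf.2 ⟨haC, ha1⟩))) hvH
      rwa [inv_mul_cancel_left] at h5
  exact fun v hv => key n 1 le_rfl (by omega) v hv (hH hv)

/-- A subgroup on one line `⟨x⟩ P'` is contained in `C ∋ x` once its part in `P'` is. -/
theorem eq_of_line {C H : Subgroup P} {x : P} (hCH : C ≤ H) (hxC : x ∈ C)
    (hline : H ≤ zpowers x ⊔ LC P 1) (hin : H ⊓ LC P 1 ≤ C) : C = H := by
  refine le_antisymm hCH fun v hv => ?_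
  obtain ⟨a, ha, b, hb, rfl⟩ := mem_sup_of_normal_right.1 (hline hv)
  have haC : a ∈ C := zpowers_le.2 hxC ha
  refine mul_mem haC (hin (mem_inf.2 ⟨?_, hb⟩))
  have h5 := mul_mem (inv_mem (hCH haC)) hv
  rwa [inv_mul_cancel_left] at h5

theorem closure_pair_le {H : Subgroup P} {x u : P} (hx : x ∈ H) (hu : u ∈ H) :
    closure ({x, u} : Set P) ≤ H :=
  (closure_le H).2 (Set.insert_subset hx (Set.singleton_subset_iff.2 hu))

/-- A subgroup containing a uniform element and inside its line is generated by two elements. -/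
theorem two_gen_good (h : IsMC p n P) {x : P} (hx : IsGood n x) {H : Subgroup P} (hxH : x ∈ H)
    (hline : H ≤ zpowers x ⊔ LC P 1) : ∃ T : Finset P, T.card ≤ 2 ∧ closure (T : Set P) = H := by
  classical
  let J : ℕ → Prop := fun i => 1 ≤ i ∧ ∃ v ∈ H, v ∈ LC P i ∧ v ∉ LC P (i + 1)
  obtain ⟨u, huH, hu⟩ : ∃ u ∈ H, ∀ j, (hj : ∃ i, J i) → j = Nat.find hj →
      u ∈ LC P j ∧ u ∉ LC P (j + 1) := by
    by_cases hj : ∃ i, J i
    · obtain ⟨v, hvH, hv⟩ := (Nat.find_spec hj).2
      exact ⟨v, hvH, fun j _ e => e ▸ hv⟩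
    · exact ⟨1, one_mem H, fun j hj' _ => absurd hj' hj⟩
  refine ⟨{x, u}, Finset.card_le_two, ?_⟩
  have hcoe : (({x, u} : Finset P) : Set P) = {x, u} := by simp
  rw [hcoe]
  have hCH := closure_pair_le hxH huH
  refine eq_of_line hCH (subset_closure (by simp)) hline ?_
  refine le_of_witness h inf_le_right ?_ ?_
  · exact inf_le_inf_right _ hCH
  intro i h1 hi hv
  obtain ⟨v, hv1, hv2, hv3⟩ := hv
  have hj : ∃ i, J i := ⟨i, h1, v, (mem_inf.1 hv1).1, hv2, hv3⟩
  obtain ⟨hu1, hu2⟩ := hu _ hj rfl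
  have hle : Nat.find hj ≤ i := Nat.find_min' hj ⟨h1, v, (mem_inf.1 hv1).1, hv2, hv3⟩
  have hj1 : 1 ≤ Nat.find hj := (Nat.find_spec hj).1
  have key : ∀ m, Nat.find hj + m + 2 ≤ n → ∃ w ∈ closure ({x, u} : Set P),
      w ∈ LC P (Nat.find hj + m) ∧ w ∉ LC P (Nat.find hj + m + 1) := by
    intro m
    induction m with
    | zero => exact fun _ => ⟨u, subset_closure (by simp), hu1, hu2⟩
    | succ m ih =>
      intro hm
      obtain ⟨w, hwC, hw1, hw2⟩ := ih (by omega)
      refine ⟨⁅x, w⁆, ?_, comm_LC_right x hw1, hx.comm_not_mem h (i := Nat.find hj + m) (by omega) (by omega) hw1 hw2⟩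
      have hxC : x ∈ closure ({x, u} : Set P) := subset_closure (by simp)
      rw [commutatorElement_def]
      exact mul_mem (mul_mem (mul_mem hxC hwC) (inv_mem hxC)) (inv_mem hwC)
  have h2 := key (i - Nat.find hj) (by omega)
  rwa [show Nat.find hj + (i - Nat.find hj) = i by omega] at h2

omit [Finite P] in
theorem comm_of_card_le (B : Subgroup P) [Finite B] {b : ℕ} (hb : Nat.card B = p ^ b) (hb2 : b ≤ 2)
    {x y : P} (hx : x ∈ B) (hy : y ∈ B) : x * y = y * x := by
  have hab : IsMulCommutative B := by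
    rcases (show b = 0 ∨ b = 1 ∨ b = 2 by omega) with rfl | rfl | rfl
    · haveI := (Nat.card_eq_one_iff_unique.1 (hb.trans (pow_zero p))).1
      exact ⟨⟨fun a b => Subsingleton.elim _ _⟩⟩
    · haveI := isCyclic_of_prime_card (hb.trans (pow_one p))
      exact ⟨⟨fun a b => (IsCyclic.commGroup (α := B)).mul_comm a b⟩⟩
    · exact IsPGroup.isMulCommutative_of_card_eq_prime_sq hb
  exact congrArg Subtype.val (hab.is_comm.comm ⟨x, hx⟩ ⟨y, hy⟩)

/-- A subgroup of order at most `p ^ 3` needs two generators unless it is elementary abelian. -/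
theorem two_gen_or_elementary (hP : IsPGroup p P) {H : Subgroup P} (hH : Nat.card H ≤ p ^ 3) :
    (∃ T : Finset P, T.card ≤ 2 ∧ closure (T : Set P) = H) ∨
      (Nat.card H = p ^ 3 ∧ (∀ x ∈ H, ∀ y ∈ H, x * y = y * x) ∧ ∀ x ∈ H, x ^ p = 1) := by
  classical
  by_cases hsm : Nat.card H ≤ p ^ 2
  · exact Or.inl (exists_gen_small hP H hsm)
  obtain ⟨e, he⟩ := (hP.to_subgroup H).exists_card_eq
  rw [he, Nat.pow_le_pow_iff_right hp.out.one_lt] at hH hsm
  have he3 : e = 3 := by omega
  subst he3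
  refine or_iff_not_imp_left.2 fun hno => ?_
  push Not at hno
  have key : ∀ x ∈ H, ∀ y ∈ H, Nat.card (closure ({x, y} : Set P)) ≤ p ^ 2 := by
    intro x hx y hy
    obtain ⟨b, hb⟩ := (hP.to_subgroup (closure ({x, y} : Set P))).exists_card_eq
    have hne := hno {x, y} Finset.card_le_two
    rw [show (({x, y} : Finset P) : Set P) = {x, y} by simp] at hne
    have hlt : Nat.card (closure ({x, y} : Set P)) < Nat.card H :=
      lt_of_le_of_ne (card_le_of_le (closure_pair_le hx hy))
        fun e => hne (eq_of_le_of_card_ge (closure_pair_le hx hy) e.ge)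
    rw [hb, he, Nat.pow_lt_pow_iff_right hp.out.one_lt] at hlt
    rw [hb]
    exact Nat.pow_le_pow_right hp.out.pos (by omega)
  refine ⟨he, fun x hx y hy => ?_, fun x hx => ?_⟩
  · obtain ⟨b, hb⟩ := (hP.to_subgroup (closure ({x, y} : Set P))).exists_card_eq
    have h2 := key x hx y hy
    rw [hb, Nat.pow_le_pow_iff_right hp.out.one_lt] at h2
    exact comm_of_card_le _ hb h2 (subset_closure (by simp)) (subset_closure (by simp))
  · by_contra hxp
    obtain ⟨y, hy, hy'⟩ : ∃ y ∈ H, y ∉ zpowers x := by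
      by_contra hc
      push Not at hc
      refine hno {x} (by simp) ?_
      rw [Finset.coe_singleton, ← zpowers_eq_closure]
      exact le_antisymm (zpowers_le.2 hx) hc
    obtain ⟨a, ha⟩ := (hP.to_subgroup (zpowers x)).exists_card_eq
    have ha2 : 2 ≤ a := by
      by_contra hc
      refine hxp ?_
      rw [← orderOf_dvd_iff_pow_eq_one, ← Nat.card_zpowers, ha]
      exact (pow_dvd_pow p (show a ≤ 1 by omega)).trans (by rw [pow_one])
    have hle : zpowers x ≤ closure ({x, y} : Set P) := zpowers_le.2 (subset_closure (by simp))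
    have h2 := (card_le_of_le hle).trans (key x hx y hy)
    have h3 : zpowers x = closure ({x, y} : Set P) := by
      refine eq_of_le_of_card_ge hle ((key x hx y hy).trans ?_)
      rw [ha]
      exact Nat.pow_le_pow_right hp.out.pos ha2
    exact hy' (h3.ge (subset_closure (by simp)))

end General

section Three

variable {n : ℕ} {P : Type u} [Group P] [Finite P]

private theorem cube_identity {Q : Type*} [Group Q] (s a b c : Q) (h1 : a * s = s * a * b)
    (h2 : b * s = s * b * c) (hab : Commute a b) (hac : Commute a c) (hbc : Commute b c) :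
    (s * a) ^ 3 = s ^ 3 * (a ^ 3 * b ^ 3 * c) := by
  have e1 : ∀ x, a * (s * x) = s * (a * (b * x)) := fun x => by
    rw [← mul_assoc, h1]; simp only [mul_assoc]
  have e2 : ∀ x, b * (s * x) = s * (b * (c * x)) := fun x => by
    rw [← mul_assoc, h2]; simp only [mul_assoc]
  simp only [pow_three, mul_assoc, e1, e2, hab.symm.left_comm, hac.symm.left_comm,
    hbc.symm.left_comm, hab.symm.eq, hac.symm.eq, hbc.symm.eq]

theorem line_eq_TC_one (h : IsMC 3 n P) (hn : 4 ≤ n) {a : P} (ha : a ∈ TC P 1) (ha' : a ∉ LC P 1) :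
    zpowers a ⊔ LC P 1 = TC P 1 := by
  refine eq_of_le_of_card_ge (sup_le (zpowers_le.2 ha) (LC_one_le_TC 1)) ?_
  have e1 := (zpowers a ⊔ LC P 1).card_mul_index
  have e2 := (TC P 1).card_mul_index
  rw [h.line_index ha'] at e1
  rw [h.TC_index le_rfl (by omega)] at e2
  omega

/-- Cubes of the elements of the two-step centralizer outside the derived group fill the second
layer. -/
theorem cube_layer (h : IsMC 3 n P) (hn : 5 ≤ n) {s : P} (hs : IsGood n s) {a : P}
    (ha : a ∈ TC P 1) (ha' : a ∉ LC P 1) (hsa : s * a ∉ TC P 2) :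
    a ^ 3 ∈ LC P 2 ∧ a ^ 3 ∉ LC P 3 := by
  have hsT : s ∉ TC P 1 := hs.2 1 le_rfl (by omega)
  have hyT : s * a ∉ TC P 1 := fun hc => hsT (by simpa using mul_mem hc (inv_mem ha))
  have hy : (s * a) ^ 3 ∈ LC P 3 := by
    have h1 : (s * a) ^ 3 ∈ LC P 1 := h.pow_mem_LC_one _
    have hc : ⁅s * a, (s * a) ^ 3⁆ = 1 :=
      commutatorElement_eq_one_iff_commute.2 ((Commute.refl _).pow_right 3)
    have h2 : (s * a) ^ 3 ∈ LC P 2 := by
      by_contra hh
      exact h.comm_not_mem le_rfl hyT h1 hh (hc ▸ one_mem _)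
    by_contra hh
    exact h.comm_not_mem (i := 2) (by omega) hsa h2 hh (hc ▸ one_mem _)
  have hs3 : s ^ 3 ∈ LC P 3 := by
    have h2 := hs.pow_mem_center h
    rw [h.center_eq] at h2
    exact LC_le (by omega) h2
  set b := ⁅a⁻¹, s⁻¹⁆
  set c := ⁅b⁻¹, s⁻¹⁆
  have hb : b ∈ LC P 1 := comm_LC_left (mem_top _) _
  have hc : c ∈ LC P 2 := comm_LC_left (inv_mem hb) _
  have hb' : b ∉ LC P 2 := by
    intro hb2
    obtain ⟨w, hw, hw'⟩ := h.exists_mem_not_mem (i := 1) le_rfl (by omega)
    refine hw' ?_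
    have hgen : closure ({s, a} : Set P) = ⊤ := by
      refine h.eq_top_of_gen' (t := a) hs.1 (fun hc => hsT ?_) (subset_closure (by simp)) (subset_closure (by simp))
      rw [← line_eq_TC_one h (by omega) ha ha']
      refine (eq_of_le_of_card_ge (sup_le (zpowers_le.2 hc) le_sup_right) ?_).ge
        (mem_sup_left (mem_zpowers s))
      have e1 := (zpowers a ⊔ LC P 1).card_mul_index
      have e2 := (zpowers s ⊔ LC P 1).card_mul_index
      rw [h.line_index ha'] at e1
      rw [h.line_index hs.1] at e2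
      omega
    let π := QuotientGroup.mk' (LC P 2)
    have hcm : π a * π s = π s * π a := by
      have h2 : π b = 1 := (QuotientGroup.eq_one_iff _).2 hb2
      rw [map_commutatorElement, map_inv, map_inv, commutatorElement_eq_one_iff_commute] at h2
      exact (Commute.inv_inv_iff.1 h2).eq
    have hle : ⁅closure ({s, a} : Set P), closure ({s, a} : Set P)⁆ ≤ LC P 2 := by
      refine commutator_closure_le ?_
      have key : ∀ x y : P, π x * π y = π y * π x → ⁅x, y⁆ ∈ LC P 2 := fun x y e =>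
        (QuotientGroup.eq_one_iff _).1
          ((map_commutatorElement π x y).trans (commutatorElement_eq_one_iff_mul_comm.2 e))
      rintro x (rfl | rfl) y (rfl | rfl)
      · exact key _ _ rfl
      · exact key _ _ hcm.symm
      · exact key _ _ hcm
      · exact key _ _ rfl
    rw [hgen] at hle
    exact hle (by rwa [LC, top_lowerCentralSeries_one] at hw)
  have hc' : c ∉ LC P 3 := fun hh =>
    h.comm_not_mem (g := s⁻¹) le_rfl (fun h2 => hsT (by simpa using inv_mem h2)) (inv_mem hb)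
      (fun h2 => hb' (by simpa using inv_mem h2))
      (by rw [← commutatorElement_inv]; exact inv_mem hh)
  let π := QuotientGroup.mk' (LC P 3)
  have key : ∀ x y : P, ⁅x, y⁆ ∈ LC P 3 → Commute (π x) (π y) := fun x y e =>
    commutatorElement_eq_one_iff_commute.1
      ((map_commutatorElement π x y).symm.trans ((QuotientGroup.eq_one_iff _).2 e))
  have hid := cube_identity (π s) (π a) (π b) (π c)
    (by simp only [← map_mul, b, commutatorElement_def]; simp [mul_assoc])
    (by simp only [← map_mul, c, commutatorElement_def]; simp [mul_assoc])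
    (key a b (mem_TC_iff.1 ha b hb))
    (key a c (comm_LC_right a hc))
    (key b c (comm_LC hb hc (by omega)))
  have h1 : π ((s * a) ^ 3) = 1 := (QuotientGroup.eq_one_iff _).2 hy
  have h2 : π s ^ 3 = 1 := by rw [← map_pow]; exact (QuotientGroup.eq_one_iff _).2 hs3
  have h3 : π b ^ 3 = 1 := by
    rw [← map_pow]
    exact (QuotientGroup.eq_one_iff _).2 (hs.pow_mem h n 1 le_rfl (by omega) b hb)
  rw [← map_mul, ← map_pow, h1, h2, h3, one_mul, mul_one, ← map_pow, ← map_mul] at hid
  have h4 : a ^ 3 * c ∈ LC P 3 := (QuotientGroup.eq_one_iff _).1 hid.symm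
  refine ⟨?_, fun hh => hc' ?_⟩
  · have h5 := mul_mem (LC_le (show 2 ≤ 3 by omega) h4) (inv_mem hc)
    rwa [mul_inv_cancel_right] at h5
  · have h5 := mul_mem (inv_mem hh) h4
    rwa [inv_mul_cancel_left] at h5

/-- In a `3`-group of maximal class of order at least `3 ^ 5` the first two two-step centralizers
agree. -/
theorem TC_two_eq (h : IsMC 3 n P) (hn : 5 ≤ n) {s : P} (hs : IsGood n s) : TC P 2 = TC P 1 := by
  obtain ⟨a, ha, ha'⟩ : ∃ a ∈ TC P 1, a ∉ LC P 1 := by
    by_contra hc
    push Not at hc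
    have e1 := (TC P 1).card_mul_index
    have e2 := card_le_of_le (show TC P 1 ≤ LC P 1 from hc)
    rw [h.card_LC le_rfl (by omega)] at e2
    rw [h.TC_index le_rfl (by omega), h.card_eq] at e1
    have e3 : 3 ^ n = 3 ^ (n - 1 - 1) * 9 := by
      rw [show (9 : ℕ) = 3 ^ 2 by norm_num, ← pow_add]; congr 1; omega
    have := Nat.pow_pos (n := n - 1 - 1) (show 0 < 3 by norm_num)
    omega
  obtain ⟨b, hb, hb', hsb⟩ : ∃ b ∈ TC P 1, b ∉ LC P 1 ∧ s * b ∉ TC P 2 := by
    by_cases h1 : s * a ∈ TC P 2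
    · refine ⟨a⁻¹, inv_mem ha, fun hh => ha' (by simpa using inv_mem hh), fun h2 => ?_⟩
      have h3 : a ^ 2 ∈ TC P 2 := by
        have := mul_mem (inv_mem h2) h1
        simpa [mul_assoc, sq] using this
      have h4 : a ^ 3 ∈ TC P 2 := LC_one_le_TC 2 (h.pow_mem_LC_one a)
      have h5 : a ∈ TC P 2 := by
        have := mul_mem (inv_mem h3) h4
        rwa [show (a ^ 2)⁻¹ * a ^ 3 = a by group] at this
      exact hs.2 2 (by omega) (by omega) (by simpa using mul_mem h1 (inv_mem h5))
    · exact ⟨a, ha, ha', h1⟩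
  obtain ⟨hb2, hb3⟩ := cube_layer h hn hs hb hb' hsb
  have hbT : b ∈ TC P 2 := by
    rw [mem_TC_iff]
    intro v hv
    obtain ⟨x, hx, y, hy, rfl⟩ := mem_sup_of_normal_right.1 (h.LC_gen (i := 2) (by omega) hb2 hb3 hv)
    obtain ⟨k, rfl⟩ := mem_zpowers_iff.1 hx
    let π := QuotientGroup.mk' (LC P (2 + 2))
    refine (QuotientGroup.eq_one_iff _).1 ?_
    show π ⁅b, (b ^ 3) ^ k * y⁆ = 1
    have e1 : Commute (π b) (π y) := by
      rw [← commutatorElement_eq_one_iff_commute, ← map_commutatorElement]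
      exact (QuotientGroup.eq_one_iff _).2 (comm_LC_right b hy)
    rw [map_commutatorElement, map_mul, map_zpow, map_pow, commutatorElement_eq_one_iff_commute]
    exact (((Commute.refl _).pow_right 3).zpow_right k).mul_right e1
  refine (eq_of_le_of_card_ge ?_ ?_).symm
  · rw [← line_eq_TC_one h (by omega) hb hb']
    exact sup_le (zpowers_le.2 hbT) (LC_one_le_TC 2)
  · have e1 := (TC P 1).card_mul_index
    have e2 := (TC P 2).card_mul_index
    rw [h.TC_index le_rfl (by omega)] at e1
    rw [h.TC_index (by omega) (by omega)] at e2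
    omega

/-- A `3`-group of maximal class of order at least `3 ^ 5` has sectional rank two. -/
theorem two_gen_three (h : IsMC 3 n P) (hn : 5 ≤ n) (H : Subgroup P) :
    ∃ T : Finset P, T.card ≤ 2 ∧ closure (T : Set P) = H := by
  classical
  by_cases hH : H ≤ LC P 1
  · exact exists_gen_le_LC_one h H hH
  obtain ⟨x, hxH, hx⟩ := SetLike.not_le_iff_exists.1 hH
  by_cases hline : H ≤ zpowers x ⊔ LC P 1
  swap
  · obtain ⟨y, hyH, hy⟩ := SetLike.not_le_iff_exists.1 hline
    refine ⟨{x, y}, Finset.card_le_two, ?_⟩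
    have h1 : closure (({x, y} : Finset P) : Set P) = ⊤ :=
      h.eq_top_of_gen' hx hy (subset_closure (by simp)) (subset_closure (by simp))
    rw [h1]
    exact (h.eq_top_of_gen' hx hy hxH hyH).symm
  by_cases hg : IsGood n x
  · exact two_gen_good h hg hxH hline
  obtain ⟨s, _, hs, -, -⟩ := h.exists_two_good
  have hT := TC_two_eq h hn hs
  obtain ⟨i, h1, hi, hxi⟩ : ∃ i, 1 ≤ i ∧ i + 3 ≤ n ∧ x ∈ TC P i := by
    by_contra hc
    exact hg ⟨hx, fun i h1 hi hxi => hc ⟨i, h1, hi, hxi⟩⟩
  have hx1 : x ∈ TC P 1 := by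
    obtain ⟨j, hj1, hj2, hje⟩ := hs.exists_small_TC h i h1 hi
    rw [hje] at hxi
    rcases (show j = 1 ∨ j = 2 by omega) with rfl | rfl
    · exact hxi
    · rwa [hT] at hxi
  have hsx : s * x ∉ TC P 2 := by
    rw [hT]
    exact fun hc => hs.2 1 le_rfl (by omega) (by simpa using mul_mem hc (inv_mem hx1))
  obtain ⟨hx2, hx3⟩ := cube_layer h hn hs hx1 hx hsx
  let J : ℕ → Prop := fun i => i % 2 = 1 ∧ ∃ v ∈ H, v ∈ LC P i ∧ v ∉ LC P (i + 1)
  obtain ⟨u, huH, hu⟩ : ∃ u ∈ H, ∀ j, (hj : ∃ i, J i) → j = Nat.find hj →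
      u ∈ LC P j ∧ u ∉ LC P (j + 1) := by
    by_cases hj : ∃ i, J i
    · obtain ⟨v, hvH, hv⟩ := (Nat.find_spec hj).2
      exact ⟨v, hvH, fun j _ e => e ▸ hv⟩
    · exact ⟨1, one_mem H, fun j hj' _ => absurd hj' hj⟩
  refine ⟨{x, u}, Finset.card_le_two, ?_⟩
  rw [show (({x, u} : Finset P) : Set P) = {x, u} by simp]
  have hCH := closure_pair_le hxH huH
  refine eq_of_line hCH (subset_closure (by simp)) hline ?_
  refine le_of_witness h inf_le_right (inf_le_inf_right _ hCH) ?_
  intro i h1 hi hv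
  obtain ⟨v, hv1, hv2, hv3⟩ := hv
  rcases Nat.mod_two_eq_zero_or_one i with he | ho
  · obtain ⟨k, rfl⟩ : ∃ k, i = 2 + k * (3 - 1) := ⟨(i - 2) / 2, by omega⟩
    obtain ⟨h2, h3⟩ := pow_iter h hs k (show 1 ≤ 2 by omega) hx2 hx3 (by omega)
    exact ⟨_, pow_mem (pow_mem (subset_closure (by simp)) 3) _, h2, h3⟩
  · have hj : ∃ i, J i := ⟨i, ho, v, (mem_inf.1 hv1).1, hv2, hv3⟩
    obtain ⟨hu1, hu2⟩ := hu _ hj rfl
    have hle : Nat.find hj ≤ i := Nat.find_min' hj ⟨ho, v, (mem_inf.1 hv1).1, hv2, hv3⟩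
    have hjo : Nat.find hj % 2 = 1 := (Nat.find_spec hj).1
    obtain ⟨k, hk⟩ : ∃ k, i = Nat.find hj + k * (3 - 1) := ⟨(i - Nat.find hj) / 2, by omega⟩
    obtain ⟨h2, h3⟩ := pow_iter h hs k (show 1 ≤ Nat.find hj by omega) hu1 hu2 (by omega)
    rw [← hk] at h2 h3
    exact ⟨_, pow_mem (subset_closure (by simp)) _, h2, h3⟩

/-- Order `81`: sectional rank two, or the Sylow subgroup of the symmetric group of degree 9. -/
theorem rank_or_wreath (h : IsMC 3 4 P) :
    (∀ H : Subgroup P, ∃ T : Finset P, T.card ≤ 2 ∧ closure (T : Set P) = H) ∨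
      ∃ W : Sylow 3 (Equiv.Perm (Fin 9)), Nonempty (P ≃* (W : Subgroup (Equiv.Perm (Fin 9)))) := by
  classical
  refine or_iff_not_imp_left.2 fun hno => ?_
  push Not at hno
  obtain ⟨A, hA⟩ := hno
  have hnab : ¬ IsMulCommutative P := by
    intro hc
    haveI := h.isNilpotent
    have := Group.IsNilpotent.nilpotencyClass_le_one_iff.2 hc
    rw [h.class_eq] at this
    omega
  obtain ⟨hAc, hAab, hAexp⟩ : Nat.card A = 3 ^ 3 ∧ (∀ x ∈ A, ∀ y ∈ A, x * y = y * x) ∧
      ∀ x ∈ A, x ^ 3 = 1 := by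
    refine (two_gen_or_elementary h.isPGroup ?_).resolve_left fun ⟨T, hT, hT'⟩ => hA T hT hT'
    by_contra hc
    have hAt : A = ⊤ := by
      obtain ⟨e, he⟩ := (h.isPGroup.to_subgroup A).exists_card_eq
      rw [he, Nat.pow_le_pow_iff_right (by norm_num)] at hc
      have h2 := card_le_card_group A
      rw [he, h.card_eq, Nat.pow_le_pow_iff_right (by norm_num)] at h2
      exact A.eq_top_of_card_eq (by rw [he, h.card_eq, show e = 4 by omega])
    obtain ⟨s, t, hs, -, hts⟩ := h.exists_two_good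
    refine hA {s, t} Finset.card_le_two ?_
    rw [hAt]
    exact h.eq_top_of_gen' hs.1 hts (subset_closure (by simp)) (subset_closure (by simp))
  set Z := center P
  have hZc : Nat.card Z = 3 := h.card_center
  have hZA : Z ≤ A := by
    intro z hz
    by_contra hzA
    refine hnab ⟨⟨fun x y => ?_⟩⟩
    have htop : closure (insert z (A : Set P)) = ⊤ := by
      refine Subgroup.eq_top_of_card_eq _ ?_
      set B := closure (insert z (A : Set P))
      have hlt : Nat.card A < Nat.card B := by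
        have hle : A ≤ B := fun a ha => subset_closure (Set.mem_insert_of_mem z ha)
        refine lt_of_le_of_ne (card_le_of_le hle) fun e => hzA ?_
        exact (eq_of_le_of_card_ge hle e.ge).ge (subset_closure (Set.mem_insert z _))
      obtain ⟨b, hb⟩ := (h.isPGroup.to_subgroup B).exists_card_eq
      have h2 := card_le_card_group B
      rw [hb, h.card_eq, Nat.pow_le_pow_iff_right (by norm_num)] at h2
      rw [hAc, hb, Nat.pow_lt_pow_iff_right (by norm_num)] at hlt
      rw [hb, h.card_eq, show b = 4 by omega]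
    haveI : IsMulCommutative (closure (insert z (A : Set P))) :=
      Subgroup.isMulCommutative_closure (by
        rintro u (rfl | hu) v (rfl | hv)
        · rfl
        · exact (mem_center_iff.1 hz v).symm
        · exact mem_center_iff.1 hz u
        · exact hAab u hu v hv)
    exact congrArg Subtype.val (IsMulCommutative.is_comm.comm
      (⟨x, htop.ge (mem_top x)⟩ : closure (insert z (A : Set P))) ⟨y, htop.ge (mem_top y)⟩)
  obtain ⟨u, huA, huZ⟩ : ∃ u ∈ A, u ∉ Z := by
    by_contra hc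
    push Not at hc
    have := card_le_of_le (show A ≤ Z from hc)
    rw [hAc, hZc] at this
    norm_num at this
  obtain ⟨v, hvA, hv⟩ : ∃ v ∈ A, v ∉ zpowers u ⊔ Z := by
    by_contra hc
    push Not at hc
    have := card_le_of_le (show A ≤ zpowers u ⊔ Z from hc)
    rw [hAc, card_zpowers_sup huZ (by rw [hAexp u huA]; exact one_mem _), hZc] at this
    norm_num at this
  set B := closure ({u, v} : Set P)
  have hBA : B ≤ A := closure_pair_le huA hvA
  have hBc : Nat.card B ≤ 9 := by
    let f : Fin 3 × Fin 3 → P := fun q => u ^ q.1.val * v ^ q.2.val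
    have hf : ∀ x ∈ B, ∃ q, f q = x := by
      intro x hx
      induction hx using closure_induction with
      | mem y hy =>
        rcases hy with rfl | rfl
        · exact ⟨(1, 0), by simp [f]⟩
        · exact ⟨(0, 1), by simp [f]⟩
      | one => exact ⟨(0, 0), by simp [f]⟩
      | mul x y _ _ hx hy =>
        obtain ⟨q, rfl⟩ := hx
        obtain ⟨r, rfl⟩ := hy
        refine ⟨(q.1 + r.1, q.2 + r.2), ?_⟩
        have hc : Commute v u := hAab v hvA u huA
        simp only [f, Fin.val_add]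
        rw [← pow_eq_pow_mod _ (hAexp u huA), ← pow_eq_pow_mod _ (hAexp v hvA), pow_add, pow_add]
        simp only [mul_assoc]
        rw [← mul_assoc (v ^ q.2.val), (hc.pow_pow q.2.val r.1.val).eq, mul_assoc]
      | inv x _ hx =>
        obtain ⟨q, rfl⟩ := hx
        refine ⟨(q.1 + q.1, q.2 + q.2), ?_⟩
        have hc : Commute v u := hAab v hvA u huA
        simp only [f, Fin.val_add]
        rw [← pow_eq_pow_mod _ (hAexp u huA), ← pow_eq_pow_mod _ (hAexp v hvA)]
        refine eq_inv_of_mul_eq_one_left ?_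
        calc u ^ (q.1.val + q.1.val) * v ^ (q.2.val + q.2.val) * (u ^ q.1.val * v ^ q.2.val)
              = u ^ (q.1.val + q.1.val) * (v ^ (q.2.val + q.2.val) * u ^ q.1.val) * v ^ q.2.val := by
                simp only [mul_assoc]
          _ = (u ^ 3) ^ q.1.val * (v ^ 3) ^ q.2.val := by
              rw [(hc.pow_pow (q.2.val + q.2.val) q.1.val).eq, ← mul_assoc, ← pow_add, mul_assoc,
                ← pow_add, ← pow_mul, ← pow_mul]
              congr 2 <;> omega
          _ = 1 := by rw [hAexp u huA, hAexp v hvA, one_pow, one_pow, one_mul]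
    have h1 : Nat.card B ≤ Nat.card (Set.range f) :=
      Nat.card_mono (Set.toFinite _) (fun x hx => hf x hx)
    exact h1.trans ((Finite.card_range_le f).trans (by simp))
  have hsup : B ⊔ Z = A := by
    refine eq_of_le_of_card_ge (sup_le hBA hZA) ?_
    have hlt : Nat.card (zpowers u ⊔ Z : Subgroup P) < Nat.card (B ⊔ Z : Subgroup P) := by
      have hle : zpowers u ⊔ Z ≤ B ⊔ Z :=
        sup_le_sup_right (zpowers_le.2 (subset_closure (by simp))) _
      refine lt_of_le_of_ne (card_le_of_le hle) fun e => hv ?_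
      exact (eq_of_le_of_card_ge hle e.ge).ge (mem_sup_left (subset_closure (by simp)))
    obtain ⟨b, hb⟩ := (h.isPGroup.to_subgroup (B ⊔ Z)).exists_card_eq
    rw [card_zpowers_sup huZ (by rw [hAexp u huA]; exact one_mem _), hZc, hb,
      show (3 * 3 : ℕ) = 3 ^ 2 by norm_num, Nat.pow_lt_pow_iff_right (by norm_num)] at hlt
    rw [hb, hAc]
    exact Nat.pow_le_pow_right (by norm_num) (by omega)
  have hBZ : Z ⊓ B = ⊥ := by
    refine Subgroup.card_eq_one.1 ?_
    have h1 := relIndex_mul_relIndex ⊥ Z (B ⊔ Z) bot_le le_sup_right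
    rw [relIndex_bot_left, relIndex_bot_left, hsup, hZc, hAc] at h1
    have h2 : Z.relIndex B = 9 := by
      rw [← relIndex_sup_right, hsup]
      omega
    have h3 := relIndex_mul_relIndex ⊥ (Z ⊓ B) B bot_le inf_le_right
    rw [relIndex_bot_left, relIndex_bot_left, inf_relIndex_right, h2] at h3
    have h4 := Nat.card_pos (α := (Z ⊓ B : Subgroup P))
    omega
  have hcore : B.normalCore = ⊥ := by
    by_contra hc
    haveI := h.isNilpotent
    refine CfsgLib.Solvable.normal_inf_center_ne_bot B.normalCore hc (eq_bot_iff.2 ?_)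
    rw [← hBZ]
    exact fun x hx => mem_inf.2 ⟨(mem_inf.1 hx).2, normalCore_le B (mem_inf.1 hx).1⟩
  have hidx : Nat.card (P ⧸ B) = 9 := by
    have h1 := B.card_mul_index
    have h2 : Nat.card B = 9 := by
      refine le_antisymm hBc ?_
      by_contra hlt
      have h3 := relIndex_mul_relIndex ⊥ Z (B ⊔ Z) bot_le le_sup_right
      rw [relIndex_bot_left, relIndex_bot_left, hsup, hZc, hAc, ← hsup, relIndex_sup_right] at h3
      have h4 := Nat.le_of_dvd Nat.card_pos (Subgroup.relIndex_dvd_card Z B)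
      omega
    rw [h2, h.card_eq, index_eq_card] at h1
    omega
  let e : P ⧸ B ≃ Fin 9 := Finite.equivFinOfCardEq hidx
  let φ : P →* Equiv.Perm (Fin 9) := e.permCongrHom.toMonoidHom.comp (MulAction.toPermHom P (P ⧸ B))
  have hφ : Function.Injective φ := by
    refine e.permCongrHom.injective.comp ?_
    rw [← MonoidHom.ker_eq_bot_iff, ← Subgroup.normalCore_eq_ker, hcore]
  have hcard : Nat.card φ.range = 81 := by
    rw [← Nat.card_congr (MonoidHom.ofInjective hφ).toEquiv, h.card_eq]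
    norm_num
  have hpg : IsPGroup 3 φ.range := IsPGroup.of_card (n := 4) (by rw [hcard]; norm_num)
  obtain ⟨W, hW⟩ := hpg.exists_le_sylow
  have heq : φ.range = (W : Subgroup (Equiv.Perm (Fin 9))) := by
    refine eq_of_le_of_card_ge hW ?_
    obtain ⟨k, hk⟩ := W.isPGroup'.exists_card_eq
    have h2 := (W : Subgroup (Equiv.Perm (Fin 9))).card_subgroup_dvd_card
    rw [hk, Nat.card_perm, Nat.card_fin] at h2
    rw [hk, hcard, show (81 : ℕ) = 3 ^ 4 by norm_num]
    refine Nat.pow_le_pow_right (by norm_num) ?_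
    by_contra hk5
    have h3 : 3 ^ 5 ∣ Nat.factorial 9 := (pow_dvd_pow 3 (by omega)).trans h2
    exact absurd h3 (by decide)
  exact ⟨W, ⟨(MonoidHom.ofInjective hφ).trans (MulEquiv.subgroupCongr heq)⟩⟩

end Three

end CfsgLib.Invol.MaxClassRank
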