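import Cfsg.Agent.Lib.PLength.Series
import Cfsg.Agent.Lib.PLength.Primitive
import Cfsg.Agent.Lib.PLength.DerivedBound
import Cfsg.Agent.Lib.Transfer.Basic
import Cfsg.Agent.Lib.Solvable.MinNormal
import Cfsg.Agent.Lib.StructC.PSolvableQuot
import Cfsg.Agent.Lib.StructC.BurnsideBasis

/-!
Groups whose maximal subgroups are `p`-nilpotent or of prime index have `p`-length at most `2`.
-/

set_option autoImplicit false
set_option linter.style.haveILetI false

open Subgroup
open scoped Pointwise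

universe u

namespace CfsgLib.Invol

open CfsgLib.PLength

variable {p : ℕ} [hp : Fact p.Prime]

/-- `p`-length at most two, and for `p = 2` moreover `O^2(G)` of `2`-length at most one. -/
def TwoStep (p : ℕ) (G : Type u) [Group G] : Prop :=
  PSeriesLE p 2 G ∧ (p = 2 → PSeriesLE p 1 ↥(Cfsg.pResidual p G))

theorem pPrimeCore_quotient_frattini {G : Type u} [Group G] [Finite G] (V : Subgroup G) [V.Normal]
    (hV : IsPGroup p V) (hVf : V ≤ frattini G) (hO : Cfsg.pPrimeCore p G = ⊥) :
    Cfsg.pPrimeCore p (G ⧸ V) = ⊥ := by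
  haveI := Cfsg.pPrimeCore_normal p (G ⧸ V)
  set π := QuotientGroup.mk' V with hπ
  set W := (Cfsg.pPrimeCore p (G ⧸ V)).comap π with hW
  have hVW : V ≤ W := QuotientGroup.le_comap_mk' _ _
  have hWn : W.Normal := inferInstance
  have hidx : (V.relIndex W).Coprime p := by
    rw [hW, hπ, relIndex_comap_mk']
    exact CfsgLib.Solvable.pPrimeCore_coprime p
  have hW1 : W = V := by
    obtain ⟨n, hn⟩ := IsPGroup.iff_card.1 hV
    have hcop : (Nat.card (V.subgroupOf W)).Coprime (V.subgroupOf W).index := by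
      rw [Nat.card_congr (subgroupOfEquivOfLe hVW).toEquiv, hn]
      exact (Nat.Coprime.pow_left n hidx.symm)
    obtain ⟨K, hK⟩ := exists_right_complement'_of_coprime hcop
    have hsol : Group.IsSolvable (V.subgroupOf W) := by
      have := (hV.of_equiv (subgroupOfEquivOfLe hVW).symm).isNilpotent
      infer_instance
    have hfr : normalizer ((K.map W.subtype : Subgroup G) : Set G) ⊔ V = ⊤ := by
      rw [eq_top_iff]
      intro g _
      let φ : W ≃* W := MulAut.conjNormal g
      have hcardK : Nat.card (K.map φ.toMonoidHom) = Nat.card K := card_map_of_injective φ.injective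
      have hK' : IsComplement' (V.subgroupOf W) (K.map φ.toMonoidHom) := by
        refine isComplement'_of_coprime ?_ ?_
        · rw [hcardK]
          exact hK.card_mul_card
        · rw [hcardK, ← hK.symm.index_eq_card]
          exact hcop
      obtain ⟨w, hwV, hw⟩ :=
        CfsgLib.Solvable.exists_mem_conj_eq_of_isComplement' _ hcop (Or.inl hsol) hK hK'
      have hmem : (w : G)⁻¹ * g ∈ normalizer ((K.map W.subtype : Subgroup G) : Set G) := by
        refine mem_normalizer_iff_map_conj_eq.2 (eq_of_le_of_card_ge ?_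
          (card_map_of_injective (MulAut.conj ((w : G)⁻¹ * g)).injective).ge)
        rintro _ ⟨_, ⟨x, hx, rfl⟩, rfl⟩
        have h1 : φ x ∈ MulAut.conj w • K := by rw [hw]; exact ⟨x, hx, rfl⟩
        obtain ⟨y, hy, he⟩ := (Subgroup.mem_smul_pointwise_iff_exists _ _ _).1 h1
        refine ⟨y, hy, ?_⟩
        have he' : (w : G) * y * (w : G)⁻¹ = g * x * g⁻¹ := congrArg Subtype.val he
        simp only [Subgroup.coe_subtype, MonoidHom.coe_coe, MulAut.conj_apply]
        calc (y : G) = (w : G)⁻¹ * ((w : G) * y * (w : G)⁻¹) * w := by group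
          _ = (w : G)⁻¹ * g * x * ((w : G)⁻¹ * g)⁻¹ := by rw [he']; group
      have : g = (w : G) * ((w : G)⁻¹ * g) := by group
      rw [this]
      exact mul_mem (mem_sup_right hwV) (mem_sup_left hmem)
    have htop := CfsgLib.Solvable.eq_top_of_sup_eq_top_of_le_frattini hVf hfr
    have hKn : (K.map W.subtype).Normal := normalizer_eq_top_iff.1 htop
    have hKb : K.map W.subtype = ⊥ := le_bot_iff.1 (hO ▸ CfsgLib.Solvable.le_pPrimeCore hKn (by
      rw [card_map_of_injective W.subtype_injective, ← hK.symm.index_eq_card]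
      exact hidx))
    rw [map_eq_bot_iff_of_injective _ W.subtype_injective] at hKb
    refine le_antisymm ?_ hVW
    rw [← relIndex_eq_one, relIndex, hK.symm.index_eq_card, hKb, card_bot]
  rw [← map_comap_eq_self_of_surjective (QuotientGroup.mk'_surjective V) (Cfsg.pPrimeCore p (G ⧸ V)),
    ← hW, hW1, QuotientGroup.map_mk'_self]

theorem pSeriesLE_one_of_normal_pGroup {L : Type u} [Group L] [Finite L] (N : Subgroup L) [N.Normal]
    (hN : IsPGroup p N) (hi : N.index.Coprime p) : PSeriesLE p 1 L :=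
  (pSeriesLE_zero.2 (by rwa [← Subgroup.index_eq_card]) : PSeriesLE p 0 (L ⧸ N)).of_quotient_pgroup N hN

/-- The map of residuals induced by a homomorphism. -/
noncomputable def residualMap {G L : Type*} [Group G] [Group L] (p : ℕ) (f : G →* L) :
    ↥(Cfsg.pResidual p G) →* ↥(Cfsg.pResidual p L) :=
  MonoidHom.mk' (fun x => ⟨f x, CfsgLib.Transfer.map_pResidual_le f (mem_map_of_mem f x.2)⟩)
    (fun x y => Subtype.ext (map_mul f _ _))

theorem residualMap_ker {G : Type u} [Group G] (N : Subgroup G) [N.Normal] :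
    (residualMap p (QuotientGroup.mk' N)).ker = N.subgroupOf (Cfsg.pResidual p G) := by
  ext x
  rw [MonoidHom.mem_ker, mem_subgroupOf, ← QuotientGroup.eq_one_iff (N := N)]
  exact ⟨fun h => congrArg Subtype.val h, fun h => Subtype.ext h⟩

theorem TwoStep.of_pPrime {G : Type u} [Group G] [Finite G] (N : Subgroup G) [N.Normal]
    (hN : (Nat.card N).Coprime p) (h : TwoStep p (G ⧸ N)) : TwoStep p G := by
  refine ⟨h.1.of_quotient_pPrime N hN, fun hp2 => ?_⟩
  set R := Cfsg.pResidual p G
  refine PSeriesLE.of_quotient_pPrime (N.subgroupOf R) ?_ ?_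
  · rw [Nat.card_congr (subgroupOfEquivOfLe (CfsgLib.Transfer.le_pResidual_of_coprime hN)).toEquiv]
    exact hN
  · let f := QuotientGroup.kerLift (residualMap p (QuotientGroup.mk' N))
    exact ((h.2 hp2).of_injective f (QuotientGroup.kerLift_injective _)).of_equiv
      (QuotientGroup.quotientMulEquivOfEq (residualMap_ker N))

theorem TwoStep.of_inf_eq_bot {G : Type u} [Group G] [Finite G] {N M : Subgroup G} [N.Normal]
    [M.Normal] (hNM : N ⊓ M = ⊥) (hN : TwoStep p (G ⧸ N)) (hM : TwoStep p (G ⧸ M)) :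
    TwoStep p G := by
  refine ⟨hN.1.of_inf_eq_bot hNM hM.1, fun hp2 => ?_⟩
  refine ((hN.2 hp2).prod (hM.2 hp2)).of_injective
    ((residualMap p (QuotientGroup.mk' N)).prod (residualMap p (QuotientGroup.mk' M))) ?_
  rw [← MonoidHom.ker_eq_bot_iff, MonoidHom.ker_prod, residualMap_ker, residualMap_ker]
  rw [show N.subgroupOf (Cfsg.pResidual p G) ⊓ M.subgroupOf (Cfsg.pResidual p G) = (N ⊓ M).subgroupOf (Cfsg.pResidual p G) from rfl, hNM, bot_subgroupOf]

theorem TwoStep.of_frattini {G : Type u} [Group G] [Finite G] (V : Subgroup G) [V.Normal]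
    (hV : IsPGroup p V) (hVf : V ≤ frattini G) (hO : Cfsg.pPrimeCore p G = ⊥)
    (h : TwoStep p (G ⧸ V)) : TwoStep p G := by
  refine ⟨pSeriesLE_of_quotient_frattini V hV hVf hO h.1, fun hp2 => ?_⟩
  have hO' := pPrimeCore_quotient_frattini V hV hVf hO
  obtain ⟨H, hH⟩ := pLengthLE_iff.1 ((pLengthLE_iff (G := ↥(Cfsg.pResidual p (G ⧸ V)))).2 (h.2 hp2))
  -- the first term is trivial
  haveI : (Cfsg.pResidual p (G ⧸ V)).Normal := CfsgLib.Transfer.pResidual_normal
  have hH1 : H 1 = ⊥ := by
    have h0 : StepType p 0 (Nat.card (H 1)) := by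
      have := hH.step 0
      rwa [hH.zero, relIndex_bot_left] at this
    have hc := (stepType_even_iff hp.out Even.zero).1 h0
    haveI := hH.normal 1
    have hle := CfsgLib.Solvable.le_pPrimeCore (p := p) (hH.normal 1) hc
    haveI : (Cfsg.pPrimeCore p ↥(Cfsg.pResidual p (G ⧸ V))).Characteristic :=
      CfsgLib.Solvable.pPrimeCore_characteristic p _
    have hmap : (Cfsg.pPrimeCore p ↥(Cfsg.pResidual p (G ⧸ V))).map (Subgroup.subtype _) = ⊥ :=
      le_bot_iff.1 (hO' ▸ CfsgLib.Solvable.le_pPrimeCore inferInstance (by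
        rw [card_map_of_injective (Subgroup.subtype_injective _)]
        exact CfsgLib.Solvable.pPrimeCore_coprime p))
    rw [map_eq_bot_iff_of_injective _ (Subgroup.subtype_injective _)] at hmap
    exact le_bot_iff.1 (hmap ▸ hle)
  haveI := hH.normal 2
  have hP2 : IsPGroup p (H 2) := by
    have h1 := hH.step 1
    rw [hH1, relIndex_bot_left, stepType_odd_iff hp.out odd_one Nat.card_pos.ne'] at h1
    exact IsPGroup.iff_card.2 h1
  have hi : (H 2).index.Coprime p := by
    have h2 := hH.step 2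
    rw [show H (2 + 1) = ⊤ from hH.last, relIndex_top_right,
      stepType_even_iff hp.out even_two] at h2
    exact h2
  set f := residualMap p (QuotientGroup.mk' V)
  haveI : ((H 2).comap f).Normal := (hH.normal 2).comap _
  refine pSeriesLE_one_of_normal_pGroup ((H 2).comap f) ?_ ?_
  · refine hP2.comap_of_ker_isPGroup f ?_
    rw [residualMap_ker]
    exact hV.comap_subtype
  · refine hi.coprime_dvd_left ?_
    rw [index_comap]
    exact relIndex_dvd_index_of_normal _ _

theorem hmax_quotient {G : Type u} [Group G] [Finite G] (N : Subgroup G) [N.Normal]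
    (hmax : ∀ M : Subgroup G, IsCoatom M → (∃ K : Subgroup ↥M, K.Normal ∧ ¬ p ∣ Nat.card K ∧
      ∃ k : ℕ, K.index = p ^ k) ∨ (M.index).Prime) :
    ∀ M : Subgroup (G ⧸ N), IsCoatom M → (∃ K : Subgroup ↥M, K.Normal ∧ ¬ p ∣ Nat.card K ∧
      ∃ k : ℕ, K.index = p ^ k) ∨ (M.index).Prime := by
  intro M hM
  set π := QuotientGroup.mk' N
  have hs : Function.Surjective π := QuotientGroup.mk'_surjective N
  rcases hmax (M.comap π) (Subgroup.isCoatom_comap_of_surjective hs hM) with ⟨K, hK, hKc, k, hk⟩ | h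
  · refine Or.inl ⟨K.map (π.subgroupComap M), hK.map _ (π.subgroupComap_surjective_of_surjective M hs),
      fun hd => hKc (hd.trans (card_map_dvd _ _)), ?_⟩
    have := (K.index_map_dvd (π.subgroupComap_surjective_of_surjective M hs))
    rw [hk] at this
    obtain ⟨j, -, hj⟩ := (Nat.dvd_prime_pow hp.out).1 this
    exact ⟨j, hj⟩
  · rw [index_comap_of_surjective _ hs] at h
    exact Or.inr h

theorem twoStep_of_max_aux : ∀ (n : ℕ) (G : Type u) [Group G] [Finite G], Nat.card G ≤ n →
    Cfsg.IsPSolvable p G →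
    (∀ M : Subgroup G, IsCoatom M → (∃ K : Subgroup ↥M, K.Normal ∧ ¬ p ∣ Nat.card K ∧
      ∃ k : ℕ, K.index = p ^ k) ∨ (M.index).Prime) → TwoStep p G := by
  intro n
  induction n with
  | zero => intro G _ _ h; exact absurd h (Nat.card_pos (α := G)).not_ge
  | succ n ih =>
  intro G _ _ hn hs hmax
  classical
  have rec' : ∀ N : Subgroup G, ∀ _ : N.Normal, N ≠ ⊥ → TwoStep p (G ⧸ N) := by
    intro N _ hN
    refine ih (G ⧸ N) ?_ (CfsgLib.StructC.isPSolvable_quotient N hs) (hmax_quotient N hmax)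
    have := CfsgLib.Solvable.card_quotient_lt (N := N) hN
    omega
  by_cases hO : Cfsg.pPrimeCore p G = ⊥
  swap
  · haveI := Cfsg.pPrimeCore_normal p G
    exact (rec' _ inferInstance hO).of_pPrime _ (CfsgLib.Solvable.pPrimeCore_coprime p)
  rcases subsingleton_or_nontrivial G with hT | hT
  · have h0 : ∀ (L : Type u) [Group L] [Subsingleton L], PSeriesLE p 0 L := fun L _ _ =>
      pSeriesLE_zero.2 (by simp)
    exact ⟨(h0 G).mono (by omega), fun _ => (h0 _).mono (by omega)⟩
  haveI := Cfsg.pCore_normal p G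
  obtain ⟨N, hNn, hN1, hNle, hmin⟩ := CfsgLib.Solvable.exists_minimal_normal_le
    (N := Cfsg.pCore p G) inferInstance (pCore_ne_bot_of_isPSolvable hs hO)
  haveI := hNn
  have hNp : IsPGroup p N := (CfsgLib.Solvable.pCore_isPGroup p).to_le hNle
  by_cases hfr : N ≤ frattini G
  · exact TwoStep.of_frattini N hNp hfr hO (rec' N hNn hN1)
  obtain ⟨M, hM, hNM⟩ : ∃ M : Subgroup G, IsCoatom M ∧ ¬ N ≤ M := by
    by_contra h
    push Not at h
    exact hfr fun x hx => CfsgLib.StructC.mem_frattini_of_forall_coatom fun M hM => h M hM hx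
  have hsup : N ⊔ M = ⊤ := hM.2 _ (lt_of_le_of_ne le_sup_right fun e => hNM (e ▸ le_sup_left))
  haveI := hNp.isNilpotent
  haveI hNc : IsMulCommutative N :=
    CfsgLib.Solvable.isMulCommutative_of_minimal_normal hN1 hmin
  rcases hmax M hM with ⟨K, hK, hKc, k, hk⟩ | hprime
  · -- the maximal subgroup has a normal `p`-complement
    set π := QuotientGroup.mk' N
    have hsurj : Function.Surjective (π.comp M.subtype) := by
      intro x
      obtain ⟨g, rfl⟩ := QuotientGroup.mk'_surjective N x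
      obtain ⟨a, ha, b, hb, rfl⟩ := mem_sup_of_normal_left.1 (hsup ▸ mem_top g)
      refine ⟨⟨b, hb⟩, ?_⟩
      rw [map_mul, show π a = 1 from (QuotientGroup.eq_one_iff a).2 ha, one_mul]
      rfl
    haveI hKn : (K.map (π.comp M.subtype)).Normal := hK.map _ hsurj
    set Kb := K.map (π.comp M.subtype)
    have hKb : (Nat.card Kb).Coprime p :=
      ((hp.out.coprime_iff_not_dvd.2 hKc).symm).coprime_dvd_left (card_map_dvd _ _)
    have hKbi : ∃ j, Kb.index = p ^ j := by
      have h1 : Kb.index ∣ p ^ k := hk ▸ K.index_map_dvd hsurj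
      obtain ⟨j, -, hj⟩ := (Nat.dvd_prime_pow hp.out).1 h1
      exact ⟨j, hj⟩
    have hq : IsPGroup p ((G ⧸ N) ⧸ Kb) := IsPGroup.iff_card.2 (by
      rw [← Subgroup.index_eq_card]; exact hKbi)
    have h1 : PSeriesLE p 1 (G ⧸ N) :=
      (pSeriesLE_one_of_isPGroup hq).of_quotient_pPrime Kb hKb
    refine ⟨h1.of_quotient_pgroup N hNp, fun hp2 => ?_⟩
    set W := Kb.comap π with hW
    haveI : W.Normal := hKn.comap _
    have hWq : IsPGroup p (G ⧸ W) := IsPGroup.iff_card.2 (by
      rw [← Subgroup.index_eq_card, hW, index_comap_of_surjective _ (QuotientGroup.mk'_surjective N)]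
      exact hKbi)
    have hRW := CfsgLib.Transfer.pResidual_le_of_isPGroup_quotient hWq
    have hW1 : PSeriesLE p 1 W := by
      refine pSeriesLE_one_of_normal_pGroup (N.subgroupOf W) hNp.comap_subtype ?_
      rw [show (N.subgroupOf W).index = N.relIndex W from rfl, hW, relIndex_comap_mk']
      exact hKb
    exact hW1.of_injective (Subgroup.inclusion hRW) (Subgroup.inclusion_injective hRW)
  -- the maximal subgroup has prime index
  have hsupc : ∀ g : G, ∃ a ∈ N, ∃ b ∈ M, a * b = g := fun g =>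
    mem_sup_of_normal_left.1 (hsup ▸ mem_top g)
  set C : Subgroup G := centralizer (N : Set G) with hC
  have hNC : N ≤ C := fun x hx => mem_centralizer_iff.2 fun y hy =>
    congrArg Subtype.val (mul_comm' (⟨y, hy⟩ : N) ⟨x, hx⟩)
  set R0 := M ⊓ C with hR0
  haveI hR0n : R0.Normal := by
    refine ⟨fun x hx g => ?_⟩
    obtain ⟨a, ha, b, hb, rfl⟩ := hsupc g
    have hbx : b * x * b⁻¹ ∈ R0 :=
      (⟨mul_mem (mul_mem hb hx.1) (inv_mem hb), (inferInstance : C.Normal).conj_mem x hx.2 b⟩ :
        b * x * b⁻¹ ∈ M ∧ b * x * b⁻¹ ∈ C)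
    have : a * b * x * (a * b)⁻¹ = b * x * b⁻¹ := by
      have hc : a * (b * x * b⁻¹) = b * x * b⁻¹ * a := mem_centralizer_iff.1 hbx.2 a ha
      rw [show a * b * x * (a * b)⁻¹ = a * (b * x * b⁻¹) * a⁻¹ by group, hc, mul_inv_cancel_right]
    rw [this]; exact hbx
  have hNMn : (N ⊓ M).Normal := by
    refine ⟨fun x hx g => ?_⟩
    obtain ⟨a, ha, b, hb, rfl⟩ := hsupc g
    have hbx : b * x * b⁻¹ ∈ N ⊓ M :=
      (⟨hNn.conj_mem x hx.1 b, mul_mem (mul_mem hb hx.2) (inv_mem hb)⟩ :
        b * x * b⁻¹ ∈ N ∧ b * x * b⁻¹ ∈ M)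
    have : a * b * x * (a * b)⁻¹ = b * x * b⁻¹ := by
      have hc : a * (b * x * b⁻¹) = b * x * b⁻¹ * a :=
        (mem_centralizer_iff.1 (hNC ha) _ hbx.1).symm
      rw [show a * b * x * (a * b)⁻¹ = a * (b * x * b⁻¹) * a⁻¹ by group, hc, mul_inv_cancel_right]
    rw [this]; exact hbx
  have hNR0 : N ⊓ R0 = ⊥ := by
    rcases hmin (N ⊓ M) hNMn inf_le_left with h | h
    · exact le_bot_iff.1 (h ▸ inf_le_inf_left N inf_le_left)
    · exact absurd (inf_eq_left.1 h) hNM
  by_cases hR1 : R0 = ⊥
  swap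
  · exact TwoStep.of_inf_eq_bot hNR0 (rec' N hNn hN1) (rec' R0 hR0n hR1)
  -- `N` has order `p` and `G / N` embeds in its automorphism group
  have hNMb : N ⊓ M = ⊥ := by
    refine le_bot_iff.1 (fun x hx => ?_)
    have : x ∈ R0 := ⟨hx.2, hNC hx.1⟩
    rwa [hR1] at this
  have hcompl : IsComplement' N M := by
    refine isComplement'_of_disjoint_and_mul_eq_univ (disjoint_iff.2 hNMb) ?_
    rw [Set.eq_univ_iff_forall]
    intro g
    obtain ⟨a, ha, b, hb, rfl⟩ := hsupc g
    exact ⟨a, ha, b, hb, rfl⟩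
  have hcardN : Nat.card N = p := by
    rw [hcompl.index_eq_card] at hprime
    obtain ⟨j, hj⟩ := IsPGroup.iff_card.1 hNp
    rw [hj] at hprime ⊢
    rw [Nat.Prime.eq_one_of_pow hprime, pow_one]
  haveI : IsCyclic N := isCyclic_of_prime_card hcardN
  let f : M →* MulAut N := (MulAut.conjNormal : G →* MulAut N).comp M.subtype
  have hf : Function.Injective f := by
    rw [← MonoidHom.ker_eq_bot_iff, eq_bot_iff]
    intro m hm
    have : (m : G) ∈ R0 := ⟨m.2, mem_centralizer_iff.2 fun y hy => by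
      have h1 : (MulAut.conjNormal (m : G) (⟨y, hy⟩ : N) : G) = y := by
        rw [show (MulAut.conjNormal (m : G) : MulAut N) = 1 from MonoidHom.mem_ker.1 hm]; rfl
      rw [MulAut.conjNormal_apply] at h1
      exact (mul_inv_eq_iff_eq_mul.1 h1).symm⟩
    rw [hR1, mem_bot] at this
    exact mem_bot.2 (Subtype.ext this)
  have hMdvd : Nat.card M ∣ p - 1 := by
    have h1 := (Subgroup.card_dvd_of_injective f hf)
    rwa [Nat.card_congr (IsCyclic.mulAutMulEquiv (G := N)).toEquiv, hcardN, Nat.card_eq_fintype_card (α := (ZMod p)ˣ),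
      ZMod.card_units_eq_totient, Nat.totient_prime hp.out] at h1
  have hcop : (p - 1).Coprime p :=
    ((hp.out.coprime_iff_not_dvd.2 fun hd => by
      have h2 := hp.out.two_le
      have := Nat.le_of_dvd (by omega) hd
      omega)).symm
  have hidxN : N.index = Nat.card M := hcompl.symm.index_eq_card
  have h1 : PSeriesLE p 1 G :=
    pSeriesLE_one_of_normal_pGroup N hNp (hidxN ▸ hcop.coprime_dvd_left hMdvd)
  exact ⟨h1.mono (by omega), fun _ => h1.subgroup _⟩

theorem twoStep_of_max {G : Type u} [Group G] [Finite G] (hs : Cfsg.IsPSolvable p G)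
    (hmax : ∀ M : Subgroup G, IsCoatom M → (∃ K : Subgroup ↥M, K.Normal ∧ ¬ p ∣ Nat.card K ∧
      ∃ k : ℕ, K.index = p ^ k) ∨ (M.index).Prime) : TwoStep p G :=
  twoStep_of_max_aux _ G le_rfl hs hmax

end CfsgLib.Invol
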