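import Cfsg.Agent.Lib.Invol.MetacyclicOmega
import Cfsg.Agent.Lib.Transfer.PGroupNormal

/-!
Automorphisms of order `p` of metacyclic `p`-groups, `p` odd.
-/

set_option autoImplicit false
set_option linter.style.haveILetI false

namespace CfsgLib.Invol.MetacyclicAut

open Subgroup
open scoped commutatorElement
open CfsgLib.Invol.MetacyclicOmega

universe u

variable {p : ℕ} [hp : Fact p.Prime] {R : Type u} [Group R] [Finite R]

/-- An automorphism of `p`-power order stabilizing a subgroup of order `p` fixes it. -/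
theorem fix_of_invariant (σ : MulAut R) {r : ℕ} (hσ : σ ^ p ^ r = 1) {z : R} (hz : z ^ p = 1)
    (h : σ z ∈ zpowers z) : σ z = z := by
  obtain ⟨k, hk⟩ := mem_powers_iff_mem_zpowers.2 h
  simp only at hk
  have hit : ∀ j : ℕ, (σ ^ j) z = z ^ k ^ j := by
    intro j
    induction j with
    | zero => simp
    | succ j ih => rw [pow_succ', MulAut.mul_apply, ih, map_pow, ← hk, ← pow_mul, ← pow_succ']
  have h1 : k ≡ k ^ p ^ r [MOD p] := by
    rw [← ZMod.natCast_eq_natCast_iff, Nat.cast_pow, ZMod.pow_card_pow]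
  rw [← hk, pow_eq_pow_iff_modEq.2 (h1.of_dvd (orderOf_dvd_of_pow_eq_one hz)), ← hit, hσ]
  rfl

/-- The commutators of elements killed by `p ^ 2` lie in a central subgroup of order at most `p`. -/
theorem exists_central (hp2 : p ≠ 2) (hR : IsPGroup p R) (hm : Cfsg.IsMetacyclic R) :
    ∃ Z : Subgroup R, Z.Normal ∧ Nat.card Z ≤ p ∧ (∀ z ∈ Z, z ^ p = 1 ∧ ∀ g, Commute g z) ∧
      ∀ x y : R, x ^ p ^ 2 = 1 → y ^ p ^ 2 = 1 → ⁅x, y⁆ ∈ Z := by
  obtain ⟨T, hT, hTn, -, hTab⟩ := exists_layers hp2 hR hm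
  obtain ⟨N, hN, hNc, hQc⟩ := hm
  haveI := hN
  haveI := hTn 1
  have hexp : ∀ z ∈ N ⊓ T 1, z ^ p = 1 := fun z hz => by simpa using (hT 1 z).1 hz.2
  haveI := hNc
  haveI : IsCyclic ↥(N ⊓ T 1) :=
    isCyclic_of_injective (inclusion inf_le_left) (inclusion_injective _)
  have hcard : Nat.card ↥(N ⊓ T 1) ≤ p := by
    rw [← IsCyclic.exponent_eq_card]
    exact Nat.le_of_dvd hp.out.pos
      (Monoid.exponent_dvd_of_forall_pow_eq_one fun z => Subtype.ext (hexp z z.2))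
  refine ⟨N ⊓ T 1, inferInstance, hcard, fun z hz => ⟨hexp z hz, fun g => ?_⟩,
    fun x y hx hy => ⟨?_, hTab 1 x ((hT 2 x).2 hx) y ((hT 2 y).2 hy)⟩⟩
  · rcases eq_or_ne z 1 with rfl | hne
    · exact Commute.one_right g
    have hZ : zpowers z = N ⊓ T 1 := eq_of_le_of_card_ge (zpowers_le.2 hz) (by
      rw [Nat.card_zpowers, orderOf_eq_prime (hexp z hz) hne]; exact hcard)
    obtain ⟨r, hr⟩ := hR g
    have h := fix_of_invariant (p := p) (MulAut.conj g) (r := r)
      (by rw [← map_pow, hr, map_one]) (hexp z hz)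
      (by rw [hZ]; exact Normal.conj_mem inferInstance z hz g)
    rw [MulAut.conj_apply, mul_inv_eq_iff_eq_mul] at h
    exact h
  · show ⁅x, y⁆ ∈ N
    letI := IsCyclic.commGroup (α := R ⧸ N)
    rw [← QuotientGroup.eq_one_iff, ← QuotientGroup.mk'_apply, map_commutatorElement]
    exact commutatorElement_eq_one_iff_mul_comm.2 (mul_comm _ _)

theorem mul_pow_of_sq (hp2 : p ≠ 2) (hR : IsPGroup p R) (hm : Cfsg.IsMetacyclic R) {x y : R}
    (hx : x ^ p ^ 2 = 1) (hy : y ^ p ^ 2 = 1) : (x * y) ^ p = x ^ p * y ^ p := by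
  obtain ⟨Z, -, -, hZ, hc⟩ := exists_central hp2 hR hm
  obtain ⟨h1, h2⟩ := hZ _ (hc y x hy hx)
  rw [CfsgLib.Transfer.mul_pow_of_commute_commutator (h2 x) (h2 y)]
  obtain ⟨k, hk⟩ := Nat.Prime.dvd_choose_self hp.out (k := 2) two_ne_zero
    (lt_of_le_of_ne hp.out.two_le (Ne.symm hp2))
  rw [hk, pow_mul, h1, one_pow, mul_one]

/-- If `Ω₂ / Ω₁` has order `p ^ 2` then `Ω₁` consists of `p`-th powers and centralizes `Ω₂`. -/
theorem omega_two_facts (hp2 : p ≠ 2) (hR : IsPGroup p R) (hm : Cfsg.IsMetacyclic R)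
    {W₁ W₂ : Subgroup R} (h1 : ∀ x, x ∈ W₁ ↔ x ^ p = 1) (h2 : ∀ x, x ∈ W₂ ↔ x ^ p ^ 2 = 1)
    (hidx : W₁.relIndex W₂ = p ^ 2) :
    Nat.card W₁ = p ^ 2 ∧ (∀ e ∈ W₁, ∃ x ∈ W₂, x ^ p = e) ∧
      ∀ e ∈ W₁, ∀ y ∈ W₂, Commute e y := by
  have hsq : ∀ x ∈ W₂, (x ^ p) ^ p = 1 := fun x hx => by rw [← pow_mul, ← sq]; exact (h2 x).1 hx
  let f : W₂ →* W₁ :=
    { toFun := fun x => ⟨(x : R) ^ p, (h1 _).2 (hsq x x.2)⟩
      map_one' := Subtype.ext (one_pow p)
      map_mul' := fun x y =>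
        Subtype.ext (mul_pow_of_sq hp2 hR hm ((h2 _).1 x.2) ((h2 _).1 y.2)) }
  have hker : f.ker = W₁.subgroupOf W₂ := by
    ext x
    rw [MonoidHom.mem_ker, mem_subgroupOf, h1, Subtype.ext_iff]
    rfl
  have hr : Nat.card f.range = p ^ 2 := by
    rw [← Subgroup.index_ker, hker]; exact hidx
  have hle : Nat.card W₁ ≤ p ^ 2 :=
    CfsgLib.OddLocal.card_le_sq_of_metacyclic hm hp.out W₁ fun x hx => (h1 x).1 hx
  have hc : Nat.card W₁ = p ^ 2 := le_antisymm hle (hr ▸ card_le_card_group f.range)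
  have hsurj : ∀ e ∈ W₁, ∃ x ∈ W₂, x ^ p = e := fun e he => by
    have htop : f.range = ⊤ := eq_top_of_card_eq _ (hr.trans hc.symm)
    obtain ⟨x, hx⟩ := (htop.ge (mem_top (⟨e, he⟩ : W₁)))
    exact ⟨x, x.2, congrArg Subtype.val hx⟩
  refine ⟨hc, hsurj, fun e he y hy => ?_⟩
  obtain ⟨x, hx, rfl⟩ := hsurj e he
  obtain ⟨Z, -, -, hZ, hcz⟩ := exists_central hp2 hR hm
  obtain ⟨hz1, hz2⟩ := hZ _ (hcz x y ((h2 x).1 hx) ((h2 y).1 hy))
  rw [commute_iff_eq, ← commutatorElement_eq_one_iff_mul_comm]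
  have e1 : y * x * y⁻¹ = ⁅x, y⁆⁻¹ * x := by rw [commutatorElement_def]; group
  have e2 := congrArg (fun w : R => w ^ p) e1
  simp only [conj_pow] at e2
  rw [((hz2 x).symm.inv_left).mul_pow, inv_pow, hz1, inv_one, one_mul] at e2
  rw [commutatorElement_eq_one_iff_mul_comm]
  exact (mul_inv_eq_iff_eq_mul.1 e2).symm

/-- A metacyclic `p`-group without a cyclic subgroup of index `p` has `Ω₂ / Ω₁` of order `p ^ 2`. -/
theorem relIndex_omega (hp2 : p ≠ 2) (hR : IsPGroup p R) (hm : Cfsg.IsMetacyclic R)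
    [Nontrivial R] (hnc : ∀ C : Subgroup R, IsCyclic C → C.index ≠ p)
    {W₁ W₂ : Subgroup R} (h1 : ∀ x, x ∈ W₁ ↔ x ^ p = 1) (h2 : ∀ x, x ∈ W₂ ↔ x ^ p ^ 2 = 1) :
    W₁.relIndex W₂ = p ^ 2 := by
  have hpp := hp.out
  haveI : W₁.Normal := ⟨fun x hx g => (h1 _).2 (by
    rw [conj_pow, (h1 x).1 hx, mul_one, mul_inv_cancel])⟩
  have hq : ¬ IsCyclic (R ⧸ W₁) := by
    intro hcyc
    have hcycR : ∀ g : R, ∀ s : ℕ, Nat.card R = p ^ (s + 1) * p → g ^ p ^ s ≠ 1 →
        g ^ p ^ (s + 1) = 1 → False := by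
      intro g s hcard hg1 hg2
      refine hnc (zpowers g) inferInstance ?_
      have h := (zpowers g).card_mul_index
      rw [Nat.card_zpowers, orderOf_eq_prime_pow hg1 hg2, hcard] at h
      exact Nat.eq_of_mul_eq_mul_left (pow_pos hpp.pos _) h
    obtain ⟨n, hn⟩ := hR.exists_card_eq
    have hn1 : 1 ≤ n := by
      by_contra h0
      have := Finite.one_lt_card (α := R)
      rw [hn, show n = 0 by omega, pow_zero] at this
      omega
    have hRnc : ¬ IsCyclic R := by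
      intro hc
      obtain ⟨C, hC⟩ := Sylow.exists_subgroup_card_pow_prime p
        (show p ^ (n - 1) ∣ Nat.card R from hn ▸ pow_dvd_pow p (Nat.sub_le n 1))
      refine hnc C inferInstance ?_
      have h := C.card_mul_index
      rw [hC, hn, show p ^ n = p ^ (n - 1) * p by rw [← pow_succ, Nat.sub_add_cancel hn1]] at h
      exact Nat.eq_of_mul_eq_mul_left (pow_pos hpp.pos _) h
    obtain ⟨hel, hel2⟩ := CfsgLib.PGroup.omega_of_metacyclic hp2 hR hm hRnc
    have hW : W₁ = closure {x : R | x ^ p = 1} :=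
      le_antisymm (fun x hx => subset_closure (show x ∈ {x : R | x ^ p = 1} from (h1 x).1 hx)) fun x hx => (h1 x).2 (hel.2 x hx)
    obtain ⟨s, hs⟩ := (hR.to_quotient W₁).exists_card_eq
    have hcard : Nat.card R = p ^ (s + 1) * p := by
      rw [card_eq_card_quotient_mul_card_subgroup W₁, hs, hW, hel2]; ring
    obtain ⟨q, hq⟩ := hcyc.exists_generator
    obtain ⟨g, rfl⟩ := QuotientGroup.mk_surjective q
    have hog : orderOf (g : R ⧸ W₁) = p ^ s := (orderOf_eq_card_of_forall_mem_zpowers hq).trans hs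
    rcases s with _ | s
    · obtain ⟨g', hg'⟩ := exists_ne (1 : R)
      refine hcycR g' 0 hcard (by simpa using hg') ?_
      have : (g' : R ⧸ W₁) = 1 := by
        obtain ⟨i, hi⟩ := mem_zpowers_iff.1 (hq g')
        rw [← hi, orderOf_eq_one_iff.1 (hog.trans (pow_zero p)), one_zpow]
      simpa using (h1 g').1 ((QuotientGroup.eq_one_iff _).1 this)
    · refine hcycR g (s + 1) hcard (fun he => ?_) ?_
      · rw [pow_succ, pow_mul, ← h1, ← QuotientGroup.eq_one_iff, QuotientGroup.mk_pow] at he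
        have := orderOf_dvd_of_pow_eq_one he
        rw [hog, Nat.pow_dvd_pow_iff_le_right hpp.one_lt] at this
        omega
      · rw [pow_succ, pow_mul, ← h1, ← QuotientGroup.eq_one_iff, QuotientGroup.mk_pow, ← hog]
        exact pow_orderOf_eq_one _
  obtain ⟨hel, hel2⟩ := CfsgLib.PGroup.omega_of_metacyclic hp2 (hR.to_quotient W₁)
    (isMetacyclic_quotient hm W₁) hq
  have hW : W₂ = (closure {q : R ⧸ W₁ | q ^ p = 1}).comap (QuotientGroup.mk' W₁) := by
    ext x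
    rw [h2, mem_comap, sq, pow_mul, ← h1, ← QuotientGroup.eq_one_iff, QuotientGroup.mk_pow]
    exact ⟨fun h => subset_closure h, fun h => hel.2 _ h⟩
  rw [hW]
  conv_lhs => arg 1; rw [← QuotientGroup.ker_mk' W₁]
  rw [relIndex_ker, map_comap_eq_self_of_surjective (QuotientGroup.mk'_surjective _)]
  exact hel2

/-- An automorphism of order `p` moving `Ω₁` forces `p = 3` and has exactly `p` fixed points. -/
theorem moved_facts (hp2 : p ≠ 2) (hR : IsPGroup p R) (hm : Cfsg.IsMetacyclic R)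
    (hnc : ∀ C : Subgroup R, IsCyclic C → C.index ≠ p) (a : MulAut R) (hap : a ^ p = 1)
    {e₀ : R} (he₀ : e₀ ^ p = 1) (hmv : a e₀ ≠ e₀) :
    p = 3 ∧ ∃ z : R, orderOf z = p ∧ a z = z ∧ ∀ l, a l = l → l ∈ zpowers z := by
  have hpp := hp.out
  haveI : Nontrivial R := ⟨⟨_, _, hmv⟩⟩
  obtain ⟨T, hT, hTn, -, -⟩ := exists_layers hp2 hR hm
  have h1 : ∀ x, x ∈ T 1 ↔ x ^ p = 1 := fun x => by rw [hT, pow_one]
  obtain ⟨hEcard, hsurj, hcomm⟩ :=
    omega_two_facts hp2 hR hm h1 (hT 2) (relIndex_omega hp2 hR hm hnc h1 (hT 2))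
  have hE2 : ∀ e ∈ T 1, e ∈ T 2 := fun e he => (hT 2 e).2 (by
    rw [sq, pow_mul, (h1 e).1 he, one_pow])
  have hEa : ∀ e ∈ T 1, a e ∈ T 1 := fun e he => (h1 _).2 (by rw [← map_pow, (h1 e).1 he, map_one])
  let d : T 1 →* R :=
    { toFun := fun e => (e : R)⁻¹ * a e
      map_one' := by simp
      map_mul' := fun x y => by
        have hc := hcomm _ (mul_mem (inv_mem x.2) (hEa _ x.2)) (y : R)⁻¹ (inv_mem (hE2 _ y.2))
        simp only [Subgroup.coe_mul, mul_inv_rev, map_mul]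
        calc (y : R)⁻¹ * (x : R)⁻¹ * (a x * a y) = (y : R)⁻¹ * ((x : R)⁻¹ * a x) * a y := by group
          _ = _ := by rw [← hc.eq]; group }
  set z : R := e₀⁻¹ * a e₀ with hzdef
  have hz1 : z ≠ 1 := fun h => hmv (inv_mul_eq_one.1 h).symm
  have he₀E : e₀ ∈ T 1 := (h1 _).2 he₀
  have hzp : z ^ p = 1 := (h1 z).1 (mul_mem (inv_mem he₀E) (hEa _ he₀E))
  have hoz : orderOf z = p := orderOf_eq_prime hzp hz1
  have hzd : zpowers z ≤ d.range := zpowers_le.2 ⟨⟨e₀, he₀E⟩, rfl⟩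
  -- a nontrivial fixed point in `Ω₁`
  have hfix : ∃ c : R, c ∈ T 1 ∧ c ≠ 1 ∧ a c = c := by
    classical
    haveI := Fintype.ofFinite R
    have hinv : ∀ e : R, (a e ∈ T 1 ∧ a e ≠ 1) ↔ (e ∈ T 1 ∧ e ≠ 1) := fun e => by
      simp only [h1, ← map_pow, ne_eq, EmbeddingLike.map_eq_one_iff]
    let σ : Equiv.Perm {e : R // e ∈ T 1 ∧ e ≠ 1} := Equiv.Perm.subtypePerm a.toEquiv hinv
    have hσ : ∀ j : ℕ, ∀ e, ((σ ^ j) e : R) = (a ^ j) (e : R) := by
      intro j
      induction j with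
      | zero => intro e; rfl
      | succ j ih =>
        intro e
        rw [pow_succ', pow_succ', Equiv.Perm.mul_apply, MulAut.mul_apply, ← ih]
        rfl
    have hnd : ¬ p ∣ Fintype.card {e : R // e ∈ T 1 ∧ e ≠ 1} := by
      have hc1 : Nat.card {e : R // e ∈ T 1 ∧ e ≠ 1} + 1 = p ^ 2 := by
        rw [← hEcard, ← Finite.card_option]
        refine Nat.card_congr ((Equiv.optionCongr
          (Equiv.subtypeSubtypeEquivSubtypeInter (fun e => e ∈ T 1) (fun e : R => e ≠ 1)).symm).trans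
          ((Equiv.optionCongr (Equiv.subtypeEquivRight fun e : T 1 => ?_)).trans
            (Equiv.optionSubtypeNe (1 : T 1))))
        simp
      rw [← Nat.card_eq_fintype_card]
      intro h
      exact hpp.not_dvd_one ((Nat.dvd_add_right h).1 (hc1 ▸ dvd_pow_self p two_ne_zero))
    obtain ⟨c, hc⟩ := Equiv.Perm.exists_fixed_point_of_prime (n := 1) hnd (σ := σ)
      (Equiv.ext fun e => Subtype.ext (by rw [pow_one, hσ, hap]; rfl))
    exact ⟨c, c.2.1, c.2.2, congrArg Subtype.val hc⟩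
  have hker : p ≤ Nat.card d.ker := by
    obtain ⟨c, hcE, hc1, hcf⟩ := hfix
    have hmem : (⟨c, hcE⟩ : T 1) ∈ d.ker := MonoidHom.mem_ker.2 (by
      show c⁻¹ * a c = 1
      rw [hcf, inv_mul_cancel])
    refine le_of_eq_of_le ?_ (card_le_of_le (zpowers_le.2 hmem))
    rw [Nat.card_zpowers, ← orderOf_injective _ (T 1).subtype_injective]
    exact (orderOf_eq_prime ((h1 c).1 hcE) hc1).symm
  have hprod : Nat.card d.ker * Nat.card d.range = p ^ 2 := by
    rw [← Subgroup.index_ker, card_mul_index, hEcard]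
  have hran : Nat.card d.range ≤ p := by
    refine Nat.le_of_mul_le_mul_left ?_ hpp.pos
    rw [← sq, ← hprod]
    exact Nat.mul_le_mul_right _ hker
  have hzran : zpowers z = d.range := eq_of_le_of_card_ge hzd (by
    rw [Nat.card_zpowers, hoz]; exact hran)
  have haz : a z = z := by
    refine fix_of_invariant (p := p) (r := 1) a (by rwa [pow_one]) hzp ?_
    rw [hzran]
    refine ⟨⟨a e₀, hEa _ he₀E⟩, ?_⟩
    show (a e₀)⁻¹ * a (a e₀) = a z
    rw [hzdef, map_mul, map_inv]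
  have hazk : ∀ w ∈ zpowers z, a w = w := by
    intro w hw
    obtain ⟨i, rfl⟩ := mem_zpowers_iff.1 hw
    rw [map_zpow, haz]
  have hδfix : ∀ e ∈ T 1, a (e⁻¹ * a e) = e⁻¹ * a e := fun e he =>
    hazk _ (hzran.ge ⟨⟨e, he⟩, rfl⟩)
  have hEfix : ∀ e ∈ T 1, a e = e → e ∈ zpowers z := by
    intro e he hef
    have hzE : zpowers z ≤ T 1 := zpowers_le.2 ((h1 z).2 hzp)
    have hzk : (zpowers z).subgroupOf (T 1) ≤ d.ker := fun w hw => MonoidHom.mem_ker.2 (by
      show (w : R)⁻¹ * a w = 1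
      rw [hazk _ (mem_subgroupOf.1 hw), inv_mul_cancel])
    have hk : Nat.card d.ker ≤ p := by
      have h2 : p ≤ Nat.card d.range := by rw [← hzran, Nat.card_zpowers, hoz]
      refine Nat.le_of_mul_le_mul_right ?_ hpp.pos
      rw [← sq, ← hprod]
      exact Nat.mul_le_mul_left _ h2
    have heq := eq_of_le_of_card_ge hzk (by
      rw [Nat.card_congr (subgroupOfEquivOfLe hzE).toEquiv, Nat.card_zpowers, hoz]; exact hk)
    have hmem : (⟨e, he⟩ : T 1) ∈ d.ker := MonoidHom.mem_ker.2 (by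
      show e⁻¹ * a e = 1
      rw [hef, inv_mul_cancel])
    rw [← heq] at hmem
    exact hmem
  -- the orbit of a `p`-th root of `e₀`
  obtain ⟨y, hy, hye⟩ := hsurj e₀ he₀E
  have hy2 := (hT 2 y).1 hy
  have hXa : ∀ x ∈ T 2, a x ∈ T 2 := fun x hx => (hT 2 _).2 (by
    rw [← map_pow, (hT 2 x).1 hx, map_one])
  set f := y⁻¹ * a y with hfdef
  have hf : f ∈ T 2 := mul_mem (inv_mem hy) (hXa _ hy)
  have hf2 := (hT 2 f).1 hf
  have hay : a y = y * f := (mul_inv_cancel_left y _).symm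
  have hfp : f ^ p = z := by
    rw [hfdef, mul_pow_of_sq hp2 hR hm (by rw [inv_pow, hy2, inv_one])
      (by rw [← map_pow, hy2, map_one]), inv_pow, ← map_pow, hye]
  set e := f⁻¹ * a f with hedef
  have he : e ∈ T 1 := (h1 e).2 (by
    rw [hedef, mul_pow_of_sq hp2 hR hm (by rw [inv_pow, hf2, inv_one])
      (by rw [← map_pow, hf2, map_one]), inv_pow, ← map_pow, hfp, haz, inv_mul_cancel])
  have haf : a f = f * e := (mul_inv_cancel_left f _).symm
  set z' := e⁻¹ * a e with hz'def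
  have hz' : z' ∈ T 1 := mul_mem (inv_mem he) (hEa _ he)
  have hae : a e = e * z' := (mul_inv_cancel_left e _).symm
  have haz' : a z' = z' := hδfix e he
  have hfe : Commute f e := (hcomm e he f hf).symm
  have hez : Commute e z' := hcomm e he z' (hE2 _ hz')
  have hit : ∀ j : ℕ, (a ^ j) y = y * f ^ j * e ^ j.choose 2 * z' ^ j.choose 3 := by
    intro j
    induction j with
    | zero => simp
    | succ j ih =>
      rw [pow_succ', MulAut.mul_apply, ih]
      simp only [map_mul, map_pow, hay, haf, hae, haz', hfe.mul_pow, hez.mul_pow]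
      rw [Nat.choose_succ_succ j 1, Nat.choose_succ_succ j 2, Nat.choose_one_right, pow_succ',
        pow_add, pow_add]
      simp only [mul_assoc]
  have hcyc := hit p
  rw [hap, MulAut.one_apply, hfp] at hcyc
  obtain ⟨k2, hk2⟩ := Nat.Prime.dvd_choose_self hpp (k := 2) two_ne_zero
    (lt_of_le_of_ne hpp.two_le (Ne.symm hp2))
  rw [hk2, pow_mul, (h1 e).1 he, one_pow, mul_one, mul_assoc] at hcyc
  have hzz : z * z' ^ p.choose 3 = 1 := mul_eq_left.1 hcyc.symm
  have hp3 : p = 3 := by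
    by_contra hne
    have h5 : 3 < p := by
      have := hpp.two_le
      omega
    obtain ⟨k3, hk3⟩ := Nat.Prime.dvd_choose_self hpp (k := 3) (by norm_num) h5
    rw [hk3, pow_mul, (h1 z').1 hz', one_pow, mul_one] at hzz
    exact hz1 hzz
  have hz'1 : z' ≠ 1 := fun h => hz1 (by rw [h, one_pow, mul_one] at hzz; exact hzz)
  refine ⟨hp3, z, hoz, haz, fun l hl => ?_⟩
  -- no fixed element of order `p ^ 2`
  have hno : ∀ c ∈ T 2, a c = c → c ∈ T 1 := by
    intro c hc hcf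
    by_contra hc1
    obtain ⟨k, hk⟩ := mem_powers_iff_mem_zpowers.2 (hEfix (c ^ p)
      ((h1 _).2 (by rw [← pow_mul, ← sq]; exact (hT 2 c).1 hc)) (by rw [map_pow, hcf]))
    simp only at hk
    have he1 : c⁻¹ * f ^ k ∈ T 1 := (h1 _).2 (by
      rw [mul_pow_of_sq hp2 hR hm (by rw [inv_pow, (hT 2 c).1 hc, inv_one])
        (by rw [← pow_mul, mul_comm, pow_mul, hf2, one_pow]), inv_pow, ← pow_mul, mul_comm,
        pow_mul, hfp, hk, inv_mul_cancel])
    have hd := hδfix _ he1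
    have hek : (c⁻¹ * f ^ k)⁻¹ * a (c⁻¹ * f ^ k) = e ^ k := by
      rw [map_mul, map_inv, map_pow, hcf, haf, hfe.mul_pow]; group
    rw [hek, map_pow, hae, hez.mul_pow, mul_eq_left] at hd
    have hoz' : orderOf z' = p := orderOf_eq_prime ((h1 z').1 hz') hz'1
    have hdvd := orderOf_dvd_of_pow_eq_one hd
    rw [hoz'] at hdvd
    obtain ⟨k', rfl⟩ := hdvd
    exact hc1 ((h1 c).2 (by rw [← hk, pow_mul, hzp, one_pow]))
  classical
  have hex : ∃ s, l ^ p ^ s = 1 := hR l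
  refine hEfix l ?_ hl
  by_contra hl1
  have hs2 : 2 ≤ Nat.find hex := by
    by_contra hlt
    have hspec := Nat.find_spec hex
    rcases (show Nat.find hex = 0 ∨ Nat.find hex = 1 by omega) with h | h <;> rw [h] at hspec
    · exact hl1 (by rw [show l = 1 by simpa using hspec]; exact one_mem _)
    · exact hl1 ((h1 l).2 (by simpa using hspec))
  obtain ⟨s, hs⟩ := Nat.exists_eq_add_of_le hs2
  have hc := hno (l ^ p ^ s) ((hT 2 _).2 (by
    rw [← pow_mul, ← pow_add, add_comm, ← hs]; exact Nat.find_spec hex)) (by rw [map_pow, hl])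
  rw [h1, ← pow_mul, ← pow_succ] at hc
  exact Nat.find_min hex (show s + 1 < Nat.find hex by omega) hc

end CfsgLib.Invol.MetacyclicAut
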