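import Cfsg.Agent.Lib.Invol.MetacyclicOmega
import Cfsg.Agent.Lib.Invol.FrattiniKernel
import Cfsg.Agent.Lib.Coprime.CyclicSelfCentralizing
import Mathlib

/-!
A characteristic subgroup of index `p` in noncyclic metacyclic `p`-groups that are not homocyclic,
`p` odd, and the resulting bound on automorphism groups of order prime to `p`.
-/

set_option autoImplicit false
set_option linter.style.haveILetI false

universe u

namespace CfsgLib.Invol.MetacyclicChar

open Subgroup CfsgLib.ClassK CfsgLib.Coprime CfsgLib.Invol.MetacyclicOmega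
  CfsgLib.Invol.FrattiniKernel
open scoped commutatorElement

variable {p : ℕ} [hp : Fact p.Prime]

/-- A translate of `g` has order dividing `p ^ s` when `g ^ p ^ s` is a `p ^ s`th power in `⟨u⟩`. -/
theorem exists_pow_eq_one (hp2 : p ≠ 2) {G : Type u} [Group G] (s : ℕ) :
    ∀ (u g : G) (r : ℕ) (k t : ℤ), u ^ p ^ r = 1 → g * u * g⁻¹ = u ^ k → (p : ℤ) ∣ k - 1 →
      g ^ p ^ s = u ^ (((p ^ s : ℕ) : ℤ) * t) → ∃ i : ℤ, (u ^ i * g) ^ p ^ s = 1 := by
  induction s with
  | zero =>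
    intro u g r k t _ _ _ h
    simp only [pow_zero, pow_one, Nat.cast_one, one_mul] at h ⊢
    exact ⟨-t, by rw [h]; group⟩
  | succ s ih =>
    intro u g r k t hu hk hd h
    have hk' : g ^ p * u ^ p * (g ^ p)⁻¹ = (u ^ p) ^ (k ^ p) := by
      rw [← conj_pow, conj_pow_of_conj hk p, ← zpow_natCast, ← zpow_natCast u p, ← zpow_mul,
        ← zpow_mul, mul_comm]
    obtain ⟨i, hi⟩ := ih (u ^ p) (g ^ p) r (k ^ p) t
      (by rw [← pow_mul, mul_comm, pow_mul, hu, one_pow]) hk'
      (hd.trans (sub_one_dvd_pow_sub_one k p)) (by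
        rw [← pow_mul, ← pow_succ', h, ← zpow_natCast u p, ← zpow_mul]
        push_cast
        congr 1
        ring)
    obtain ⟨w, hw, hco⟩ := not_sq_dvd_geom_sum hp.out hd fun e => absurd e hp2
    obtain ⟨c, d, hcd⟩ : IsCoprime w ((p : ℤ) ^ r) := hco.symm.pow_right
    refine ⟨i * c, ?_⟩
    have hu' : u ^ ((p : ℤ) ^ r) = 1 := by rw [← Nat.cast_pow, zpow_natCast, hu]
    rw [pow_succ', pow_mul, zpow_mul_pow_of_conj hk, hw, ← hi, ← zpow_natCast u p, ← zpow_mul]
    congr 2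
    rw [show i * c * ((p : ℤ) * w) = (p : ℤ) * i + (p : ℤ) ^ r * (-(p : ℤ) * i * d) by
      linear_combination (p : ℤ) * i * hcd, zpow_add, zpow_mul u ((p : ℤ) ^ r), hu', one_zpow,
      mul_one]

variable {S : Type u} [Group S] [Finite S]

theorem cyclic_of_sup_frattini (x : S) (h : ∀ y, y ∈ zpowers x ⊔ frattini S) : IsCyclic S := by
  have := frattini_nongenerating (eq_top_iff.2 fun y _ => h y : zpowers x ⊔ frattini S = ⊤)
  exact ⟨x, fun y => mem_zpowers_iff.1 (this.ge (mem_top y))⟩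

/-- Noncyclic, non-homocyclic metacyclic `p`-groups, `p` odd, have a characteristic maximal
subgroup. -/
theorem exists_char_index_p (hp2 : p ≠ 2) (hS : IsPGroup p S) (hm : Cfsg.IsMetacyclic S)
    (hc : ¬ IsCyclic S)
    (hh : ¬ ∃ n : ℕ, 0 < n ∧
      Nonempty (S ≃* Multiplicative (ZMod (p ^ n)) × Multiplicative (ZMod (p ^ n)))) :
    ∃ M : Subgroup S, M.Characteristic ∧ M.index = p := by
  classical
  have hpp := hp.out
  obtain ⟨T, hT, hTn, hTidx, hTab⟩ := exists_layers hp2 hS hm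
  obtain ⟨N, hN, hNc, hQc⟩ := hm
  haveI := hN
  obtain ⟨a, haN⟩ := (Subgroup.isCyclic_iff_exists_zpowers_eq_top N).1 hNc
  obtain ⟨q, hq⟩ := hQc.exists_generator
  obtain ⟨b, rfl⟩ := QuotientGroup.mk_surjective q
  have haN' : a ∈ N := haN.le (mem_zpowers a)
  have hgen : ∀ x : S, ∃ i j : ℤ, x = a ^ i * b ^ j := by
    intro x
    obtain ⟨j, hj⟩ := mem_zpowers_iff.1 (hq (x : S ⧸ N))
    have h1 : x * (b ^ j)⁻¹ ∈ N := by
      rw [← QuotientGroup.eq_one_iff, QuotientGroup.mk_mul, QuotientGroup.mk_inv,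
        QuotientGroup.mk_zpow, hj, mul_inv_cancel]
    obtain ⟨i, hi⟩ := mem_zpowers_iff.1 (haN.ge h1)
    exact ⟨i, j, by rw [hi, inv_mul_cancel_right]⟩
  -- the exponent
  have hex : ∃ e, ∀ x : S, x ^ p ^ e = 1 := by
    obtain ⟨e, he⟩ := hS.exists_card_eq
    exact ⟨e, fun x => by rw [← he]; exact pow_card_eq_one'⟩
  obtain ⟨e', he'⟩ : ∃ e', Nat.find hex = e' + 1 := by
    rcases Nat.eq_zero_or_pos (Nat.find hex) with h | h
    · refine absurd (?_ : IsCyclic S) hc
      have h1 : ∀ x : S, x = 1 := fun x => by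
        have h2 := Nat.find_spec hex x
        rwa [h, pow_zero, pow_one] at h2
      exact ⟨1, fun x => mem_zpowers_iff.1 (by rw [h1 x]; exact one_mem _)⟩
    · exact ⟨Nat.find hex - 1, by omega⟩
  have hexp : ∀ x : S, x ^ p ^ (e' + 1) = 1 := he' ▸ Nat.find_spec hex
  have hTtop : T (e' + 1) = ⊤ := eq_top_iff.2 fun x _ => (hT _ x).2 (hexp x)
  set M₀ := T e' with hM₀
  haveI := hTn e'
  have hab₀ : ∀ x y : S, ⁅x, y⁆ ∈ M₀ := fun x y =>
    hTab e' x (hTtop ▸ mem_top x) y (hTtop ▸ mem_top y)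
  have hpow₀ : ∀ x : S, x ^ p ∈ M₀ := fun x => (hT _ _).2 (by rw [← pow_mul, ← pow_succ']; exact hexp x)
  have hM₀ne : M₀.index ≠ 1 := by
    intro h
    rw [index_eq_one] at h
    exact Nat.find_min hex (show e' < Nat.find hex by omega) fun x => (hT _ x).1 (h.ge (mem_top x))
  have hchar : ∀ i, (T i).Characteristic := fun i => characteristic_iff_le_comap.2 fun φ x hx => by
    rw [mem_comap, hT]
    show (φ x) ^ p ^ i = 1
    rw [← map_pow, (hT i x).1 hx, map_one]
  have hidx₀ : M₀.index ≤ p ^ 2 := by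
    have h := hTidx e'
    rwa [hTtop, relIndex_top_right] at h
  obtain ⟨j, hj⟩ := hS.index M₀
  rcases j with _ | _ | j
  · exact absurd (hj.trans (pow_zero p)) hM₀ne
  · exact ⟨M₀, hchar e', hj.trans (pow_one p)⟩
  obtain rfl : j = 0 := by
    rw [hj, Nat.pow_le_pow_iff_right hpp.one_lt] at hidx₀
    omega
  have hΦ : M₀ = frattini S :=
    eq_frattini hS ⟨N, hN, hNc, hQc⟩ M₀ hab₀ hpow₀ hj
  -- the generator of `N`
  have haΦ : a ∉ M₀ := by
    intro ha
    refine hc (cyclic_of_sup_frattini b fun y => ?_)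
    obtain ⟨i, j, rfl⟩ := hgen y
    exact mul_mem (mem_sup_right (zpow_mem (hΦ ▸ ha) i)) (mem_sup_left (zpow_mem (mem_zpowers b) j))
  have hoa : orderOf a = p ^ (e' + 1) :=
    orderOf_eq_prime_pow (fun h => haΦ ((hT _ a).2 h)) (hexp a)
  haveI : (zpowers a).Normal := by rw [haN]; exact hN
  obtain ⟨k, hk⟩ := exists_conj_exp (u := a) b
  have hk1 : (p : ℤ) ∣ k - 1 := by
    have h := dvd_pow_sub_one_of_mem hoa hk (j := p ^ (e' + 1)) (by rw [hexp]; exact one_mem _)
    have h1 : (p : ℤ) ∣ k ^ p ^ (e' + 1) - 1 :=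
      dvd_trans (by exact_mod_cast dvd_pow_self p (by omega : e' + 1 ≠ 0)) h
    rw [← ZMod.intCast_zmod_eq_zero_iff_dvd] at h1 ⊢
    push_cast at h1 ⊢
    rwa [ZMod.pow_card_pow] at h1
  -- the order of `b` modulo `N`
  obtain ⟨s, hs, hos⟩ := (Nat.dvd_prime_pow hpp).1 (orderOf_dvd_of_pow_eq_one
    (x := (b : S ⧸ N)) (n := p ^ (e' + 1)) (by rw [← QuotientGroup.mk_pow, hexp]; rfl))
  obtain rfl : s = e' + 1 := by
    by_contra hne
    have h1 : b ^ p ^ s ∈ N := by
      rw [← QuotientGroup.eq_one_iff, QuotientGroup.mk_pow, ← hos, pow_orderOf_eq_one]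
    obtain ⟨t, ht⟩ := mem_zpowers_iff.1 (haN.ge h1)
    have hd : ((p ^ s : ℕ) : ℤ) ∣ t := by
      have h2 : a ^ (t * ((p ^ (e' + 1 - s) : ℕ) : ℤ)) = a ^ (0 : ℤ) := by
        rw [zpow_mul, ht, zpow_natCast, ← pow_mul, ← pow_add, show s + (e' + 1 - s) = e' + 1 by omega,
          hexp, zpow_zero]
      rw [zpow_eq_iff_dvd hoa, sub_zero,
        show p ^ (e' + 1) = p ^ s * p ^ (e' + 1 - s) by rw [← pow_add]; congr 1; omega,
        Nat.cast_mul] at h2
      exact Int.dvd_of_mul_dvd_mul_right (by exact_mod_cast (pow_pos hpp.pos _).ne') h2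
    obtain ⟨t', rfl⟩ := hd
    obtain ⟨i, hi⟩ := exists_pow_eq_one hp2 s a b (e' + 1) k t' (hexp a) hk hk1 ht.symm
    have hy : a ^ i * b ∈ M₀ := (hT _ _).2 (by
      rw [show p ^ e' = p ^ s * p ^ (e' - s) by rw [← pow_add]; congr 1; omega, pow_mul, hi, one_pow])
    refine hc (cyclic_of_sup_frattini a fun y => ?_)
    have hb : b ∈ zpowers a ⊔ frattini S := by
      have := mul_mem (mem_sup_left (T := frattini S) (zpow_mem (mem_zpowers a) (-i)))
        (mem_sup_right (S := zpowers a) (hΦ ▸ hy))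
      simpa [← mul_assoc, ← zpow_add] using this
    obtain ⟨i', j', rfl⟩ := hgen y
    exact mul_mem (mem_sup_left (zpow_mem (mem_zpowers a) i')) (zpow_mem hb j')
  have hbN : ∀ j : ℤ, b ^ j ∈ N → ((p ^ (e' + 1) : ℕ) : ℤ) ∣ j := fun j hj => by
    rw [← hos, orderOf_dvd_iff_zpow_eq_one, ← QuotientGroup.mk_zpow]
    exact (QuotientGroup.eq_one_iff _).2 hj
  by_cases hab : ∀ x y : S, x * y = y * x
  · -- homocyclic
    exfalso
    refine hh ⟨e' + 1, by omega, ?_⟩
    have hob : orderOf b = p ^ (e' + 1) := Nat.dvd_antisymm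
      (orderOf_dvd_of_pow_eq_one (hexp b)) (hos ▸ orderOf_map_dvd (QuotientGroup.mk' N) b)
    let f : zpowers a × zpowers b →* S :=
      MonoidHom.mk' (fun t => (t.1 : S) * (t.2 : S)) fun t t' => by
        simp only [Prod.fst_mul, Prod.snd_mul, Subgroup.coe_mul]
        rw [(show Commute (t'.1 : S) (t.2 : S) from hab _ _).mul_mul_mul_comm]
    have hf : Function.Bijective f := by
      refine ⟨(injective_iff_map_eq_one f).2 ?_, fun x => ?_⟩
      · rintro ⟨⟨_, i, rfl⟩, ⟨_, j, rfl⟩⟩ h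
        have h' : a ^ i * b ^ j = 1 := h
        have hbj : b ^ j ∈ N := by
          have := N.mul_mem (N.inv_mem (N.zpow_mem haN' i)) (h'.symm ▸ N.one_mem : a ^ i * b ^ j ∈ N)
          rwa [inv_mul_cancel_left] at this
        have hb1 : b ^ j = 1 := by
          rw [← orderOf_dvd_iff_zpow_eq_one, hob]; exact hbN j hbj
        rw [hb1, mul_one] at h'
        exact Prod.ext (Subtype.ext h') (Subtype.ext hb1)
      · obtain ⟨i, j, rfl⟩ := hgen x
        exact ⟨(⟨_, zpow_mem (mem_zpowers a) i⟩, ⟨_, zpow_mem (mem_zpowers b) j⟩), rfl⟩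
    exact ⟨(MulEquiv.ofBijective f hf).symm.trans (MulEquiv.prodCongr
      (mulEquivOfCyclicCardEq (by
        rw [Nat.card_zpowers, hoa, Nat.card_congr Multiplicative.toAdd, Nat.card_zmod]))
      (mulEquivOfCyclicCardEq (by
        rw [Nat.card_zpowers, hob, Nat.card_congr Multiplicative.toAdd, Nat.card_zmod])))⟩
  -- nonabelian: the socle of the derived subgroup
  set Z := _root_.commutator S ⊓ T 1 with hZ
  have hcN : _root_.commutator S ≤ N :=
    (Normal.quotient_commutative_iff_commutator_le (N := N)).1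
      (by letI := hQc; letI := IsCyclic.commGroup (α := S ⧸ N); exact ⟨⟨mul_comm⟩⟩)
  haveI hZc : Z.Characteristic := characteristic_iff_map_eq.2 fun φ => by
    rw [hZ, map_inf _ _ _ φ.injective, characteristic_iff_map_eq.1 inferInstance φ,
      characteristic_iff_map_eq.1 (hchar 1) φ]
  haveI : Z.Normal := inferInstance
  have haZ : a ^ p ^ e' ∈ Z := by
    obtain ⟨x, y, hxy⟩ : ∃ x y : S, x * y ≠ y * x := by
      by_contra hall
      push Not at hall
      exact hab hall
    have hne : Nat.card (_root_.commutator S) ≠ 1 := fun h1 => hxy (by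
      rw [← commutatorElement_eq_one_iff_mul_comm, ← mem_bot, ← Subgroup.card_eq_one.1 h1]
      exact commutator_mem_commutator (mem_top x) (mem_top y))
    obtain ⟨n, hn⟩ := (hS.to_subgroup (_root_.commutator S)).exists_card_eq
    obtain ⟨⟨c, hcc⟩, hoc⟩ := exists_prime_orderOf_dvd_card' (G := _root_.commutator S) p (by
      rw [hn]
      refine dvd_pow_self p fun h0 => hne ?_
      rw [hn, h0, pow_zero])
    rw [← Subgroup.orderOf_coe] at hoc
    obtain ⟨t, rfl⟩ := mem_zpowers_iff.1 (haN.ge (hcN hcc))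
    have hd : ((p ^ e' : ℕ) : ℤ) ∣ t := by
      have h2 : a ^ (t * (p : ℤ)) = a ^ (0 : ℤ) := by
        rw [zpow_mul, zpow_natCast, ← hoc, pow_orderOf_eq_one, zpow_zero]
      rw [zpow_eq_iff_dvd hoa, sub_zero, pow_succ, Nat.cast_mul] at h2
      exact Int.dvd_of_mul_dvd_mul_right (by exact_mod_cast hpp.ne_zero) h2
    obtain ⟨t', rfl⟩ := hd
    simp only [zpow_mul, zpow_natCast] at hoc hcc
    have hoap : orderOf (a ^ p ^ e') = p := orderOf_eq_prime
      (by rw [← pow_mul, ← pow_succ, hexp]) fun h => haΦ ((hT _ a).2 h)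
    have hmem : a ^ p ^ e' ∈ zpowers ((a ^ p ^ e') ^ t') := by
      have hle : zpowers ((a ^ p ^ e') ^ t') ≤ zpowers (a ^ p ^ e') :=
        zpowers_le.2 (zpow_mem (mem_zpowers _) _)
      rw [eq_of_le_of_card_ge hle (by rw [Nat.card_zpowers, Nat.card_zpowers, hoc, hoap])]
      exact mem_zpowers _
    refine mem_inf.2 ⟨zpowers_le.2 hcc hmem, (hT 1 _).2 ?_⟩
    rw [pow_one, ← pow_mul, ← pow_succ, hexp]
  obtain ⟨T', hT', hTn', -, -⟩ :=
    exists_layers hp2 (hS.to_quotient Z) (isMetacyclic_quotient ⟨N, hN, hNc, hQc⟩ Z)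
  set M := (T' e').comap (QuotientGroup.mk' Z) with hM
  have hMem : ∀ x, x ∈ M ↔ x ^ p ^ e' ∈ Z := fun x => by
    rw [hM, mem_comap, hT', ← map_pow, QuotientGroup.mk'_apply, QuotientGroup.eq_one_iff]
  refine ⟨M, characteristic_iff_le_comap.2 fun φ x hx => ?_, ?_⟩
  · rw [mem_comap, hMem]
    show (φ x) ^ p ^ e' ∈ Z
    rw [← map_pow, ← characteristic_iff_map_eq.1 hZc φ]
    exact mem_map_of_mem _ ((hMem x).1 hx)
  have hle : M₀ ≤ M := fun x hx => (hMem x).2 (by rw [(hT _ x).1 hx]; exact Z.one_mem)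
  have hbM : b ∉ M := fun h => by
    have h1 := hbN ((p ^ e' : ℕ) : ℤ) (by rw [zpow_natCast]; exact hcN (mem_inf.1 ((hMem b).1 h)).1)
    rw [Int.natCast_dvd_natCast, Nat.pow_dvd_pow_iff_le_right hpp.one_lt] at h1
    omega
  have h1 := relIndex_mul_index hle
  rw [hj] at h1
  obtain ⟨i, hi2, hi⟩ := (Nat.dvd_prime_pow hpp).1 (Dvd.intro_left _ h1)
  rcases (show i = 0 ∨ i = 1 ∨ i = 2 by omega) with rfl | rfl | rfl
  · rw [pow_zero, index_eq_one] at hi
    exact absurd (hi.ge (mem_top b)) hbM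
  · rw [hi, pow_one]
  · exfalso
    refine haΦ (relIndex_eq_one.1 ?_ ((hMem a).2 haZ))
    rw [hi] at h1
    exact Nat.eq_of_mul_eq_mul_right (pow_pos hpp.pos 2) (h1.trans (one_mul _).symm)

/-- With a characteristic maximal subgroup above a Frattini subgroup of index `p ^ 2`, groups of
automorphisms of order prime to `p` are abelian of exponent dividing `p - 1`. -/
theorem small_aut_of_char (hS : IsPGroup p S) (M : Subgroup S) [M.Characteristic] (hM : M.index = p)
    (hΦ : (frattini S).index = p ^ 2) (H : Subgroup (MulAut S)) (hH : (Nat.card H).Coprime p) :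
    IsMulCommutative H ∧ ∀ h ∈ H, h ^ (p - 1) = 1 := by
  classical
  have hpp := hp.out
  haveI hMn : M.Normal := inferInstance
  have hc1 : Nat.card (S ⧸ M) = p := by rw [← index_eq_card, hM]
  haveI : IsCyclic (S ⧸ M) := isCyclic_of_prime_card hc1
  have hcomm : ∀ q r : S ⧸ M, q * r = r * q := fun q r => by
    letI := IsCyclic.commGroup (α := S ⧸ M); exact mul_comm q r
  have hΦM : frattini S ≤ M := by
    refine CfsgLib.Transfer.frattini_le_of_elementary_quotient (p := p) M (fun x y => ?_) fun x => ?_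
    · rw [← QuotientGroup.eq_one_iff]
      show QuotientGroup.mk' M ⁅x, y⁆ = 1
      rw [map_commutatorElement, commutatorElement_eq_one_iff_mul_comm]
      exact hcomm _ _
    · rw [← QuotientGroup.eq_one_iff, QuotientGroup.mk_pow, ← hc1, pow_card_eq_one']
  set Φ' : Subgroup M := (frattini S).subgroupOf M with hΦ'
  have hc2 : Nat.card (M ⧸ Φ') = p := by
    rw [← index_eq_card, ← relIndex]
    have h1 := relIndex_mul_index hΦM
    rw [hM, hΦ] at h1
    exact Nat.eq_of_mul_eq_mul_right hpp.pos (h1.trans (sq p))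
  haveI : IsCyclic (M ⧸ Φ') := isCyclic_of_prime_card hc2
  let r1 : MulAut S →* MulAut (S ⧸ M) := MonoidHom.mk'
    (fun α => QuotientGroup.congr M M α (characteristic_iff_map_eq.1 inferInstance α))
    fun α β => MulEquiv.ext fun q => by
      obtain ⟨x, rfl⟩ := QuotientGroup.mk_surjective q
      rfl
  let res : MulAut S →* MulAut M := MonoidHom.mk'
    (fun α => (α.subgroupMap M).trans
      (MulEquiv.subgroupCongr (characteristic_iff_map_eq.1 inferInstance α)))
    fun α β => MulEquiv.ext fun x => Subtype.ext rfl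
  have hΦmap : ∀ α : MulAut S, Φ'.map (res α).toMonoidHom = Φ' := by
    intro α
    refine eq_of_le_of_card_ge ?_ (card_map_of_injective (res α).injective).ge
    rintro _ ⟨x, hx, rfl⟩
    rw [SetLike.mem_coe, hΦ', mem_subgroupOf] at hx
    rw [hΦ', mem_subgroupOf]
    exact (characteristic_iff_map_eq.1 inferInstance α).le (mem_map_of_mem α.toMonoidHom hx)
  let r2 : MulAut S →* MulAut (M ⧸ Φ') := MonoidHom.mk'
    (fun α => QuotientGroup.congr Φ' Φ' (res α) (hΦmap α))
    fun α β => MulEquiv.ext fun q => by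
      obtain ⟨x, rfl⟩ := QuotientGroup.mk_surjective q
      rfl
  have key : ∀ γ ∈ H, r1 γ = 1 → r2 γ = 1 → γ = 1 := by
    intro γ hγ h1 h2
    have hk : γ ^ p ∈ frattiniKer S := by
      intro x
      rw [← QuotientGroup.eq]
      set β : MulAut (S ⧸ frattini S) := QuotientGroup.congr (frattini S) (frattini S) γ
        (characteristic_iff_map_eq.1 inferInstance γ)
      have hβn : ∀ (n : ℕ) (y : S),
          (β ^ n) (y : S ⧸ frattini S) = (((γ ^ n) y : S) : S ⧸ frattini S) := by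
        intro n
        induction n with
        | zero => exact fun y => rfl
        | succ n ih =>
          intro y
          rw [pow_succ', pow_succ', MulAut.mul_apply, MulAut.mul_apply, ih]
          rfl
      have hzM : x⁻¹ * γ x ∈ M := by
        rw [← QuotientGroup.eq]
        exact (DFunLike.congr_fun h1 (x : S ⧸ M)).symm
      have hz : β ((x⁻¹ * γ x : S) : S ⧸ frattini S) = ((x⁻¹ * γ x : S) : S ⧸ frattini S) := by
        refine (QuotientGroup.eq.2 ?_).symm
        have h3 := QuotientGroup.eq.1 (DFunLike.congr_fun h2 ((⟨_, hzM⟩ : M) : M ⧸ Φ')).symm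
        exact mem_subgroupOf.1 h3
      have h4 := CfsgLib.Fusion.pow_apply_of_fixed (β := β) (x := (x : S ⧸ frattini S))
        (z := ((x⁻¹ * γ x : S) : S ⧸ frattini S))
        (by rw [← QuotientGroup.mk_mul, mul_inv_cancel_left]; rfl) hz p
      rw [hβn, ← QuotientGroup.mk_pow, (QuotientGroup.eq_one_iff _).2
        (CfsgLib.Transfer.pow_mem_frattini hS _), mul_one] at h4
      exact h4.symm
    obtain ⟨m, hm⟩ := isPGroup_frattiniKer (p := p) hS ⟨_, hk⟩
    have hm' : γ ^ (p * p ^ m) = 1 := by rw [pow_mul]; exact congrArg Subtype.val hm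
    have hd : orderOf γ ∣ Nat.card H := Subgroup.orderOf_coe (⟨γ, hγ⟩ : H) ▸ orderOf_dvd_natCard _
    refine orderOf_eq_one_iff.1 (Nat.eq_one_of_dvd_coprimes
      (?_ : (Nat.card H).Coprime (p * p ^ m)) hd (orderOf_dvd_of_pow_eq_one hm'))
    exact Nat.Coprime.mul_right hH (hH.pow_right m)
  have hcard : ∀ (Q : Type u) [Group Q] [Finite Q] [IsCyclic Q], Nat.card Q = p →
      (∀ α β : MulAut Q, α * β = β * α) ∧ ∀ α : MulAut Q, α ^ (p - 1) = 1 := by
    intro Q _ _ _ hQ
    have hcu := IsCyclic.card_mulAut (G := Q)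
    rw [hQ, Nat.totient_prime hpp] at hcu
    refine ⟨fun α β => ?_, fun α => by rw [← hcu, pow_card_eq_one']⟩
    obtain ⟨g, hg⟩ := IsCyclic.exists_generator (α := Q)
    obtain ⟨i, hi⟩ := mem_zpowers_iff.1 (hg (α g))
    obtain ⟨j, hj⟩ := mem_zpowers_iff.1 (hg (β g))
    refine MulEquiv.ext fun x => ?_
    obtain ⟨l, rfl⟩ := mem_zpowers_iff.1 (hg x)
    rw [map_zpow, map_zpow, MulAut.mul_apply, MulAut.mul_apply, ← hi, ← hj, map_zpow, map_zpow, ← hi,
      ← hj, ← zpow_mul g i j, ← zpow_mul g j i, mul_comm i j]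
  obtain ⟨hcomm1, hexp1⟩ := hcard (S ⧸ M) hc1
  obtain ⟨hcomm2, hexp2⟩ := hcard (M ⧸ Φ') hc2
  constructor
  · refine ⟨⟨fun α β => Subtype.ext ?_⟩⟩
    have h := key _ (H.mul_mem (H.mul_mem α.2 β.2) (H.inv_mem (H.mul_mem β.2 α.2)))
      (by rw [map_mul, map_inv, map_mul, map_mul, hcomm1 (r1 (α : MulAut S)), mul_inv_cancel])
      (by rw [map_mul, map_inv, map_mul, map_mul, hcomm2 (r2 (α : MulAut S)), mul_inv_cancel])
    exact mul_inv_eq_one.1 h
  · exact fun h hh => key _ (H.pow_mem hh _) (by rw [map_pow, hexp1]) (by rw [map_pow, hexp2])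

end CfsgLib.Invol.MetacyclicChar
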