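import Cfsg.Agent.Lib.Invol.MetacyclicAut
import Cfsg.Agent.Lib.Invol.MetacyclicChar
import Cfsg.Agent.Lib.PGroup.MaximalClass

/-!
`L ⋊ ⟨a⟩` of maximal class for a metacyclic `p`-group `L` and an automorphism `a` of order `p`.
-/

set_option autoImplicit false
set_option linter.style.haveILetI false

namespace CfsgLib.Invol.MetacyclicAut

open Subgroup
open scoped commutatorElement
open CfsgLib.Invol.MetacyclicOmega

universe u

variable {p : ℕ} [hp : Fact p.Prime] {L : Type u} [Group L] [Finite L]

/-- The semidirect product of `L` with the group generated by `a`. -/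
abbrev Ext (a : MulAut L) := SemidirectProduct L ↥(zpowers a) (zpowers a).subtype

instance finite_ext (a : MulAut L) : Finite (Ext a) :=
  Finite.of_equiv _ SemidirectProduct.equivProd.symm

omit [Finite L] in
theorem pow_apply_fix {a : MulAut L} {z : L} (h : a z = z) (n : ℕ) : (a ^ n) z = z := by
  induction n with
  | zero => rfl
  | succ n ih => rw [pow_succ', MulAut.mul_apply, ih, h]

theorem exists_pow_eq {a : MulAut L} (g : ↥(zpowers a)) : ∃ n : ℕ, a ^ n = (g : MulAut L) :=
  mem_powers_iff_mem_zpowers.2 g.2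

omit hp in
theorem card_ext {a : MulAut L} (ha : orderOf a = p) {m : ℕ} (hm : Nat.card L = p ^ m) :
    Nat.card (Ext a) = p ^ (m + 1) := by
  rw [SemidirectProduct.card, Nat.card_zpowers, hm, ha, pow_succ]

/-- If `a` moves `Ω₁` the extension has maximal class. -/
theorem class_of_moved (hp2 : p ≠ 2) (hL : IsPGroup p L) (hmc : Cfsg.IsMetacyclic L)
    (hnc : ∀ C : Subgroup L, IsCyclic C → C.index ≠ p) {a : MulAut L} (ha : orderOf a = p)
    {m : ℕ} (hm : Nat.card L = p ^ m) {e₀ : L} (he₀ : e₀ ^ p = 1) (hmv : a e₀ ≠ e₀) :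
    p = 3 ∧ Group.nilpotencyClass (Ext a) = m := by
  obtain ⟨hp3, z, hoz, haz, hfix⟩ :=
    moved_facts hp2 hL hmc hnc a (ha ▸ pow_orderOf_eq_one a) he₀ hmv
  refine ⟨hp3, ?_⟩
  have hall : ∀ g : ↥(zpowers a), ∀ w ∈ zpowers z, (g : MulAut L) w = w := by
    intro g w hw
    obtain ⟨n, hn⟩ := exists_pow_eq g
    obtain ⟨i, rfl⟩ := mem_zpowers_iff.1 hw
    rw [map_zpow, ← hn, pow_apply_fix haz]
  let A : Subgroup (Ext a) :=
    { carrier := {g | g.left ∈ zpowers z}
      one_mem' := one_mem (zpowers z)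
      mul_mem' := fun {g h} hg hh => by
        show g.left * (g.right : MulAut L) h.left ∈ zpowers z
        rw [hall _ _ hh]; exact mul_mem hg hh
      inv_mem' := fun {g} hg => by
        show (((g.right⁻¹ : ↥(zpowers a)) : MulAut L)) g.left⁻¹ ∈ zpowers z
        rw [hall _ _ (inv_mem hg)]; exact inv_mem hg }
  have hA : Nat.card A = p ^ 2 := by
    let E : A ≃ ↥(zpowers z) × ↥(zpowers a) :=
      { toFun := fun g => (⟨g.1.left, g.2⟩, g.1.right)
        invFun := fun q => ⟨⟨q.1, q.2⟩, q.1.2⟩
        left_inv := fun g => rfl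
        right_inv := fun q => rfl }
    rw [Nat.card_congr E, Nat.card_prod, Nat.card_zpowers, Nat.card_zpowers, hoz, ha, sq]
  have hC : centralizer (A : Set (Ext a)) = A := by
    refine le_antisymm (fun g hg => ?_) fun g hg => mem_centralizer_iff.2 fun h hh => ?_
    · have hmem : (SemidirectProduct.inr ⟨a, mem_zpowers a⟩ : Ext a) ∈ A := one_mem (zpowers z)
      have h := congrArg SemidirectProduct.left (mem_centralizer_iff.1 hg _ hmem)
      refine hfix _ ?_
      simpa using h
    · refine SemidirectProduct.ext ?_ ?_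
      · show h.left * (h.right : MulAut L) g.left = g.left * (g.right : MulAut L) h.left
        rw [hall _ _ hg, hall _ _ hh]
        obtain ⟨i, hi⟩ := mem_zpowers_iff.1 (show g.left ∈ zpowers z from hg)
        obtain ⟨j, hj⟩ := mem_zpowers_iff.1 (show h.left ∈ zpowers z from hh)
        rw [← hi, ← hj, ← zpow_add, ← zpow_add, add_comm]
      · show h.right * g.right = g.right * h.right
        obtain ⟨i, hi⟩ := mem_zpowers_iff.1 g.right.2
        obtain ⟨j, hj⟩ := mem_zpowers_iff.1 h.right.2
        refine Subtype.ext ?_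
        show (h.right : MulAut L) * g.right = g.right * h.right
        rw [← hi, ← hj, ← zpow_add, ← zpow_add, add_comm]
  have := CfsgLib.Transfer.maxClass_of_self_centralizing (card_ext ha hm) A hA hC
  rwa [Nat.add_sub_cancel] at this

/-- A normal `a`-invariant subgroup with abelian quotient on which `a` is trivial has index `≤ p`. -/
theorem index_le_of_trivial {a : MulAut L} (ha : orderOf a = p) {m : ℕ} (hm : Nat.card L = p ^ m)
    (hm2 : 2 ≤ m) (hcl : Group.nilpotencyClass (Ext a) = m) (K : Subgroup L) [K.Normal]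
    (hd : ∀ x, x⁻¹ * a x ∈ K) (hc : ∀ x y : L, ⁅x, y⁆ ∈ K) : K.index ≤ p := by
  letI : CommGroup (L ⧸ K) :=
    { (inferInstance : Group (L ⧸ K)) with
      mul_comm := fun x y => by
        obtain ⟨x, rfl⟩ := QuotientGroup.mk'_surjective K x
        obtain ⟨y, rfl⟩ := QuotientGroup.mk'_surjective K y
        rw [← commutatorElement_eq_one_iff_mul_comm, ← map_commutatorElement]
        exact (QuotientGroup.eq_one_iff _).2 (hc x y) }
  have htriv : ∀ (g : ↥(zpowers a)) (x : L), ((g : MulAut L) x : L ⧸ K) = (x : L ⧸ K) := by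
    intro g x
    obtain ⟨n, hn⟩ := exists_pow_eq g
    rw [← hn]
    clear hn
    induction n with
    | zero => rfl
    | succ n ih => rw [pow_succ', MulAut.mul_apply, ← ih]; exact (QuotientGroup.eq.2 (hd _)).symm
  let ψ : Ext a →* L ⧸ K :=
    { toFun := fun g => (g.left : L ⧸ K)
      map_one' := rfl
      map_mul' := fun g h => by
        rw [SemidirectProduct.mul_left, QuotientGroup.mk_mul]
        exact congrArg _ (htriv g.right h.left) }
  have hG := card_ext ha hm
  have hcl' : Group.nilpotencyClass (Ext a) = m + 1 - 1 := by rwa [Nat.add_sub_cancel]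
  have hlcs := (CfsgLib.PGroup.maxClass_card_lcs (by omega) hG hcl').2 1 le_rfl (by omega)
  have hle : (⊤ : Subgroup (Ext a)).lowerCentralSeries 1 ≤
      ψ.ker ⊓ SemidirectProduct.rightHom.ker := by
    have h1 : ∀ g h : Ext a, ⁅g, h⁆ ∈ ψ.ker ⊓ SemidirectProduct.rightHom.ker := fun g h => by
      refine Subgroup.mem_inf.2 ⟨?_, ?_⟩
      · rw [MonoidHom.mem_ker, map_commutatorElement,
          commutatorElement_eq_one_iff_mul_comm]
        exact mul_comm _ _
      · rw [MonoidHom.mem_ker, map_commutatorElement,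
          commutatorElement_eq_one_iff_mul_comm]
        obtain ⟨i, hi⟩ := mem_zpowers_iff.1 (SemidirectProduct.rightHom g).2
        obtain ⟨j, hj⟩ := mem_zpowers_iff.1 (SemidirectProduct.rightHom h).2
        refine Subtype.ext ?_
        simp only [Subgroup.coe_mul, ← hi, ← hj, ← zpow_add, add_comm]
    rw [Subgroup.lowerCentralSeries_succ, Subgroup.lowerCentralSeries_zero, Subgroup.commutator_le]
    exact fun g _ h _ => h1 g h
  have hker : ψ.ker ⊓ SemidirectProduct.rightHom.ker ≤
      K.map (SemidirectProduct.inl : L →* Ext a) := by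
    rintro g ⟨hg1, hg2⟩
    exact ⟨g.left, (QuotientGroup.eq_one_iff _).1 hg1,
      SemidirectProduct.ext rfl (MonoidHom.mem_ker.1 hg2).symm⟩
  have h2 := card_le_of_le (hle.trans hker)
  rw [card_map_of_injective SemidirectProduct.inl_injective, hlcs,
    show m + 1 - 1 - 1 = m - 1 by omega] at h2
  have h3 := K.card_mul_index
  rw [hm, show p ^ m = p ^ (m - 1) * p by rw [← pow_succ, Nat.sub_add_cancel (by omega)]] at h3
  by_contra hlt
  have := Nat.mul_lt_mul_of_le_of_lt h2 (not_le.1 hlt) Nat.card_pos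
  omega

/-- Normal `a`-invariant subgroups of index `p ^ 2` are unique in the maximal class case. -/
theorem eq_of_index_sq {a : MulAut L} (ha : orderOf a = p) {m : ℕ} (hm : Nat.card L = p ^ m)
    (hm2 : 2 ≤ m) (hcl : Group.nilpotencyClass (Ext a) = m) (K₁ K₂ : Subgroup L) [K₁.Normal]
    [K₂.Normal] (hi₁ : ∀ x ∈ K₁, a x ∈ K₁) (hi₂ : ∀ x ∈ K₂, a x ∈ K₂) (h₁ : K₁.index = p ^ 2)
    (h₂ : K₂.index = p ^ 2) : K₁ = K₂ := by
  have hG := card_ext ha hm
  have hcl' : Group.nilpotencyClass (Ext a) = m + 1 - 1 := by rwa [Nat.add_sub_cancel]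
  have key : ∀ K : Subgroup L, K.Normal → (∀ x ∈ K, a x ∈ K) → K.index = p ^ 2 →
      K.map (SemidirectProduct.inl : L →* Ext a) =
        (⊤ : Subgroup (Ext a)).lowerCentralSeries (3 - 1) := by
    intro K hKn hi hidx
    haveI : (K.map (SemidirectProduct.inl : L →* Ext a)).Normal := by
      refine ⟨?_⟩
      rintro _ ⟨k, hk, rfl⟩ g
      refine ⟨g.left * (g.right : MulAut L) k * g.left⁻¹, hKn.conj_mem _ ?_ _, ?_⟩
      · obtain ⟨n, hn⟩ := exists_pow_eq g.right
        rw [← hn]
        clear hn
        induction n with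
        | zero => exact hk
        | succ n ih => rw [pow_succ', MulAut.mul_apply]; exact hi _ ih
      · ext <;> simp
    refine CfsgLib.PGroup.maxClass_normal_eq (by omega) hG hcl' _ (by norm_num) ?_
    have h := (K.map (SemidirectProduct.inl : L →* Ext a)).card_mul_index
    rw [card_map_of_injective SemidirectProduct.inl_injective, hG, pow_succ, ← hm,
      ← K.card_mul_index, hidx, mul_assoc] at h
    rw [Nat.eq_of_mul_eq_mul_left Nat.card_pos h, ← pow_succ]
  exact map_injective SemidirectProduct.inl_injective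
    ((key K₁ inferInstance hi₁ h₁).trans (key K₂ inferInstance hi₂ h₂).symm)

/-- If `a` fixes `Ω₁` pointwise the extension is not of maximal class. -/
theorem class_ne_of_fixed (hp2 : p ≠ 2) (hL : IsPGroup p L) (hmc : Cfsg.IsMetacyclic L)
    (hnc : ∀ C : Subgroup L, IsCyclic C → C.index ≠ p) {a : MulAut L} (ha : orderOf a = p)
    {m : ℕ} (hm : Nat.card L = p ^ m) (hfix : ∀ x : L, x ^ p = 1 → a x = x) :
    Group.nilpotencyClass (Ext a) ≠ m := by
  intro hcl
  classical
  have hpp := hp.out
  haveI : Nontrivial L := by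
    by_contra h
    rw [not_nontrivial_iff_subsingleton] at h
    have : a = 1 := MulEquiv.ext fun x => Subsingleton.elim _ _
    rw [this, orderOf_one] at ha
    exact hpp.ne_one ha.symm
  have hap : a ^ p = 1 := ha ▸ pow_orderOf_eq_one a
  obtain ⟨T, hT, hTn, hTidx, hTab⟩ := exists_layers hp2 hL hmc
  have h1 : ∀ x, x ∈ T 1 ↔ x ^ p = 1 := fun x => by rw [hT, pow_one]
  have hr12 := relIndex_omega hp2 hL hmc hnc h1 (hT 2)
  obtain ⟨hEcard, -, -⟩ := omega_two_facts hp2 hL hmc h1 (hT 2) hr12
  have hm2 : 2 ≤ m := by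
    have h := (T 1).card_subgroup_dvd_card
    rw [hEcard, hm, Nat.pow_dvd_pow_iff_le_right hpp.one_lt] at h
    exact h
  have hmono : ∀ i, T i ≤ T (i + 1) := fun i x hx => (hT _ x).2 (by
    rw [pow_succ, pow_mul, (hT i x).1 hx, one_pow])
  have hinv : ∀ i, ∀ x ∈ T i, a x ∈ T i := fun i x hx => (hT _ _).2 (by
    rw [← map_pow, (hT i x).1 hx, map_one])
  -- `a` is trivial on every layer
  have hlay : ∀ i, ∀ x ∈ T (i + 1), x⁻¹ * a x ∈ T i := by
    intro i
    induction i with
    | zero =>
      intro x hx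
      rw [hfix x ((h1 x).1 hx), inv_mul_cancel]
      exact one_mem _
    | succ i ih =>
      intro x hx
      haveI := hTn i
      have hxp : x ^ p ∈ T (i + 1) := (hT _ _).2 (by rw [← pow_mul, ← pow_succ']; exact (hT _ x).1 hx)
      have hsq : ∀ w ∈ T (i + 1 + 1), (w : L ⧸ T i) ^ p ^ 2 = 1 := fun w hw => by
        rw [← QuotientGroup.mk_pow, QuotientGroup.eq_one_iff, hT, ← pow_mul, ← pow_add, add_comm]
        exact (hT _ w).1 hw
      rw [hT, pow_succ', pow_mul, ← hT, ← QuotientGroup.eq_one_iff, QuotientGroup.mk_pow,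
        QuotientGroup.mk_mul, mul_pow_of_sq hp2 (hL.to_quotient (T i)) (isMetacyclic_quotient hmc _)
          (hsq _ (inv_mem hx)) (hsq _ (hinv _ _ hx)), ← QuotientGroup.mk_pow, ← QuotientGroup.mk_pow,
        ← QuotientGroup.mk_mul, inv_pow, ← map_pow]
      exact (QuotientGroup.eq_one_iff _).2 (ih _ hxp)
  have hex : ∃ k, ∀ x : L, x ^ p ^ k = 1 := ⟨m, fun x => hm ▸ pow_card_eq_one'⟩
  have hmin : ∀ k < Nat.find hex, T k ≠ ⊤ := fun k hk h =>
    Nat.find_min hex hk fun x => (hT k x).1 (h.ge (mem_top x))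
  have htop : T (Nat.find hex) = ⊤ := eq_top_iff.2 fun x _ => (hT _ x).2 (Nat.find_spec hex x)
  obtain ⟨t, ht⟩ : ∃ t, Nat.find hex = t + 2 := by
    refine ⟨Nat.find hex - 2, (Nat.sub_add_cancel ?_).symm⟩
    by_contra hlt
    have hT1 : T 1 = ⊤ := by
      rcases (show Nat.find hex = 0 ∨ Nat.find hex = 1 by omega) with h | h <;> rw [h] at htop
      · exact top_le_iff.1 (htop ▸ hmono 0)
      · exact htop
    rw [hT1, relIndex_eq_one.2 le_top] at hr12
    exact absurd hr12.symm (Nat.one_lt_pow two_ne_zero hpp.one_lt).ne'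
  rw [ht] at hmin htop
  have hidx1 : (T (t + 1)).index = p := by
    have hle : (T (t + 1)).index ≤ p ^ 2 := by
      rw [← relIndex_top_right, ← htop]; exact hTidx (t + 1)
    obtain ⟨j, -, hj⟩ := (Nat.dvd_prime_pow hpp).1 (hm ▸ (T (t + 1)).index_dvd_card)
    rw [hj] at hle
    have hj2 := (Nat.pow_le_pow_iff_right hpp.one_lt).1 hle
    rcases (show j = 0 ∨ j = 1 ∨ j = 2 by omega) with rfl | rfl | rfl
    · exact absurd (index_eq_one.1 (hj.trans (pow_zero p))) (hmin _ (by omega))
    · exact hj.trans (pow_one p)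
    · haveI := hTn (t + 1)
      have h := index_le_of_trivial ha hm hm2 hcl (T (t + 1))
        (fun x => hlay _ x (htop.ge (mem_top x)))
        fun x y => hTab _ x (htop.ge (mem_top x)) y (htop.ge (mem_top y))
      rw [hj] at h
      exact absurd h (lt_self_pow₀ hpp.one_lt one_lt_two).not_ge
  obtain ⟨u, rfl⟩ : ∃ u, t = u + 1 := by
    refine ⟨t - 1, (Nat.sub_add_cancel ?_).symm⟩
    by_contra hlt
    have ht0 : t = 0 := by omega
    subst ht0
    rw [htop, relIndex_top_right, hidx1] at hr12
    exact absurd hr12 (lt_self_pow₀ hpp.one_lt one_lt_two).ne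
  haveI := hTn (u + 1)
  have hnot : ¬ ∀ x : L, x ^ p ∈ T (u + 1) := fun h =>
    hmin (u + 1 + 1) (by omega) (eq_top_iff.2 fun x _ => (hT _ x).2 (by
      rw [pow_succ', pow_mul]; exact (hT _ _).1 (h x)))
  have hr : (T (u + 1)).index = p ^ 3 := by
    have hmul := relIndex_mul_index (hmono (u + 1))
    rw [hidx1] at hmul
    have hle : (T (u + 1)).index ≤ p ^ 3 := by
      rw [← hmul, pow_succ]; exact Nat.mul_le_mul_right _ (hTidx (u + 1))
    obtain ⟨j, -, hj⟩ := (Nat.dvd_prime_pow hpp).1 (hm ▸ (T (u + 1)).index_dvd_card)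
    rw [hj] at hle
    have hj3 := (Nat.pow_le_pow_iff_right hpp.one_lt).1 hle
    rcases (show j ≤ 1 ∨ j = 2 ∨ j = 3 by omega) with hj1 | rfl | rfl
    · refine absurd (fun x => ?_) hnot
      have h := index_dvd_of_le (hmono (u + 1))
      rw [hidx1, hj] at h
      have hjp : (T (u + 1)).index = p := by
        rw [hj]
        rcases (show j = 0 ∨ j = 1 by omega) with rfl | rfl
        · rw [pow_zero, Nat.dvd_one] at h; exact absurd h hpp.ne_one
        · exact pow_one p
      have := pow_index_mem (T (u + 1)) x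
      rwa [hjp] at this
    · refine absurd (fun x => ?_) hnot
      have hncyc : ¬ IsCyclic L := fun hc => by
        have h := (IsCyclic.exponent_eq_card (α := T 1)).ge
        rw [hEcard] at h
        have h' := h.trans (Nat.le_of_dvd hpp.pos (Monoid.exponent_dvd_of_forall_pow_eq_one
          fun x : T 1 => Subtype.ext ((h1 x).1 x.2)))
        exact absurd h' (lt_self_pow₀ hpp.one_lt one_lt_two).not_ge
      have hfr : (frattini L).index = p ^ 2 := by
        have hup : (frattini L).index ≤ p ^ 2 := by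
          rw [index_eq_card, ← card_top (G := L ⧸ frattini L)]
          refine CfsgLib.OddLocal.card_le_sq_of_metacyclic (isMetacyclic_quotient hmc _) hpp ⊤
            fun x _ => ?_
          induction x using QuotientGroup.induction_on with | H y => ?_
          rw [← QuotientGroup.mk_pow, QuotientGroup.eq_one_iff]
          exact CfsgLib.Transfer.pow_mem_frattini hL y
        obtain ⟨i, -, hi⟩ := (Nat.dvd_prime_pow hpp).1 (hm ▸ (frattini L).index_dvd_card)
        rw [hi] at hup ⊢
        have hi2 := (Nat.pow_le_pow_iff_right hpp.one_lt).1 hup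
        by_contra hne
        have hcq : IsCyclic (L ⧸ frattini L) := by
          rcases (show i = 0 ∨ i = 1 by
            rcases (show i = 0 ∨ i = 1 ∨ i = 2 by omega) with h | h | h
            · exact Or.inl h
            · exact Or.inr h
            · exact absurd (by rw [h]) hne) with rfl | rfl
          · haveI := (Nat.card_eq_one_iff_unique.1 ((index_eq_card _).symm.trans
              (hi.trans (pow_zero p)))).1
            exact isCyclic_of_subsingleton
          · exact isCyclic_of_prime_card ((index_eq_card _).symm.trans (hi.trans (pow_one p)))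
        obtain ⟨q, hq⟩ := hcq.exists_generator
        obtain ⟨g, rfl⟩ := QuotientGroup.mk_surjective q
        refine hncyc (MetacyclicChar.cyclic_of_sup_frattini g fun y => ?_)
        obtain ⟨k, hk⟩ := mem_zpowers_iff.1 (hq y)
        rw [← QuotientGroup.mk_zpow, QuotientGroup.eq] at hk
        have := mul_mem (mem_sup_left (T := frattini L) (zpow_mem (mem_zpowers g) k))
          (mem_sup_right hk)
        rwa [mul_inv_cancel_left] at this
      have heq := eq_of_index_sq ha hm hm2 hcl (T (u + 1)) (frattini L) (hinv _) (fun y hy => by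
        have h := (inferInstance : (frattini L).Characteristic).fixed a
        rw [← h] at hy
        exact hy) hj hfr
      rw [heq]
      exact CfsgLib.Transfer.pow_mem_frattini hL x
    · exact hj
  by_cases hd : ∀ x : L, x⁻¹ * a x ∈ T (u + 1)
  · obtain ⟨Z, hZn, hZc, -, hZcomm⟩ := exists_central hp2 (hL.to_quotient (T (u + 1)))
      (isMetacyclic_quotient hmc _)
    haveI := hZn
    have hsq : ∀ x : L, (x : L ⧸ T (u + 1)) ^ p ^ 2 = 1 := fun x => by
      rw [← QuotientGroup.mk_pow, QuotientGroup.eq_one_iff, hT, ← pow_mul, ← pow_add, add_comm]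
      exact (hT _ x).1 (htop.ge (mem_top x))
    have h := index_le_of_trivial ha hm hm2 hcl (Z.comap (QuotientGroup.mk' (T (u + 1))))
      (fun x => by
        rw [mem_comap, QuotientGroup.mk'_apply, (QuotientGroup.eq_one_iff _).2 (hd x)]
        exact one_mem _)
      fun x y => by
        rw [mem_comap, map_commutatorElement]
        exact hZcomm _ _ (hsq x) (hsq y)
    rw [index_comap_of_surjective _ (QuotientGroup.mk'_surjective _)] at h
    have h2 := Z.card_mul_index
    rw [← index_eq_card, hr] at h2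
    have h3 := Nat.mul_le_mul hZc h
    rw [h2, ← sq] at h3
    exact absurd h3 (Nat.pow_lt_pow_right hpp.one_lt (by norm_num)).not_ge
  push Not at hd
  obtain ⟨x₀, hx₀⟩ := hd
  set f := x₀⁻¹ * a x₀ with hfdef
  have hf : f ∈ T (u + 1 + 1) := hlay _ x₀ (htop.ge (mem_top x₀))
  have he := hlay _ f hf
  set e := f⁻¹ * a f with hedef
  have hδe := hlay _ e he
  haveI := hTn u
  set π := QuotientGroup.mk' (T u) with hπ
  have hkle : ∀ i, π.ker ≤ T (u + i) := fun i x hx => by
    rw [hπ, QuotientGroup.ker_mk'] at hx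
    rw [hT, pow_add, pow_mul, (hT u x).1 hx, one_pow]
  have hW : ∀ i, ∀ q, q ∈ (T (u + i)).map π ↔ q ^ p ^ i = 1 := by
    intro i q
    obtain ⟨y, rfl⟩ := QuotientGroup.mk'_surjective (T u) q
    rw [← hπ, ← mem_comap, comap_map_eq_self (hkle i), ← map_pow, hπ, QuotientGroup.mk'_apply,
      QuotientGroup.eq_one_iff, hT, hT, ← pow_mul, ← pow_add, add_comm]
  have hlayer : (T (u + 1)).relIndex (T (u + 1 + 1)) = p ^ 2 := by
    have hmul := relIndex_mul_index (hmono (u + 1))
    rw [hidx1, hr, pow_succ] at hmul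
    exact Nat.eq_of_mul_eq_mul_right hpp.pos hmul
  obtain ⟨-, -, hcomm⟩ := omega_two_facts hp2 (hL.to_quotient (T u)) (isMetacyclic_quotient hmc _)
    (fun q => by rw [hW 1, pow_one]) (hW 2) (by
      rw [← relIndex_comap, comap_map_eq_self (hkle 1)]; exact hlayer)
  have hef : Commute (π f) (π e) := (hcomm _ (mem_map_of_mem π he) _ (mem_map_of_mem π hf)).symm
  let â : L ⧸ T u →* L ⧸ T u := QuotientGroup.map (T u) (T u) a.toMonoidHom (hinv u)
  have hax : â (π x₀) = π x₀ * π f := by
    rw [← map_mul, hfdef, mul_inv_cancel_left]; rfl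
  have haf : â (π f) = π f * π e := by
    rw [← map_mul, hedef, mul_inv_cancel_left]; rfl
  have hae : â (π e) = π e := (QuotientGroup.eq.2 hδe).symm
  have hit : ∀ j : ℕ, π ((a ^ j) x₀) = π x₀ * π f ^ j * π e ^ j.choose 2 := by
    intro j
    induction j with
    | zero => simp
    | succ j ih =>
      rw [pow_succ', MulAut.mul_apply, show π (a ((a ^ j) x₀)) = â (π ((a ^ j) x₀)) from rfl, ih]
      simp only [map_mul, map_pow, hax, haf, hae, hef.mul_pow]
      rw [Nat.choose_succ_succ j 1, Nat.choose_one_right, pow_succ', pow_add]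
      simp only [mul_assoc]
  have h := hit p
  obtain ⟨k2, hk2⟩ := Nat.Prime.dvd_choose_self hpp (k := 2) two_ne_zero
    (lt_of_le_of_ne hpp.two_le (Ne.symm hp2))
  have hep : π e ^ p = 1 := by
    have := (hW 1 (π e)).1 (mem_map_of_mem π he)
    rwa [pow_one] at this
  rw [hap, MulAut.one_apply, hk2, pow_mul, hep, one_pow, mul_one] at h
  have hfp : f ^ p ∈ T u := by
    rw [← QuotientGroup.eq_one_iff, ← QuotientGroup.mk'_apply, ← hπ, map_pow]
    exact mul_eq_left.1 h.symm
  exact hx₀ ((hT _ f).2 (by rw [pow_succ', pow_mul]; exact (hT _ _).1 hfp))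

end CfsgLib.Invol.MetacyclicAut
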