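import Cfsg.Agent.Lib.Invol.MetacyclicOmega
import Cfsg.Agent.Lib.Invol.InversionElement
import Cfsg.Agent.Lib.Fusion.NormalCriteria
import Cfsg.Agent.Lib.PGroup.MetacyclicTwoAut
import Mathlib

/-!
# Strongly closed metacyclic subgroups, `p` odd
-/

set_option autoImplicit false
set_option linter.style.haveILetI false
set_option linter.unusedSectionVars false

namespace CfsgLib.Invol.MetacyclicClosed

open Cfsg Cfsg.FusionSystem Subgroup CfsgLib.Fusion
open scoped commutatorElement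

variable {Ω : Type*} [Group Ω] {S : Subgroup Ω} [Finite S] {F : FusionSystem S} {p : ℕ}
  [hp : Fact p.Prime] {P Q R : Subgroup Ω}

/-- A strongly closed subgroup with a series invariant in every centric radical subgroup containing
its terms lies in every centric radical subgroup. -/
theorem le_centricRadical_of_invariant (hS : IsPGroup p S) (hQ : F.StronglyClosed Q) (n : ℕ)
    (C : ℕ → Subgroup Ω) (h0 : C 0 = ⊥) (hn : C n = Q)
    (hmono : ∀ i < n, C i ≤ C (i + 1)) (hcomm : ∀ i < n, ⁅C (i + 1), Q⁆ ≤ C i)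
    (hnorm : ∀ i < n, S ≤ Subgroup.normalizer (C i : Set Ω)) (hc : F.IsCentric P)
    (hr : F.IsRadical p P)
    (hinv : ∀ i < n, C i ≤ P → ∀ α ∈ F.autGroup P, ∀ x : P, (x : Ω) ∈ C i → ((α x : P) : Ω) ∈ C i) :
    Q ≤ P := by
  haveI := finite_of_le hc.1
  have hCQ : ∀ i ≤ n, C i ≤ Q := by
    intro i hi
    induction hi using Nat.decreasingInduction with
    | self => exact hn.le
    | of_succ j hj ih => exact (hmono j hj).trans ih
  suffices h : ∀ i ≤ n, C i ≤ P from hn ▸ h n le_rfl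
  intro i
  induction i using Nat.strong_induction_on with
  | _ i ih =>
    intro hi
    rcases Nat.eq_zero_or_pos i with rfl | hpos
    · rw [h0]; exact bot_le
    obtain ⟨j, rfl⟩ : ∃ j, i = j + 1 := ⟨i - 1, by omega⟩
    refine le_of_normalizer_inf_le hS hc.1 ((hCQ _ hi).trans hQ.1) (fun b hb => ?_)
      fun a haC haP => ?_
    · rcases hi.eq_or_lt with he | he
      · rw [he, hn]
        exact (StronglyClosed.le_normalizer hQ) (hc.1 hb)
      · exact hnorm _ he (hc.1 hb)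
    · let C' : ℕ → Subgroup Ω := fun k => if k ≤ j then C k else if k = j + 1 then Q else ⊤
      have hle : ∀ k ≤ j, C' k = C k := fun k hk => by simp [C', hk]
      have hj1 : C' (j + 1) = Q := by simp [C']
      have hj2 : ∀ k, j + 1 < k → C' k = ⊤ := fun k hk => by
        simp [C', show ¬ k ≤ j by omega, show k ≠ j + 1 by omega]
      have hmono' : Monotone C' := monotone_nat_of_le_succ fun k => by
        rcases lt_trichotomy k j with hk | hk | hk
        · rw [hle k hk.le, hle (k + 1) hk]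
          exact hmono k (by omega)
        · rw [hle k hk.le, hk, hj1]
          exact hCQ j (by omega)
        · rw [hj2 (k + 1) (by omega)]
          exact le_top
      refine mem_of_stabilizes hS hc hr (⊤ : Subgroup (F.autGroup P)) (j + 2) C' hmono'
        (fun k α hα x hx => ?_) (by rw [hj2 _ (by omega)]; exact le_top)
        (fun α _ => ⟨0, fun x hx => ?_⟩) ⟨hQ.1 (hCQ _ hi haC), haP⟩
        (fun α _ => Subgroup.mem_top _) fun k hk x hxP hx => ?_
      · rcases lt_trichotomy k (j + 1) with hk | hk | hk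
        · rw [hle k (by omega)] at hx ⊢
          exact hinv k (by omega) (ih k hk (by omega)) α hα x hx
        · rw [hk, hj1] at hx ⊢
          have := StronglyClosed.apply_mem hQ (isMap_of_autGroup hc.1 hα) x.2 hx
          rwa [toFun_aut_apply _ x.2] at this
        · rw [hj2 k hk]
          exact Subgroup.mem_top _
      · rw [hle 0 (by omega), h0, Subgroup.mem_bot] at hx
        have : x = 1 := Subtype.ext hx
        rw [this, map_one]
      · have haQ : a ∈ Q := hCQ _ hi haC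
        rcases lt_trichotomy k j with hk' | hk' | hk'
        · rw [hle k hk'.le]
          rw [hle (k + 1) hk'] at hx
          have := hcomm k (by omega) (Subgroup.commutator_mem_commutator ((C _).inv_mem hx) haQ)
          simpa [commutatorElement_def, mul_assoc] using this
        · subst hk'
          rw [hle k le_rfl]
          rw [hj1] at hx
          have h1 : ⁅x⁻¹, a⁆ ∈ C k := by
            rw [← inv_mem_iff, commutatorElement_inv]
            exact hcomm k (by omega) (Subgroup.commutator_mem_commutator haC (Q.inv_mem hx))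
          simpa [commutatorElement_def, mul_assoc] using h1
        · obtain rfl : k = j + 1 := by omega
          rw [hj1]
          have h1 := Q.mul_mem (StronglyClosed.conj_mem hQ (S.inv_mem (hc.1 hxP)) haQ)
            (Q.inv_mem haQ)
          simpa [mul_assoc] using h1

/-- A normal subgroup of order at most `p ^ 2` of a `p`-group is centralized in two steps. -/
theorem commutator_two_eq_bot {X : Type*} [Group X] [Finite X] (hX : IsPGroup p X) (W : Subgroup X)
    [W.Normal] (hW : Nat.card W ≤ p ^ 2) : ⁅⁅W, (⊤ : Subgroup X)⁆, (⊤ : Subgroup X)⁆ = ⊥ := by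
  haveI := hX.isNilpotent
  have hstep : ∀ M : Subgroup X, M.Normal → M ≠ ⊥ → ⁅M, (⊤ : Subgroup X)⁆ < M := by
    intro M hM hne
    refine lt_of_le_of_ne (Subgroup.commutator_le_left M ⊤) fun e => hne ?_
    have key : ∀ k, M ≤ (⊤ : Subgroup X).lowerCentralSeries k := by
      intro k
      induction k with
      | zero => rw [Subgroup.lowerCentralSeries_zero]; exact le_top
      | succ k ih =>
        rw [Subgroup.lowerCentralSeries_succ, ← e]
        exact Subgroup.commutator_mono ih le_rfl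
    have h1 := key (Group.nilpotencyClass X)
    rwa [Subgroup.lowerCentralSeries_eq_bot_iff_nilpotencyClass_le.2 le_rfl, le_bot_iff] at h1
  set M := ⁅W, (⊤ : Subgroup X)⁆
  by_cases hW1 : W = ⊥
  · simp [M, hW1]
  by_cases hM1 : M = ⊥
  · rw [hM1, Subgroup.commutator_bot_left]
  by_contra hne
  have h1 := hstep W inferInstance hW1
  have h2 := hstep M inferInstance hM1
  obtain ⟨a, ha⟩ := (hX.to_subgroup ⁅M, (⊤ : Subgroup X)⁆).exists_card_eq
  obtain ⟨b, hb⟩ := (hX.to_subgroup M).exists_card_eq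
  obtain ⟨c, hc⟩ := (hX.to_subgroup W).exists_card_eq
  have e1 : Nat.card M < Nat.card W := lt_of_le_of_ne (card_le_of_le h1.le)
    fun e => h1.ne (eq_of_le_of_card_ge h1.le e.ge)
  have e2 : Nat.card (⁅M, (⊤ : Subgroup X)⁆ : Subgroup X) < Nat.card M := lt_of_le_of_ne (card_le_of_le h2.le)
    fun e => h2.ne (eq_of_le_of_card_ge h2.le e.ge)
  rw [hb, hc, Nat.pow_lt_pow_iff_right hp.out.one_lt] at e1
  rw [ha, hb, Nat.pow_lt_pow_iff_right hp.out.one_lt] at e2
  rw [hc, Nat.pow_le_pow_iff_right hp.out.one_lt] at hW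
  exact hne (Subgroup.card_eq_one.1 (by rw [ha, show a = 0 by omega, pow_zero]))

/-- The core step: the middle of a layer is invariant. -/
theorem layer_invariant (hS : IsPGroup p S) (hF : F.IsSaturated p) (hp2 : p ≠ 2)
    (hP : F.StronglyClosed P) (hm : Cfsg.IsMetacyclic P) (i : ℕ) (Q N L : Subgroup Ω)
    (hQ : ∀ x, x ∈ Q ↔ x ∈ P ∧ x ^ p ^ (i + 1) = 1) (hN : ∀ x, x ∈ N ↔ x ∈ P ∧ x ^ p ^ i = 1)
    (hidx : N.relIndex Q ≤ p ^ 2) (hab : ∀ x ∈ Q, ∀ y ∈ Q, ⁅x, y⁆ ∈ N)
    (hNL : N ≤ L) (hLQ : L ≤ Q) (hL : ⁅L, P⁆ ≤ N) (hQP : ⁅Q, P⁆ ≤ L)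
    (hLeq : L ≤ N ⊔ ⁅Q, P⁆) :
    ∀ β ∈ F.autGroup Q, ∀ x : Q, (x : Ω) ∈ L → ((β x : Q) : Ω) ∈ L := by
  classical
  have hPS : P ≤ S := hP.1
  have hQPle : Q ≤ P := fun x hx => ((hQ x).1 hx).1
  have hQS : Q ≤ S := hQPle.trans hPS
  haveI := finite_of_le hQS
  have hpp := hp.out
  have hNQ : N ≤ Q := hNL.trans hLQ
  set N' : Subgroup Q := N.subgroupOf Q with hN'def
  have hN' : ∀ x : Q, x ∈ N' ↔ x ^ p ^ i = 1 := fun x => by
    rw [hN'def, mem_subgroupOf, hN, ← Subgroup.coe_pow, OneMemClass.coe_eq_one]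
    exact ⟨fun h => h.2, fun h => ⟨hQPle x.2, h⟩⟩
  have hNmap : ∀ α : MulAut Q, N'.map α.toMonoidHom = N' := by
    intro α
    refine eq_of_le_of_card_ge ?_ (card_map_of_injective α.injective).ge
    rintro _ ⟨x, hx, rfl⟩
    rw [hN']
    show (α x) ^ p ^ i = 1
    rw [← map_pow, (hN' x).1 hx, map_one]
  haveI hN'n : N'.Normal := ⟨fun x hx g => by
    rw [hN'] at hx ⊢
    rw [conj_pow, hx, mul_one, mul_inv_cancel]⟩
  intro β hβ l₁ hl₁
  by_contra hmove
  -- the quotient is elementary of order `p ^ 2`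
  set V := Q ⧸ N'
  have habV : ∀ a b : V, a * b = b * a := by
    intro a b
    induction a using QuotientGroup.induction_on with | H x => ?_
    induction b using QuotientGroup.induction_on with | H y => ?_
    rw [← QuotientGroup.mk_mul, ← QuotientGroup.mk_mul, QuotientGroup.eq]
    show ((x * y)⁻¹ * (y * x)) ∈ N'
    rw [show (x * y)⁻¹ * (y * x) = ⁅y⁻¹, x⁻¹⁆ by simp [commutatorElement_def, mul_assoc]]
    exact mem_subgroupOf.2 (hab _ (Q.inv_mem y.2) _ (Q.inv_mem x.2))
  have hexpV : ∀ a : V, a ^ p = 1 := by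
    intro a
    induction a using QuotientGroup.induction_on with | H x => ?_
    rw [← QuotientGroup.mk_pow, QuotientGroup.eq_one_iff, hN', ← pow_mul, ← pow_succ']
    exact Subtype.ext ((hQ x).1 x.2).2
  set Z : Subgroup V := (L.subgroupOf Q).map (QuotientGroup.mk' N')
  have hl₁N : l₁ ∉ N' := by
    intro h
    refine hmove (hNL ?_)
    have : β l₁ ∈ N' := hNmap β ▸ mem_map_of_mem β.toMonoidHom h
    exact mem_subgroupOf.1 this
  have hlL : ∀ y : Q, QuotientGroup.mk' N' y ∈ Z → (y : Ω) ∈ L := by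
    rintro y ⟨x, hx, hxy⟩
    have h1 : x⁻¹ * y ∈ N' := QuotientGroup.eq.1 hxy
    have h2 := L.mul_mem (mem_subgroupOf.1 hx) (hNL (mem_subgroupOf.1 h1))
    simpa using h2
  have hVcard : Nat.card V = p ^ 2 := by
    have hle : Nat.card V ≤ p ^ 2 := by rw [← index_eq_card]; exact hidx
    obtain ⟨k, hk⟩ := ((hS.to_le hQS).to_quotient N').exists_card_eq
    refine hle.antisymm ?_
    rw [hk]
    refine Nat.pow_le_pow_right hpp.pos ?_
    by_contra hk2
    -- otherwise `L` is `N` or `Q`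
    have hlt : Nat.card Z < Nat.card V := by
      refine lt_of_le_of_ne (Subgroup.card_le_card_group Z) fun e => hmove (hlL _ ?_)
      rw [Subgroup.eq_top_of_card_eq Z e]
      exact mem_top _
    obtain ⟨z, hz⟩ := (((hS.to_le hQS).to_quotient N').to_subgroup Z).exists_card_eq
    rw [hz, hk, Nat.pow_lt_pow_iff_right hpp.one_lt] at hlt
    have hz0 : Z = ⊥ := Subgroup.card_eq_one.1 (by rw [hz, show z = 0 by omega, pow_zero])
    refine hl₁N ((QuotientGroup.eq_one_iff _).1 (mem_bot.1 (hz0.le ?_)))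
    exact mem_map_of_mem _ (mem_subgroupOf.2 hl₁)
  have hZcard : Nat.card Z = p := by
    obtain ⟨z, hzle, hz⟩ := (Nat.dvd_prime_pow hpp).1 (hVcard ▸ Z.card_subgroup_dvd_card)
    rcases (show z = 0 ∨ z = 1 ∨ z = 2 by omega) with rfl | rfl | rfl
    · refine absurd ((QuotientGroup.eq_one_iff _).1 (mem_bot.1 ?_)) hl₁N
      rw [← Subgroup.card_eq_one.1 (hz.trans (pow_zero p))]
      exact mem_map_of_mem _ (mem_subgroupOf.2 hl₁)
    · rw [hz, pow_one]
    · refine absurd (hlL _ ?_) hmove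
      rw [Z.eq_top_of_card_eq (hz.trans hVcard.symm)]
      exact mem_top _
  let ρ : MulAut Q →* MulAut V := MonoidHom.mk' (fun α => QuotientGroup.congr N' N' α (hNmap α))
    fun α γ => MulEquiv.ext fun v => by
      induction v using QuotientGroup.induction_on with | H x => rfl
  have hρ : ∀ (α : MulAut Q) (x : Q), ρ α (QuotientGroup.mk x) = QuotientGroup.mk (α x) := fun _ _ => rfl
  -- `S` normalizes `Q`
  have hnorm : ∀ a ∈ S, a ∈ Subgroup.normalizer (Q : Set Ω) := by
    intro a ha y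
    have key : ∀ a ∈ S, ∀ y ∈ Q, a * y * a⁻¹ ∈ Q := fun a ha y hy => (hQ _).2
      ⟨StronglyClosed.conj_mem hP ha ((hQ y).1 hy).1, by
        rw [conj_pow, ((hQ y).1 hy).2, mul_one, mul_inv_cancel]⟩
    refine ⟨key a ha y, fun h => ?_⟩
    have := key a⁻¹ (S.inv_mem ha) _ h
    simpa [mul_assoc] using this
  let c : S →* MulAut Q := MonoidHom.mk' (fun a => Q.normalizerMonoidHom ⟨a, hnorm a a.2⟩)
    fun a b => map_mul Q.normalizerMonoidHom ⟨(a : Ω), hnorm a a.2⟩ ⟨(b : Ω), hnorm b b.2⟩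
  have hcv : ∀ (a : S) (x : Q), ((c a x : Q) : Ω) = a * (x : Ω) * (a : Ω)⁻¹ := fun _ _ => rfl
  have hcA : ∀ a : S, c a ∈ autInducedBy S Q := fun a => mem_autInducedBy_iff.2 ⟨a, a.2, hcv a⟩
  have hcomm : ∀ (a : S), (a : Ω) ∈ P → ∀ x : Q, ((x⁻¹ * c a x : Q) : Ω) ∈ L := by
    intro a ha x
    rw [Subgroup.coe_mul, Subgroup.coe_inv, hcv]
    have h1 := hQP (commutator_mem_commutator (Q.inv_mem x.2) ha)
    simpa [commutatorElement_def, mul_assoc] using h1
  -- some element of `P` acts nontrivially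
  obtain ⟨x₀, hx₀P, hx₀⟩ : ∃ a : S, (a : Ω) ∈ P ∧ ρ (c a) ≠ 1 := by
    by_contra hall
    push Not at hall
    have hQN : ⁅Q, P⁆ ≤ N := by
      rw [Subgroup.commutator_le]
      intro x hx a ha
      have h1 := DFunLike.congr_fun (hall ⟨a, hPS ha⟩ ha) (QuotientGroup.mk ⟨x⁻¹, Q.inv_mem hx⟩)
      rw [hρ, MulAut.one_apply, eq_comm, QuotientGroup.eq] at h1
      have h2 := mem_subgroupOf.1 h1
      rw [Subgroup.coe_mul, Subgroup.coe_inv, hcv] at h2
      simpa [commutatorElement_def, mul_assoc] using h2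
    exact hl₁N (mem_subgroupOf.2 ((hLeq.trans (sup_le le_rfl hQN)) hl₁))
  set τ := ρ (c x₀) with hτdef
  set G := (F.autGroup Q).map ρ
  have hτG : τ ∈ G := mem_map_of_mem ρ (autInducedBy_le_autGroup hQS (hcA x₀))
  have hτc : ∀ v : V, v⁻¹ * τ v ∈ Z := by
    intro v
    induction v using QuotientGroup.induction_on with | H x => ?_
    exact ⟨x⁻¹ * c x₀ x, mem_subgroupOf.2 (hcomm x₀ hx₀P x), rfl⟩
  have hτZ : ∀ z ∈ Z, τ z = z := by
    rintro _ ⟨x, hx, rfl⟩
    refine (QuotientGroup.eq.2 ?_).symm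
    refine mem_subgroupOf.2 ?_
    rw [Subgroup.coe_mul, Subgroup.coe_inv]
    show (x : Ω)⁻¹ * ((x₀ : Ω) * (x : Ω) * (x₀ : Ω)⁻¹) ∈ N
    have h1 := hL (commutator_mem_commutator (L.inv_mem (mem_subgroupOf.1 hx)) hx₀P)
    simpa [commutatorElement_def, mul_assoc] using h1
  obtain ⟨_, ⟨α, hα, rfl⟩, hinv⟩ := CfsgLib.Invol.InversionElement.exists_inversion habV hVcard
    hexpV G Z hZcard hτG hx₀ hτZ hτc (mem_map_of_mem ρ hβ)
    (z₁ := QuotientGroup.mk l₁) (mem_map_of_mem _ (mem_subgroupOf.2 hl₁)) fun h => hmove (hlL _ h)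
  -- the kernel of the action on the quotient is a `p`-group
  let K : Subgroup (F.autGroup Q) := (ρ.comp (F.autGroup Q).subtype).ker
  have hKp : IsPGroup p K := by
    rintro ⟨k, hk⟩
    obtain ⟨e, m, hmd, he⟩ := Nat.exists_eq_pow_mul_and_not_dvd (orderOf_pos k).ne' p hpp.ne_one
    refine ⟨e, Subtype.ext (Subtype.ext ?_)⟩
    refine CfsgLib.PGroup.aut_eq_one_of_fix_frattini (hS.to_le hQS) _ ?_ fun x => ?_
    · have hd : orderOf ((k : MulAut Q) ^ p ^ e) ∣ m := by
        rw [orderOf_dvd_iff_pow_eq_one, ← pow_mul, ← he, ← SubmonoidClass.coe_pow, pow_orderOf_eq_one]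
        rfl
      exact Nat.Coprime.coprime_dvd_left hd ((hpp.coprime_iff_not_dvd.2 hmd).symm)
    · rw [← CfsgLib.Invol.MetacyclicOmega.eq_frattini (hS.to_le hQS)
        (CfsgLib.OddLocal.isMetacyclic_of_equiv (Subgroup.subgroupOfEquivOfLe hQPle)
          (CfsgLib.OddLocal.isMetacyclic_subgroup hm _)) N' (fun x y => ?_) (fun x => ?_)
        (by rw [index_eq_card]; exact hVcard)]
      · refine QuotientGroup.eq.1 ?_
        show QuotientGroup.mk x = ρ (((k ^ p ^ e : F.autGroup Q)) : MulAut Q) (QuotientGroup.mk x)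
        have hk' : k ^ p ^ e ∈ K := K.pow_mem hk _
        exact ((DFunLike.congr_fun (MonoidHom.mem_ker.1 hk') (QuotientGroup.mk x)).symm)
      · exact mem_subgroupOf.2 (hab _ x.2 _ y.2)
      · exact (QuotientGroup.eq_one_iff _).1 (hexpV (QuotientGroup.mk x))
  -- `α` extends to `S`
  have hFN : F.IsFullyNormalized Q := by
    refine ⟨hQS, fun R _ => ?_⟩
    haveI := finite_normalizerIn (S := S) (P := Q)
    exact Subgroup.card_le_of_le (inf_le_left.trans (le_inf le_rfl hnorm))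
  obtain ⟨W, hW⟩ := (fullyAutomized_of_fullyNormalized hS hF hFN).2
  have hKW : K ≤ (W : Subgroup (F.autGroup Q)) := by
    have h1 := W.3 (hKp.to_sup_of_normal_left W.isPGroup') le_sup_right
    exact h1 ▸ le_sup_left
  have hext : ∀ a : S, ∃ b : S, α * c a * α⁻¹ = c b := by
    intro a
    let α' : F.autGroup Q := ⟨α, hα⟩
    let ca : F.autGroup Q := ⟨c a, autInducedBy_le_autGroup hQS (hcA a)⟩
    have h1 : α' * ca * α'⁻¹ * ca⁻¹ ∈ K := by
      rw [MonoidHom.mem_ker]
      simp only [α', ca, map_mul, map_inv, MonoidHom.comp_apply, Subgroup.coe_subtype]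
      rw [mul_inv_eq_one, mul_inv_eq_iff_eq_mul]
      refine MulEquiv.ext fun v => ?_
      rw [MulAut.mul_apply, MulAut.mul_apply, hinv, hinv, map_inv]
    have hcaW : ca ∈ (W : Subgroup (F.autGroup Q)) := hW ▸ hcA a
    have h2 := mul_mem (hKW h1) hcaW
    rw [inv_mul_cancel_right] at h2
    rw [hW] at h2
    obtain ⟨b, hb, hbx⟩ := mem_autInducedBy_iff.1 (mem_subgroupOf.1 h2)
    refine ⟨⟨b, hb⟩, MulEquiv.ext fun x => Subtype.ext ?_⟩
    exact hbx x
  have hf := isMap_of_autGroup hQS hα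
  obtain ⟨ψ, hψ, hψx⟩ := receptive_extend (receptive_of_fullyNormalized hS hF hFN) hf
    (img_toFun_aut α) hQS fun a ha => by
      obtain ⟨b, hb⟩ := hext ⟨a, ha⟩
      refine ⟨ha, hnorm a ha, b, b.2, fun x hx => ?_⟩
      have hax : a * x * a⁻¹ ∈ Q := (hnorm a ha x).1 hx
      rw [toFun_aut_apply α hx, toFun_aut_apply α hax]
      have h3 := congrArg Subtype.val (DFunLike.congr_fun hb (α ⟨x, hx⟩))
      rw [MulAut.mul_apply, MulAut.mul_apply, MulAut.inv_apply_self] at h3
      exact h3.trans (hcv b _)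
  have hψi : img S ψ = S := eq_of_le_of_card_le hψ.img_le hψ.card_img.ge
  let Φ : MulAut S := hψ.toAut hψi
  have hΦv : ∀ s : S, ((Φ s : S) : Ω) = ψ s := fun s => hψ.toAut_apply hψi s
  -- a power of `2`-power order
  obtain ⟨e2, r, hr, hre⟩ := Nat.exists_eq_pow_mul_and_not_dvd (orderOf_pos Φ).ne' 2 (by norm_num)
  let incl : Q →* S := Subgroup.inclusion hQS
  have hres : ∀ (k : ℕ) (x : Q), (Φ ^ k) (incl x) = incl ((α ^ k) x) := by
    intro k
    induction k with
    | zero => exact fun x => rfl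
    | succ k ih =>
      intro x
      rw [pow_succ, pow_succ, MulAut.mul_apply, MulAut.mul_apply, ← ih]
      refine congrArg _ (Subtype.ext ?_)
      rw [hΦv]
      exact (hψx _ x.2).trans (toFun_aut_apply α x.2)
  have hinvr : ∀ v : V, ρ (α ^ r) v = v⁻¹ := by
    obtain ⟨r', rfl⟩ : Odd r := Nat.not_even_iff_odd.1 fun h => hr (even_iff_two_dvd.1 h)
    intro v
    rw [map_pow, pow_succ, pow_mul, MulAut.mul_apply, hinv]
    have h2 : (ρ α) ^ 2 = 1 := MulEquiv.ext fun w => by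
      rw [sq, MulAut.mul_apply, hinv, hinv, inv_inv]; rfl
    rw [h2, one_pow]
    rfl
  set Ψ := Φ ^ r
  have hΨ : ∀ x : Q, Ψ (incl x) = incl ((α ^ r) x) := hres r
  -- the coset of elements acting like `x₀`
  let X : Set S := {y | (y : Ω) ∈ P ∧ ρ (c y) = ρ (c x₀)}
  have hΨP : ∀ y : S, (y : Ω) ∈ P → ((Ψ y : S) : Ω) ∈ P := by
    intro y hy
    have key : ∀ k, (((Φ ^ k) y : S) : Ω) ∈ P := by
      intro k
      induction k with
      | zero => exact hy
      | succ k ih =>
        rw [pow_succ', MulAut.mul_apply, hΦv]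
        exact StronglyClosed.apply_mem hP hψ ((Φ ^ k) y).2 ih
    exact key r
  have hΨc : ∀ y : S, ρ (c (Ψ y)) = ρ (c y) := by
    intro y
    have h1 : c (Ψ y) * α ^ r = α ^ r * c y := by
      refine MulEquiv.ext fun x => ?_
      apply Subgroup.inclusion_injective hQS
      show incl (c (Ψ y) ((α ^ r) x)) = incl ((α ^ r) (c y x))
      rw [← hΨ]
      have h2 : ∀ (a : S) (z : Q), incl (c a z) = a * incl z * a⁻¹ := fun a z => Subtype.ext (hcv a z)
      rw [h2, h2, ← hΨ, map_mul, map_mul, map_inv]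
    have h3 := congrArg ρ h1
    rw [map_mul, map_mul] at h3
    refine MulEquiv.ext fun v => ?_
    have h4 := DFunLike.congr_fun h3 v⁻¹
    rw [MulAut.mul_apply, MulAut.mul_apply, hinvr, hinvr, inv_inv, map_inv (ρ (c y)), inv_inv] at h4
    exact h4
  let H : Subgroup (MulAut S) := zpowers Ψ
  letI : MulAction H X :=
    { smul := fun γ y => ⟨(γ : MulAut S) y, by
        have key : ∀ γ : MulAut S, γ ∈ H → ∀ y : S, y ∈ X → γ y ∈ X := by
          intro γ hγ
          obtain ⟨k, rfl⟩ := (isOfFinOrder_of_finite Ψ).mem_powers_iff_mem_zpowers.2 hγ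
          show ∀ y : S, y ∈ X → (Ψ ^ k) y ∈ X
          induction k with
          | zero => exact fun y hy => hy
          | succ k ih =>
            intro y hy
            rw [pow_succ, MulAut.mul_apply]
            exact ih (mem_zpowers_iff.2 ⟨k, zpow_natCast _ _⟩) _
              ⟨hΨP y hy.1, (hΨc y).trans hy.2⟩
        exact key γ γ.2 y y.2⟩
      one_smul := fun y => rfl
      mul_smul := fun a b y => rfl }
  have hH : IsPGroup 2 H := by
    have hd : orderOf Ψ ∣ 2 ^ e2 := by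
      rw [orderOf_dvd_iff_pow_eq_one, ← pow_mul, mul_comm, ← hre, pow_orderOf_eq_one]
    obtain ⟨d, -, hd'⟩ := (Nat.dvd_prime_pow Nat.prime_two).1 hd
    exact IsPGroup.of_card (n := d) (by rw [Nat.card_zpowers, hd'])
  have hX : ¬ 2 ∣ Nat.card X := by
    let M : Subgroup S := (P.subgroupOf S) ⊓ (ρ.comp c).ker
    have hMX : Nat.card X = Nat.card M := by
      refine Nat.card_congr ⟨fun y => ⟨x₀⁻¹ * y, ?_⟩, fun m => ⟨x₀ * m, ?_⟩, fun y => ?_, fun m => ?_⟩
      · refine mem_inf.2 ⟨?_, ?_⟩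
        · exact mem_subgroupOf.2 (P.mul_mem (P.inv_mem hx₀P) y.2.1)
        · rw [MonoidHom.mem_ker, map_mul, map_inv, inv_mul_eq_one]
          exact y.2.2.symm
      · refine ⟨P.mul_mem hx₀P (mem_subgroupOf.1 (mem_inf.1 m.2).1), ?_⟩
        have h1 := (mem_inf.1 m.2).2
        rw [MonoidHom.mem_ker, MonoidHom.comp_apply] at h1
        rw [map_mul, map_mul, h1, mul_one]
      · exact Subtype.ext (mul_inv_cancel_left _ _)
      · exact Subtype.ext (inv_mul_cancel_left _ _)
    rw [hMX]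
    obtain ⟨k, hk⟩ := (hS.to_subgroup M).exists_card_eq
    rw [hk]
    exact fun h => hp2 (((Nat.prime_dvd_prime_iff_eq Nat.prime_two hpp).1
      (Nat.prime_two.dvd_of_dvd_pow h)).symm)
  obtain ⟨⟨y, hy⟩, hyfix⟩ := hH.nonempty_fixed_point_of_prime_not_dvd_card X hX
  have hfix : Ψ y = y := congrArg Subtype.val (hyfix ⟨Ψ, mem_zpowers Ψ⟩)
  -- the order of `y`
  have hex : ∃ e, ((y : Ω)) ^ p ^ e = 1 := by
    obtain ⟨e, he⟩ := hS y
    exact ⟨e, by rw [← Subgroup.coe_pow, he]; rfl⟩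
  have hbig : i + 1 < Nat.find hex := by
    by_contra hle
    have hyQ : (y : Ω) ∈ Q := by
      refine (hQ _).2 ⟨hy.1, ?_⟩
      obtain ⟨d, hd⟩ := Nat.exists_eq_add_of_le (not_lt.1 hle)
      rw [hd, pow_add, pow_mul, Nat.find_spec hex, one_pow]
    refine hx₀ (hy.2.symm.trans (MulEquiv.ext fun v => ?_))
    induction v using QuotientGroup.induction_on with | H x => ?_
    rw [hρ, show c y x = ⟨y, hyQ⟩ * x * ⟨y, hyQ⟩⁻¹ from Subtype.ext (hcv y x), QuotientGroup.mk_mul,
      QuotientGroup.mk_mul, QuotientGroup.mk_inv, habV, inv_mul_cancel_left]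
    rfl
  set e := Nat.find hex
  set w : Ω := (y : Ω) ^ p ^ (e - (i + 1))
  have hwQ : w ∈ Q := (hQ _).2 ⟨P.pow_mem hy.1 _, by
    rw [← pow_mul, ← pow_add, show e - (i + 1) + (i + 1) = e by omega]; exact Nat.find_spec hex⟩
  have hwN : w ∉ N := fun h => by
    have h1 := ((hN w).1 h).2
    rw [← pow_mul, ← pow_add] at h1
    exact Nat.find_min hex (show e - (i + 1) + i < e by omega) h1
  have hwfix : (α ^ r) ⟨w, hwQ⟩ = ⟨w, hwQ⟩ := by
    apply Subgroup.inclusion_injective hQS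
    show incl ((α ^ r) ⟨w, hwQ⟩) = incl ⟨w, hwQ⟩
    rw [← hΨ, show incl ⟨w, hwQ⟩ = y ^ p ^ (e - (i + 1)) from Subtype.ext rfl, map_pow, hfix]
  suffices hv1 : (QuotientGroup.mk ⟨w, hwQ⟩ : V) = 1 from
    hwN (mem_subgroupOf.1 ((QuotientGroup.eq_one_iff _).1 hv1))
  set v : V := QuotientGroup.mk ⟨w, hwQ⟩
  have h1 : v⁻¹ = v := by
    rw [← hinvr v, hρ, hwfix]
  have h2 : v ^ 2 = 1 := by
    rw [sq]
    conv_lhs => arg 1; rw [← h1]
    exact inv_mul_cancel v
  obtain ⟨q, hq⟩ : Odd p := hpp.odd_of_ne_two hp2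
  have h3 := hexpV v
  rw [hq, pow_succ, pow_mul, h2, one_pow, one_mul] at h3
  exact h3

/-- A strongly closed metacyclic subgroup is normal, `p` odd. -/
theorem isNormal (hS : IsPGroup p S) (hF : F.IsSaturated p) (hp2 : p ≠ 2)
    (hP : F.StronglyClosed P) (hm : Cfsg.IsMetacyclic P) : F.IsNormal P := by
  classical
  have hPS : P ≤ S := hP.1
  haveI := finite_of_le hPS
  obtain ⟨T, hT, hTn, hTidx, hTab⟩ :=
    CfsgLib.Invol.MetacyclicOmega.exists_layers hp2 (hS.to_le hPS) hm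
  let T' : ℕ → Subgroup Ω := fun i => (T i).map P.subtype
  have hT' : ∀ i x, x ∈ T' i ↔ x ∈ P ∧ x ^ p ^ i = 1 := by
    intro i x
    constructor
    · rintro ⟨y, hy, rfl⟩
      exact ⟨y.2, congrArg Subtype.val ((hT i y).1 hy)⟩
    · rintro ⟨hx, hx'⟩
      exact ⟨⟨x, hx⟩, (hT i _).2 (Subtype.ext hx'), rfl⟩
  have hTmono : ∀ i, T' i ≤ T' (i + 1) := fun i x hx => (hT' _ _).2
    ⟨((hT' i x).1 hx).1, by rw [pow_succ, pow_mul, ((hT' i x).1 hx).2, one_pow]⟩
  let L' : ℕ → Subgroup Ω := fun i => T' i ⊔ ⁅T' (i + 1), P⁆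
  have hsub : (⊤ : Subgroup P).map P.subtype = P := by
    rw [← MonoidHom.range_eq_map, Subgroup.range_subtype]
  have hLT : ∀ i, L' i ≤ T' (i + 1) := fun i => by
    refine sup_le (hTmono i) ?_
    haveI := hTn (i + 1)
    calc ⁅T' (i + 1), P⁆ = (⁅T (i + 1), (⊤ : Subgroup P)⁆).map P.subtype := by
          rw [Subgroup.map_commutator, hsub]
      _ ≤ T' (i + 1) := map_mono (Subgroup.commutator_le_left _ _)
  have hL : ∀ i, ⁅L' i, P⁆ ≤ T' i := by
    intro i
    haveI := hTn i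
    haveI := hTn (i + 1)
    set π := QuotientGroup.mk' (T i)
    have hW : Nat.card ((T (i + 1)).map π) ≤ p ^ 2 := by
      rw [← relIndex_ker, QuotientGroup.ker_mk']
      exact hTidx i
    haveI : ((T (i + 1)).map π).Normal := (hTn _).map π (QuotientGroup.mk'_surjective _)
    have h2 := commutator_two_eq_bot ((hS.to_le hPS).to_quotient (T i)) _ hW
    rw [← map_top_of_surjective π (QuotientGroup.mk'_surjective _), ← Subgroup.map_commutator,
      ← Subgroup.map_commutator, Subgroup.map_eq_bot_iff, QuotientGroup.ker_mk'] at h2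
    have h3 : L' i = (T i ⊔ ⁅T (i + 1), ⊤⁆).map P.subtype := by
      rw [Subgroup.map_sup, Subgroup.map_commutator, hsub]
    calc ⁅L' i, P⁆ = (⁅T i ⊔ ⁅T (i + 1), ⊤⁆, (⊤ : Subgroup P)⁆).map P.subtype := by
          rw [Subgroup.map_commutator, hsub, h3]
      _ ≤ T' i := map_mono (by
          have e : ⁅T i ⊔ ⁅T (i + 1), ⊤⁆, (⊤ : Subgroup P)⁆ ≤ T i := by
            rw [Subgroup.commutator_le]
            intro a ha b hb
            obtain ⟨u, hu, v, hv, rfl⟩ := mem_sup_of_normal_left.1 ha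
            have e1 : ⁅u * v, b⁆ = u * ⁅v, b⁆ * u⁻¹ * ⁅u, b⁆ := by
              simp [commutatorElement_def, mul_assoc]
            rw [e1]
            exact mul_mem (mul_mem (mul_mem hu (h2 (commutator_mem_commutator hv hb))) (inv_mem hu))
              (Subgroup.commutator_le_left (T i) ⊤ (commutator_mem_commutator hu hb))
          exact e)
  have hconjT : ∀ i, ∀ a ∈ S, ∀ x ∈ T' i, a * x * a⁻¹ ∈ T' i := fun i a ha x hx => (hT' _ _).2
    ⟨StronglyClosed.conj_mem hP ha ((hT' i x).1 hx).1, by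
      rw [conj_pow, ((hT' i x).1 hx).2, mul_one, mul_inv_cancel]⟩
  have hmap_conj : ∀ (A : Subgroup Ω), (∀ a ∈ S, ∀ x ∈ A, a * x * a⁻¹ ∈ A) →
      ∀ a ∈ S, A.map (MulAut.conj a : Ω →* Ω) = A := by
    intro A hA a ha
    refine le_antisymm ?_ fun x hx => ⟨a⁻¹ * x * a, ?_, ?_⟩
    · rintro _ ⟨x, hx, rfl⟩
      exact hA a ha x hx
    · have := hA a⁻¹ (S.inv_mem ha) x hx
      rwa [inv_inv] at this
    · simp [mul_assoc]
  have hnormT : ∀ i, S ≤ Subgroup.normalizer (T' i : Set Ω) := fun i a ha =>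
    mem_normalizer_iff_map_conj_eq.2 (hmap_conj _ (hconjT i) a ha)
  have hnormL : ∀ i, S ≤ Subgroup.normalizer (L' i : Set Ω) := fun i a ha => by
    refine mem_normalizer_iff_map_conj_eq.2 ?_
    show (T' i ⊔ ⁅T' (i + 1), P⁆).map _ = _
    rw [Subgroup.map_sup, Subgroup.map_commutator, hmap_conj _ (hconjT i) a ha,
      hmap_conj _ (hconjT (i + 1)) a ha,
      hmap_conj P (fun b hb x hx => StronglyClosed.conj_mem hP hb hx) a ha]
  obtain ⟨n, hn⟩ := (hS.to_le hPS).exists_card_eq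
  have htop : T' n = P := by
    refine le_antisymm (fun x hx => ((hT' n x).1 hx).1) fun x hx => (hT' n x).2 ⟨hx, ?_⟩
    have h1 := pow_card_eq_one' (x := (⟨x, hx⟩ : P))
    rw [hn] at h1
    exact congrArg Subtype.val h1
  let C : ℕ → Subgroup Ω := fun k => if k % 2 = 0 then T' (k / 2) else L' (k / 2)
  have hCe : ∀ k, C (2 * k) = T' k := fun k => by simp [C]
  have hCo : ∀ k, C (2 * k + 1) = L' k := fun k => by
    simp [C, show (2 * k + 1) / 2 = k by omega]
  refine isNormal_of_le_centricRadical hS hF hP fun R hc hr => ?_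
  refine le_centricRadical_of_invariant hS hP (2 * n) C ?_ ?_ ?_ ?_ ?_ hc hr ?_
  · rw [show (0 : ℕ) = 2 * 0 by norm_num, hCe]
    refine eq_bot_iff.2 fun x hx => ?_
    simpa using ((hT' 0 x).1 hx).2
  · rw [hCe, htop]
  · intro k _
    rcases Nat.even_or_odd' k with ⟨j, rfl | rfl⟩
    · rw [hCe, hCo]; exact le_sup_left
    · rw [hCo, show 2 * j + 1 + 1 = 2 * (j + 1) by ring, hCe]; exact hLT j
  · intro k _
    rcases Nat.even_or_odd' k with ⟨j, rfl | rfl⟩
    · rw [hCe, hCo]; exact hL j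
    · rw [hCo, show 2 * j + 1 + 1 = 2 * (j + 1) by ring, hCe]; exact le_sup_right
  · intro k _
    rcases Nat.even_or_odd' k with ⟨j, rfl | rfl⟩
    · rw [hCe]; exact hnormT j
    · rw [hCo]; exact hnormL j
  intro k _ hCR α hα x hx
  have hTinv : ∀ j, ∀ x : R, (x : Ω) ∈ T' j → ((α x : R) : Ω) ∈ T' j := fun j x hx => by
    refine (hT' _ _).2 ⟨?_, ?_⟩
    · have := StronglyClosed.apply_mem hP (isMap_of_autGroup hc.1 hα) x.2 ((hT' j x).1 hx).1
      rwa [toFun_aut_apply _ x.2] at this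
    · rw [← Subgroup.coe_pow, ← map_pow, show x ^ p ^ j = 1 from Subtype.ext ((hT' j x).1 hx).2, map_one]
      rfl
  rcases Nat.even_or_odd' k with ⟨j, rfl | rfl⟩
  · rw [hCe] at hx ⊢; exact hTinv j x hx
  rw [hCo] at hx hCR ⊢
  have hQab : ∀ a ∈ T' (j + 1), ∀ b ∈ T' (j + 1), ⁅a, b⁆ ∈ T' j := by
    rintro _ ⟨a, ha, rfl⟩ _ ⟨b, hb, rfl⟩
    exact ⟨⁅a, b⁆, hTab j a ha b hb, rfl⟩
  have hQidx : (T' j).relIndex (T' (j + 1)) ≤ p ^ 2 := by
    rw [relIndex_map_map_of_injective _ _ P.subtype_injective]; exact hTidx j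
  by_cases hQR : T' (j + 1) ≤ R
  · have hm' := (isMap_of_autGroup hc.1 hα).mono hQR
    haveI := finite_of_le ((hQR.trans hc.1))
    have hi' : img (T' (j + 1)) (toFun (R.subtype.comp α.toMonoidHom)) = T' (j + 1) := by
      refine eq_of_le_of_card_le (fun y hy => ?_) hm'.card_img.ge
      obtain ⟨z, hz, rfl⟩ := hm'.mem_img.1 hy
      rw [toFun_aut_apply α (hQR hz)]
      exact hTinv (j + 1) ⟨z, hQR hz⟩ hz
    have h1 := layer_invariant hS hF hp2 hP hm j (T' (j + 1)) (T' j) (L' j) (hT' _) (hT' _) hQidx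
      hQab le_sup_left (hLT j) (hL j) le_sup_right le_rfl _ (hm'.toAut_mem hi') ⟨x, hLT j hx⟩ hx
    rw [IsMap.toAut_apply, toFun_aut_apply α x.2] at h1
    exact h1
  by_cases hLe : L' j ≤ T' j
  · exact le_sup_left (a := T' j) (hTinv j x (hLe hx))
  have hRT : R ⊓ T' (j + 1) = L' j := by
    have hTP : T' (j + 1) ≤ P := fun y hy => ((hT' (j + 1) y).1 hy).1
    haveI := finite_of_le (hTP.trans hPS)
    have hLI : L' j ≤ R ⊓ T' (j + 1) := le_inf hCR (hLT j)
    refine (le_antisymm ?_ hLI)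
    have h2 := relIndex_mul_relIndex (T' j) (L' j) (R ⊓ T' (j + 1)) le_sup_left hLI
    have h3 := relIndex_mul_relIndex (T' j) (R ⊓ T' (j + 1)) (T' (j + 1))
      (le_sup_left.trans hLI) inf_le_right
    have hb : (T' j).relIndex (T' (j + 1)) ≤ p ^ 2 := hQidx
    -- both intermediate indices are at least `p`
    have hpow : ∀ A B : Subgroup Ω, A ≤ B → B ≤ T' (j + 1) → ¬ B ≤ A → p ≤ A.relIndex B := by
      intro A B hAB hBT hne
      haveI := finite_of_le ((hBT.trans hTP).trans hPS)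
      obtain ⟨a, ha⟩ := ((hS.to_le ((hBT.trans hTP).trans hPS))).exists_card_eq
      have hd : A.relIndex B ∣ p ^ a := ha ▸ Subgroup.index_dvd_card (A.subgroupOf B)
      obtain ⟨b, -, hb'⟩ := (Nat.dvd_prime_pow hp.out).1 hd
      rcases b with _ | b
      · exact absurd (relIndex_eq_one.1 (hb'.trans (pow_zero p))) hne
      · rw [hb']; exact Nat.le_self_pow (by omega) p
    by_contra hne
    have e1 := hpow _ _ le_sup_left (hLT j) hLe
    have e2 := hpow _ _ hLI inf_le_right hne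
    have e3 := hpow _ _ inf_le_right le_rfl fun h => hQR fun y hy => (h hy).1
    rw [← h2] at h3
    have := Nat.mul_le_mul (Nat.mul_le_mul e1 e2) e3
    rw [h3] at this
    nlinarith [hp.out.two_le, mul_pos hp.out.pos hp.out.pos]
  have h1 : ((α x : R) : Ω) ∈ R ⊓ T' (j + 1) := ⟨(α x).2, hTinv (j + 1) x (hLT j hx)⟩
  rwa [hRT] at h1

end CfsgLib.Invol.MetacyclicClosed
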