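import Cfsg.Agent.Lib.PGroup.CyclicIndex
import Cfsg.Agent.Lib.OddLocal.Metacyclic
import Cfsg.Agent.Lib.Invol.MetacyclicPComp
import Cfsg.Agent.Lib.Transfer.PPrimeAut

/-!
# The power layers of a metacyclic `p`-group, `p` odd
-/

set_option autoImplicit false
set_option linter.style.haveILetI false

namespace CfsgLib.Invol.MetacyclicOmega

open Subgroup
open scoped commutatorElement

universe u

variable {p : ℕ} [hp : Fact p.Prime]

/-- The solutions of `x ^ p = 1` form a subgroup of order at most `p ^ 2`. -/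
theorem omega_facts {R : Type u} [Group R] [Finite R] (hp2 : p ≠ 2) (hR : IsPGroup p R)
    (hm : Cfsg.IsMetacyclic R) :
    ∃ W : Subgroup R, W.Normal ∧ (∀ x, x ∈ W ↔ x ^ p = 1) ∧ Nat.card W ≤ p ^ 2 ∧
      ∀ x ∈ W, ∀ y ∈ W, x * y = y * x := by
  have key : ∀ W : Subgroup R, (∀ x, x ∈ W ↔ x ^ p = 1) → W.Normal := fun W hW =>
    ⟨fun x hx g => (hW _).2 (by rw [conj_pow, (hW x).1 hx, mul_one, mul_inv_cancel])⟩
  have hcard : ∀ W : Subgroup R, (∀ x, x ∈ W ↔ x ^ p = 1) → Nat.card W ≤ p ^ 2 := fun W hW =>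
    CfsgLib.OddLocal.card_le_sq_of_metacyclic hm hp.out W fun x hx => (hW x).1 hx
  by_cases hc : IsCyclic R
  · letI := IsCyclic.commGroup (α := R)
    let W : Subgroup R := (powMonoidHom p).ker
    have hW : ∀ x, x ∈ W ↔ x ^ p = 1 := fun x => Iff.rfl
    exact ⟨W, key W hW, hW, hcard W hW, fun x _ y _ => mul_comm x y⟩
  · obtain ⟨hel, -⟩ := CfsgLib.PGroup.omega_of_metacyclic hp2 hR hm hc
    have hW : ∀ x, x ∈ closure {x : R | x ^ p = 1} ↔ x ^ p = 1 := fun x =>
      ⟨fun hx => hel.2 x hx, fun hx => subset_closure hx⟩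
    exact ⟨_, key _ hW, hW, hcard _ hW, fun x hx y hy => congrArg Subtype.val
      (hel.1.is_comm.comm ⟨x, hx⟩ ⟨y, hy⟩)⟩

variable {R : Type u} [Group R] [Finite R]

/-- `T i` is the set of solutions of `x ^ p ^ i = 1`. -/
theorem exists_layers (hp2 : p ≠ 2) (hR : IsPGroup p R) (hm : Cfsg.IsMetacyclic R) :
    ∃ T : ℕ → Subgroup R, (∀ i x, x ∈ T i ↔ x ^ p ^ i = 1) ∧ (∀ i, (T i).Normal) ∧
      (∀ i, (T i).relIndex (T (i + 1)) ≤ p ^ 2) ∧
      ∀ i, ∀ x ∈ T (i + 1), ∀ y ∈ T (i + 1), ⁅x, y⁆ ∈ T i := by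
  have key : ∀ i, ∃ A : Subgroup R, A.Normal ∧ ∀ x, x ∈ A ↔ x ^ p ^ i = 1 := by
    intro i
    induction i with
    | zero => exact ⟨⊥, inferInstance, fun x => by simp⟩
    | succ i ih =>
      obtain ⟨A, hAn, hA⟩ := ih
      obtain ⟨W, hWn, hW, -, -⟩ := omega_facts hp2 (hR.to_quotient A) (isMetacyclic_quotient hm A)
      refine ⟨W.comap (QuotientGroup.mk' A), inferInstance, fun x => ?_⟩
      rw [mem_comap, hW, ← map_pow, QuotientGroup.mk'_apply, QuotientGroup.eq_one_iff, hA,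
        ← pow_mul, ← pow_succ']
  choose T hTn hT using key
  have step : ∀ i, ∃ W : Subgroup (R ⧸ T i), T (i + 1) = W.comap (QuotientGroup.mk' (T i)) ∧
      Nat.card W ≤ p ^ 2 ∧ ∀ x ∈ W, ∀ y ∈ W, x * y = y * x := by
    intro i
    haveI := hTn i
    obtain ⟨W, -, hW, hWc, hWab⟩ := omega_facts hp2 (hR.to_quotient (T i)) (isMetacyclic_quotient hm _)
    refine ⟨W, ?_, hWc, hWab⟩
    ext x
    rw [hT, mem_comap, hW, ← map_pow, QuotientGroup.mk'_apply, QuotientGroup.eq_one_iff, hT,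
      ← pow_mul, ← pow_succ']
  refine ⟨T, hT, hTn, fun i => ?_, fun i x hx y hy => ?_⟩
  · haveI := hTn i
    obtain ⟨W, hW, hWc, -⟩ := step i
    rw [hW]
    conv_lhs => arg 1; rw [← QuotientGroup.ker_mk' (T i)]
    rw [relIndex_ker, map_comap_eq_self_of_surjective (QuotientGroup.mk'_surjective _)]
    exact hWc
  · haveI := hTn i
    obtain ⟨W, hW, -, hWab⟩ := step i
    rw [hW] at hx hy
    rw [← QuotientGroup.eq_one_iff]
    show QuotientGroup.mk' (T i) ⁅x, y⁆ = 1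
    rw [map_commutatorElement, commutatorElement_eq_one_iff_mul_comm]
    exact hWab _ hx _ hy

/-- A quotient of order `p ^ 2` and exponent `p` of a metacyclic `p`-group is the Frattini quotient. -/
theorem eq_frattini {Q : Type u} [Group Q] [Finite Q] (hQ : IsPGroup p Q) (hm : Cfsg.IsMetacyclic Q)
    (N : Subgroup Q) [N.Normal] (hc : ∀ x y : Q, ⁅x, y⁆ ∈ N) (hpow : ∀ x : Q, x ^ p ∈ N)
    (hidx : N.index = p ^ 2) : N = frattini Q := by
  have hle : frattini Q ≤ N := CfsgLib.Transfer.frattini_le_of_elementary_quotient N hc hpow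
  refine (eq_of_le_of_card_ge hle ?_).symm
  have hq : Nat.card (Q ⧸ frattini Q) ≤ p ^ 2 := by
    rw [← card_top (G := Q ⧸ frattini Q)]
    refine CfsgLib.OddLocal.card_le_sq_of_metacyclic (isMetacyclic_quotient hm _) hp.out ⊤ fun x _ => ?_
    induction x using QuotientGroup.induction_on with | H y => ?_
    rw [← QuotientGroup.mk_pow, QuotientGroup.eq_one_iff]
    exact CfsgLib.Transfer.pow_mem_frattini hQ y
  have e1 := (frattini Q).card_mul_index
  have e2 := N.card_mul_index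
  rw [hidx, ← e1] at e2
  rw [index_eq_card] at e2
  by_contra hlt
  have := Nat.mul_lt_mul_of_lt_of_le (not_le.1 hlt) hq (pow_pos hp.out.pos 2)
  omega

end CfsgLib.Invol.MetacyclicOmega
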