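import Cfsg.Agent.S5212
import Cfsg.Agent.Lib.Invol.CyclicSylow
import Cfsg.Agent.Lib.Fusion.GroupFusion
import Cfsg.Agent.Lib.Transfer.Frobenius
import Mathlib.GroupTheory.SpecificGroups.Quaternion

/-!
A metacyclic Sylow 2-subgroup with a cyclic quotient of order greater than two by a cyclic normal
subgroup gives a normal 2-complement or is homocyclic of rank two and exponent at least four.
-/

set_option autoImplicit false
set_option linter.unusedSectionVars false

namespace CfsgLib.Invol.MetacyclicTwo

universe u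

/-- A cyclic group generated by elements of exponent two has order at most two. -/
theorem card_le_two {A : Type*} [Group A] [Finite A] [IsCyclic A] (h : ∀ a : A, a * a = 1) :
    Nat.card A ≤ 2 := by
  obtain ⟨g, hg⟩ := IsCyclic.exists_generator (α := A)
  rw [← orderOf_eq_card_of_forall_mem_zpowers hg]
  exact orderOf_le_of_pow_eq_one two_pos (by rw [pow_two]; exact h g)

/-- A cyclic quotient of a dihedral group, of a semidihedral group, or of a quaternion group of
order at least eight has order at most two. -/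
theorem quotient_le_two {S A : Type*} [Group S] [Group A] [Finite A] [IsCyclic A] (f : S →* A)
    (hf : Function.Surjective f) (x y : S) (hgen : ∀ s : S, ∃ i : ℤ, s = x ^ i ∨ s = x ^ i * y)
    (hy : f y * f y = 1) (hxy : f x * f x = 1) : Nat.card A ≤ 2 := by
  refine card_le_two fun a => ?_
  have hc : ∀ u v : A, u * v = v * u := fun u v => by
    obtain ⟨g, hg⟩ := IsCyclic.exists_generator (α := A)
    obtain ⟨i, rfl⟩ := hg u
    obtain ⟨j, rfl⟩ := hg v
    exact (Commute.refl g).zpow_zpow i j
  have hx : ∀ i : ℤ, f x ^ i * f x ^ i = 1 := fun i => by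
    rw [← (Commute.refl (f x)).mul_zpow, hxy, one_zpow]
  obtain ⟨s, rfl⟩ := hf a
  obtain ⟨i, rfl | rfl⟩ := hgen s
  · rw [map_zpow]; exact hx i
  · rw [map_mul, map_zpow]
    calc f x ^ i * f y * (f x ^ i * f y) = f x ^ i * (f y * f x ^ i) * f y := by group
      _ = f x ^ i * (f x ^ i * f y) * f y := by rw [hc (f y)]
      _ = (f x ^ i * f x ^ i) * (f y * f y) := by group
      _ = 1 := by rw [hx, hy, one_mul]

variable {G : Type u} [Group G] [Finite G]

theorem complement_of_cyclic (S : Sylow 2 G) (hS : IsCyclic (S : Subgroup G)) :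
    Cfsg.HasNormalPComplement 2 G := by
  rw [CfsgLib.Transfer.hasNormalPComplement_iff_frobenius]
  intro D hD g hg hgp
  by_cases hbot : D = ⊥
  · subst hbot
    rw [Subgroup.mem_centralizer_iff]
    intro v hv
    rw [SetLike.mem_coe, Subgroup.mem_bot] at hv
    rw [hv, one_mul, mul_one]
  have hDc := CfsgLib.Invol.isCyclic_pGroup hS hD
  have : Nontrivial D := (Subgroup.nontrivial_iff_ne_bot D).2 hbot
  obtain ⟨x, hx⟩ : ∃ x : D, orderOf x = 2 := by
    refine exists_prime_orderOf_dvd_card' 2 ?_
    obtain ⟨k, hk⟩ := hD.exists_card_eq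
    rw [hk]
    refine dvd_pow_self 2 fun h => ?_
    rw [h, pow_zero] at hk
    exact hbot (Subgroup.card_eq_one.1 hk)
  refine CfsgLib.Invol.mem_centralizer_of_cyclic hD hDc hg hgp x.2 (fun h => ?_) ?_
  · rw [← Subgroup.orderOf_coe, h, orderOf_one] at hx
    norm_num at hx
  -- the involution of a cyclic group is unique
  have hgx : g * (x : G) * g⁻¹ ∈ D := (Subgroup.mem_normalizer_iff.1 hg _).1 x.2
  obtain ⟨c, hc⟩ := IsCyclic.exists_generator (α := D)
  classical
  have := Fintype.ofFinite D
  have hle : (Finset.univ.filter fun a : D => a ^ 2 = 1).card ≤ 2 :=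
    IsCyclic.card_pow_eq_one_le two_pos
  by_contra hne
  have h1 : (⟨g * (x : G) * g⁻¹, hgx⟩ : D) ≠ x := fun h =>
    hne (mul_inv_eq_iff_eq_mul.1 (congrArg Subtype.val h))
  have hx2 : x ^ 2 = 1 := by rw [← hx, pow_orderOf_eq_one]
  have hx1 : x ≠ 1 := fun h => by rw [h, orderOf_one] at hx; norm_num at hx
  have hg2 : (⟨g * (x : G) * g⁻¹, hgx⟩ : D) ^ 2 = 1 := by
    refine Subtype.ext ?_
    push_cast
    rw [conj_pow, ← SubmonoidClass.coe_pow, hx2, OneMemClass.coe_one, mul_one, mul_inv_cancel]
  have hg1 : (⟨g * (x : G) * g⁻¹, hgx⟩ : D) ≠ 1 := fun h => hx1 (Subtype.ext (by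
    have := congrArg Subtype.val h
    rw [OneMemClass.coe_one] at this ⊢
    exact conj_eq_one_iff.1 this))
  have h3 : ({1, x, ⟨g * (x : G) * g⁻¹, hgx⟩} : Finset D) ⊆
      Finset.univ.filter fun a : D => a ^ 2 = 1 := by
    intro a ha
    simp only [Finset.mem_insert, Finset.mem_singleton] at ha
    rcases ha with rfl | rfl | rfl <;> simp [hx2, hg2]
  have := Finset.card_le_card h3
  rw [Finset.card_insert_of_notMem (by simp [hx1.symm, hg1.symm]), Finset.card_pair h1.symm] at this
  omega

/-- The dichotomy. -/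
theorem dichotomy (S : Sylow 2 G) (N : Subgroup ↥(S : Subgroup G)) [N.Normal] (hN : IsCyclic N)
    (hQ : IsCyclic (↥(S : Subgroup G) ⧸ N)) (hQ2 : 2 < Nat.card (↥(S : Subgroup G) ⧸ N)) :
    Cfsg.HasNormalPComplement 2 G ∨ ∃ n : ℕ, 2 ≤ n ∧
      Nonempty ((S : Subgroup G) ≃* Multiplicative (ZMod (2 ^ n) × ZMod (2 ^ n))) := by
  classical
  by_cases hcyc : IsCyclic (S : Subgroup G)
  · exact Or.inl (complement_of_cyclic S hcyc)
  have hm : Cfsg.IsMetacyclic (S : Subgroup G) := ⟨N, ‹_›, hN, hQ⟩
  set π := QuotientGroup.mk' N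
  have hQc : ∀ a b : ↥(S : Subgroup G) ⧸ N, a * b = b * a := fun a b =>
    (IsCyclic.commutative (α := ↥(S : Subgroup G) ⧸ N)).is_comm.comm a b
  have hπ := QuotientGroup.mk'_surjective N
  have hd : ¬ ∃ m : ℕ, Nonempty ((S : Subgroup G) ≃* DihedralGroup m) := by
    rintro ⟨m, ⟨e⟩⟩
    have := quotient_le_two (π.comp e.symm.toMonoidHom) (hπ.comp e.symm.surjective)
      (DihedralGroup.r 1) (DihedralGroup.sr 0) ?_ ?_ ?_
    · omega
    · rintro (i | i)
      · exact ⟨(i.cast : ℤ), Or.inl (by simp [ZMod.intCast_zmod_cast])⟩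
      · exact ⟨-(i.cast : ℤ), Or.inr (by simp [ZMod.intCast_zmod_cast])⟩
    · rw [← map_mul, DihedralGroup.sr_mul_self, map_one]
    · have h1 : (DihedralGroup.sr 0 : DihedralGroup m) * DihedralGroup.r 1 = DihedralGroup.sr 1 := by simp
      have h2 := congrArg (π.comp e.symm.toMonoidHom) (DihedralGroup.sr_mul_self (1 : ZMod m))
      have h3 := congrArg (π.comp e.symm.toMonoidHom) (DihedralGroup.sr_mul_self (0 : ZMod m))
      rw [← h1, map_mul, map_mul, map_one] at h2
      rw [map_mul, map_one] at h3
      set a := (π.comp e.symm.toMonoidHom) (DihedralGroup.sr 0)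
      set b := (π.comp e.symm.toMonoidHom) (DihedralGroup.r 1)
      have hab : a * b = b * a := hQc a b
      calc b * b = (a * a) * (b * b) := by rw [h3, one_mul]
        _ = a * (a * b) * b := by group
        _ = a * (b * a) * b := by rw [hab]
        _ = (a * b) * (a * b) := by group
        _ = 1 := h2
  have hq : ¬ ∃ m : ℕ, Nonempty ((S : Subgroup G) ≃* QuaternionGroup m) := by
    rintro ⟨m, ⟨e⟩⟩
    have : NeZero m := ⟨by
      rintro rfl
      have : Finite (QuaternionGroup 0) := Finite.of_equiv _ e.toEquiv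
      have : Finite (ZMod (2 * 0)) := Finite.of_injective QuaternionGroup.a (fun a b h => by injection h)
      exact not_finite (ZMod 0)⟩
    have ha : ∀ i : ZMod (2 * m), (QuaternionGroup.a 1 : QuaternionGroup m) ^ (i.val : ℤ) = QuaternionGroup.a i :=
      fun i => by rw [zpow_natCast, QuaternionGroup.a_one_pow, ZMod.natCast_zmod_val]
    set f := π.comp e.symm.toMonoidHom with hf
    have hx : f (QuaternionGroup.a 1) * f (QuaternionGroup.a 1) = 1 := by
      have h1 : (QuaternionGroup.xa 0 : QuaternionGroup m) * QuaternionGroup.a 1 =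
          QuaternionGroup.xa 1 := by simp
      have h2 : (QuaternionGroup.a 1 : QuaternionGroup m) * QuaternionGroup.xa 1 =
          QuaternionGroup.xa 0 := by simp
      have e1 := congrArg f h2
      rw [← h1, map_mul, map_mul] at e1
      set a := f (QuaternionGroup.a 1)
      set b := f (QuaternionGroup.xa 0)
      have hab : a * b = b * a := hQc a b
      have : b * (a * a) = b * 1 := by
        rw [mul_one]
        calc b * (a * a) = (b * a) * a := by group
          _ = (a * b) * a := by rw [hab]
          _ = a * (b * a) := by group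
          _ = b := e1
      exact mul_left_cancel this
    have hb : f (QuaternionGroup.xa 0) * f (QuaternionGroup.xa 0) = 1 := by
      have hsq : (QuaternionGroup.xa 0 : QuaternionGroup m) * QuaternionGroup.xa 0 =
          QuaternionGroup.a 1 ^ m := by simp [QuaternionGroup.a_one_pow]
      rw [← map_mul, hsq, map_pow]
      obtain ⟨k, hk⟩ := S.2.exists_card_eq
      have hc : Nat.card (QuaternionGroup m) = 4 * m ∨ m = 0 := by
        by_cases h0 : m = 0
        · exact Or.inr h0
        · have : NeZero m := ⟨h0⟩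
          exact Or.inl (by rw [Nat.card_eq_fintype_card, QuaternionGroup.card])
      rcases Nat.even_or_odd m with ⟨j, rfl⟩ | hodd
      · rw [pow_add, ← (Commute.refl _).mul_pow, hx, one_pow]
      · exfalso
        rcases hc with hc | rfl
        · rw [Nat.card_congr e.toEquiv, hc] at hk
          have hm1 : m = 1 := by
            have hd : m ∣ 2 ^ k := ⟨4, by rw [← hk]; ring⟩
            obtain ⟨i, -, rfl⟩ := (Nat.dvd_prime_pow Nat.prime_two).1 hd
            rcases i with _ | i
            · simp
            · exact absurd hodd (by simp [Nat.not_odd_iff_even, pow_succ])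
          subst hm1
          exact hcyc (e.isCyclic.2 (isCyclic_of_orderOf_eq_card (QuaternionGroup.xa 0)
            (by rw [QuaternionGroup.orderOf_xa, hc])))
        · exact absurd hodd (by decide)
    have := quotient_le_two f (hπ.comp e.symm.surjective) (QuaternionGroup.a 1)
      (QuaternionGroup.xa 0) ?_ hb hx
    · omega
    · rintro (i | i)
      · exact ⟨_, Or.inl (ha i).symm⟩
      · refine ⟨_, Or.inr (?_ : _ = (QuaternionGroup.a 1 : QuaternionGroup m) ^ (((-i).val : ℕ) : ℤ) * _)⟩
        rw [ha]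
        simp
  have hsd : ¬ Cfsg.IsQuasiDihedral (S : Subgroup G) := by
    rintro ⟨n, hn, hcard, x, y, hx, hy, hxy⟩
    have hyH : y ∉ Subgroup.zpowers x := by
      intro hmem
      obtain ⟨i, hi⟩ := hmem
      simp only at hi
      have hcom : y * x * y⁻¹ = x := by rw [← hi]; group
      rw [hcom] at hxy
      have hlt : 2 ^ (n - 1) - 1 < 2 ^ n := by
        have : 2 ^ (n - 1) < 2 ^ n := Nat.pow_lt_pow_right one_lt_two (by omega)
        have := Nat.two_pow_pos (n - 1)
        omega
      have h4 : 4 ≤ 2 ^ (n - 1) := by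
        calc 4 = 2 ^ 2 := rfl
          _ ≤ _ := Nat.pow_le_pow_right two_pos (by omega)
      have := pow_injOn_Iio_orderOf (show 1 < orderOf x by rw [hx]; omega)
        (show 2 ^ (n - 1) - 1 < orderOf x by rw [hx]; exact hlt) (show x ^ 1 = x ^ (2 ^ (n - 1) - 1) by rw [pow_one]; exact hxy)
      omega
    have := quotient_le_two π hπ x y ?_ ?_ ?_
    · omega
    · intro s
      have hind : (Subgroup.zpowers x).index = 2 := by
        have h := (Subgroup.zpowers x).index_mul_card
        rw [Nat.card_zpowers, hx, hcard, pow_succ, mul_comm (2 ^ n) 2] at h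
        exact Nat.eq_of_mul_eq_mul_right (by positivity) h
      by_cases hs : s ∈ Subgroup.zpowers x
      · obtain ⟨i, hi⟩ := hs
        exact ⟨i, Or.inl hi.symm⟩
      · have h := Subgroup.mul_mem_iff_of_index_two hind (a := s) (b := y⁻¹)
        have hyi : y⁻¹ ∉ Subgroup.zpowers x := fun h => hyH (by simpa using inv_mem h)
        obtain ⟨i, hi⟩ := h.2 (iff_of_false hs hyi)
        exact ⟨i, Or.inr (by rw [show x ^ i = s * y⁻¹ from hi]; group)⟩
    · rw [← map_mul, ← pow_two, (orderOf_eq_prime_iff.1 hy).1, map_one]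
    · have h := congrArg π hxy
      rw [map_mul, map_mul, map_inv, map_pow, hQc (π y) (π x),
        mul_inv_cancel_right] at h
      have hpow : π x ^ (2 ^ (n - 1) - 2) = 1 := by
        have h4 : 4 ≤ 2 ^ (n - 1) := by
          calc 4 = 2 ^ 2 := rfl
            _ ≤ _ := Nat.pow_le_pow_right two_pos (by omega)
        rw [show 2 ^ (n - 1) - 1 = (2 ^ (n - 1) - 2) + 1 by omega, pow_succ] at h
        exact mul_eq_right.1 h.symm
      have hord : orderOf (π x) ∣ Nat.gcd (2 ^ (n - 1) - 2) (2 ^ n) :=
        Nat.dvd_gcd (orderOf_dvd_of_pow_eq_one hpow) (hx ▸ orderOf_map_dvd π x)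
      obtain ⟨n', rfl⟩ : ∃ n', n = n' + 3 := ⟨n - 3, by omega⟩
      have hg : Nat.gcd (2 ^ (n' + 2) - 2) (2 ^ (n' + 3)) = 2 := by
        obtain ⟨r, hr⟩ : ∃ r, 2 ^ (n' + 2) - 2 = 2 * r ∧ Odd r :=
          ⟨2 ^ (n' + 1) - 1, by
            rw [pow_succ' 2 (n' + 1)]; omega, by
            rw [Nat.odd_iff, pow_succ']; have := Nat.two_pow_pos n'; omega⟩
        obtain ⟨hr, hodd⟩ := hr
        rw [hr, pow_succ' 2 (n' + 2), Nat.gcd_mul_left,
          show Nat.gcd r (2 ^ (n' + 2)) = 1 from ((Nat.coprime_two_right.2 hodd).pow_right _), mul_one]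
      rw [show n' + 3 - 1 = n' + 2 by omega, hg] at hord
      rw [← pow_two]
      exact orderOf_dvd_iff_pow_eq_one.1 hord
  by_cases hh : ∃ n k : ℕ, Nonempty (↥(S : Subgroup G) ≃* Multiplicative (Fin k → ZMod (2 ^ n)))
  · obtain ⟨n, k, ⟨e⟩⟩ := hh
    right
    have hab : ∀ a b : (S : Subgroup G), a * b = b * a := fun a b =>
      e.injective (by rw [map_mul, map_mul, mul_comm])
    have hn0 : n ≠ 0 := by
      rintro rfl
      have : Subsingleton (ZMod (2 ^ 0)) := inferInstanceAs (Subsingleton (ZMod 1))
      have : Subsingleton (S : Subgroup G) := e.toEquiv.subsingleton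
      exact hcyc inferInstance
    have hk2 : k ≤ 2 := by
      obtain ⟨g, hg⟩ := IsCyclic.exists_generator (α := N)
      obtain ⟨q, hq'⟩ := IsCyclic.exists_generator (α := ↥(S : Subgroup G) ⧸ N)
      obtain ⟨h, rfl⟩ := hπ q
      let r : Multiplicative (Fin k → ZMod (2 ^ n)) →* Multiplicative (Fin k → ZMod 2) :=
        AddMonoidHom.toMultiplicative
          ((ZMod.castHom (dvd_pow_self 2 hn0) (ZMod 2)).toAddMonoidHom.compLeft (Fin k))
      have hr : Function.Surjective r := fun y => by
        refine ⟨Multiplicative.ofAdd fun i => ((Multiplicative.toAdd y) i).val, ?_⟩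
        apply Multiplicative.toAdd.injective
        funext i
        simp [r]
      let φ := r.comp e.toMonoidHom
      have hφ : Function.Surjective φ := hr.comp e.surjective
      have h2 : ∀ y : Multiplicative (Fin k → ZMod 2), y * y = 1 := fun y =>
        Multiplicative.toAdd.injective (funext fun i => CharTwo.add_self_eq_zero _)
      let T : Finset (Multiplicative (Fin k → ZMod 2)) :=
        {1, φ g, φ h, φ g * φ h}
      have hcover : ∀ y, y ∈ T := by
        intro y
        obtain ⟨s, rfl⟩ := hφ y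
        obtain ⟨j, hj⟩ := hq' (π s)
        have hmem : (h ^ j)⁻¹ * s ∈ N := by
          rw [← QuotientGroup.eq]
          simpa [π] using hj
        obtain ⟨i, hi⟩ := hg ⟨_, hmem⟩
        have es : s = h ^ j * (g : (S : Subgroup G)) ^ i := by
          have := congrArg Subtype.val hi
          simp only [SubgroupClass.coe_zpow] at this
          rw [this]; group
        have par : ∀ (u : Multiplicative (Fin k → ZMod 2)) (z : ℤ), u ^ z = 1 ∨ u ^ z = u := by
          intro u z
          rcases Int.even_or_odd z with ⟨w, rfl⟩ | ⟨w, rfl⟩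
          · exact Or.inl (by rw [← two_mul, zpow_mul, zpow_two, h2, one_zpow])
          · exact Or.inr (by rw [zpow_add_one, zpow_mul, zpow_two, h2, one_zpow, one_mul])
        rw [es, map_mul, map_zpow, map_zpow]
        rcases par (φ h) j with a | a <;> rcases par (φ g) i with b | b <;> rw [a, b] <;>
          simp [T, mul_comm]
      have hc := Finset.card_le_card (fun y _ => hcover y : Finset.univ ⊆ T)
      have hT : T.card ≤ 4 := Finset.card_le_four
      rw [Finset.card_univ] at hc
      simp only [Fintype.card_multiplicative, Fintype.card_fun, ZMod.card, Fintype.card_fin] at hc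
      by_contra hk
      have : 2 ^ 3 ≤ 2 ^ k := Nat.pow_le_pow_right two_pos (by omega)
      omega
    interval_cases k
    · have : Subsingleton (S : Subgroup G) := e.toEquiv.subsingleton
      exact absurd (inferInstance : IsCyclic (S : Subgroup G)) hcyc
    · let e1 : (S : Subgroup G) ≃* Multiplicative (ZMod (2 ^ n)) :=
        e.trans (AddEquiv.toMultiplicative
          (AddEquiv.mk (Equiv.funUnique (Fin 1) (ZMod (2 ^ n))) (fun _ _ => rfl)))
      exact absurd (e1.isCyclic.2 inferInstance) hcyc
    · let e2 : (S : Subgroup G) ≃* Multiplicative (ZMod (2 ^ n) × ZMod (2 ^ n)) :=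
        e.trans (AddEquiv.toMultiplicative
          (LinearEquiv.finTwoArrow (ZMod (2 ^ n)) (ZMod (2 ^ n))).toAddEquiv)
      refine ⟨n, ?_, ⟨e2⟩⟩
      by_contra hlt
      have hn1 : n = 1 := by omega
      subst hn1
      have h2 : ∀ s : (S : Subgroup G), s * s = 1 := fun s => e2.injective (by
        rw [map_mul, map_one]
        apply Multiplicative.toAdd.injective
        exact Prod.ext (CharTwo.add_self_eq_zero (R := ZMod 2) _) (CharTwo.add_self_eq_zero (R := ZMod 2) _))
      have := card_le_two (A := ↥(S : Subgroup G) ⧸ N) fun a => by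
        obtain ⟨s, rfl⟩ := hπ a
        rw [← map_mul, h2, map_one]
      omega
  left
  have hF := CfsgLib.Fusion.group_isSaturated (S := S)
  have hall := Cfsg.Agent.S5212.result S.2 (Cfsg.groupFusionSystem (S : Subgroup G)) hF hm hh hd hq hsd
  refine CfsgLib.Transfer.hasNormalPComplement_of_controls_fusion S fun x hx y hy ⟨g, hg⟩ => ?_
  have hP : Subgroup.zpowers x ≤ (S : Subgroup G) := Subgroup.zpowers_le.2 hx
  let φ : Subgroup.zpowers x →* G :=
    (MulAut.conj g).toMonoidHom.comp (Subgroup.zpowers x).subtype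
  have hφ : φ ∈ (Cfsg.groupFusionSystem (S : Subgroup G)).Hom (Subgroup.zpowers x) := by
    refine ⟨hP, fun ⟨a, i, hi⟩ => ?_, g, fun a => rfl⟩
    show g * a * g⁻¹ ∈ (S : Subgroup G)
    simp only at hi
    rw [← hi, ← conj_zpow, hg]
    exact Subgroup.zpow_mem _ hy i
  rw [hall] at hφ
  obtain ⟨-, z, hz, he⟩ := hφ
  exact ⟨z, hz, (he ⟨x, Subgroup.mem_zpowers x⟩).symm.trans hg⟩

end CfsgLib.Invol.MetacyclicTwo
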