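import Cfsg.Prelude.Def_Transfer
import Mathlib

/-!
The faithful irreducible module over `F₂` of a group `3² : D₈`.
-/

set_option autoImplicit false
set_option linter.style.haveILetI false
set_option linter.unusedSectionVars false

namespace CfsgLib.Invol

open Subgroup

namespace NineDihedral

variable {S : Type*} [Group S] {A X : Subgroup S}

/-- A basis of `A` with signed permutations in `X`. -/
structure Frame (A X : Subgroup S) where
  a1 : S
  a2 : S
  u : S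
  v : S
  s : S
  ha1 : a1 ∈ A
  ha2 : a2 ∈ A
  hu : u ∈ X
  hv : v ∈ X
  hs : s ∈ X
  p1 : a1 ^ 3 = 1
  p2 : a2 ^ 3 = 1
  comm : a1 * a2 = a2 * a1
  gen : ∀ a ∈ A, ∃ i j : ℕ, a = a1 ^ i * a2 ^ j
  u1 : u * a1 * u⁻¹ = a1⁻¹
  u2 : u * a2 * u⁻¹ = a2
  v1 : v * a1 * v⁻¹ = a1
  v2 : v * a2 * v⁻¹ = a2⁻¹
  s1 : s * a1 * s⁻¹ = a2
  s2 : s * a2 * s⁻¹ = a1
  cover : X ≤ Subgroup.closure {u, v, s}

theorem Frame.eq_of_conj (F : Frame A X) (hAX : A ⊓ X = ⊥)
    (hAC : Subgroup.centralizer (A : Set S) = A) {x y : S} (hx : x ∈ X) (hy : y ∈ X)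
    (h1 : x * F.a1 * x⁻¹ = y * F.a1 * y⁻¹) (h2 : x * F.a2 * x⁻¹ = y * F.a2 * y⁻¹) : x = y := by
  have hcomm : ∀ a, x * a * x⁻¹ = y * a * y⁻¹ → Commute (y⁻¹ * x) a := fun a h => by
    have h3 : y⁻¹ * (x * a * x⁻¹) * x = y⁻¹ * (y * a * y⁻¹) * x := by rw [h]
    show y⁻¹ * x * a = a * (y⁻¹ * x)
    simpa [mul_assoc] using h3
  have hC : y⁻¹ * x ∈ centralizer (A : Set S) := by
    rw [mem_centralizer_iff]
    intro a ha
    obtain ⟨i, j, rfl⟩ := F.gen a ha
    exact (((hcomm _ h1).pow_right i).mul_right ((hcomm _ h2).pow_right j)).symm.eq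
  rw [hAC] at hC
  have h4 : y⁻¹ * x ∈ A ⊓ X := Subgroup.mem_inf.2 ⟨hC, mul_mem (inv_mem hy) hx⟩
  rw [hAX, mem_bot, inv_mul_eq_one] at h4
  exact h4.symm

theorem conj_mul_apply (x y a : S) : x * y * a * (x * y)⁻¹ = x * (y * a * y⁻¹) * x⁻¹ := by
  rw [mul_inv_rev]; simp only [mul_assoc]

theorem conj_inv_apply (x a : S) : x * a⁻¹ * x⁻¹ = (x * a * x⁻¹)⁻¹ := by
  rw [mul_inv_rev, mul_inv_rev, inv_inv, mul_assoc]

theorem Frame.rels (F : Frame A X) (hAX : A ⊓ X = ⊥)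
    (hAC : Subgroup.centralizer (A : Set S) = A) :
    F.u * F.u = 1 ∧ F.v * F.v = 1 ∧ F.s * F.s = 1 ∧ F.u * F.v = F.v * F.u ∧
      F.s * F.u = F.v * F.s ∧ F.s * F.v = F.u * F.s := by
  refine ⟨?_, ?_, ?_, ?_, ?_, ?_⟩
  · refine F.eq_of_conj hAX hAC (mul_mem F.hu F.hu) (one_mem X) ?_ ?_ <;>
      simp only [conj_mul_apply, conj_inv_apply, F.u1, F.u2, one_mul, inv_one, mul_one, inv_inv]
  · refine F.eq_of_conj hAX hAC (mul_mem F.hv F.hv) (one_mem X) ?_ ?_ <;>
      simp only [conj_mul_apply, conj_inv_apply, F.v1, F.v2, one_mul, inv_one, mul_one, inv_inv]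
  · refine F.eq_of_conj hAX hAC (mul_mem F.hs F.hs) (one_mem X) ?_ ?_ <;>
      simp only [conj_mul_apply, F.s1, F.s2, one_mul, inv_one, mul_one]
  · refine F.eq_of_conj hAX hAC (mul_mem F.hu F.hv) (mul_mem F.hv F.hu) ?_ ?_ <;>
      simp only [conj_mul_apply, conj_inv_apply, F.u1, F.u2, F.v1, F.v2]
  · refine F.eq_of_conj hAX hAC (mul_mem F.hs F.hu) (mul_mem F.hv F.hs) ?_ ?_ <;>
      simp only [conj_mul_apply, conj_inv_apply, F.u1, F.u2, F.v1, F.v2, F.s1, F.s2]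
  · refine F.eq_of_conj hAX hAC (mul_mem F.hs F.hv) (mul_mem F.hu F.hs) ?_ ?_ <;>
      simp only [conj_mul_apply, conj_inv_apply, F.u1, F.u2, F.v1, F.v2, F.s1, F.s2]

/-- The frame on the other two lines. -/
theorem Frame.swapLines (F : Frame A X) (hAX : A ⊓ X = ⊥)
    (hAC : Subgroup.centralizer (A : Set S) = A) :
    ∃ F' : Frame A X, F'.a1 = F.a1 * F.a2 ∧ F'.a2 = F.a1 * F.a2⁻¹ := by
  obtain ⟨huu, hvv, hss, huv, hsu, hsv⟩ := F.rels hAX hAC
  have hc : Commute F.a1 F.a2 := F.comm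
  have cm : ∀ (x a b : S), x * (a * b) * x⁻¹ = x * a * x⁻¹ * (x * b * x⁻¹) := fun x a b => by
    simp [mul_assoc]
  have hgen : ∀ a ∈ A, ∃ i j : ℕ, a = (F.a1 * F.a2) ^ i * (F.a1 * F.a2⁻¹) ^ j := by
    intro a ha
    obtain ⟨i, j, rfl⟩ := F.gen a ha
    refine ⟨2 * i + 2 * j, 2 * i + j, ?_⟩
    have h1 : ∀ (z : S) (n k : ℕ), z ^ 3 = 1 → z ^ (3 * n + k) = z ^ k := fun z n k hz => by
      rw [pow_add, pow_mul, hz, one_pow, one_mul]
    have h2 : F.a2⁻¹ = F.a2 ^ 2 := inv_eq_of_mul_eq_one_right (by rw [← pow_succ']; exact F.p2)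
    rw [h2, hc.mul_pow, (hc.pow_right 2).mul_pow, ← pow_mul]
    calc F.a1 ^ i * F.a2 ^ j
        = F.a1 ^ (3 * (i + j) + i) * F.a2 ^ (3 * (2 * i + j) + j) := by
          rw [h1 _ _ _ F.p1, h1 _ _ _ F.p2]
      _ = F.a1 ^ (2 * i + 2 * j) * (F.a1 ^ (2 * i + j) *
            (F.a2 ^ (2 * i + 2 * j) * F.a2 ^ (2 * (2 * i + j)))) := by
          rw [← mul_assoc, ← pow_add, ← pow_add]
          congr 2 <;> ring
      _ = _ := by
          rw [← mul_assoc (F.a1 ^ (2 * i + j)), ((hc.pow_pow _ _)).eq]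
          simp only [mul_assoc]
  refine ⟨{ a1 := F.a1 * F.a2, a2 := F.a1 * F.a2⁻¹, u := F.s * (F.u * F.v), v := F.s, s := F.v,
            ha1 := mul_mem F.ha1 F.ha2, ha2 := mul_mem F.ha1 (inv_mem F.ha2),
            hu := mul_mem F.hs (mul_mem F.hu F.hv), hv := F.hs, hs := F.hv,
            p1 := ?_, p2 := ?_, comm := ?_, gen := hgen, u1 := ?_, u2 := ?_, v1 := ?_, v2 := ?_,
            s1 := ?_, s2 := ?_, cover := ?_ }, rfl, rfl⟩
  · rw [hc.mul_pow, F.p1, F.p2, one_mul]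
  · rw [hc.inv_right.mul_pow, F.p1, inv_pow, F.p2, inv_one, one_mul]
  · exact (((Commute.refl F.a1).mul_right hc.inv_right).mul_left
      (hc.symm.mul_right (Commute.refl F.a2).inv_right)).eq
  · rw [conj_mul_apply, conj_mul_apply, cm F.v F.a1, F.v1, F.v2, cm F.u F.a1, F.u1,
      conj_inv_apply F.u, F.u2, cm F.s F.a1⁻¹, conj_inv_apply F.s F.a1, conj_inv_apply F.s F.a2,
      F.s1, F.s2, mul_inv_rev]
  · rw [conj_mul_apply, conj_mul_apply, cm F.v F.a1, conj_inv_apply F.v, F.v1, F.v2, inv_inv,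
      cm F.u F.a1, F.u1, F.u2, cm F.s F.a1⁻¹, conj_inv_apply F.s F.a1, F.s1, F.s2]
    exact hc.symm.inv_left.eq
  · simp only [cm, F.s1, F.s2]; exact hc.symm.eq
  · simp only [cm, conj_inv_apply, F.s1, F.s2, mul_inv_rev, inv_inv]
  · simp only [cm, F.v1, F.v2]
  · simp only [cm, conj_inv_apply, F.v1, F.v2, inv_inv]
  · refine F.cover.trans ((closure_le _).2 ?_)
    set K := Subgroup.closure ({F.s * (F.u * F.v), F.s, F.v} : Set S)
    have h1 : F.s * (F.u * F.v) ∈ K := subset_closure (by simp)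
    have h2 : F.s ∈ K := subset_closure (by simp)
    have h3 : F.v ∈ K := subset_closure (by simp)
    rintro _ (rfl | rfl | rfl)
    · have h4 := mul_mem (mul_mem (inv_mem h2) h1) (inv_mem h3)
      simpa [mul_assoc] using h4
    · exact h3
    · exact h2

theorem exists_frame [Finite S] [A.Normal] (hA : Cfsg.IsElementaryAbelian 3 A)
    (hA9 : Nat.card A = 9) (hAX : A ⊓ X = ⊥) (hAC : Subgroup.centralizer (A : Set S) = A)
    (e : X ≃* DihedralGroup 4) : Nonempty (Frame A X) := by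
  haveI : Fact (Nat.Prime 3) := ⟨Nat.prime_three⟩
  haveI := hA.1
  have hcomm : ∀ a ∈ A, ∀ b ∈ A, a * b = b * a := fun a ha b hb =>
    congrArg Subtype.val (hA.1.is_comm.comm (⟨a, ha⟩ : A) ⟨b, hb⟩)
  have hconjA : ∀ (x : S), ∀ a ∈ A, x * a * x⁻¹ ∈ A := fun x a ha =>
    (inferInstance : A.Normal).conj_mem a ha x
  have hcm : ∀ (x a b : S), x * (a * b) * x⁻¹ = x * a * x⁻¹ * (x * b * x⁻¹) := fun x a b => by
    simp [mul_assoc]
  have hinj : ∀ x ∈ X, (∀ a ∈ A, x * a * x⁻¹ = a) → x = 1 := fun x hx h => by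
    have hC : x ∈ centralizer (A : Set S) := mem_centralizer_iff.2 fun a ha => by
      have h3 := h a ha
      rw [mul_inv_eq_iff_eq_mul] at h3
      exact h3.symm
    rw [hAC] at hC
    have h4 : x ∈ A ⊓ X := ⟨hC, hx⟩
    rwa [hAX, mem_bot] at h4
  set z : S := (e.symm (DihedralGroup.r 2) : S)
  set f : S := (e.symm (DihedralGroup.sr 0) : S)
  set x : S := (e.symm (DihedralGroup.r 1) : S)
  have hval : ∀ a b : DihedralGroup 4, ((e.symm (a * b) : X) : S) = (e.symm a : S) * (e.symm b : S) :=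
    fun a b => by rw [map_mul]; rfl
  have hone : ((e.symm 1 : X) : S) = 1 := by rw [map_one]; rfl
  have hne : ∀ a : DihedralGroup 4, a ≠ 1 → ((e.symm a : X) : S) ≠ 1 := fun a ha h =>
    ha (e.symm.injective (Subtype.ext (h.trans hone.symm)))
  have hz1 : z ≠ 1 := hne _ (by decide)
  have hzz : z * z = 1 := by
    rw [← hval, show (DihedralGroup.r 2 * DihedralGroup.r 2 : DihedralGroup 4) = 1 by decide, hone]
  have hf1 : f ≠ 1 := hne _ (by decide)
  have hff : f * f = 1 := by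
    rw [← hval, show (DihedralGroup.sr 0 * DihedralGroup.sr 0 : DihedralGroup 4) = 1 by decide, hone]
  have hzf : z * f = f * z := by
    rw [← hval, ← hval, show (DihedralGroup.r 2 * DihedralGroup.sr 0 : DihedralGroup 4) =
      DihedralGroup.sr 0 * DihedralGroup.r 2 by decide]
  have hzf1 : z * f ≠ 1 := by rw [← hval]; exact hne _ (by decide)
  have hzx : x * z = z * x := by
    rw [← hval, ← hval, show (DihedralGroup.r 1 * DihedralGroup.r 2 : DihedralGroup 4) =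
      DihedralGroup.r 2 * DihedralGroup.r 1 by decide]
  have hxf : x * f = z * f * x := by
    rw [← hval, ← hval, ← hval, show (DihedralGroup.r 1 * DihedralGroup.sr 0 : DihedralGroup 4) =
      DihedralGroup.r 2 * DihedralGroup.sr 0 * DihedralGroup.r 1 by decide]
  have hxne : ∀ w : S, w ∈ ({1, z, f, z * f} : Set S) → x ≠ w := by
    intro w hw hxw
    have h5 : ∀ a : DihedralGroup 4, a ≠ DihedralGroup.r 1 → x ≠ (e.symm a : S) := fun a ha h =>
      ha (e.symm.injective (Subtype.ext h)).symm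
    rcases hw with rfl | rfl | rfl | rfl
    · exact h5 1 (by decide) (hxw.trans hone.symm)
    · exact h5 _ (by decide) hxw
    · exact h5 _ (by decide) hxw
    · exact h5 (DihedralGroup.r 2 * DihedralGroup.sr 0) (by decide) (hxw.trans (hval _ _).symm)
  let E : Set S := {1, z, f, z * f}
  have hEX : ∀ w ∈ E, w ∈ X := by
    rintro w (rfl | rfl | rfl | rfl)
    · exact one_mem X
    · exact SetLike.coe_mem _
    · exact SetLike.coe_mem _
    · exact mul_mem (SetLike.coe_mem _) (SetLike.coe_mem _)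
  have hEinv : ∀ w ∈ E, w * w = 1 := by
    rintro w (rfl | rfl | rfl | rfl)
    · exact one_mul 1
    · exact hzz
    · exact hff
    · rw [show z * f * (z * f) = z * (f * z) * f by simp [mul_assoc], ← hzf,
        show z * (z * f) * f = z * z * (f * f) by simp [mul_assoc], hzz, hff, one_mul]
  have hEab : ∀ w ∈ E, ∀ w' ∈ E, w * w' = w' * w := by
    have h1 : Commute z f := hzf
    rintro w (rfl | rfl | rfl | rfl) w' (rfl | rfl | rfl | rfl)
    all_goals first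
      | rfl | simp
      | exact h1.eq | exact h1.symm.eq
      | exact ((Commute.refl z).mul_right h1).eq | exact ((Commute.refl z).mul_left h1.symm).eq
      | exact (h1.symm.mul_right (Commute.refl f)).eq | exact (h1.mul_left (Commute.refl f)).eq
  have hEmul : ∀ w ∈ E, ∀ w' ∈ E, w * w' ∈ E := by
    have h1 : Commute z f := hzf
    rintro w (rfl | rfl | rfl | rfl) w' (rfl | rfl | rfl | rfl)
    all_goals simp only [E, Set.mem_insert_iff, Set.mem_singleton_iff, one_mul, mul_one]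
    · simp
    · simp
    · simp
    · simp
    · simp
    · simp [hzz]
    · simp
    · right; right; left; rw [← mul_assoc, hzz, one_mul]
    · simp
    · right; right; right; exact hzf.symm
    · simp [hff]
    · right; left; rw [← mul_assoc, ← hzf, mul_assoc, hff, mul_one]
    · simp
    · right; right; left; rw [mul_assoc, ← hzf, ← mul_assoc, hzz, one_mul]
    · right; left; rw [mul_assoc, hff, mul_one]
    · left; exact hEinv _ (by simp [E])
  -- one of them is not inversion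
  obtain ⟨g, hgE, hg1, a0, ha0, hg0⟩ : ∃ g ∈ E, g ≠ 1 ∧ ∃ a ∈ A, g * a * g⁻¹ ≠ a⁻¹ := by
    by_contra hno
    push Not at hno
    apply hzf1
    refine hinj _ (hEX _ (by simp [E])) fun a ha => ?_
    have h1 := hno z (by simp [E]) hz1 a ha
    have h2 := hno f (by simp [E]) hf1 a ha
    rw [conj_mul_apply, h2, conj_inv_apply, h1, inv_inv]
  have hgg := hEinv g hgE
  have hgga : ∀ a, g * (g * a * g⁻¹) * g⁻¹ = a := fun a => by
    rw [← conj_mul_apply, hgg, one_mul, inv_one, mul_one]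
  set a2 := a0 * (g * a0 * g⁻¹) with ha2def
  have ha2 : a2 ∈ A := mul_mem ha0 (hconjA g a0 ha0)
  have hga2 : g * a2 * g⁻¹ = a2 := by
    rw [ha2def, hcm, hgga]
    exact hcomm _ (hconjA g a0 ha0) _ ha0
  have ha2ne : a2 ≠ 1 := fun h => hg0 (eq_inv_of_mul_eq_one_right h)
  obtain ⟨b0, hb0, hgb⟩ : ∃ b ∈ A, g * b * g⁻¹ ≠ b := by
    by_contra hno
    push Not at hno
    exact hg1 (hinj g (hEX g hgE) hno)
  set a1 := b0 * (g * b0 * g⁻¹)⁻¹ with ha1def
  have ha1 : a1 ∈ A := mul_mem hb0 (inv_mem (hconjA g b0 hb0))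
  have hga1 : g * a1 * g⁻¹ = a1⁻¹ := by
    rw [ha1def, hcm, conj_inv_apply, hgga, mul_inv_rev, inv_inv]
  have ha1ne : a1 ≠ 1 := fun h => hgb (mul_inv_eq_one.1 h).symm
  have hp : ∀ a ∈ A, a ^ 3 = 1 := hA.2
  have hord : ∀ a ∈ A, a ≠ 1 → orderOf a = 3 := fun a ha h =>
    orderOf_eq_prime (hp a ha) h
  have hc12 : Commute a1 a2 := hcomm _ ha1 _ ha2
  have key : ∀ i j k l : ℕ, a1 ^ i * a2 ^ j = a1 ^ k * a2 ^ l → a1 ^ i = a1 ^ k ∧ a2 ^ j = a2 ^ l := by
    intro i j k l hij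
    have h1 := congrArg (fun w => g * w * g⁻¹) hij
    simp only [hcm, ← conj_pow, hga1, hga2, inv_pow] at h1
    have h2 : a2 ^ j * a2 ^ j = a2 ^ l * a2 ^ l := by
      have h3 : (a1 ^ i * a2 ^ j) * ((a1 ^ i)⁻¹ * a2 ^ j) =
          (a1 ^ k * a2 ^ l) * ((a1 ^ k)⁻¹ * a2 ^ l) := by rw [hij, h1]
      rw [show ∀ i j : ℕ, (a1 ^ i * a2 ^ j) * ((a1 ^ i)⁻¹ * a2 ^ j) = a2 ^ j * a2 ^ j from
        fun i j => by
          rw [← mul_assoc, (hc12.pow_pow i j).eq, mul_inv_cancel_right],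
        show (a1 ^ k * a2 ^ l) * ((a1 ^ k)⁻¹ * a2 ^ l) = a2 ^ l * a2 ^ l by
          rw [← mul_assoc, (hc12.pow_pow k l).eq, mul_inv_cancel_right]] at h3
      exact h3
    have h4 : ∀ w ∈ A, w = (w * w) * (w * w) := fun w hw => by
      rw [show (w * w) * (w * w) = w ^ 3 * w by simp [pow_succ, mul_assoc], hp w hw, one_mul]
    have h5 : a2 ^ j = a2 ^ l := by
      rw [h4 _ (pow_mem ha2 j), h4 (a2 ^ l) (pow_mem ha2 l), h2]
    exact ⟨mul_right_cancel (h5 ▸ hij), h5⟩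
  have hbij : Function.Bijective fun q : Fin 3 × Fin 3 =>
      (⟨a1 ^ (q.1 : ℕ) * a2 ^ (q.2 : ℕ), mul_mem (pow_mem ha1 _) (pow_mem ha2 _)⟩ : A) := by
    refine (Nat.bijective_iff_injective_and_card _).2 ⟨fun q q' hq => ?_, by
      rw [hA9]; simp⟩
    obtain ⟨h1, h2⟩ := key _ _ _ _ (congrArg Subtype.val hq)
    refine Prod.ext (Fin.ext ?_) (Fin.ext ?_)
    · exact pow_injOn_Iio_orderOf (by rw [Set.mem_Iio, hord _ ha1 ha1ne]; exact q.1.2)
        (by rw [Set.mem_Iio, hord _ ha1 ha1ne]; exact q'.1.2) h1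
    · exact pow_injOn_Iio_orderOf (by rw [Set.mem_Iio, hord _ ha2 ha2ne]; exact q.2.2)
        (by rw [Set.mem_Iio, hord _ ha2 ha2ne]; exact q'.2.2) h2
  have hgen : ∀ a ∈ A, ∃ i j : ℕ, a = a1 ^ i * a2 ^ j := fun a ha => by
    obtain ⟨q, hq⟩ := hbij.2 ⟨a, ha⟩
    exact ⟨q.1, q.2, (congrArg Subtype.val hq).symm⟩
  have hself : ∀ a ∈ A, a⁻¹ = a → a = 1 := fun a ha h => by
    have h2 : a * a = 1 := by
      calc a * a = a⁻¹ * a := by rw [h]
        _ = 1 := inv_mul_cancel a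
    have h3 := hp a ha
    rwa [pow_succ, pow_two, h2, one_mul] at h3
  have hfix : ∀ a ∈ A, g * a * g⁻¹ = a → ∃ j : ℕ, a = a2 ^ j := by
    intro a ha hfa
    obtain ⟨i, j, rfl⟩ := hgen a ha
    rw [hcm, ← conj_pow, ← conj_pow, hga1, hga2, inv_pow] at hfa
    exact ⟨j, by rw [hself _ (pow_mem ha1 i) (mul_right_cancel hfa), one_mul]⟩
  have hinvl : ∀ a ∈ A, g * a * g⁻¹ = a⁻¹ → ∃ i : ℕ, a = a1 ^ i := by
    intro a ha hfa
    obtain ⟨i, j, rfl⟩ := hgen a ha
    rw [hcm, ← conj_pow, ← conj_pow, hga1, hga2, inv_pow, mul_inv_rev,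
      ((hc12.pow_pow i j).inv_inv).symm.eq] at hfa
    exact ⟨i, by rw [hself _ (pow_mem ha2 j) (mul_left_cancel hfa).symm, mul_one]⟩
  have hpm : ∀ a ∈ A, a ≠ 1 → ∀ i : ℕ, a ^ i ≠ 1 → a ^ i = a ∨ a ^ i = a⁻¹ := by
    intro a ha hne i hi
    have h1 : a ^ i = a ^ (i % 3) := by
      conv_lhs => rw [← Nat.div_add_mod i 3, pow_add, pow_mul, hp a ha, one_pow, one_mul]
    rcases (show i % 3 = 0 ∨ i % 3 = 1 ∨ i % 3 = 2 by omega) with h2 | h2 | h2 <;> rw [h2] at h1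
    · rw [pow_zero] at h1; exact absurd h1 hi
    · rw [pow_one] at h1; exact Or.inl h1
    · refine Or.inr (h1.trans (eq_inv_of_mul_eq_one_left ?_))
      rw [← pow_succ]; exact hp a ha
  have hconj_ne : ∀ w a : S, a ≠ 1 → w * a * w⁻¹ ≠ 1 := fun w a ha h => ha (conj_eq_one_iff.1 h)
  have hsign : ∀ w ∈ E, (w * a1 * w⁻¹ = a1 ∨ w * a1 * w⁻¹ = a1⁻¹) ∧
      (w * a2 * w⁻¹ = a2 ∨ w * a2 * w⁻¹ = a2⁻¹) := by
    intro w hw
    have hgw := hEab g hgE w hw
    constructor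
    · obtain ⟨i, hi⟩ := hinvl _ (hconjA w a1 ha1) (by
        rw [← conj_mul_apply, hgw, conj_mul_apply, hga1, conj_inv_apply])
      rw [hi]
      exact hpm a1 ha1 ha1ne i (hi ▸ hconj_ne w a1 ha1ne)
    · obtain ⟨j, hj⟩ := hfix _ (hconjA w a2 ha2) (by
        rw [← conj_mul_apply, hgw, conj_mul_apply, hga2])
      rw [hj]
      exact hpm a2 ha2 ha2ne j (hj ▸ hconj_ne w a2 ha2ne)
  have hext : ∀ w ∈ X, ∀ w' ∈ X, w * a1 * w⁻¹ = w' * a1 * w'⁻¹ → w * a2 * w⁻¹ = w' * a2 * w'⁻¹ →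
      w = w' := by
    intro w hw w' hw' h1 h2
    have hcc : ∀ a, w * a * w⁻¹ = w' * a * w'⁻¹ → w'⁻¹ * w * a * (w'⁻¹ * w)⁻¹ = a := fun a h => by
      rw [conj_mul_apply, h]; simp [mul_assoc]
    refine (inv_mul_eq_one.1 (hinj (w'⁻¹ * w) (mul_mem (inv_mem hw') hw) fun a ha => ?_)).symm
    obtain ⟨i, j, rfl⟩ := hgen a ha
    rw [hcm, ← conj_pow, ← conj_pow, hcc _ h1, hcc _ h2]
  -- the other reflection
  obtain ⟨v, hvE, hv1, hv2⟩ : ∃ v ∈ E, v * a1 * v⁻¹ = a1 ∧ v * a2 * v⁻¹ = a2⁻¹ := by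
    obtain ⟨h, hhE, hh1, hhg⟩ : ∃ h ∈ E, h ≠ 1 ∧ h ≠ g := by
      by_cases hzg : z = g
      · exact ⟨f, by simp [E], hf1, fun h' => hzf1 (by rw [h', hzg, hgg])⟩
      · exact ⟨z, by simp [E], hz1, hzg⟩
    obtain ⟨h1, h2⟩ := hsign h hhE
    rcases h2 with h2 | h2
    · exfalso
      rcases h1 with h1 | h1
      · exact hh1 (hext h (hEX h hhE) 1 (one_mem X) (by simpa using h1) (by simpa using h2))
      · exact hhg (hext h (hEX h hhE) g (hEX g hgE) (h1.trans hga1.symm) (h2.trans hga2.symm))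
    rcases h1 with h1 | h1
    · exact ⟨h, hhE, h1, h2⟩
    · refine ⟨h * g, hEmul h hhE g hgE, ?_, ?_⟩
      · rw [conj_mul_apply, hga1, conj_inv_apply, h1, inv_inv]
      · rw [conj_mul_apply, hga2, h2]
  -- `x` exchanges the two lines
  have hxE : ∀ w ∈ E, ∃ w' ∈ E, w * x = x * w' := by
    have hx2 : x * (z * f) = f * x := by
      rw [← mul_assoc, hzx, mul_assoc, hxf, ← mul_assoc, ← mul_assoc, hzz, one_mul]
    rintro w (rfl | rfl | rfl | rfl)
    · exact ⟨1, by simp [E], by simp⟩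
    · exact ⟨z, by simp [E], hzx.symm⟩
    · exact ⟨z * f, by simp [E], hx2.symm⟩
    · exact ⟨f, by simp [E], hxf.symm⟩
  have hxX : x ∈ X := SetLike.coe_mem _
  have hline : ∀ b ∈ A, (∀ w ∈ E, w * b * w⁻¹ = b ∨ w * b * w⁻¹ = b⁻¹) →
      ∀ w ∈ E, w * (x * b * x⁻¹) * w⁻¹ = x * b * x⁻¹ ∨
        w * (x * b * x⁻¹) * w⁻¹ = (x * b * x⁻¹)⁻¹ := by
    intro b hb hb' w hw
    obtain ⟨w', hw', hwx⟩ := hxE w hw
    rw [← conj_mul_apply, hwx, conj_mul_apply]
    rcases hb' w' hw' with h1 | h1 <;> rw [h1]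
    · exact Or.inl rfl
    · exact Or.inr (conj_inv_apply x b)
  have hwhich : ∀ b ∈ A, b ≠ 1 → (∀ w ∈ E, w * b * w⁻¹ = b ∨ w * b * w⁻¹ = b⁻¹) →
      (b = a1 ∨ b = a1⁻¹) ∨ (b = a2 ∨ b = a2⁻¹) := by
    intro b hb hbne h
    rcases h g hgE with h1 | h1
    · obtain ⟨j, rfl⟩ := hfix b hb h1
      exact Or.inr (hpm a2 ha2 ha2ne j hbne)
    · obtain ⟨i, rfl⟩ := hinvl b hb h1
      exact Or.inl (hpm a1 ha1 ha1ne i hbne)
  have hh1 := hwhich _ (hconjA x a1 ha1) (hconj_ne x a1 ha1ne)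
    (hline a1 ha1 fun w hw => (hsign w hw).1)
  have hh2 := hwhich _ (hconjA x a2 ha2) (hconj_ne x a2 ha2ne)
    (hline a2 ha2 fun w hw => (hsign w hw).2)
  have hkeep : ∀ {b c : S}, (x * b * x⁻¹ = c ∨ x * b * x⁻¹ = c⁻¹) →
      ∀ {d : S}, (x * d * x⁻¹ = c ∨ x * d * x⁻¹ = c⁻¹) → d = b ∨ d = b⁻¹ := by
    intro b c hbc d hdc
    have hi : ∀ {p q : S}, x * p * x⁻¹ = x * q * x⁻¹ → p = q := fun h =>
      mul_left_cancel (mul_right_cancel h)
    rcases hbc with hbc | hbc <;> rcases hdc with hdc | hdc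
    · exact Or.inl (hi (hdc.trans hbc.symm))
    · exact Or.inr (hi (by rw [hdc, conj_inv_apply, hbc]))
    · exact Or.inr (hi (by rw [hdc, conj_inv_apply, hbc, inv_inv]))
    · exact Or.inl (hi (hdc.trans hbc.symm))
  have hne12 : a2 ≠ a1 ∧ a2 ≠ a1⁻¹ := by
    have hnf : g * a1 * g⁻¹ ≠ a1 := fun h => ha1ne (hself _ ha1 (hga1.symm.trans h))
    refine ⟨fun h => hnf (h ▸ hga2), fun h => hnf ?_⟩
    have h1 := hga2
    rw [h, conj_inv_apply, inv_inj] at h1
    exact h1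
  have hs12 : (x * a1 * x⁻¹ = a2 ∨ x * a1 * x⁻¹ = a2⁻¹) ∧
      (x * a2 * x⁻¹ = a1 ∨ x * a2 * x⁻¹ = a1⁻¹) := by
    rcases hh1 with hh1 | hh1 <;> rcases hh2 with hh2 | hh2
    · exact absurd (hkeep hh1 hh2) (not_or.2 hne12)
    · exfalso
      obtain ⟨w, hw, hw1, hw2⟩ : ∃ w ∈ E, w * a1 * w⁻¹ = x * a1 * x⁻¹ ∧
          w * a2 * w⁻¹ = x * a2 * x⁻¹ := by
        rcases hh1 with h1 | h1 <;> rcases hh2 with h2 | h2
        · exact ⟨1, by simp [E], by rw [h1]; simp, by rw [h2]; simp⟩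
        · exact ⟨v, hvE, hv1.trans h1.symm, hv2.trans h2.symm⟩
        · exact ⟨g, hgE, hga1.trans h1.symm, hga2.trans h2.symm⟩
        · exact ⟨g * v, hEmul g hgE v hvE, by rw [conj_mul_apply, hv1, hga1, h1],
            by rw [conj_mul_apply, hv2, conj_inv_apply, hga2, h2]⟩
      exact hxne w hw (hext x hxX w (hEX w hw) hw1.symm hw2.symm)
    · exact ⟨hh1, hh2⟩
    · exact absurd (hkeep hh1 hh2) (not_or.2 hne12)
  obtain ⟨d, hdE, hd1, hd2⟩ : ∃ d ∈ E, d * (x * a1 * x⁻¹) * d⁻¹ = a2 ∧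
      d * (x * a2 * x⁻¹) * d⁻¹ = a1 := by
    rcases hs12 with ⟨h1, h2⟩
    rcases h1 with h1 | h1 <;> rcases h2 with h2 | h2
    · exact ⟨1, by simp [E], by rw [h1]; simp, by rw [h2]; simp⟩
    · exact ⟨g, hgE, by rw [h1, hga2], by rw [h2, conj_inv_apply, hga1, inv_inv]⟩
    · exact ⟨v, hvE, by rw [h1, conj_inv_apply, hv2, inv_inv], by rw [h2, hv1]⟩
    · refine ⟨g * v, hEmul g hgE v hvE, ?_, ?_⟩
      · rw [h1, conj_inv_apply, conj_mul_apply, hv2, conj_inv_apply, hga2, inv_inv]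
      · rw [h2, conj_inv_apply, conj_mul_apply, hv1, hga1, inv_inv]
  refine ⟨{ a1 := a1, a2 := a2, u := g, v := v, s := d * x, ha1 := ha1, ha2 := ha2,
            hu := hEX g hgE, hv := hEX v hvE, hs := mul_mem (hEX d hdE) hxX,
            p1 := hp _ ha1, p2 := hp _ ha2, comm := hc12, gen := hgen,
            u1 := hga1, u2 := hga2, v1 := hv1, v2 := hv2,
            s1 := by rw [conj_mul_apply, hd1], s2 := by rw [conj_mul_apply, hd2],
            cover := ?_ }⟩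
  set K := Subgroup.closure ({g, v, d * x} : Set S)
  have hgK : g ∈ K := subset_closure (by simp)
  have hvK : v ∈ K := subset_closure (by simp)
  have hEK : ∀ w ∈ E, w ∈ K := by
    intro w hw
    obtain ⟨h1, h2⟩ := hsign w hw
    have : w ∈ ({1, g, v, g * v} : Set S) := by
      rcases h1 with h1 | h1 <;> rcases h2 with h2 | h2
      · left; exact hext w (hEX w hw) 1 (one_mem X) (by simpa using h1) (by simpa using h2)
      · right; right; left
        exact hext w (hEX w hw) v (hEX v hvE) (h1.trans hv1.symm) (h2.trans hv2.symm)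
      · right; left
        exact hext w (hEX w hw) g (hEX g hgE) (h1.trans hga1.symm) (h2.trans hga2.symm)
      · right; right; right
        exact hext w (hEX w hw) (g * v) (mul_mem (hEX g hgE) (hEX v hvE))
          (by rw [h1, conj_mul_apply, hv1, hga1])
          (by rw [h2, conj_mul_apply, hv2, conj_inv_apply, hga2])
    rcases this with rfl | rfl | rfl | rfl
    exacts [one_mem K, hgK, hvK, mul_mem hgK hvK]
  have hxK : x ∈ K := by
    have h1 : d * x ∈ K := subset_closure (by simp)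
    have h2 := mul_mem (inv_mem (hEK d hdE)) h1
    rwa [inv_mul_cancel_left] at h2
  intro w hw
  have hgenD : ∀ a : DihedralGroup 4, ∃ (i : Fin 4) (j : Fin 2),
      a = DihedralGroup.r 1 ^ (i : ℕ) * DihedralGroup.sr 0 ^ (j : ℕ) := by decide
  obtain ⟨i, j, hij⟩ := hgenD (e ⟨w, hw⟩)
  have h1 : w = ((e.symm (DihedralGroup.r 1 ^ (i : ℕ) * DihedralGroup.sr 0 ^ (j : ℕ)) : X) : S) := by
    rw [← hij, MulEquiv.symm_apply_apply]
  rw [h1, hval, map_pow, map_pow, SubmonoidClass.coe_pow, SubmonoidClass.coe_pow]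
  exact mul_mem (pow_mem hxK _) (pow_mem (hEK f (by simp [E])) _)

/-- The conclusion for a frame with a nonzero fixed space of `a1`. -/
theorem module_of_frame [Finite S] [A.Normal] (hAX : A ⊓ X = ⊥)
    (hAC : Subgroup.centralizer (A : Set S) = A) (htop : A ⊔ X = ⊤) (F : Frame A X)
    {M : Type*} [AddCommGroup M] [Module (ZMod 2) M] [Finite M] (ρ : Representation (ZMod 2) S M)
    (hfixA : ∀ m : M, (∀ a ∈ A, ρ a m = m) → m = 0)
    (hirr : ∀ N : Submodule (ZMod 2) M, (∀ s : S, ∀ m ∈ N, ρ s m ∈ N) → N = ⊥ ∨ N = ⊤)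
    {m₁ : M} (hm₁ : m₁ ≠ 0) (hm₁a : ρ F.a1 m₁ = m₁) :
    Nat.card M = 16 ∧
      ∃! B : Subgroup S, B ≤ X ∧ Nat.card B = 4 ∧ (∀ b ∈ B, b ^ 2 = 1) ∧
        Nat.card {m : M // ∀ b ∈ B, ρ b m = m} = 2 := by
  obtain ⟨huu, hvv, hss, huv, hsu, hsv⟩ := F.rels hAX hAC
  have hρ : ∀ (g h : S) (m : M), ρ g (ρ h m) = ρ (g * h) m := fun g h m => by
    rw [map_mul]; rfl
  have hρ1 : ∀ m : M, ρ 1 m = m := fun m => by rw [map_one]; rfl
  have hchar : ∀ m : M, m + m = 0 := fun m => by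
    rw [← two_smul (ZMod 2) m, show (2 : ZMod 2) = 0 by decide, zero_smul]
  set a := F.a2 with ha
  set u := F.u
  set v := F.v
  set s := F.s
  set M1 : Submodule (ZMod 2) M :=
    { carrier := {m | ρ F.a1 m = m}
      zero_mem' := map_zero _
      add_mem' := fun {x y} hx hy => by
        show ρ F.a1 (x + y) = x + y
        rw [map_add, hx, hy]
      smul_mem' := fun c x hx => by
        show ρ F.a1 (c • x) = c • x
        rw [map_smul, hx] } with hM1def
  have hmem1 : ∀ m, m ∈ M1 ↔ ρ F.a1 m = m := fun m => Iff.rfl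
  have hsM2 : ∀ m ∈ M1, ρ a (ρ s m) = ρ s m := fun m hm => by
    rw [hρ, show a * s = s * F.a1 by rw [ha, ← F.s1]; simp [s, mul_assoc], ← hρ, (hmem1 m).1 hm]
  have hA_comm : ∀ m, ρ F.a1 (ρ a m) = ρ a (ρ F.a1 m) := fun m => by rw [hρ, hρ, ha, F.comm]
  have hfpf : ∀ m ∈ M1, ρ a m = m → m = 0 := fun m hm hm' => hfixA m fun b hb => by
    obtain ⟨i, j, rfl⟩ := F.gen b hb
    rw [← hρ]
    have h1 : ∀ (g : S), ρ g m = m → ∀ n : ℕ, ρ (g ^ n) m = m := fun g hg n => by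
      induction n with
      | zero => rw [pow_zero, hρ1]
      | succ n ih => rw [pow_succ, ← hρ, hg, ih]
    rw [h1 a hm' j, h1 F.a1 hm i]
  have haM1 : ∀ m ∈ M1, ρ a m ∈ M1 := fun m hm => by rw [hmem1, hA_comm, (hmem1 m).1 hm]
  have huM1 : ∀ m ∈ M1, ρ u m ∈ M1 := fun m hm => by
    rw [hmem1, hρ, show F.a1 * u = u * F.a1⁻¹ by
      have h1 := F.u1
      rw [mul_inv_eq_iff_eq_mul] at h1
      have h2 : F.a1 * (u * F.a1) = F.a1 * (F.a1⁻¹ * u) := by rw [h1]
      rw [mul_inv_cancel_left, ← mul_assoc] at h2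
      rw [eq_mul_inv_iff_mul_eq]; exact h2, ← hρ]
    congr 1
    calc ρ F.a1⁻¹ m = ρ F.a1⁻¹ (ρ F.a1 m) := by rw [(hmem1 m).1 hm]
      _ = m := by rw [hρ, inv_mul_cancel, hρ1]
  have hvM1 : ∀ m ∈ M1, ρ v m ∈ M1 := fun m hm => by
    rw [hmem1, hρ, show F.a1 * v = v * F.a1 from (mul_inv_eq_iff_eq_mul.1 F.v1).symm, ← hρ,
      (hmem1 m).1 hm]
  have hss' : ∀ m, ρ s (ρ s m) = m := fun m => by rw [hρ, hss, hρ1]
  have hdisj : ∀ p ∈ M1, ∀ q ∈ M1, p + ρ s q = 0 → p = 0 ∧ q = 0 := by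
    intro p hp q hq h
    have hpq : p = ρ s q := by
      calc p = p + (ρ s q + ρ s q) := by rw [hchar, add_zero]
        _ = ρ s q := by rw [← add_assoc, h, zero_add]
    have hp0 := hfpf p hp (by rw [hpq]; exact hsM2 q hq)
    refine ⟨hp0, ?_⟩
    rw [← hss' q, ← hpq, hp0, map_zero]
  -- invariant subspaces built from a subspace of `M1`
  have hgenS : ∀ N : Submodule (ZMod 2) M,
      (∀ g ∈ ({F.a1, a, u, v, s} : Set S), ∀ m ∈ N, ρ g m ∈ N) → N = ⊥ ∨ N = ⊤ := by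
    intro N hN
    refine hirr N fun g => ?_
    let K : Subgroup S :=
      { carrier := {g | ∀ m ∈ N, ρ g m ∈ N}
        one_mem' := fun m hm => by rwa [hρ1]
        mul_mem' := fun {g h} hg hh m hm => by rw [← hρ]; exact hg _ (hh m hm)
        inv_mem' := fun {g} hg m hm => by
          rw [inv_eq_of_mul_eq_one_right (b := g ^ (orderOf g - 1)) (by
            rw [← pow_succ', Nat.sub_add_cancel (orderOf_pos g), pow_orderOf_eq_one])]
          induction orderOf g - 1 generalizing m with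
          | zero => rwa [pow_zero, hρ1]
          | succ n ih => rw [pow_succ, ← hρ]; exact ih _ (hg m hm) }
    have hAK : A ≤ K := fun b hb => by
      obtain ⟨i, j, rfl⟩ := F.gen b hb
      exact mul_mem (pow_mem (show F.a1 ∈ K from hN F.a1 (by simp)) i)
        (pow_mem (show a ∈ K from hN a (by simp)) j)
    have hXK : X ≤ K := F.cover.trans ((closure_le _).2 (by
      rintro _ (rfl | rfl | rfl)
      · exact hN u (by simp)
      · exact hN v (by simp)
      · exact hN s (by simp)))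
    exact (top_le_iff.1 (htop ▸ sup_le hAK hXK) ▸ mem_top g : g ∈ K)
  have hspan : ∀ W : Submodule (ZMod 2) M, W ≤ M1 → W ≠ ⊥ →
      (∀ m ∈ W, ρ a m ∈ W) → (∀ m ∈ W, ρ u m ∈ W) → (∀ m ∈ W, ρ v m ∈ W) →
      W = M1 ∧ ∀ m : M, ∃ p ∈ M1, ∃ q ∈ M1, m = p + ρ s q := by
    intro W hW hW0 hWa hWu hWv
    set N := W ⊔ W.map (ρ s)
    have hmem : ∀ m, m ∈ N ↔ ∃ p ∈ W, ∃ q ∈ W, m = p + ρ s q := by
      intro m
      rw [Submodule.mem_sup]
      constructor
      · rintro ⟨p, hp, _, ⟨q, hq, rfl⟩, rfl⟩; exact ⟨p, hp, q, hq, rfl⟩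
      · rintro ⟨p, hp, q, hq, rfl⟩; exact ⟨p, hp, _, ⟨q, hq, rfl⟩, rfl⟩
    have hswap : ∀ g g' : S, g * s = s * g' → (∀ m ∈ W, ρ g m ∈ W) → (∀ m ∈ W, ρ g' m ∈ W) →
        ∀ m ∈ N, ρ g m ∈ N := by
      intro g g' hgs hg hg' m hm
      obtain ⟨p, hp, q, hq, rfl⟩ := (hmem m).1 hm
      refine (hmem _).2 ⟨ρ g p, hg p hp, ρ g' q, hg' q hq, ?_⟩
      rw [map_add, hρ, hgs, ← hρ]
    have hWa1 : ∀ m ∈ W, ρ F.a1 m ∈ W := fun m hm => by rwa [(hmem1 m).1 (hW hm)]
    have hN := hgenS N (by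
      rintro g (rfl | rfl | rfl | rfl | rfl)
      · exact hswap F.a1 a (mul_inv_eq_iff_eq_mul.1 F.s2).symm hWa1 hWa
      · exact hswap a F.a1 (mul_inv_eq_iff_eq_mul.1 F.s1).symm hWa hWa1
      · exact hswap u v hsv.symm hWu hWv
      · exact hswap v u hsu.symm hWv hWu
      · intro m hm
        obtain ⟨p, hp, q, hq, rfl⟩ := (hmem m).1 hm
        exact (hmem _).2 ⟨q, hq, p, hp, by rw [map_add, hss', add_comm]⟩)
    rcases hN with hN | hN
    · exact absurd (le_bot_iff.1 (hN ▸ le_sup_left)) hW0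
    · have hfull : ∀ m : M, ∃ p ∈ W, ∃ q ∈ W, m = p + ρ s q := fun m =>
        (hmem m).1 (hN.ge Submodule.mem_top)
      refine ⟨le_antisymm hW fun m hm => ?_, fun m => ?_⟩
      · obtain ⟨p, hp, q, hq, he⟩ := hfull m
        obtain ⟨h1, -⟩ := hdisj (m + p) (M1.add_mem hm (hW hp)) q (hW hq) (by
          rw [add_assoc, ← he, hchar])
        rwa [show m = p from (eq_of_sub_eq_zero (by
          rw [sub_eq_add_neg, neg_eq_of_add_eq_zero_right (hchar p)]; exact h1))]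
      · obtain ⟨p, hp, q, hq, he⟩ := hfull m
        exact ⟨p, hW hp, q, hW hq, he⟩
  -- `u` is trivial on `M1`
  obtain ⟨hWu, hdec⟩ := hspan (M1 ⊓ LinearMap.ker (ρ u - LinearMap.id)) inf_le_left (by
      intro hbot
      have hfix : ∀ p ∈ M1, ρ u p = p → p = 0 := fun p hp h => (Submodule.mem_bot (ZMod 2)).1
        (hbot ▸ ⟨hp, by rw [SetLike.mem_coe, LinearMap.mem_ker]; simp [h]⟩)
      have h2 := hfix (m₁ + ρ u m₁) (M1.add_mem hm₁a (huM1 m₁ hm₁a))
        (by rw [map_add, hρ, huu, hρ1, add_comm])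
      refine hm₁ (hfix m₁ hm₁a ?_)
      calc ρ u m₁ = (m₁ + ρ u m₁) + m₁ := by
            rw [add_right_comm, hchar, zero_add]
        _ = m₁ := by rw [h2, zero_add])
    (fun m hm => by
      obtain ⟨hm1, hm2⟩ := hm
      rw [SetLike.mem_coe, LinearMap.mem_ker, LinearMap.sub_apply, LinearMap.id_apply,
        sub_eq_zero] at hm2
      refine ⟨haM1 m hm1, ?_⟩
      rw [SetLike.mem_coe, LinearMap.mem_ker, LinearMap.sub_apply, LinearMap.id_apply, sub_eq_zero,
        hρ, show u * a = a * u from mul_inv_eq_iff_eq_mul.1 F.u2, ← hρ, hm2])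
    (fun m hm => by
      obtain ⟨hm1, hm2⟩ := hm
      rw [SetLike.mem_coe, LinearMap.mem_ker, LinearMap.sub_apply, LinearMap.id_apply,
        sub_eq_zero] at hm2
      rw [hm2]
      exact ⟨hm1, by rw [SetLike.mem_coe, LinearMap.mem_ker]; simp [hm2]⟩)
    (fun m hm => by
      obtain ⟨hm1, hm2⟩ := hm
      rw [SetLike.mem_coe, LinearMap.mem_ker, LinearMap.sub_apply, LinearMap.id_apply,
        sub_eq_zero] at hm2
      refine ⟨hvM1 m hm1, ?_⟩
      rw [SetLike.mem_coe, LinearMap.mem_ker, LinearMap.sub_apply, LinearMap.id_apply, sub_eq_zero,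
        hρ, huv, ← hρ, hm2])
  have hu1 : ∀ m ∈ M1, ρ u m = m := fun m hm => by
    have h1 := (hWu.ge hm).2
    rw [SetLike.mem_coe, LinearMap.mem_ker, LinearMap.sub_apply, LinearMap.id_apply,
      sub_eq_zero] at h1
    exact h1
  -- a fixed point of `v`
  obtain ⟨m, hm, hm0, hmv⟩ : ∃ m ∈ M1, m ≠ 0 ∧ ρ v m = m := by
    by_cases h : m₁ + ρ v m₁ = 0
    · refine ⟨m₁, hm₁a, hm₁, ?_⟩
      calc ρ v m₁ = (m₁ + ρ v m₁) + m₁ := by rw [add_right_comm, hchar, zero_add]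
        _ = m₁ := by rw [h, zero_add]
    · exact ⟨_, M1.add_mem hm₁a (hvM1 _ hm₁a), h, by rw [map_add, hρ, hvv, hρ1, add_comm]⟩
  set n := ρ a m with hn
  have hnm1 : n ∈ M1 := haM1 m hm
  have ha3 : ρ a (ρ a (ρ a m)) = m := by
    rw [hρ, hρ, show a * a * a = a ^ 3 by simp [pow_succ, mul_assoc], ha, F.p2, hρ1]
  have han : ρ a n = m + n := by
    have h1 := hfpf (m + n + ρ a n) (M1.add_mem (M1.add_mem hm hnm1) (haM1 _ hnm1))
      (by rw [map_add, map_add, hn, ha3]; abel)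
    calc ρ a n = (m + n + ρ a n) + (m + n) := by
          rw [add_comm (m + n + ρ a n), ← add_assoc (m + n) (m + n), hchar, zero_add]
      _ = m + n := by rw [h1, zero_add]
  have hvn : ρ v n = m + n := by
    rw [hn, hρ, show v * a = a * a * v by
      have h1 := mul_inv_eq_iff_eq_mul.1 F.v2
      rw [h1]
      congr 1
      exact inv_eq_of_mul_eq_one_right
        (by rw [ha, show F.a2 * (F.a2 * F.a2) = F.a2 ^ 3 by simp [pow_succ, mul_assoc], F.p2]),
      ← hρ, hmv, ← hρ]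
    exact han
  let W : Submodule (ZMod 2) M :=
    { carrier := {0, m, n, m + n}
      zero_mem' := by simp
      add_mem' := fun {x y} hx hy => by
        have e1 : m + (m + n) = n := by rw [← add_assoc, hchar, zero_add]
        have e2 : n + (m + n) = m := by rw [add_left_comm, hchar, add_zero]
        have e3 : m + n + m = n := by rw [add_comm, e1]
        have e4 : m + n + n = m := by rw [add_comm, e2]
        rcases hx with hx | hx | hx | hx <;> rcases hy with hy | hy | hy | hy <;>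
          rw [hx, hy] <;> simp [hchar, add_comm n m, e1, e2, e3, e4]
      smul_mem' := fun c x hx => by
        rcases (show c = 0 ∨ c = 1 by revert c; decide) with rfl | rfl
        · simp
        · rwa [one_smul] }
  have hmemW : ∀ x, x ∈ W ↔ x = 0 ∨ x = m ∨ x = n ∨ x = m + n := fun x => Iff.rfl
  have hW : W ≤ M1 := fun x hx => by
    rcases (hmemW x).1 hx with rfl | rfl | rfl | rfl
    exacts [M1.zero_mem, hm, hnm1, M1.add_mem hm hnm1]
  obtain ⟨hWeq, -⟩ := hspan W hW (fun h => hm0 ((Submodule.mem_bot (ZMod 2)).1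
      (h ▸ ((hmemW m).2 (Or.inr (Or.inl rfl))))))
    (fun x hx => by
      rw [hmemW] at hx ⊢
      rcases hx with rfl | rfl | rfl | rfl
      · simp
      · exact Or.inr (Or.inr (Or.inl rfl))
      · exact Or.inr (Or.inr (Or.inr han))
      · refine Or.inr (Or.inl ?_)
        rw [map_add, ← hn, han, add_left_comm, hchar, add_zero])
    (fun x hx => by rw [hu1 x (hW hx)]; exact hx)
    (fun x hx => by
      rw [hmemW] at hx ⊢
      rcases hx with rfl | rfl | rfl | rfl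
      · simp
      · exact Or.inr (Or.inl hmv)
      · exact Or.inr (Or.inr (Or.inr hvn))
      · refine Or.inr (Or.inr (Or.inl ?_))
        rw [map_add, hmv, hvn, ← add_assoc, hchar, zero_add])
  have hM1 : ∀ x ∈ M1, x = 0 ∨ x = m ∨ x = n ∨ x = m + n := fun x hx => (hmemW x).1 (hWeq.ge hx)
  have hnm : n ≠ m := fun h => hm0 (hfpf m hm h)
  have hn0 : n ≠ 0 := fun h => hm0 (by rw [← ha3, ← hn, h, map_zero, map_zero])
  have hmn0 : m + n ≠ 0 := fun h => hnm (by
    calc n = (m + n) + m := by rw [add_right_comm, hchar, zero_add]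
      _ = m := by rw [h, zero_add])
  have hcard1 : Nat.card M1 = 4 := by
    rw [← hWeq]
    show Nat.card ({0, m, n, m + n} : Set M) = 4
    rw [Nat.card_coe_set_eq,
      Set.ncard_insert_of_notMem (by simp [Ne.symm hm0, Ne.symm hn0, Ne.symm hmn0]),
      Set.ncard_insert_of_notMem (by simp [Ne.symm hnm, hn0]),
      Set.ncard_insert_of_notMem (by simp [hm0]), Set.ncard_singleton]
  have hM16 : Nat.card M = 16 := by
    let φ : M1 × M1 → M := fun q => (q.1 : M) + ρ s q.2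
    have hφ : Function.Bijective φ := by
      refine ⟨fun q q' hq => ?_, fun x => ?_⟩
      · obtain ⟨h1, h2⟩ := hdisj _ (M1.sub_mem q.1.2 q'.1.2) _ (M1.sub_mem q.2.2 q'.2.2) (by
          rw [map_sub, ← sub_self ((q.1 : M) + ρ s q.2)]
          conv_rhs => arg 2; rw [show (q.1 : M) + ρ s q.2 = (q'.1 : M) + ρ s q'.2 from hq]
          abel)
        exact Prod.ext (Subtype.ext (sub_eq_zero.1 h1)) (Subtype.ext (sub_eq_zero.1 h2))
      · obtain ⟨p, hp, q, hq, rfl⟩ := hdec x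
        exact ⟨(⟨p, hp⟩, ⟨q, hq⟩), rfl⟩
    rw [← Nat.card_congr (Equiv.ofBijective φ hφ), Nat.card_prod, hcard1]
  refine ⟨hM16, ?_⟩
  set w := u * v with hw
  have huv : u * v = v * u := huv
  have hww : w * w = 1 := by
    rw [hw, show u * v * (u * v) = u * (v * u) * v by simp [mul_assoc], ← huv,
      show u * (u * v) * v = u * u * (v * v) by simp [mul_assoc], huu, hvv, one_mul]
  have hsw : s * w = w * s := by
    rw [hw, ← mul_assoc, hsu, mul_assoc, hsv, ← mul_assoc, huv]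
  have hwM : ∀ p ∈ M1, ρ w p = ρ v p := fun p hp => by rw [hw, ← hρ, hu1 _ (hvM1 p hp)]
  have hvfix : ∀ p ∈ M1, ρ v p = p → p = 0 ∨ p = m := by
    intro p hp h
    rcases hM1 p hp with rfl | rfl | rfl | rfl
    · exact Or.inl rfl
    · exact Or.inr rfl
    · exact absurd (hvn.symm.trans h) (fun h' => hm0 (by
        calc m = m + n + n := by rw [add_assoc, hchar, add_zero]
          _ = n + n := by rw [h']
          _ = 0 := hchar n))
    · rw [map_add, hmv, hvn, ← add_assoc, hchar, zero_add] at h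
      exact absurd h.symm (fun h' => hm0 (by
        calc m = m + n + n := by rw [add_assoc, hchar, add_zero]
          _ = n + n := by rw [h']
          _ = 0 := hchar n))
  let B₁ : Subgroup S :=
    { carrier := {1, w, s, s * w}
      one_mem' := by simp
      inv_mem' := fun {g} hg => by
        have : g * g = 1 := by
          rcases hg with rfl | rfl | rfl | rfl
          · exact one_mul 1
          · exact hww
          · exact hss
          · rw [show s * w * (s * w) = s * (w * s) * w by simp [mul_assoc], ← hsw,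
              show s * (s * w) * w = s * s * (w * w) by simp [mul_assoc], hss, hww, one_mul]
        rw [inv_eq_of_mul_eq_one_right this]; exact hg
      mul_mem' := fun {g g'} hg hg' => by
        have e1 : w * (s * w) = s := by rw [← mul_assoc, ← hsw, mul_assoc, hww, mul_one]
        have e2 : s * (s * w) = w := by rw [← mul_assoc, hss, one_mul]
        have e3 : s * w * w = s := by rw [mul_assoc, hww, mul_one]
        have e4 : s * w * s = w := by rw [mul_assoc, ← hsw, ← mul_assoc, hss, one_mul]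
        have e5 : s * w * (s * w) = 1 := by rw [← mul_assoc, e4, hww]
        rcases hg with rfl | rfl | rfl | rfl <;> rcases hg' with rfl | rfl | rfl | rfl <;>
          simp [hww, hss, e1, e2, e3, e4, e5, ← hsw] }
  have hB₁X : B₁ ≤ X := by
    rintro g (rfl | rfl | rfl | rfl)
    exacts [one_mem X, mul_mem F.hu F.hv, F.hs, mul_mem F.hs (mul_mem F.hu F.hv)]
  have hfix1 : ∀ p : M, (∀ b ∈ B₁, ρ b p = p) ↔ p = 0 ∨ p = m + ρ s m := by
    intro p
    constructor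
    · intro hp
      obtain ⟨q, hq, r, hr, rfl⟩ := hdec p
      have hs' := hp s (Or.inr (Or.inr (Or.inl rfl)))
      have hw' := hp w (Or.inr (Or.inl rfl))
      rw [map_add, hss'] at hs'
      have hqr : q + r = 0 := (hdisj _ (M1.add_mem hq hr) _ (M1.add_mem hq hr) (by
        rw [map_add, show q + r + (ρ s q + ρ s r) = (q + ρ s r) + (ρ s q + r) by abel, hs',
          hchar])).1
      have hqr' : r = q := by
        calc r = (q + r) + q := by rw [add_right_comm, hchar, zero_add]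
          _ = q := by rw [hqr, zero_add]
      subst hqr'
      rw [map_add, hρ w s, ← hsw, ← hρ s w, hwM _ hr] at hw'
      have h1 : ρ v r + r = 0 := (hdisj _ (M1.add_mem (hvM1 r hr) hr) _
        (M1.add_mem (hvM1 r hr) hr) (by
          rw [map_add, show ρ v r + r + (ρ s (ρ v r) + ρ s r) =
            (ρ v r + ρ s (ρ v r)) + (r + ρ s r) by abel, hw', hchar])).1
      rcases hvfix r hr (by
        calc ρ v r = (ρ v r + r) + r := by rw [add_assoc, hchar, add_zero]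
          _ = r := by rw [h1, zero_add]) with rfl | rfl
      · left; simp
      · right; rfl
    · rintro (rfl | rfl) b hb
      · simp
      · have hwm : ρ w (m + ρ s m) = m + ρ s m := by
          rw [map_add, hρ w s, ← hsw, ← hρ s w, hwM m hm, hmv]
        have hsm : ρ s (m + ρ s m) = m + ρ s m := by rw [map_add, hss', add_comm]
        rcases hb with rfl | rfl | rfl | rfl
        exacts [hρ1 _, hwm, hsm, by rw [← hρ, hwm, hsm]]
  have hmsm : m + ρ s m ≠ 0 := fun h => hm0 (hdisj m hm m hm h).1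
  have h2fix : Nat.card {p : M // ∀ b ∈ B₁, ρ b p = p} = 2 := by
    rw [Nat.card_congr (Equiv.subtypeEquivRight hfix1)]
    show Nat.card ↥({p : M | p = 0 ∨ p = m + ρ s m}) = 2
    rw [Nat.card_coe_set_eq, show {p : M | p = 0 ∨ p = m + ρ s m} = {0, m + ρ s m} from rfl,
      Set.ncard_pair (Ne.symm hmsm)]
  have hconjw : w * F.a1 * w⁻¹ = F.a1⁻¹ := by rw [hw, conj_mul_apply, F.v1, F.u1]
  have ha1ne : F.a1 ≠ 1 := by
    intro h
    refine hm0 (hdisj m hm m hm ?_).1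
    have hall : ∀ p, p ∈ M1 := fun p => by rw [hmem1, h, hρ1]
    exact absurd ((hdisj (ρ s m) (hall _) m hm (hchar _)).2) hm0
  have hw1 : w ≠ 1 := by
    intro h
    have h1 := hconjw
    rw [h, one_mul, inv_one, mul_one] at h1
    have h3 := F.p1
    have h2 : F.a1 * F.a1 = 1 := by
      calc F.a1 * F.a1 = F.a1⁻¹ * F.a1 := by rw [← h1]
        _ = 1 := inv_mul_cancel _
    rw [pow_succ, pow_two, h2, one_mul] at h3
    exact ha1ne h3
  have ha12 : F.a1 ≠ a := fun h => hm0 (hfpf m hm (by rw [← h]; exact (hmem1 m).1 hm))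
  have hs1 : s ≠ 1 := fun h => by
    have h1 := F.s1
    rw [show F.s = 1 from h, one_mul, inv_one, mul_one] at h1
    exact ha12 h1
  have hsw1 : s * w ≠ 1 ∧ s ≠ w := by
    constructor <;> intro h
    · have h1 : s * w * F.a1 * (s * w)⁻¹ = F.a1 := by rw [h]; simp
      rw [conj_mul_apply, hconjw, conj_inv_apply, F.s1] at h1
      exact hm0 (hfpf m hm (by
        calc ρ a m = ρ a (ρ F.a1 m) := by rw [(hmem1 m).1 hm]
          _ = m := by rw [hρ, ← h1, ha, mul_inv_cancel, hρ1]))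
    · have h1 := F.s1
      rw [show F.s = w from h, hconjw] at h1
      exact hm0 (hfpf m hm (by
        calc ρ a m = ρ a (ρ F.a1 m) := by rw [(hmem1 m).1 hm]
          _ = m := by rw [hρ, ha, ← h1, inv_mul_cancel, hρ1]))
  have hB₁4 : Nat.card B₁ = 4 := by
    show Nat.card ({1, w, s, s * w} : Set S) = 4
    rw [Nat.card_coe_set_eq,
      Set.ncard_insert_of_notMem (by simp [Ne.symm hw1, Ne.symm hs1, Ne.symm hsw1.1]),
      Set.ncard_insert_of_notMem (by simp [Ne.symm hsw1.2, hs1]),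
      Set.ncard_insert_of_notMem (by simp [hw1]), Set.ncard_singleton]
  refine ⟨B₁, ⟨hB₁X, hB₁4, fun b hb => ?_, h2fix⟩, ?_⟩
  · rcases hb with rfl | rfl | rfl | rfl
    · simp
    · rw [pow_two, hww]
    · rw [pow_two, hss]
    · rw [pow_two, show s * w * (s * w) = s * (w * s) * w by simp [mul_assoc], ← hsw,
        show s * (s * w) * w = s * s * (w * w) by simp [mul_assoc], hss, hww, one_mul]
  rintro B ⟨hBX, hB4, hB2, hBfix⟩
  -- the elements of `X`
  have hX8 : ∀ x ∈ X, x ∈ ({1, u, v, w, s, s * u, s * v, s * w} : Set S) := by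
    let T : Set S := {1, u, v, w, s, s * u, s * v, s * w}
    intro x hx
    have hcl : ∀ g ∈ T, g * u ∈ T ∧ g * v ∈ T ∧ g * s ∈ T := by
      have e1 : u * s = s * v := hsv.symm
      have e2 : v * s = s * u := hsu.symm
      have e3 : w * s = s * w := hsw.symm
      have e4 : v * u = w := huv.symm
      have e5 : w * u = v := by rw [hw, huv, mul_assoc, huu, mul_one]
      have e6 : w * v = u := by rw [hw, mul_assoc, hvv, mul_one]
      have e7 : u * v = w := rfl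
      have e8 : ∀ g, s * (s * g) = g := fun g => by rw [← mul_assoc, hss, one_mul]
      rintro g (rfl | rfl | rfl | rfl | rfl | rfl | rfl | rfl) <;>
        refine ⟨?_, ?_, ?_⟩ <;>
        simp [T, mul_assoc, huu, hvv, hss, e1, e2, e3, e4, e5, e6, e7, e8]
    have hx' := F.cover hx
    clear hx
    induction hx' using closure_induction_right with
    | one => exact Or.inl rfl
    | mul_right g y _ hy ih =>
      obtain ⟨h1, h2, h3⟩ := hcl g ih
      rcases hy with rfl | rfl | rfl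
      exacts [h1, h2, h3]
    | mul_inv_cancel g y _ hy ih =>
      obtain ⟨h1, h2, h3⟩ := hcl g ih
      rcases hy with rfl | rfl | rfl
      · rwa [inv_eq_of_mul_eq_one_right huu]
      · rwa [inv_eq_of_mul_eq_one_right hvv]
      · rwa [inv_eq_of_mul_eq_one_right hss]
  have hwne_uv : s * u ∉ B ∧ s * v ∉ B := by
    constructor <;> intro h <;> have h1 := hB2 _ h <;> rw [pow_two] at h1
    · rw [show s * u * (s * u) = s * (u * s) * u by simp [mul_assoc], ← hsv,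
        show s * (s * v) * u = s * s * (v * u) by simp [mul_assoc], hss, one_mul, ← huv] at h1
      exact hw1 h1
    · rw [show s * v * (s * v) = s * (v * s) * v by simp [mul_assoc], ← hsu,
        show s * (s * u) * v = s * s * (u * v) by simp [mul_assoc], hss, one_mul] at h1
      exact hw1 h1
  have hsub : ∀ b ∈ B, b ∈ B₁ ∨ b = u ∨ b = v := fun b hb => by
    rcases hX8 b (hBX hb) with rfl | rfl | rfl | rfl | rfl | rfl | rfl | rfl
    · exact Or.inl (one_mem B₁)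
    · exact Or.inr (Or.inl rfl)
    · exact Or.inr (Or.inr rfl)
    · exact Or.inl (Or.inr (Or.inl rfl))
    · exact Or.inl (Or.inr (Or.inr (Or.inl rfl)))
    · exact absurd hb hwne_uv.1
    · exact absurd hb hwne_uv.2
    · exact Or.inl (Or.inr (Or.inr (Or.inr rfl)))
  by_cases hBB : B ≤ B₁
  · exact Subgroup.eq_of_le_of_card_ge hBB (by rw [hB4, hB₁4])
  exfalso
  obtain ⟨c, hc, hcB⟩ : ∃ c ∈ B, c = u ∨ c = v := by
    by_contra hno
    exact hBB fun b hb => (hsub b hb).resolve_right fun h => hno ⟨b, hb, h⟩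
  -- then every element of `B` fixes four points
  have hBE : ∀ b ∈ B, b = 1 ∨ b = u ∨ b = v ∨ b = w := by
    intro b hb
    rcases hsub b hb with h | h | h
    · rcases h with rfl | rfl | rfl | rfl
      · exact Or.inl rfl
      · exact Or.inr (Or.inr (Or.inr rfl))
      · exfalso
        rcases hcB with rfl | rfl
        exacts [hwne_uv.1 (mul_mem hb hc), hwne_uv.2 (mul_mem hb hc)]
      · exfalso
        rcases hcB with rfl | rfl
        · refine hwne_uv.2 ?_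
          have := mul_mem hb hc
          rwa [mul_assoc, hw, huv, mul_assoc, huu, mul_one] at this
        · refine hwne_uv.1 ?_
          have := mul_mem hb hc
          rwa [mul_assoc, hw, mul_assoc, hvv, mul_one] at this
    · exact Or.inr (Or.inl h)
    · exact Or.inr (Or.inr (Or.inl h))
  have h4 : ∀ p ∈ ({0, m, ρ s m} : Set M), ∀ b ∈ B, ρ b p = p := by
    have hum : ρ u m = m := hu1 m hm
    have husm : ρ u (ρ s m) = ρ s m := by rw [hρ, ← hsv, ← hρ, hmv]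
    have hvsm : ρ v (ρ s m) = ρ s m := by rw [hρ, ← hsu, ← hρ, hum]
    rintro p hp b hb
    rcases hBE b hb with rfl | rfl | rfl | rfl <;> rcases hp with rfl | rfl | rfl
    all_goals first
      | exact hρ1 _ | exact map_zero _ | exact hum | exact hmv | exact husm | exact hvsm
      | (rw [hw, ← hρ, hmv, hum]) | (rw [hw, ← hρ, hvsm, husm])
  have h3 : 3 ≤ Nat.card {p : M // ∀ b ∈ B, ρ b p = p} := by
    have hsm0 : ρ s m ≠ 0 := fun h => hm0 (by rw [← hss' m, h, map_zero])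
    have hmsm' : m ≠ ρ s m := fun h => hmsm (by rw [← h, hchar])
    have h1 : ({0, m, ρ s m} : Set M).ncard = 3 := by
      rw [Set.ncard_insert_of_notMem (by simp [Ne.symm hm0, Ne.symm hsm0]), Set.ncard_pair hmsm']
    rw [← h1]
    show _ ≤ Nat.card ↥({p : M | ∀ b ∈ B, ρ b p = p})
    rw [Nat.card_coe_set_eq]
    exact Set.ncard_le_ncard (fun p hp => h4 p hp) (Set.toFinite _)
  omega

theorem main [Finite S] [A.Normal] (hA : Cfsg.IsElementaryAbelian 3 A) (hA9 : Nat.card A = 9)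
    (hAC : Subgroup.centralizer (A : Set S) = A) (hX : Nonempty (X ≃* DihedralGroup 4))
    (hAX : A ⊔ X = ⊤) {M : Type*} [AddCommGroup M] [Module (ZMod 2) M] [Finite M]
    (ρ : Representation (ZMod 2) S M) (hfaith : Function.Injective ρ)
    (hirr : ∀ N : Submodule (ZMod 2) M, (∀ s : S, ∀ m ∈ N, ρ s m ∈ N) → N = ⊥ ∨ N = ⊤)
    (hM : Nontrivial M) :
    Nat.card M = 16 ∧
      ∃! B : Subgroup S, B ≤ X ∧ Nat.card B = 4 ∧ (∀ b ∈ B, b ^ 2 = 1) ∧
        Nat.card {m : M // ∀ b ∈ B, ρ b m = m} = 2 := by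
  classical
  haveI := hA.1
  obtain ⟨e⟩ := hX
  have hX8 : Nat.card X = 8 := by rw [Nat.card_congr e.toEquiv, DihedralGroup.nat_card]
  have hinf : A ⊓ X = ⊥ := by
    rw [← Subgroup.card_eq_one]
    exact Nat.eq_one_of_dvd_coprimes (show Nat.Coprime 9 8 by norm_num)
      (hA9 ▸ card_dvd_of_le inf_le_left) (hX8 ▸ card_dvd_of_le inf_le_right)
  obtain ⟨F⟩ := exists_frame hA hA9 hinf hAC e
  have hρ : ∀ (g h : S) (m : M), ρ g (ρ h m) = ρ (g * h) m := fun g h m => by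
    rw [map_mul]; rfl
  have hρ1 : ∀ m : M, ρ 1 m = m := fun m => by rw [map_one]; rfl
  -- no fixed points of `A`
  have hfixA : ∀ m : M, (∀ a ∈ A, ρ a m = m) → m = 0 := by
    let N : Submodule (ZMod 2) M :=
      { carrier := {m | ∀ a ∈ A, ρ a m = m}
        zero_mem' := fun a _ => map_zero _
        add_mem' := fun {x y} hx hy a ha => by rw [map_add, hx a ha, hy a ha]
        smul_mem' := fun c x hx a ha => by rw [map_smul, hx a ha] }
    rcases hirr N (fun g m hm a ha => by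
        rw [hρ, show a * g = g * (g⁻¹ * a * g) by simp [mul_assoc], ← hρ,
          hm _ (by simpa using (inferInstance : A.Normal).conj_mem a ha g⁻¹)]) with h | h
    · exact fun m hm => (Submodule.mem_bot (ZMod 2)).1 (h ▸ hm)
    · exfalso
      obtain ⟨a, ha, hne⟩ := A.ne_bot_iff_exists_ne_one.1 (fun h' => by
        rw [h', Subgroup.card_bot] at hA9; omega) |> fun ⟨a, ha⟩ => (⟨a.1, a.2, fun h' =>
          ha (Subtype.ext h')⟩ : ∃ a ∈ A, a ≠ 1)
      refine hne (hfaith ?_)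
      refine LinearMap.ext fun m => ?_
      rw [(h.ge Submodule.mem_top : m ∈ N) a ha, hρ1]
  obtain ⟨m₀, hm₀⟩ := exists_ne (0 : M)
  obtain ⟨F', hF1, hF2⟩ := F.swapLines hinf hAC
  have hnorm : ∀ {g : S}, g ^ 3 = 1 → ∀ m, ρ g (m + ρ g m + ρ g (ρ g m)) =
      m + ρ g m + ρ g (ρ g m) := by
    intro g hg m
    rw [map_add, map_add, hρ g g, hρ g (g * g), show g * (g * g) = g ^ 3 by
      simp [pow_succ, mul_assoc], hg, hρ1]
    abel
  by_cases h1 : ∃ m : M, m ≠ 0 ∧ ρ F.a1 m = m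
  · obtain ⟨m, hm, hm'⟩ := h1
    exact module_of_frame hinf hAC hAX F ρ hfixA hirr hm hm'
  by_cases h2 : ∃ m : M, m ≠ 0 ∧ ρ F.a2 m = m
  · obtain ⟨m, hm, hm'⟩ := h2
    refine module_of_frame hinf hAC hAX F ρ hfixA hirr (m₁ := ρ F.s m) (fun h => hm ?_) ?_
    · rw [← hρ1 m, ← inv_mul_cancel F.s, ← hρ, h, map_zero]
    · rw [hρ, show F.a1 * F.s = F.s * F.a2 from (mul_inv_eq_iff_eq_mul.1 F.s2).symm, ← hρ, hm']
  by_cases h3 : ∃ m : M, m ≠ 0 ∧ ρ F'.a1 m = m
  · obtain ⟨m, hm, hm'⟩ := h3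
    exact module_of_frame hinf hAC hAX F' ρ hfixA hirr hm hm'
  by_cases h4 : ∃ m : M, m ≠ 0 ∧ ρ F'.a2 m = m
  · obtain ⟨m, hm, hm'⟩ := h4
    refine module_of_frame hinf hAC hAX F' ρ hfixA hirr (m₁ := ρ F'.s m) (fun h => hm ?_) ?_
    · rw [← hρ1 m, ← inv_mul_cancel F'.s, ← hρ, h, map_zero]
    · rw [hρ, show F'.a1 * F'.s = F'.s * F'.a2 from (mul_inv_eq_iff_eq_mul.1 F'.s2).symm, ← hρ,
        hm']
  exfalso
  push Not at h1 h2 h3 h4
  have hzero : ∀ {g : S}, g ^ 3 = 1 → (∀ m : M, m ≠ 0 → ρ g m ≠ m) →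
      ∀ m, m + ρ g m + ρ g (ρ g m) = 0 := fun hg h m =>
    by_contra fun hc => h _ hc (hnorm hg m)
  have k1 := hzero F.p1 h1 m₀
  have k2 := hzero F.p2 h2 m₀
  have k3 := hzero F'.p1 h3 m₀
  have k4 := hzero F'.p2 h4 m₀
  -- the sum over `A`
  have kA : (m₀ + ρ F.a1 m₀ + ρ F.a1 (ρ F.a1 m₀)) + ρ F.a2 (m₀ + ρ F.a1 m₀ + ρ F.a1 (ρ F.a1 m₀)) +
      ρ F.a2 (ρ F.a2 (m₀ + ρ F.a1 m₀ + ρ F.a1 (ρ F.a1 m₀))) = 0 := by rw [k1]; simp
  rw [hF1] at k3
  rw [hF2, show F.a2⁻¹ = F.a2 * F.a2 from inv_eq_of_mul_eq_one_right (by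
    rw [← F.p2]; simp [pow_succ, mul_assoc])] at k4
  have e3 : ∀ g : S, g ^ 3 = 1 → ∀ m, ρ g (ρ g (ρ g m)) = m := fun g hg m => by
    rw [hρ, hρ, show g * g * g = g ^ 3 by simp [pow_succ, mul_assoc], hg, hρ1]
  have hc : ∀ m, ρ F.a1 (ρ F.a2 m) = ρ F.a2 (ρ F.a1 m) := fun m => by rw [hρ, hρ, F.comm]
  simp only [← hρ, hc] at k3 k4
  rw [e3 F.a2 F.p2] at k4
  simp only [map_add] at kA
  apply hm₀
  have hchar : ∀ x : M, x + x = 0 := fun m => by
    rw [← two_smul (ZMod 2) m, show (2 : ZMod 2) = 0 by decide, zero_smul]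
  have hsum : (m₀ + ρ F.a1 m₀ + ρ F.a1 (ρ F.a1 m₀)) + (m₀ + ρ F.a2 m₀ + ρ F.a2 (ρ F.a2 m₀)) +
      (m₀ + ρ F.a2 (ρ F.a1 m₀) + ρ F.a2 (ρ F.a2 (ρ F.a1 (ρ F.a1 m₀)))) +
      (m₀ + ρ F.a2 (ρ F.a2 (ρ F.a1 m₀)) + ρ F.a2 (ρ F.a1 (ρ F.a1 m₀))) = 0 := by
    rw [k1, k2, k3, k4]; simp
  have hdiff : (m₀ + ρ F.a1 m₀ + ρ F.a1 (ρ F.a1 m₀)) + (m₀ + ρ F.a2 m₀ + ρ F.a2 (ρ F.a2 m₀)) +
      (m₀ + ρ F.a2 (ρ F.a1 m₀) + ρ F.a2 (ρ F.a2 (ρ F.a1 (ρ F.a1 m₀)))) +
      (m₀ + ρ F.a2 (ρ F.a2 (ρ F.a1 m₀)) + ρ F.a2 (ρ F.a1 (ρ F.a1 m₀))) =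
      (m₀ + ρ F.a1 m₀ + ρ F.a1 (ρ F.a1 m₀) +
        (ρ F.a2 m₀ + ρ F.a2 (ρ F.a1 m₀) + ρ F.a2 (ρ F.a1 (ρ F.a1 m₀))) +
        (ρ F.a2 (ρ F.a2 m₀) + ρ F.a2 (ρ F.a2 (ρ F.a1 m₀)) +
          ρ F.a2 (ρ F.a2 (ρ F.a1 (ρ F.a1 m₀))))) + ((m₀ + m₀) + m₀) := by abel
  rw [hdiff, kA, hchar, zero_add, zero_add] at hsum
  exact hsum

end NineDihedral

end CfsgLib.Invol
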