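import Cfsg.Prelude.Def_Classical
import Cfsg.Prelude.Def_LieClassical
import Cfsg.Agent.Lib.Classical.SUOrder
import Cfsg.Agent.Lib.Invol.PSLThreeCent

/-!
The embedding `A ↦ diag(A, det A⁻¹)` of `GU_2(q)` into `SU_3(q)`.
-/

set_option autoImplicit false

namespace CfsgLib.Invol

open Matrix

variable {F : Type*} [Field F] [Fintype F] {q : ℕ}

theorem gu_det_norm (hF : Fintype.card F = q ^ 2) {n : ℕ} (A : GL (Fin n) F)
    (hA : A ∈ Cfsg.GU n F q) :
    (A : Matrix (Fin n) (Fin n) F).det * (A : Matrix (Fin n) (Fin n) F).det ^ q = 1 := by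
  have h1 := congrArg Matrix.det ((CfsgLib.Classical.mem_gu_iff hF A).1 hA)
  rwa [Matrix.det_mul, Matrix.det_transpose, ← RingHom.mapMatrix_apply, ← RingHom.map_det,
    CfsgLib.Classical.qFrob_apply, Matrix.det_one] at h1

theorem glToSL3_mem_su (hF : Fintype.card F = q ^ 2) (A : Cfsg.GU 2 F q) :
    glToSL3 (A : GL (Fin 2) F) ∈ Cfsg.SU 3 F q := by
  intro u v
  have hd := gu_det_norm hF (A : GL (Fin 2) F) A.2
  have hA : Cfsg.hermForm 2 F q ((A : GL (Fin 2) F).1 *ᵥ ![u 0, u 1])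
      ((A : GL (Fin 2) F).1 *ᵥ ![v 0, v 1]) = Cfsg.hermForm 2 F q ![u 0, u 1] ![v 0, v 1] :=
    A.2 ![u 0, u 1] ![v 0, v 1]
  show Cfsg.hermForm 3 F q ((glToSL3 (A : GL (Fin 2) F) : Matrix (Fin 3) (Fin 3) F) *ᵥ u)
    ((glToSL3 (A : GL (Fin 2) F) : Matrix (Fin 3) (Fin 3) F) *ᵥ v) = Cfsg.hermForm 3 F q u v
  rw [glToSL3_coe]
  set d := (A : GL (Fin 2) F).1.det with hdd
  have hd3 : d⁻¹ * u 2 * (d⁻¹ * v 2) ^ q = u 2 * v 2 ^ q := by
    rw [mul_pow, inv_pow]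
    calc d⁻¹ * u 2 * ((d ^ q)⁻¹ * v 2 ^ q) = (d * d ^ q)⁻¹ * (u 2 * v 2 ^ q) := by
          rw [mul_inv]; ring
      _ = u 2 * v 2 ^ q := by rw [hd, inv_one, one_mul]
  simp [Cfsg.hermForm, Fin.sum_univ_two, Fin.sum_univ_three, Matrix.mulVec, dotProduct] at hA ⊢
  rw [hA, hd3]

/-- The embedding of `GU_2(q)` into `SU_3(q)`. -/
noncomputable def guToSU3 (hF : Fintype.card F = q ^ 2) : Cfsg.GU 2 F q →* Cfsg.SU 3 F q :=
  ((glToSL3 (F := F)).comp (Cfsg.GU 2 F q).subtype).codRestrict _ (glToSL3_mem_su hF)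

theorem guToSU3_injective (hF : Fintype.card F = q ^ 2) : Function.Injective (guToSU3 hF) :=
  fun A B h => Subtype.ext (glToSL3_injective (congrArg Subtype.val h))

theorem factorization_two_eq_of_odd_mul {a b X Y : ℕ} (ha : Odd a) (hb : Odd b) (hX : X ≠ 0)
    (hY : Y ≠ 0) (h : a * X = b * Y) : X.factorization 2 = Y.factorization 2 := by
  have h1 := congrArg (fun n => n.factorization 2) h
  simp only [Nat.factorization_mul ha.pos.ne' hX, Nat.factorization_mul hb.pos.ne' hY,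
    Finsupp.add_apply] at h1
  rwa [Nat.factorization_eq_zero_of_not_dvd (n := a) ha.not_two_dvd_nat, zero_add,
    Nat.factorization_eq_zero_of_not_dvd (n := b) hb.not_two_dvd_nat, zero_add] at h1

end CfsgLib.Invol
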