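import Mathlib

/-!
A permutation of 2-power order lies in a unique Sylow 2-subgroup iff it has at most two fixed points
and nontrivial cycles of different lengths.
-/

set_option autoImplicit false
set_option linter.style.haveILetI false
set_option linter.unusedSectionVars false

namespace CfsgLib.Invol

open Equiv Equiv.Perm Function Finset

namespace UniqueSylow

variable {α : Type*} [Fintype α] [DecidableEq α] {x : Perm α}

/-- The orbit of a point under a permutation. -/
noncomputable def orb (x : Perm α) (a : α) : Finset α :=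
  (Finset.range (minimalPeriod x a)).image fun i => (x ^ i) a

/-- The fixed points. -/
def fixd (x : Perm α) : Finset α := Finset.univ.filter fun a => x a = a

/-- The points on cycles of length less than `2 ^ k`. -/
noncomputable def below (x : Perm α) (k : ℕ) : Finset α :=
  Finset.univ.filter fun a => minimalPeriod x a < 2 ^ k

/-- At most two fixed points and nontrivial cycles of distinct lengths. -/
def UCycle (x : Perm α) : Prop :=
  (∀ a b, 1 < minimalPeriod x a → minimalPeriod x a = minimalPeriod x b → x.SameCycle a b) ∧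
    (fixd x).card ≤ 2

theorem pow_apply_eq_iff (x : Perm α) (n : ℕ) (a : α) :
    (x ^ n) a = a ↔ minimalPeriod x a ∣ n := by
  rw [coe_pow]
  exact isPeriodicPt_iff_minimalPeriod_dvd

theorem period_pos (x : Perm α) (a : α) : 0 < minimalPeriod x a := by
  rcases Nat.eq_zero_or_pos (minimalPeriod x a) with h | h
  · have h1 : minimalPeriod x a ∣ orderOf x :=
      (pow_apply_eq_iff x _ a).1 (by rw [pow_orderOf_eq_one]; rfl)
    rw [h, zero_dvd_iff] at h1
    exact absurd h1 (orderOf_pos x).ne'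
  · exact h

theorem pow_mod_apply (x : Perm α) (n : ℕ) (a : α) :
    (x ^ (n % minimalPeriod x a)) a = (x ^ n) a := by
  rw [coe_pow, coe_pow]
  exact iterate_mod_minimalPeriod_eq

theorem mem_orb_iff {a b : α} : b ∈ orb x a ↔ x.SameCycle a b := by
  constructor
  · intro h
    obtain ⟨i, -, rfl⟩ := Finset.mem_image.1 h
    exact ⟨i, by rw [zpow_natCast]⟩
  · intro h
    obtain ⟨i, rfl⟩ := h.exists_nat_pow_eq
    exact Finset.mem_image.2 ⟨i % minimalPeriod x a,
      Finset.mem_range.2 (Nat.mod_lt _ (period_pos x a)), pow_mod_apply x i a⟩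

theorem card_orb (a : α) : (orb x a).card = minimalPeriod x a := by
  rw [orb, Finset.card_image_of_injOn, Finset.card_range]
  intro i hi j hj hij
  simp only [coe_pow] at hij
  exact (iterate_eq_iterate_iff_of_lt_minimalPeriod (Finset.mem_range.1 hi)
    (Finset.mem_range.1 hj)).1 hij

theorem self_mem_orb (a : α) : a ∈ orb x a := mem_orb_iff.2 (SameCycle.refl _ _)

theorem orb_eq {a b : α} (h : x.SameCycle a b) : orb x a = orb x b := by
  ext c
  rw [mem_orb_iff, mem_orb_iff]
  exact ⟨fun h' => h.symm.trans h', fun h' => h.trans h'⟩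

theorem period_eq {a b : α} (h : x.SameCycle a b) : minimalPeriod x a = minimalPeriod x b := by
  rw [← card_orb a, ← card_orb b, orb_eq h]

theorem period_eq_one_iff {a : α} : minimalPeriod x a = 1 ↔ x a = a := by
  constructor
  · intro h
    simpa using (pow_apply_eq_iff x 1 a).2 (by rw [h])
  · intro h
    exact Nat.dvd_one.1 ((pow_apply_eq_iff x 1 a).1 (by simpa using h))

theorem exists_period (hx : ∃ N, orderOf x = 2 ^ N) (a : α) :
    ∃ e, minimalPeriod x a = 2 ^ e := by
  obtain ⟨N, hN⟩ := hx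
  obtain ⟨e, -, he⟩ := (Nat.dvd_prime_pow Nat.prime_two).1
    (hN ▸ (pow_apply_eq_iff x (orderOf x) a).1 (by rw [pow_orderOf_eq_one]; rfl))
  exact ⟨e, he⟩

theorem closed_pow {U : Finset α} (hU : ∀ a ∈ U, x a ∈ U) :
    ∀ (i : ℕ) {a : α}, a ∈ U → (x ^ i) a ∈ U := by
  intro i
  induction i with
  | zero => intro a ha; simpa using ha
  | succ i ih => intro a ha; rw [pow_succ', Perm.mul_apply]; exact hU _ (ih ha)

theorem orb_subset {U : Finset α} (hU : ∀ a ∈ U, x a ∈ U) {a : α} (ha : a ∈ U) :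
    orb x a ⊆ U := by
  intro c hc
  obtain ⟨i, -, rfl⟩ := Finset.mem_image.1 hc
  exact closed_pow hU i ha

theorem log_period {a : α} {e : ℕ} (h : minimalPeriod x a = 2 ^ e) :
    Nat.log 2 (minimalPeriod x a) = e := by
  rw [h, Nat.log_pow (by norm_num)]

theorem log_moved {U : Finset α} (hx : ∃ N, orderOf x = 2 ^ N) {e : ℕ}
    (he : e ∈ (U.filter fun a => ¬ x a = a).image fun a => Nat.log 2 (minimalPeriod x a)) :
    1 ≤ e ∧ ∃ a ∈ U, minimalPeriod x a = 2 ^ e := by
  obtain ⟨a, ha, rfl⟩ := Finset.mem_image.1 he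
  obtain ⟨haU, hmv⟩ := Finset.mem_filter.1 ha
  obtain ⟨f, hf⟩ := exists_period hx a
  rw [log_period hf]
  refine ⟨Nat.pos_of_ne_zero fun h0 => hmv (period_eq_one_iff.1 ?_), a, haU, hf⟩
  rw [hf, h0, pow_zero]

/-- The size of an invariant set. -/
theorem card_closed (hu : UCycle x) (hx : ∃ N, orderOf x = 2 ^ N) {U : Finset α}
    (hU : ∀ a ∈ U, x a ∈ U) :
    U.card = (U.filter fun a => x a = a).card +
      ∑ e ∈ (U.filter fun a => ¬ x a = a).image (fun a => Nat.log 2 (minimalPeriod x a)), 2 ^ e := by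
  rw [← Finset.card_filter_add_card_filter_not (s := U) (fun a => x a = a)]
  congr 1
  rw [Finset.card_eq_sum_card_image (fun a => Nat.log 2 (minimalPeriod x a))]
  refine Finset.sum_congr rfl fun e he => ?_
  obtain ⟨he1, a, haU, hL⟩ := log_moved hx he
  rw [← hL, ← card_orb a]
  congr 1
  ext c
  simp only [Finset.mem_filter]
  constructor
  · rintro ⟨⟨-, hmv⟩, hlog⟩
    obtain ⟨f, hf⟩ := exists_period hx c
    rw [log_period hf] at hlog
    subst hlog
    refine mem_orb_iff.2 (hu.1 a c ?_ (hL.trans hf.symm))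
    rw [hL]
    exact Nat.one_lt_two_pow (by omega)
  · intro hc
    have hsame := period_eq (mem_orb_iff.1 hc)
    refine ⟨⟨orb_subset hU haU hc, fun h => ?_⟩, log_period (hsame ▸ hL)⟩
    have h1 := period_eq_one_iff.2 h
    rw [← hsame, hL] at h1
    have := Nat.one_lt_two_pow (n := e) (by omega)
    omega

theorem sum_Ico_two_pow {k : ℕ} (hk : 1 ≤ k) : (∑ e ∈ Finset.Ico 1 k, 2 ^ e) + 2 = 2 ^ k := by
  induction k, hk using Nat.le_induction with
  | base => simp
  | succ k hk ih =>
    rw [Finset.sum_Ico_succ_top hk, pow_succ]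
    omega

/-- An invariant set of 2-power size without fixed points is one cycle. -/
theorem closed_eq_orb (hu : UCycle x) (hx : ∃ N, orderOf x = 2 ^ N) {U : Finset α}
    (hU : ∀ a ∈ U, x a ∈ U) {k : ℕ} (hcard : U.card = 2 ^ k) (hfix : ∀ a ∈ U, x a ≠ a) {a : α}
    (ha : a ∈ U) : U = orb x a := by
  have h := card_closed hu hx hU
  rw [hcard, Finset.filter_eq_empty_iff.2 hfix, Finset.card_empty, zero_add] at h
  have hS : ((U.filter fun a => ¬ x a = a).image fun a => Nat.log 2 (minimalPeriod x a)) = {k} :=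
    Finset.geomSum_injective (n := 2) le_rfl (by simpa using h.symm)
  refine (Finset.eq_of_subset_of_card_le (orb_subset hU ha) ?_).symm
  obtain ⟨e, he⟩ := exists_period hx a
  have hek : e ∈ ({k} : Finset ℕ) :=
    hS ▸ Finset.mem_image.2 ⟨a, Finset.mem_filter.2 ⟨ha, hfix a ha⟩, log_period he⟩
  rw [hcard, card_orb, he, Finset.mem_singleton.1 hek]

/-- An invariant set of even 2-power size with a fixed point is the set of short cycles. -/
theorem closed_eq_below (hu : UCycle x) (hx : ∃ N, orderOf x = 2 ^ N) {U : Finset α}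
    (hU : ∀ a ∈ U, x a ∈ U) {k : ℕ} (hk : 1 ≤ k) (hcard : U.card = 2 ^ k) {c : α} (hc : c ∈ U)
    (hcf : x c = c) :
    U = below x k ∧ (fixd x).card = 2 ∧ ∀ e, 1 ≤ e → e < k → ∃ a, minimalPeriod x a = 2 ^ e := by
  set S := (U.filter fun a => ¬ x a = a).image fun a => Nat.log 2 (minimalPeriod x a) with hSdef
  have h := card_closed hu hx hU
  rw [hcard, ← hSdef] at h
  have hsub : (U.filter fun a => x a = a) ⊆ fixd x := fun a ha =>
    Finset.mem_filter.2 ⟨Finset.mem_univ _, (Finset.mem_filter.1 ha).2⟩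
  have hle := (Finset.card_le_card hsub).trans hu.2
  have hpos : 0 < (U.filter fun a => x a = a).card :=
    Finset.card_pos.2 ⟨c, Finset.mem_filter.2 ⟨hc, hcf⟩⟩
  have hev : 2 ∣ ∑ e ∈ S, 2 ^ e :=
    Finset.dvd_sum fun e he => dvd_pow_self 2 (by have := (log_moved hx he).1; omega)
  have h2k : 2 ∣ 2 ^ k := dvd_pow_self 2 (by omega)
  have h2 : (U.filter fun a => x a = a).card = 2 := by omega
  have hfeq : (U.filter fun a => x a = a) = fixd x :=
    Finset.eq_of_subset_of_card_le hsub (by rw [h2]; exact hu.2)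
  have hS : S = Finset.Ico 1 k := by
    refine Finset.geomSum_injective (n := 2) le_rfl ?_
    show ∑ e ∈ S, 2 ^ e = ∑ e ∈ Finset.Ico 1 k, 2 ^ e
    have := sum_Ico_two_pow hk
    omega
  refine ⟨?_, by rw [← hfeq, h2], fun e he1 he2 => ?_⟩
  · ext a
    simp only [below, Finset.mem_filter, Finset.mem_univ, true_and]
    obtain ⟨e, he⟩ := exists_period hx a
    constructor
    · intro ha
      by_cases hmv : x a = a
      · rw [period_eq_one_iff.2 hmv]
        exact Nat.one_lt_two_pow (by omega)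
      · have hmem : e ∈ S := Finset.mem_image.2 ⟨a, Finset.mem_filter.2 ⟨ha, hmv⟩, log_period he⟩
        rw [hS, Finset.mem_Ico] at hmem
        rw [he]
        exact Nat.pow_lt_pow_right (by norm_num) hmem.2
    · intro hlt
      rw [he, Nat.pow_lt_pow_iff_right (by norm_num)] at hlt
      rcases Nat.eq_zero_or_pos e with h0 | hepos
      · have hfx : a ∈ fixd x := Finset.mem_filter.2
          ⟨Finset.mem_univ _, period_eq_one_iff.1 (by rw [he, h0, pow_zero])⟩
        rw [← hfeq] at hfx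
        exact (Finset.mem_filter.1 hfx).1
      · have hmem : e ∈ S := by rw [hS, Finset.mem_Ico]; omega
        obtain ⟨-, b, hb, hLb⟩ := log_moved hx hmem
        refine orb_subset hU hb (mem_orb_iff.2 (hu.1 b a ?_ (hLb.trans he.symm)))
        rw [hLb]
        exact Nat.one_lt_two_pow (by omega)
  · have hmem : e ∈ S := by rw [hS, Finset.mem_Ico]; omega
    obtain ⟨-, b, -, hLb⟩ := log_moved hx hmem
    exact ⟨b, hLb⟩

/-- A partition into classes of one size, permuted by `x`. -/
structure Uniform (x : Perm α) (k : ℕ) (C : α → Finset α) : Prop where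
  mem : ∀ b, b ∈ C b
  eq : ∀ {b c}, c ∈ C b → C c = C b
  card : ∀ b, (C b).card = 2 ^ k
  image : ∀ b, (C b).image x = C (x b)

theorem Uniform.image_pow {k : ℕ} {C : α → Finset α} (h : Uniform x k C) (i : ℕ) (b : α) :
    (C b).image ⇑(x ^ i) = C ((x ^ i) b) := by
  induction i with
  | zero => simp
  | succ i ih =>
    rw [pow_succ', coe_mul, ← Finset.image_image, ih]
    exact h.image _

theorem Uniform.eq_below (hu : UCycle x) (hx : ∃ N, orderOf x = 2 ^ N) {k : ℕ} (hk : 1 ≤ k)
    {C : α → Finset α} (h : Uniform x k C) {b c : α} (hc : c ∈ C b) (hcf : x c = c) :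
    C b = below x k := by
  rw [← h.eq hc]
  refine (closed_eq_below hu hx (fun a ha => ?_) hk (h.card c) (h.mem c) hcf).1
  have h1 := Finset.mem_image_of_mem x ha
  rwa [h.image, hcf] at h1

theorem Uniform.eq_stride (hu : UCycle x) (hx : ∃ N, orderOf x = 2 ^ N) {k : ℕ}
    {C : α → Finset α} (h : Uniform x k C) {b : α} (hnf : ∀ c ∈ C b, x c ≠ c) :
    C b = (Finset.range (2 ^ k)).image fun i => (x ^ (minimalPeriod x b / 2 ^ k * i)) b := by
  obtain ⟨N, hN⟩ := hx
  have hex : ∃ r, 0 < r ∧ C ((x ^ r) b) = C b :=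
    ⟨orderOf x, orderOf_pos x, by rw [pow_orderOf_eq_one]; rfl⟩
  set r := Nat.find hex with hr
  obtain ⟨hr0, hrC⟩ := Nat.find_spec hex
  have hmul : ∀ q, C ((x ^ (r * q)) b) = C b := by
    intro q
    induction q with
    | zero => simp
    | succ q ih =>
      rw [Nat.mul_succ, add_comm, pow_add, Perm.mul_apply, ← h.image_pow, ih, h.image_pow, hrC]
  have hdvd : ∀ n, C ((x ^ n) b) = C b → r ∣ n := by
    intro n hn
    by_contra hnd
    have hlt : n % r < r := Nat.mod_lt _ hr0
    refine Nat.find_min hex hlt ⟨Nat.pos_of_ne_zero fun h0 => hnd (Nat.dvd_of_mod_eq_zero h0), ?_⟩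
    rw [← hn]
    conv_rhs => rw [← Nat.mod_add_div n r, pow_add, Perm.mul_apply]
    rw [← h.image_pow, ← h.image_pow, hmul]
  obtain ⟨t, -, ht⟩ := (Nat.dvd_prime_pow Nat.prime_two).1
    (hN ▸ hdvd (orderOf x) (by rw [pow_orderOf_eq_one]; rfl))
  set U := (Finset.range r).biUnion fun i => C ((x ^ i) b) with hUdef
  have hbU : b ∈ U := Finset.mem_biUnion.2 ⟨0, Finset.mem_range.2 hr0, by simpa using h.mem b⟩
  have hU : ∀ a ∈ U, x a ∈ U := by
    intro a ha
    obtain ⟨i, hi, hai⟩ := Finset.mem_biUnion.1 ha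
    have h1 := Finset.mem_image_of_mem x hai
    rw [h.image, ← Perm.mul_apply, ← pow_succ'] at h1
    rcases (Nat.succ_le_of_lt (Finset.mem_range.1 hi)).lt_or_eq with hlt | heq
    · exact Finset.mem_biUnion.2 ⟨i + 1, Finset.mem_range.2 hlt, h1⟩
    · refine Finset.mem_biUnion.2 ⟨0, Finset.mem_range.2 hr0, ?_⟩
      rw [show i + 1 = r from heq, hrC] at h1
      simpa using h1
  have hkey : ∀ i j, i < j → j < r → C ((x ^ i) b) ≠ C ((x ^ j) b) := by
    intro i j hij hjr hC
    have h1 := hdvd (j - i) (by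
      have h2 : C ((x ^ i) ((x ^ (j - i)) b)) = C ((x ^ i) b) := by
        rw [← Perm.mul_apply, ← pow_add, Nat.add_sub_cancel' hij.le, hC]
      exact Finset.image_injective (x ^ i).injective (by rw [h.image_pow, h.image_pow]; exact h2))
    have := Nat.le_of_dvd (by omega) h1
    omega
  have hcard : U.card = 2 ^ (t + k) := by
    rw [hUdef, Finset.card_biUnion, Finset.sum_congr rfl fun i _ => h.card _, Finset.sum_const,
      Finset.card_range, smul_eq_mul, pow_add, ← ht]
    intro i hi j hj hij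
    simp only [Function.onFun, Finset.disjoint_left]
    intro a ha ha'
    have hC := (h.eq ha).symm.trans (h.eq ha')
    rcases lt_or_gt_of_ne hij with hlt | hlt
    · exact hkey i j hlt (Finset.mem_range.1 hj) hC
    · exact hkey j i hlt (Finset.mem_range.1 hi) hC.symm
  have hfix : ∀ a ∈ U, x a ≠ a := by
    intro a ha hfa
    obtain ⟨i, -, hai⟩ := Finset.mem_biUnion.1 ha
    rw [← h.image_pow] at hai
    obtain ⟨a', ha', hia⟩ := Finset.mem_image.1 hai
    have hfi : (x ^ i) a = a := by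
      clear hia hai
      induction i with
      | zero => rfl
      | succ i ih => rw [pow_succ, Perm.mul_apply, hfa, ih]
    exact hnf a' ha' (by rwa [(x ^ i).injective (hia.trans hfi.symm)])
  have hUorb := closed_eq_orb hu ⟨N, hN⟩ hU hcard hfix hbU
  have hL : minimalPeriod x b = 2 ^ (t + k) := by rw [← card_orb, ← hUorb, hcard]
  have hdiv : minimalPeriod x b / 2 ^ k = r := by
    rw [hL, pow_add, Nat.mul_div_cancel _ (by positivity), ← ht]
  rw [hdiv]
  refine (Finset.eq_of_subset_of_card_le (fun a ha => ?_) ?_).symm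
  · obtain ⟨i, -, rfl⟩ := Finset.mem_image.1 ha
    rw [← hmul i]
    exact h.mem _
  · rw [h.card, Finset.card_image_of_injOn, Finset.card_range]
    intro i hi j hj hij
    simp only [Perm.coe_pow] at hij
    have hlt : ∀ l, l < 2 ^ k → r * l < minimalPeriod x b := fun l hl => by
      rw [hL, pow_add, ← ht]
      exact mul_lt_mul_of_pos_left hl hr0
    exact Nat.eq_of_mul_eq_mul_left hr0 ((iterate_eq_iterate_iff_of_lt_minimalPeriod
      (hlt i (Finset.mem_range.1 hi)) (hlt j (Finset.mem_range.1 hj))).1 hij)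

/-- A partition of this kind is determined by `x`. -/
theorem Uniform.unique (hu : UCycle x) (hx : ∃ N, orderOf x = 2 ^ N) {k : ℕ}
    {C C' : α → Finset α} (h : Uniform x k C) (h' : Uniform x k C') (b : α) : C b = C' b := by
  rcases Nat.eq_zero_or_pos k with hk | hk
  · subst hk
    have hs : ∀ {D : α → Finset α}, Uniform x 0 D → D b = {b} := fun hD =>
      (Finset.eq_singleton_iff_unique_mem.2 ⟨hD.mem b, fun y hy =>
        Finset.card_le_one.1 (le_of_eq (hD.card b)) y hy b (hD.mem b)⟩)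
    rw [hs h, hs h']
  have key : ∀ {D D' : α → Finset α}, Uniform x k D → Uniform x k D' →
      (∃ c ∈ D b, x c = c) → D b = D' b := by
    rintro D D' hD hD' ⟨c, hc, hcf⟩
    have h1 := hD.eq_below hu hx hk hc hcf
    have hb : b ∈ D' c := by
      rw [hD'.eq_below hu hx hk (hD'.mem c) hcf, ← h1]
      exact hD.mem b
    rw [h1, hD'.eq hb, hD'.eq_below hu hx hk (hD'.mem c) hcf]
  by_cases h1 : ∃ c ∈ C b, x c = c
  · exact key h h' h1
  by_cases h2 : ∃ c ∈ C' b, x c = c
  · exact (key h' h h2).symm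
  push Not at h1 h2
  rw [h.eq_stride hu hx h1, h'.eq_stride hu hx h2]

/-- A 2-group on `2 ^ m` points lies in a transitive one. -/
theorem exists_transitive_sylow {m : ℕ} (hα : Fintype.card α = 2 ^ m) (A : Subgroup (Perm α))
    (hA : IsPGroup 2 A) :
    ∃ P : Subgroup (Perm α), A ≤ P ∧ IsPGroup 2 P ∧ ∀ a b : α, ∃ g ∈ P, g a = b := by
  haveI : Fact (Nat.Prime 2) := ⟨Nat.prime_two⟩
  obtain ⟨Q, hQ⟩ := hA.exists_le_sylow
  refine ⟨Q, hQ, Q.2, fun a b => ?_⟩
  have hst : (MulAction.stabilizer (Perm α) a).index = 2 ^ m := by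
    rw [MulAction.index_stabilizer_of_transitive, Nat.card_eq_fintype_card, hα]
  set T := MulAction.stabilizer (Perm α) a
  set R := MulAction.stabilizer (Q : Subgroup (Perm α)) a
  have hmul : Nat.card (MulAction.orbit (Q : Subgroup (Perm α)) a) * Nat.card R =
      Nat.card (Q : Subgroup (Perm α)) := by
    rw [← Nat.card_prod]
    exact Nat.card_congr (MulAction.orbitProdStabilizerEquivGroup (Q : Subgroup (Perm α)) a)
  have hR : Nat.card R * 2 ^ m ∣ Nat.card (Perm α) := by
    rw [← Subgroup.card_mul_index T, hst]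
    refine Nat.mul_dvd_mul_right ?_ _
    let f : R →* T := MonoidHom.mk' (fun g => ⟨(g.1 : Perm α), g.2⟩) fun _ _ => rfl
    exact Subgroup.card_dvd_of_injective f fun g h hgh =>
      Subtype.ext (Subtype.ext (congrArg (fun w : T => (w : Perm α)) hgh))
  obtain ⟨s, hs⟩ := (IsPGroup.to_subgroup Q.2 R).exists_card_eq
  rw [hs, ← pow_add] at hR
  have hle : s + m ≤ (Nat.card (Perm α)).factorization 2 :=
    (Nat.Prime.pow_dvd_iff_le_factorization Nat.prime_two Nat.card_pos.ne').1 hR
  rw [hs, Q.card_eq_multiplicity] at hmul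
  have horb : Nat.card α ≤ Nat.card (MulAction.orbit (Q : Subgroup (Perm α)) a) := by
    rw [Nat.card_eq_fintype_card, hα]
    by_contra hlt
    push Not at hlt
    have h1 := Nat.mul_lt_mul_of_pos_right hlt (by positivity : 0 < 2 ^ s)
    rw [hmul, ← pow_add, Nat.pow_lt_pow_iff_right (by norm_num)] at h1
    omega
  have huniv : MulAction.orbit (Q : Subgroup (Perm α)) a = Set.univ :=
    Set.eq_of_subset_of_ncard_le (Set.subset_univ _) (by
      rw [Set.ncard_univ, ← Nat.card_coe_set_eq]; exact horb)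
  obtain ⟨g, hg⟩ := (huniv.ge (Set.mem_univ b) : b ∈ MulAction.orbit (Q : Subgroup (Perm α)) a)
  exact ⟨g, g.2, hg⟩

/-- A transitive 2-group containing `x` has nested invariant partitions into classes of size `2^k`. -/
theorem exists_blocks {m : ℕ} (hα : Fintype.card α = 2 ^ m) (P : Subgroup (Perm α))
    (hP : IsPGroup 2 P) (htr : ∀ a b : α, ∃ g ∈ P, g a = b) (hxP : x ∈ P) :
    ∃ C : ℕ → α → Finset α, (∀ k, k ≤ m → Uniform x k (C k)) ∧
      (∀ k, k < m → ∀ b, C k b ⊆ C (k + 1) b) ∧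
      ∀ g ∈ P, ∀ k b, (C k b).image g = C k (g b) := by
  classical
  haveI : Fact (Nat.Prime 2) := ⟨Nat.prime_two⟩
  haveI : Nonempty α := Fintype.card_pos_iff.1 (by rw [hα]; positivity)
  let a : α := Classical.arbitrary α
  set R := MulAction.stabilizer P a with hR
  obtain ⟨n, hn⟩ := (hP.to_subgroup R).exists_card_eq
  have hcP : Nat.card P = 2 ^ (n + m) := by
    haveI : MulAction.IsPretransitive P α := ⟨fun u v => by
      obtain ⟨g, hg, hgu⟩ := htr u v
      exact ⟨⟨g, hg⟩, hgu⟩⟩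
    rw [← Subgroup.card_mul_index R, hn, hR, MulAction.index_stabilizer_of_transitive,
      Nat.card_eq_fintype_card, hα, pow_add]
  have hstep : ∀ k, ∀ H : {H : Subgroup P // R ≤ H ∧ (k ≤ m → Nat.card H = 2 ^ (n + k))},
      ∃ K : {H : Subgroup P // R ≤ H ∧ (k + 1 ≤ m → Nat.card H = 2 ^ (n + (k + 1)))},
        H.1 ≤ K.1 := by
    intro k H
    by_cases hk : k + 1 ≤ m
    · obtain ⟨K, hK, hHK⟩ := Sylow.exists_subgroup_card_pow_prime_le (G := P) 2
        (m := n + (k + 1)) (hcP ▸ pow_dvd_pow 2 (by omega)) H.1 (H.2.2 (by omega)) (by omega)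
      exact ⟨⟨K, H.2.1.trans hHK, fun _ => hK⟩, hHK⟩
    · exact ⟨⟨⊤, le_top, fun h => absurd h hk⟩, le_top⟩
  choose next hnext using hstep
  let Hk : ∀ k, {H : Subgroup P // R ≤ H ∧ (k ≤ m → Nat.card H = 2 ^ (n + k))} := fun k =>
    Nat.rec ⟨R, le_rfl, fun _ => hn⟩ (fun k H => next k H) k
  let C : ℕ → α → Finset α := fun k b =>
    Finset.univ.filter fun c => ∃ g h : P, h ∈ (Hk k).1 ∧ (g : Perm α) a = b ∧
      ((g * h : P) : Perm α) a = c
  have hC : ∀ k b c, c ∈ C k b ↔ ∀ g : P, (g : Perm α) a = b →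
      ∃ h ∈ (Hk k).1, ((g * h : P) : Perm α) a = c := by
    intro k b c
    simp only [C, Finset.mem_filter, Finset.mem_univ, true_and]
    constructor
    · rintro ⟨g₀, h, hh, hg₀, hgh⟩ g hg
      have hs : g⁻¹ * g₀ ∈ R := by
        show ((g⁻¹ * g₀ : P) : Perm α) a = a
        rw [Subgroup.coe_mul, Perm.mul_apply, hg₀, Subgroup.coe_inv, ← hg]
        exact Equiv.symm_apply_apply _ _
      refine ⟨g⁻¹ * g₀ * h, mul_mem ((Hk k).2.1 hs) hh, ?_⟩
      rwa [← mul_assoc, ← mul_assoc, mul_inv_cancel, one_mul]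
    · intro h0
      obtain ⟨g, hg, hgb⟩ := htr a b
      obtain ⟨h, hh, hgh⟩ := h0 ⟨g, hg⟩ hgb
      exact ⟨⟨g, hg⟩, h, hh, hgb, hgh⟩
  have hmem : ∀ k b, b ∈ C k b := fun k b =>
    (hC k b b).2 fun g hg => ⟨1, one_mem _, by rw [mul_one]; exact hg⟩
  have himg : ∀ g ∈ P, ∀ k b, (C k b).image g = C k (g b) := by
    intro g hg k b
    ext c
    rw [Finset.mem_image, hC]
    constructor
    · rintro ⟨c', hc', rfl⟩ u hu
      have h1 := (hC k b c').1 hc' (⟨g, hg⟩⁻¹ * u) (by
        rw [Subgroup.coe_mul, Perm.mul_apply, hu]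
        exact Equiv.symm_apply_apply _ _)
      obtain ⟨h, hh, hgh⟩ := h1
      refine ⟨h, hh, ?_⟩
      rw [← hgh, ← Perm.mul_apply]
      congr 1
      simp [mul_assoc]
    · intro h0
      obtain ⟨u, hu, hub⟩ := htr a b
      obtain ⟨h, hh, hgh⟩ := h0 (⟨g, hg⟩ * ⟨u, hu⟩) (by
        rw [Subgroup.coe_mul, Perm.mul_apply, hub])
      refine ⟨((⟨u, hu⟩ * h : P) : Perm α) a, (hC k b _).2 fun g' hg' => ?_, ?_⟩
      · have hs : g'⁻¹ * ⟨u, hu⟩ ∈ R := by
          show ((g'⁻¹ * ⟨u, hu⟩ : P) : Perm α) a = a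
          rw [Subgroup.coe_mul, Perm.mul_apply, hub, Subgroup.coe_inv, ← hg']
          exact Equiv.symm_apply_apply _ _
        refine ⟨g'⁻¹ * ⟨u, hu⟩ * h, mul_mem ((Hk k).2.1 hs) hh, ?_⟩
        rw [← mul_assoc, ← mul_assoc, mul_inv_cancel, one_mul]
      · rw [← hgh, ← Perm.mul_apply]
        simp [mul_assoc]
  have hback : ∀ (k : ℕ) (g h : P), h ∈ (Hk k).1 →
      C k (((g * h : P) : Perm α) a) = C k ((g : Perm α) a) := by
    intro k g h hh
    ext d
    rw [hC, hC]
    constructor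
    · intro hd u hu
      have hs : u⁻¹ * g ∈ R := by
        show ((u⁻¹ * g : P) : Perm α) a = a
        rw [Subgroup.coe_mul, Perm.mul_apply, ← hu, Subgroup.coe_inv]
        exact Equiv.symm_apply_apply _ _
      obtain ⟨h', hh', hd'⟩ := hd (g * h) rfl
      exact ⟨u⁻¹ * g * h * h', mul_mem (mul_mem ((Hk k).2.1 hs) hh) hh', by
        rw [← hd']; simp [mul_assoc]⟩
    · intro hd u hu
      have hs : u⁻¹ * (g * h) ∈ R := by
        show ((u⁻¹ * (g * h) : P) : Perm α) a = a
        rw [Subgroup.coe_mul, Perm.mul_apply, ← hu, Subgroup.coe_inv]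
        exact Equiv.symm_apply_apply _ _
      obtain ⟨h', hh', hd'⟩ := hd g rfl
      exact ⟨u⁻¹ * (g * h) * h⁻¹ * h', mul_mem (mul_mem ((Hk k).2.1 hs) (inv_mem hh)) hh', by
        rw [← hd']; simp [mul_assoc]⟩
  refine ⟨C, fun k hk => ⟨hmem k, ?_, ?_, himg x hxP k⟩, ?_, himg⟩
  · intro b c hc
    obtain ⟨g, hg, hgb⟩ := htr a b
    obtain ⟨h, hh, hgh⟩ := (hC k b c).1 hc ⟨g, hg⟩ hgb
    rw [← hgh, ← hgb]
    exact hback k ⟨g, hg⟩ h hh
  · intro b
    obtain ⟨g, hg, hgb⟩ := htr a b
    have hset : C k b = ((Set.toFinite ((fun h : (Hk k).1 => ((⟨g, hg⟩ * h : P) : Perm α) a) ''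
        Set.univ)).toFinset) := by
      ext c
      rw [Set.Finite.mem_toFinset, hC]
      constructor
      · intro h0
        obtain ⟨h, hh, hc⟩ := h0 ⟨g, hg⟩ hgb
        exact ⟨⟨h, hh⟩, trivial, hc⟩
      · rintro ⟨h, -, rfl⟩
        exact (hC k b _).1 (Finset.mem_filter.2 ⟨Finset.mem_univ _, ⟨g, hg⟩, h, h.2, hgb, rfl⟩)
    rw [hset, ← Set.ncard_eq_toFinset_card _ _, show (fun h : (Hk k).1 =>
      ((⟨g, hg⟩ * h : P) : Perm α) a) = (fun c => g c) ∘ (fun h : (Hk k).1 => h • a) from rfl,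
      Set.image_comp, Set.ncard_image_of_injective _ g.injective, Set.image_univ]
    show (MulAction.orbit (Hk k).1 a).ncard = _
    have hmul : Nat.card (MulAction.orbit (Hk k).1 a) *
        Nat.card (MulAction.stabilizer (Hk k).1 a) = Nat.card (Hk k).1 := by
      rw [← Nat.card_prod]
      exact Nat.card_congr (MulAction.orbitProdStabilizerEquivGroup (Hk k).1 a)
    have heq : MulAction.stabilizer (Hk k).1 a = R.subgroupOf (Hk k).1 := by ext; rfl
    have hst : Nat.card (MulAction.stabilizer (Hk k).1 a) = 2 ^ n := by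
      rw [heq, Nat.card_congr (Subgroup.subgroupOfEquivOfLe (Hk k).2.1).toEquiv]
      exact hn
    have hmul2 := hmul.trans ((Hk k).2.2 hk)
    rw [hst] at hmul2
    rw [← Nat.card_coe_set_eq]
    exact Nat.eq_of_mul_eq_mul_right (by positivity : 0 < 2 ^ n)
      (hmul2.trans (by rw [pow_add, mul_comm]))
  · intro k _ b c hc
    refine (hC (k + 1) b c).2 fun g hg => ?_
    obtain ⟨h, hh, hgh⟩ := (hC k b c).1 hc g hg
    exact ⟨h, hnext k (Hk k) hh, hgh⟩

/-- The transitive case. -/
theorem isPGroup_sup_transitive (hu : UCycle x) (hx : ∃ N, orderOf x = 2 ^ N) {m : ℕ}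
    (hα : Fintype.card α = 2 ^ m) {A B : Subgroup (Perm α)} (hA : IsPGroup 2 A)
    (hB : IsPGroup 2 B) (hxA : x ∈ A) (hxB : x ∈ B) : IsPGroup 2 (A ⊔ B : Subgroup (Perm α)) := by
  classical
  obtain ⟨P, hAP, hP, htrP⟩ := exists_transitive_sylow hα A hA
  obtain ⟨Q, hBQ, hQ, htrQ⟩ := exists_transitive_sylow hα B hB
  obtain ⟨C, hC, hnest, hCP⟩ := exists_blocks hα P hP htrP (hAP hxA)
  obtain ⟨D, hD, -, hDQ⟩ := exists_blocks hα Q hQ htrQ (hBQ hxB)
  have hpres : ∀ g ∈ A ⊔ B, ∀ k, k ≤ m → ∀ b, (C k b).image g = C k (g b) := by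
    intro g hg k hk
    rw [Subgroup.sup_eq_closure] at hg
    induction hg using Subgroup.closure_induction with
    | mem g hg =>
      intro b
      rcases hg with hg | hg
      · exact hCP g (hAP hg) k b
      · rw [(hC k hk).unique hu hx (hD k hk), (hC k hk).unique hu hx (hD k hk)]
        exact hDQ g (hBQ hg) k b
    | one => intro b; simp
    | mul g h _ _ ihg ihh =>
      intro b
      rw [coe_mul, ← Finset.image_image, ihh, ihg]
      rfl
    | inv g _ ihg =>
      intro b
      conv_lhs => rw [show b = g (g⁻¹ b) from (Equiv.apply_symm_apply g b).symm]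
      rw [← ihg (g⁻¹ b), Finset.image_image]
      simp [Function.comp_def]
  refine fun g => ⟨m, ?_⟩
  obtain ⟨g, hg⟩ := g
  refine Subtype.ext ?_
  rw [SubmonoidClass.coe_pow]
  show g ^ 2 ^ m = 1
  have key : ∀ j, j ≤ m → ∀ b, C (m - j) ((g ^ 2 ^ j) b) = C (m - j) b := by
    intro j
    induction j with
    | zero =>
      intro _ b
      have huniv : ∀ c, C m c = Finset.univ := fun c => Finset.eq_of_subset_of_card_le
        (Finset.subset_univ _) (by rw [Finset.card_univ, hα, (hC m le_rfl).card])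
      rw [Nat.sub_zero, huniv, huniv]
    | succ j ih =>
      intro hj b
      set k := m - (j + 1) with hk
      have hk1 : m - j = k + 1 := by omega
      have hCk := hC k (by omega)
      have hCk1 := hC (k + 1) (by omega)
      set h := g ^ 2 ^ j with hh
      have hh1 : ∀ c, C (k + 1) (h c) = C (k + 1) c := fun c => hk1 ▸ ih (by omega) c
      have himg : ∀ c, (C k c).image h = C k (h c) :=
        fun c => hpres h (pow_mem hg _) k (by omega) c
      rw [pow_succ, pow_mul, ← hh, pow_two, Perm.mul_apply]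
      by_cases hcase : C k (h b) = C k b
      · rw [← himg, hcase, himg, hcase]
      have hdisj : Disjoint (C k (h b)) (C k b) := Finset.disjoint_left.2 fun c hc hc' =>
        hcase ((hCk.eq hc).symm.trans (hCk.eq hc'))
      have hunion : C k (h b) ∪ C k b = C (k + 1) b := by
        refine Finset.eq_of_subset_of_card_le (Finset.union_subset ?_ (hnest k (by omega) b)) ?_
        · rw [← hh1 b]; exact hnest k (by omega) (h b)
        · rw [Finset.card_union_of_disjoint hdisj, hCk.card, hCk.card, hCk1.card, pow_succ]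
          omega
      have hmem : h (h b) ∈ C k (h b) ∪ C k b := by
        rw [hunion, ← hh1 b, ← hh1 (h b)]
        exact hCk1.mem _
      rcases Finset.mem_union.1 hmem with h' | h'
      · refine absurd ?_ hcase
        have h2 := hCk.eq h'
        exact Finset.image_injective h.injective (by rw [himg, himg]; exact h2)
      · exact hCk.eq h'
  refine Equiv.ext fun b => ?_
  have h0 := key m le_rfl b
  rw [Nat.sub_self] at h0
  have hC0 := hC 0 (Nat.zero_le m)
  have hb : (g ^ 2 ^ m) b ∈ C 0 b := h0 ▸ hC0.mem _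
  exact Finset.card_le_one.1 (le_of_eq (hC0.card b)) _ hb _ (hC0.mem b)

theorem period_subtypePerm {p : α → Prop} (h : ∀ a, p (x a) ↔ p a) (a : {a // p a}) :
    minimalPeriod (x.subtypePerm h) a = minimalPeriod x (a : α) := by
  refine minimalPeriod_eq_minimalPeriod_iff.2 fun n => ?_
  show (x.subtypePerm h)^[n] a = a ↔ x^[n] (a : α) = a
  rw [← coe_pow, ← coe_pow, subtypePerm_pow, Subtype.ext_iff]
  rfl

theorem ucycle_subtypePerm (hu : UCycle x) {p : α → Prop} [DecidablePred p]
    (h : ∀ a, p (x a) ↔ p a) : UCycle (x.subtypePerm h) := by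
  refine ⟨fun a b h1 h2 => sameCycle_subtypePerm.2 ?_, le_trans ?_ hu.2⟩
  · rw [period_subtypePerm] at h1 h2
    rw [period_subtypePerm] at h2
    exact hu.1 a b h1 h2
  · refine Finset.card_le_card_of_injOn Subtype.val (fun a ha => ?_) Subtype.val_injective.injOn
    have h2 := congrArg Subtype.val (Finset.mem_filter.1 ha).2
    exact Finset.mem_filter.2 ⟨Finset.mem_univ _, h2⟩

/-- Uniqueness. -/
theorem isPGroup_sup (hu : UCycle x) (hx : ∃ N, orderOf x = 2 ^ N) {A B : Subgroup (Perm α)}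
    (hA : IsPGroup 2 A) (hB : IsPGroup 2 B) (hxA : x ∈ A) (hxB : x ∈ B) :
    IsPGroup 2 (A ⊔ B : Subgroup (Perm α)) := by
  classical
  haveI : Fact (Nat.Prime 2) := ⟨Nat.prime_two⟩
  have hexM : ∃ e, 1 ≤ e ∧ ∀ a, minimalPeriod x a ≠ 2 ^ e := by
    refine ⟨Fintype.card α + 1, by omega, fun a h => ?_⟩
    have h1 : minimalPeriod x a ≤ Fintype.card α := card_orb (x := x) a ▸ Finset.card_le_univ _
    have h2 := Nat.lt_two_pow_self (n := Fintype.card α + 1)
    omega
  set M := Nat.find hexM with hM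
  obtain ⟨hM1, hMne⟩ := Nat.find_spec hexM
  have hMlt : ∀ e, 1 ≤ e → e < M → ∃ a, minimalPeriod x a = 2 ^ e := by
    intro e he1 he2
    have := Nat.find_min hexM he2
    push Not at this
    exact this he1
  have hbelow : ∀ k a, a ∈ below x k ↔ minimalPeriod x a < 2 ^ k := fun k a => by simp [below]
  let Y : α → Finset α := fun b =>
    if (fixd x).card = 2 ∧ b ∈ below x M then below x M else orb x b
  have hYeq : ∀ b c, c ∈ Y b → Y c = Y b := by
    intro b c hc
    by_cases hb : (fixd x).card = 2 ∧ b ∈ below x M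
    · simp only [Y, if_pos hb] at hc ⊢
      rw [if_pos ⟨hb.1, hc⟩]
    · simp only [Y, if_neg hb] at hc ⊢
      have hs := mem_orb_iff.1 hc
      rw [if_neg (fun hc' => hb ⟨hc'.1, by rw [hbelow, period_eq hs, ← hbelow]; exact hc'.2⟩),
        orb_eq hs]
  have hYx : ∀ b, ∀ a ∈ Y b, x a ∈ Y b := by
    intro b a ha
    have hs : x.SameCycle a (x a) := ⟨1, by simp⟩
    by_cases hb : (fixd x).card = 2 ∧ b ∈ below x M
    · simp only [Y, if_pos hb] at ha ⊢
      rwa [hbelow, ← period_eq hs, ← hbelow]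
    · simp only [Y, if_neg hb] at ha ⊢
      exact mem_orb_iff.2 ((mem_orb_iff.1 ha).trans hs)
  have hYcard : ∀ b, ∃ e, (Y b).card = 2 ^ e := by
    intro b
    by_cases hb : (fixd x).card = 2 ∧ b ∈ below x M
    · refine ⟨M, ?_⟩
      simp only [Y, if_pos hb]
      rw [card_closed hu hx (fun a ha => by
        rwa [hbelow, ← period_eq (⟨1, by simp⟩ : x.SameCycle a (x a)), ← hbelow])]
      have hf : (below x M).filter (fun a => x a = a) = fixd x := by
        ext a
        simp only [Finset.mem_filter, hbelow, fixd, Finset.mem_univ, true_and, and_iff_right_iff_imp]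
        intro ha
        rw [period_eq_one_iff.2 ha]
        exact Nat.one_lt_two_pow (by omega)
      have hS : ((below x M).filter fun a => ¬ x a = a).image
          (fun a => Nat.log 2 (minimalPeriod x a)) = Finset.Ico 1 M := by
        ext e
        constructor
        · intro he
          obtain ⟨he1, a, ha, hL⟩ := log_moved hx he
          rw [hbelow, hL, Nat.pow_lt_pow_iff_right (by norm_num)] at ha
          exact Finset.mem_Ico.2 ⟨he1, ha⟩
        · intro he
          obtain ⟨he1, he2⟩ := Finset.mem_Ico.1 he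
          obtain ⟨a, ha⟩ := hMlt e he1 he2
          refine Finset.mem_image.2 ⟨a, Finset.mem_filter.2 ⟨?_, fun hf => ?_⟩, log_period ha⟩
          · rw [hbelow, ha]; exact Nat.pow_lt_pow_right (by norm_num) he2
          · rw [period_eq_one_iff.2 hf] at ha
            have := Nat.one_lt_two_pow (n := e) (by omega)
            omega
      rw [hf, hb.1, hS]
      have := sum_Ico_two_pow (k := M) hM1
      omega
    · simp only [Y, if_neg hb]
      rw [card_orb]
      exact exists_period hx b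
  have hYA : ∀ (A : Subgroup (Perm α)), IsPGroup 2 A → x ∈ A →
      ∀ g ∈ A, ∀ b, g b ∈ Y b := by
    intro A hA hxA g hg b
    set T : Finset α := Finset.univ.filter fun c => ∃ h ∈ A, h b = c with hT
    have hTx : ∀ a ∈ T, x a ∈ T := by
      intro a ha
      obtain ⟨-, h, hh, rfl⟩ := Finset.mem_filter.1 ha
      exact Finset.mem_filter.2 ⟨Finset.mem_univ _, x * h, mul_mem hxA hh, rfl⟩
    have hbT : b ∈ T := Finset.mem_filter.2 ⟨Finset.mem_univ _, 1, one_mem _, rfl⟩
    have hgT : g b ∈ T := Finset.mem_filter.2 ⟨Finset.mem_univ _, g, hg, rfl⟩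
    obtain ⟨k, hk⟩ := hA.card_orbit b
    have hTcard : T.card = 2 ^ k := by
      rw [← hk, ← Set.ncard_coe_finset, ← Nat.card_coe_set_eq]
      refine Nat.card_congr (Equiv.setCongr ?_)
      ext c
      simp [T, MulAction.mem_orbit_iff, Subgroup.smul_def]
    rcases Nat.eq_zero_or_pos k with hk0 | hk0
    · rw [hk0, pow_zero] at hTcard
      rw [Finset.card_le_one.1 hTcard.le _ hgT _ hbT]
      by_cases hb : (fixd x).card = 2 ∧ b ∈ below x M
      · simp only [Y, if_pos hb]; exact hb.2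
      · simp only [Y, if_neg hb]; exact self_mem_orb b
    by_cases hfix : ∃ c ∈ T, x c = c
    · obtain ⟨c, hc, hcf⟩ := hfix
      obtain ⟨hTb, hf2, hlen⟩ := closed_eq_below hu hx hTx hk0 hTcard hc hcf
      have hkM : k ≤ M := by
        by_contra hlt
        obtain ⟨a, ha⟩ := hlen M hM1 (by omega)
        exact hMne a ha
      have hsub : T ⊆ below x M := by
        rw [hTb]
        intro a ha
        rw [hbelow] at ha ⊢
        exact lt_of_lt_of_le ha (Nat.pow_le_pow_right (by norm_num) hkM)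
      simp only [Y, if_pos (⟨hf2, hsub hbT⟩ : (fixd x).card = 2 ∧ b ∈ below x M)]
      exact hsub hgT
    · push Not at hfix
      have h1 : g b ∈ orb x b := by rw [← closed_eq_orb hu hx hTx hTcard hfix hbT]; exact hgT
      by_cases hb : (fixd x).card = 2 ∧ b ∈ below x M
      · simp only [Y, if_pos hb]
        rw [hbelow, ← period_eq (mem_orb_iff.1 h1), ← hbelow]
        exact hb.2
      · simp only [Y, if_neg hb]; exact h1
  refine fun g => ⟨orderOf (g : Perm α), Subtype.ext (Equiv.ext fun b => ?_)⟩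
  obtain ⟨g, hg⟩ := g
  rw [SubmonoidClass.coe_pow]
  show (g ^ 2 ^ orderOf g) b = b
  let St : Subgroup (Perm α) :=
    { carrier := {h | ∀ a, h a ∈ Y b ↔ a ∈ Y b}
      one_mem' := fun a => Iff.rfl
      mul_mem' := fun {h h'} hh hh' a => (hh _).trans (hh' a)
      inv_mem' := fun {h} hh a => by
        conv_rhs => rw [show a = h (h⁻¹ a) from (Equiv.apply_symm_apply h a).symm]
        exact (hh _).symm }
  letI : Fintype {a // a ∈ Y b} := Subtype.fintype _
  let res : St →* Perm {a // a ∈ Y b} :=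
    MonoidHom.mk' (fun h => (h : Perm α).subtypePerm h.2) fun h h' => by
      ext a
      rfl
  have hle : ∀ (A : Subgroup (Perm α)), IsPGroup 2 A → x ∈ A → A ≤ St := by
    intro A hA hxA h hh a
    constructor
    · intro ha
      have h1 := hYA A hA hxA h⁻¹ (inv_mem hh) (h a)
      rw [hYeq b (h a) ha] at h1
      rwa [show h⁻¹ (h a) = a from Equiv.symm_apply_apply h a] at h1
    · intro ha
      rw [← hYeq b a ha]
      exact hYA A hA hxA h hh a
  have hxS : ∀ a, x a ∈ Y b ↔ a ∈ Y b := hle A hA hxA hxA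
  obtain ⟨e, he⟩ := hYcard b
  have hcard : Fintype.card {a // a ∈ Y b} = 2 ^ e := by rw [Fintype.card_coe, he]
  have hxres : ∃ N, orderOf (res ⟨x, hxS⟩) = 2 ^ N := by
    obtain ⟨N, hN⟩ := hx
    obtain ⟨i, -, hi⟩ := (Nat.dvd_prime_pow Nat.prime_two).1
      (show orderOf (res ⟨x, hxS⟩) ∣ 2 ^ N from
        hN ▸ (orderOf_map_dvd res ⟨x, hxS⟩).trans
          (dvd_of_eq (Subgroup.orderOf_coe (⟨x, hxS⟩ : St)).symm))
    exact ⟨i, hi⟩
  have hp2 := isPGroup_sup_transitive (x := res ⟨x, hxS⟩) (ucycle_subtypePerm hu hxS) hxres (m := e)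
    (by rw [← Nat.card_eq_fintype_card, Nat.card_eq_finsetCard, he])
    (A := (A.subgroupOf St).map res) (B := (B.subgroupOf St).map res)
    ((hA.comap_subtype).map res) ((hB.comap_subtype).map res) ⟨⟨x, hxS⟩, hxA, rfl⟩
    ⟨⟨x, hxS⟩, hxB, rfl⟩
  have hgS : g ∈ St := sup_le (hle A hA hxA) (hle B hB hxB) hg
  have hgmem : res ⟨g, hgS⟩ ∈ (A.subgroupOf St).map res ⊔ (B.subgroupOf St).map res := by
    rw [← Subgroup.map_sup, ← Subgroup.subgroupOf_sup (hle A hA hxA) (hle B hB hxB)]
    exact Subgroup.mem_map_of_mem res hg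
  obtain ⟨i, hi⟩ := IsPGroup.iff_orderOf.1 hp2 ⟨_, hgmem⟩
  rw [Subgroup.orderOf_mk] at hi
  have hile : i ≤ orderOf g := by
    have h1 : 2 ^ i ∣ orderOf g :=
      hi ▸ (orderOf_map_dvd res ⟨g, hgS⟩).trans
        (dvd_of_eq (Subgroup.orderOf_coe (⟨g, hgS⟩ : St)).symm)
    exact le_trans Nat.lt_two_pow_self.le (Nat.le_of_dvd (orderOf_pos g) h1)
  have hdvd : orderOf (res ⟨g, hgS⟩) ∣ 2 ^ orderOf g := hi ▸ pow_dvd_pow 2 hile
  have hbY : b ∈ Y b := by simpa using hYA A hA hxA 1 (one_mem A) b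
  have h2 := congrArg (fun f : Perm {a // a ∈ Y b} => ((f ⟨b, hbY⟩ : {a // a ∈ Y b}) : α))
    (orderOf_dvd_iff_pow_eq_one.1 hdvd)
  simp only [← map_pow] at h2
  exact h2

/-- Conjugates of a transposition. -/
theorem swap_conj_eq (i : ℕ) (a b : α) :
    x ^ i * Equiv.swap a b * (x ^ i)⁻¹ = Equiv.swap ((x ^ i) a) ((x ^ i) b) := by
  rw [Equiv.mul_swap_eq_swap_mul, mul_inv_cancel_right]

/-- A transposition moving to equal or disjoint transpositions under `x` lies in a 2-group with
`x`. -/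
theorem swap_mem_of_unique (hx : ∃ N, orderOf x = 2 ^ N) (P : Sylow 2 (Perm α)) (hxP : x ∈ P)
    (huniq : ∀ Q : Sylow 2 (Perm α), x ∈ Q → Q = P) {a b : α}
    (hab : ∀ i : ℕ, ((x ^ i) a = a ∧ (x ^ i) b = b) ∨ ((x ^ i) a = b ∧ (x ^ i) b = a) ∨
      ((x ^ i) a ≠ a ∧ (x ^ i) a ≠ b ∧ (x ^ i) b ≠ a ∧ (x ^ i) b ≠ b)) :
    Equiv.swap a b ∈ P := by
  haveI : Fact (Nat.Prime 2) := ⟨Nat.prime_two⟩
  set t := Equiv.swap a b with ht
  let f : ℕ → Perm α := fun i => x ^ i * t * (x ^ i)⁻¹
  have hc0 : ∀ i, Commute t (f i) := by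
    intro i
    show Commute t (x ^ i * t * (x ^ i)⁻¹)
    rw [ht, swap_conj_eq]
    rcases hab i with ⟨h1, h2⟩ | ⟨h1, h2⟩ | ⟨h1, h2, h3, h4⟩
    · rw [h1, h2]
    · rw [h1, h2, Equiv.swap_comm b a]
    · refine Equiv.Perm.Disjoint.commute fun c => ?_
      by_cases hc : c = a ∨ c = b
      · right
        refine Equiv.swap_apply_of_ne_of_ne ?_ ?_ <;> rcases hc with rfl | rfl
        exacts [Ne.symm h1, Ne.symm h2, Ne.symm h3, Ne.symm h4]
      · push Not at hc
        exact Or.inl (Equiv.swap_apply_of_ne_of_ne hc.1 hc.2)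
  have hfle : ∀ i j, i ≤ j → Commute (f i) (f j) := by
    intro i j hij
    obtain ⟨d, rfl⟩ := Nat.exists_eq_add_of_le hij
    have h1 := (hc0 d).map (MulAut.conj (x ^ i)).toMonoidHom
    have h2 : f (i + d) = x ^ i * f d * (x ^ i)⁻¹ := by
      show x ^ (i + d) * t * (x ^ (i + d))⁻¹ = _
      simp only [f, pow_add, mul_inv_rev, mul_assoc]
    rw [h2]
    exact h1
  set K := Subgroup.closure (Set.range f) with hK
  have hcomm : IsMulCommutative K := Subgroup.isMulCommutative_closure (by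
    rintro _ ⟨i, rfl⟩ _ ⟨j, rfl⟩
    rcases le_total i j with h | h
    · exact hfle i j h
    · exact (hfle j i h).symm)
  have hK2 : IsPGroup 2 K := by
    intro k
    refine ⟨1, ?_⟩
    rw [pow_one]
    obtain ⟨k, hk⟩ := k
    refine Subtype.ext ?_
    show k ^ 2 = 1
    induction hk using Subgroup.closure_induction with
    | mem k hk =>
      obtain ⟨i, rfl⟩ := hk
      show (x ^ i * t * (x ^ i)⁻¹) ^ 2 = 1
      rw [conj_pow, ht, sq, Equiv.swap_mul_self, mul_one, mul_inv_cancel]
    | one => exact one_pow 2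
    | mul u v hu hv ihu ihv =>
      have hc : Commute u v := congrArg Subtype.val (hcomm.is_comm.comm (⟨u, hu⟩ : K) ⟨v, hv⟩)
      rw [hc.mul_pow, ihu, ihv, one_mul]
    | inv u hu ihu => rw [inv_pow, ihu, inv_one]
  have hnorm : Subgroup.zpowers x ≤ Subgroup.normalizer (K : Set (Perm α)) := by
    rw [Subgroup.zpowers_le, Subgroup.mem_normalizer_iff_map_conj_eq]
    refine Subgroup.eq_of_le_of_card_ge ?_
      (le_of_eq (Subgroup.card_map_of_injective (MulAut.conj x).injective).symm)
    rw [hK, MonoidHom.map_closure]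
    refine Subgroup.closure_mono ?_
    rintro _ ⟨_, ⟨i, rfl⟩, rfl⟩
    exact ⟨i + 1, by simp [f, pow_succ', mul_assoc]⟩
  have hxz : IsPGroup 2 (Subgroup.zpowers x) := by
    obtain ⟨N, hN⟩ := hx
    exact IsPGroup.of_card (n := N) (by rw [Nat.card_zpowers, hN])
  obtain ⟨Q, hQ⟩ := (hK2.to_sup_of_normal_left' hxz hnorm).exists_le_sylow
  rw [← huniq Q (hQ (Subgroup.mem_sup_right (Subgroup.mem_zpowers x)))]
  exact hQ (Subgroup.mem_sup_left (Subgroup.subset_closure ⟨0, by simp [f]⟩))

theorem ucycle_of_unique (hx : ∃ N, orderOf x = 2 ^ N) (P : Sylow 2 (Perm α)) (hxP : x ∈ P)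
    (huniq : ∀ Q : Sylow 2 (Perm α), x ∈ Q → Q = P) : UCycle x := by
  have hno : ∀ a b c : α, a ≠ b → a ≠ c → b ≠ c →
      Equiv.swap a b ∈ P → Equiv.swap a c ∈ P → False := by
    intro a b c hab hac hbc h1 h2
    have h3 := (Equiv.Perm.isThreeCycle_swap_mul_swap_same hab hac hbc).orderOf
    obtain ⟨n, hn⟩ := IsPGroup.iff_orderOf.1 P.2 ⟨_, mul_mem h1 h2⟩
    rw [Subgroup.orderOf_mk, h3] at hn
    rcases n with _ | n
    · simp at hn
    · rw [pow_succ] at hn; omega
  refine ⟨fun a c ha hac => ?_, ?_⟩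
  · by_contra hns
    obtain ⟨e, he⟩ := exists_period hx a
    obtain ⟨d, rfl⟩ : ∃ d, e = d + 1 := ⟨e - 1, by
      rcases e with _ | e
      · rw [he, pow_zero] at ha; omega
      · rfl⟩
    set h := 2 ^ d with hh
    have hL : minimalPeriod x a = h + h := by rw [he, pow_succ]; omega
    have hpos : 0 < h := by positivity
    set b := (x ^ h) a with hb
    have hsab : x.SameCycle a b := ⟨h, by rw [zpow_natCast]⟩
    have hpb : minimalPeriod x b = minimalPeriod x a := (period_eq hsab).symm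
    have hba : b ≠ a := fun hba => by
      have h1 := (pow_apply_eq_iff x h a).1 hba
      have := Nat.le_of_dvd hpos h1
      omega
    have hbb : (x ^ h) b = a := by
      rw [hb, ← Perm.mul_apply, ← pow_add, pow_apply_eq_iff, hL]
    have hnsb : ∀ i : ℕ, (x ^ i) a ≠ c := fun i hi => hns ⟨i, by rw [zpow_natCast]; exact hi⟩
    have hnsc : ∀ i : ℕ, (x ^ i) c ≠ a := fun i hi =>
      hns (SameCycle.symm ⟨i, by rw [zpow_natCast]; exact hi⟩)
    refine hno a b c hba.symm (fun e => hnsb 0 (by simpa using e)) (hnsb h)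
      (swap_mem_of_unique hx P hxP huniq fun i => ?_)
      (swap_mem_of_unique hx P hxP huniq fun i => ?_)
    · have hcomm : ∀ u, (x ^ h) ((x ^ i) u) = (x ^ i) ((x ^ h) u) := fun u => by
        rw [← Perm.mul_apply, ← Perm.mul_apply, ← pow_add, ← pow_add, add_comm]
      by_cases h1 : (x ^ i) a = a
      · exact Or.inl ⟨h1, by rw [hb, ← Perm.mul_apply, ← pow_add, add_comm, pow_add,
          Perm.mul_apply, h1]⟩
      by_cases h2 : (x ^ i) a = b
      · refine Or.inr (Or.inl ⟨h2, ?_⟩)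
        rw [hb, ← Perm.mul_apply, ← pow_add, add_comm, pow_add, Perm.mul_apply, h2, hbb]
      refine Or.inr (Or.inr ⟨h1, h2, fun h3 => h2 ?_, fun h3 => h1 ?_⟩)
      · apply (x ^ h).injective
        rw [hcomm, ← hb, hbb]
        exact h3
      · apply (x ^ h).injective
        rw [hcomm, ← hb]
        exact h3
    · by_cases h1 : (x ^ i) a = a
      · exact Or.inl ⟨h1, by rw [pow_apply_eq_iff, ← hac, ← pow_apply_eq_iff]; exact h1⟩
      · refine Or.inr (Or.inr ⟨h1, hnsb i, hnsc i, fun h3 => h1 ?_⟩)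
        rw [pow_apply_eq_iff, hac, ← pow_apply_eq_iff]; exact h3
  · by_contra hlt
    push Not at hlt
    obtain ⟨a, b, c, ha, hb, hc, hab, hac, hbc⟩ := Finset.two_lt_card_iff.1 hlt
    have hfix : ∀ {u}, u ∈ fixd x → ∀ i : ℕ, (x ^ i) u = u := fun {u} hu i => by
      rw [pow_apply_eq_iff, period_eq_one_iff.2 (Finset.mem_filter.1 hu).2]
      exact one_dvd i
    exact hno a b c hab hac hbc
      (swap_mem_of_unique hx P hxP huniq fun i => Or.inl ⟨hfix ha i, hfix hb i⟩)
      (swap_mem_of_unique hx P hxP huniq fun i => Or.inl ⟨hfix ha i, hfix hc i⟩)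

theorem existsUnique_sylow_iff (hx : ∃ N, orderOf x = 2 ^ N) :
    (∃! P : Sylow 2 (Perm α), x ∈ P) ↔ UCycle x := by
  constructor
  · rintro ⟨P, hP, huniq⟩
    exact ucycle_of_unique hx P hP huniq
  · intro hu
    haveI : Fact (Nat.Prime 2) := ⟨Nat.prime_two⟩
    obtain ⟨N, hN⟩ := hx
    obtain ⟨P, hP⟩ := (IsPGroup.of_card (n := N)
      (by rw [Nat.card_zpowers, hN]) : IsPGroup 2 (Subgroup.zpowers x)).exists_le_sylow
    refine ⟨P, hP (Subgroup.mem_zpowers x), fun Q hQ => ?_⟩
    have h := isPGroup_sup hu ⟨N, hN⟩ P.2 Q.2 (hP (Subgroup.mem_zpowers x)) hQ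
    have h1 := P.3 h le_sup_left
    exact Sylow.ext ((Q.3 h le_sup_right).symm.trans h1)

theorem ucycle_iff : UCycle x ↔ Fintype.card α ≤ x.support.card + 2 ∧ x.cycleType.Nodup := by
  have hf : (fixd x).card + x.support.card = Fintype.card α := by
    rw [← Finset.card_univ, ← Finset.card_filter_add_card_filter_not (s := Finset.univ)
      (fun a => x a = a)]
    congr 1
  have horb : ∀ a, x a ≠ a → (x.cycleOf a).support = orb x a := fun a ha => by
    ext c
    rw [mem_support_cycleOf_iff' ha, mem_orb_iff]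
  rw [cycleType_def, Multiset.nodup_map_iff_inj_on x.cycleFactorsFinset.nodup]
  constructor
  · rintro ⟨h1, h2⟩
    refine ⟨by omega, fun c hc d hd hcd => ?_⟩
    obtain ⟨a, ha⟩ : c.support.Nonempty :=
      Finset.nonempty_iff_ne_empty.2 fun h => (mem_cycleFactorsFinset_iff.1 hc).1.ne_one
        (support_eq_empty_iff.1 h)
    obtain ⟨b, hb⟩ : d.support.Nonempty :=
      Finset.nonempty_iff_ne_empty.2 fun h => (mem_cycleFactorsFinset_iff.1 hd).1.ne_one
        (support_eq_empty_iff.1 h)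
    have hxa : x a ≠ a := mem_support.1 (mem_cycleFactorsFinset_support_le hc ha)
    have hxb : x b ≠ b := mem_support.1 (mem_cycleFactorsFinset_support_le hd hb)
    have hca := cycle_is_cycleOf ha hc
    have hdb := cycle_is_cycleOf hb hd
    rw [hca, hdb]
    refine SameCycle.cycleOf_eq (h1 a b ?_ ?_)
    · have := period_pos x a
      have : minimalPeriod x a ≠ 1 := fun h => hxa (period_eq_one_iff.1 h)
      omega
    · rw [← card_orb a, ← card_orb b, ← horb a hxa, ← horb b hxb, ← hca, ← hdb]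
      exact hcd
  · rintro ⟨h1, h2⟩
    refine ⟨fun a b ha hab => ?_, by omega⟩
    have hxa : x a ≠ a := fun h => by rw [period_eq_one_iff.2 h] at ha; omega
    have hxb : x b ≠ b := fun h => by rw [hab, period_eq_one_iff.2 h] at ha; omega
    have h3 := h2 (x.cycleOf a) (cycleOf_mem_cycleFactorsFinset_iff.2 (mem_support.2 hxa))
      (x.cycleOf b) (cycleOf_mem_cycleFactorsFinset_iff.2 (mem_support.2 hxb)) (by
        show (x.cycleOf a).support.card = (x.cycleOf b).support.card
        rw [horb a hxa, horb b hxb, card_orb, card_orb, hab])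
    exact (sameCycle_iff_cycleOf_eq_of_mem_support (mem_support.2 hxa) (mem_support.2 hxb)).2 h3

end UniqueSylow

end CfsgLib.Invol
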