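import Cfsg.Agent.Lib.Invol.SectionChar
import Cfsg.Agent.Lib.Invol.Isolated
import Cfsg.Agent.Lib.Transfer.Frobenius
import Cfsg.Agent.Lib.Transfer.Basic
import Cfsg.Agent.Lib.Solvable.PCore
import Cfsg.Prelude.Def_Local
import Mathlib.GroupTheory.SpecificGroups.Quaternion

/-!
Sections of a group with a quaternion Sylow 2-subgroup of order 8.
-/

set_option autoImplicit false
set_option linter.unusedSectionVars false

namespace CfsgLib.Invol

open Cfsg

universe u

/-- A Sylow 2-subgroup behaving like the quaternion group of order 8, all of whose elements of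
order 4 are conjugate in the group. -/
structure Q8Data (G : Type u) [Group G] where
  S : Sylow 2 G
  z : G
  hz : orderOf z = 2
  hzS : z ∈ (S : Subgroup G)
  huniq : ∀ x ∈ (S : Subgroup G), x * x = 1 → x = 1 ∨ x = z
  hcard : Nat.card (S : Subgroup G) = 8
  hexp : ∀ x ∈ (S : Subgroup G), x ^ 4 = 1
  hcent : ∀ s ∈ (S : Subgroup G), (∀ x ∈ (S : Subgroup G), s * x = x * s) → s * s = 1
  hinv : ∀ s ∈ (S : Subgroup G), ∃ j ∈ (S : Subgroup G), j * s * j⁻¹ = s⁻¹
  hfour : ∀ a b : G, orderOf a = 4 → orderOf b = 4 → IsConj a b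

namespace Q8Data

variable {G : Type u} [Group G] (D : Q8Data G)
include D

theorem eq_z {x : G} (hx : x ∈ (D.S : Subgroup G)) (h2 : orderOf x = 2) : x = D.z :=
  (D.huniq x hx (invol_mul_self h2)).resolve_left (invol_ne_one h2)

theorem commute_z {x : G} (hx : x ∈ (D.S : Subgroup G)) : Commute x D.z := by
  refine mul_inv_eq_iff_eq_mul.1 (D.eq_z ?_ ?_)
  · exact mul_mem (mul_mem hx D.hzS) (inv_mem hx)
  · rw [orderOf_conj_eq, D.hz]

theorem le_centralizer : (D.S : Subgroup G) ≤ Subgroup.centralizer ({D.z} : Set G) := fun _ hx =>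
  Subgroup.mem_centralizer_singleton_iff.2 (D.commute_z hx).eq

theorem orderOf_dvd_four {x : G} (hx : x ∈ (D.S : Subgroup G)) : orderOf x ∣ 4 :=
  orderOf_dvd_of_pow_eq_one (D.hexp x hx)

theorem sq_eq_z {x : G} (hx : x ∈ (D.S : Subgroup G)) (h4 : orderOf x = 4) : x * x = D.z := by
  refine D.eq_z (mul_mem hx hx) ?_
  rw [← pow_two, orderOf_pow' x two_ne_zero, h4]
  decide

theorem exists_order_four : ∃ x ∈ (D.S : Subgroup G), orderOf x = 4 := by
  by_contra h
  push Not at h
  have h2 : ∀ x ∈ (D.S : Subgroup G), x * x = 1 := by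
    intro x hx
    rcases (Nat.dvd_prime_pow Nat.prime_two).1 (show orderOf x ∣ 2 ^ 2 from D.orderOf_dvd_four hx)
      with ⟨k, hk, hk'⟩
    rcases (show k = 0 ∨ k = 1 ∨ k = 2 by omega) with rfl | rfl | rfl
    · rw [pow_zero] at hk'; rw [orderOf_eq_one_iff.1 hk', one_mul]
    · rw [pow_one] at hk'; exact invol_mul_self hk'
    · exact absurd hk' (h x hx)
  have hsub : ((D.S : Subgroup G) : Set G) ⊆ {1, D.z} := fun x hx => by
    rcases D.huniq x hx (h2 x hx) with h | h <;> simp [h]
  have := Set.ncard_le_ncard hsub (Set.toFinite _)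
  rw [← Nat.card_coe_set_eq, Set.ncard_pair (invol_ne_one D.hz).symm,
    show Nat.card ((D.S : Subgroup G) : Set G) = 8 from D.hcard] at this
  omega

variable [Finite G]

theorem isolated : Cfsg.IsIsolatedInvolution D.z :=
  isolated_of_sylow D.S D.hz D.hzS fun g hg => D.eq_z hg (by rw [orderOf_conj_eq, D.hz])

theorem isConj_z {x : G} (hx : orderOf x = 2) : IsConj D.z x := by
  obtain ⟨g, hg⟩ := exists_conj_invol_mem_sylow D.S hx
  exact (isConj_iff.2 ⟨g, D.eq_z hg (by rw [orderOf_conj_eq, hx])⟩ : IsConj x D.z).symm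

theorem exists_conj_mem {x : G} (hx : ∃ k : ℕ, orderOf x = 2 ^ k) :
    ∃ g : G, g * x * g⁻¹ ∈ (D.S : Subgroup G) := by
  obtain ⟨k, hk⟩ := hx
  obtain ⟨g, hg⟩ := exists_conj_mem_sylow D.S (H := Subgroup.zpowers x)
    (IsPGroup.of_card (n := k) (by rw [Nat.card_zpowers, hk]))
  exact ⟨g, hg x (Subgroup.mem_zpowers x)⟩

theorem orderOf_twoPart (g : G) :
    orderOf (twoPart g) = 1 ∨ orderOf (twoPart g) = 2 ∨ orderOf (twoPart g) = 4 := by
  obtain ⟨a, ha⟩ := D.exists_conj_mem (exists_orderOf_twoPart g)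
  have h := D.orderOf_dvd_four ha
  rw [orderOf_conj_eq] at h
  obtain ⟨k, hk, hk'⟩ := (Nat.dvd_prime_pow Nat.prime_two).1 (show _ ∣ 2 ^ 2 from h)
  rcases (show k = 0 ∨ k = 1 ∨ k = 2 by omega) with rfl | rfl | rfl <;> simp [hk']

/-- A 2-subgroup has order dividing 8 and lands in `S` by conjugation. -/
theorem pgroup_le_conj {P : Subgroup G} (hP : IsPGroup 2 P) :
    ∃ g : G, ∀ x ∈ P, g * x * g⁻¹ ∈ (D.S : Subgroup G) := exists_conj_mem_sylow D.S hP

/-- The centralizer of an element of order four has cyclic Sylow 2-subgroups of order four. -/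
theorem card_two_part_centralizer {s : G} (hs : orderOf s = 4) :
    ∀ P : Sylow 2 (Subgroup.centralizer ({s} : Set G)), Nat.card (P : Subgroup (Subgroup.centralizer ({s} : Set G))) = 4 ∧
      IsCyclic (P : Subgroup (Subgroup.centralizer ({s} : Set G))) := by
  set H := Subgroup.centralizer ({s} : Set G)
  intro P
  have hsH : s ∈ H := Subgroup.mem_centralizer_singleton_iff.2 rfl
  have hn : (Subgroup.zpowers (⟨s, hsH⟩ : H)).Normal := by
    refine ⟨fun w hw g => ?_⟩
    have hwc : Commute g w := by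
      obtain ⟨i, rfl⟩ := hw
      exact Commute.zpow_right (Subtype.ext (Subgroup.mem_centralizer_singleton_iff.1 g.2)) i
    rwa [hwc.eq, mul_inv_cancel_right]
  have hp : IsPGroup 2 (Subgroup.zpowers (⟨s, hsH⟩ : H)) :=
    IsPGroup.of_card (n := 2) (by rw [Nat.card_zpowers, Subgroup.orderOf_mk, hs]; rfl)
  have hle : Subgroup.zpowers (⟨s, hsH⟩ : H) ≤ (P : Subgroup H) := hp.le_sylow_of_normal P
  obtain ⟨g, hg⟩ := D.pgroup_le_conj (P.2.map H.subtype)
  have hsP : (⟨s, hsH⟩ : H) ∈ (P : Subgroup H) := hle (Subgroup.mem_zpowers _)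
  have hgs : g * s * g⁻¹ ∈ (D.S : Subgroup G) := hg s ⟨_, hsP, rfl⟩
  let φ : (P : Subgroup H) →* (D.S : Subgroup G) :=
    { toFun := fun x => ⟨g * ((x : H) : G) * g⁻¹, hg _ ⟨_, x.2, rfl⟩⟩
      map_one' := Subtype.ext (by simp)
      map_mul' := fun a b => Subtype.ext (by simp [mul_assoc]) }
  have hφ : Function.Injective φ := fun a b h => by
    have h' : g * ((a : H) : G) * g⁻¹ = g * ((b : H) : G) * g⁻¹ := congrArg Subtype.val h
    exact Subtype.ext (Subtype.ext (by simpa using h'))
  have hc : Nat.card (Subgroup.zpowers (⟨s, hsH⟩ : H)) = 4 := by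
    rw [Nat.card_zpowers, Subgroup.orderOf_mk, hs]
  obtain ⟨k, hk⟩ := P.2.exists_card_eq
  have hdvd : Nat.card (P : Subgroup H) ∣ 8 := D.hcard ▸ Subgroup.card_dvd_of_injective φ hφ
  have h4 : 4 ∣ Nat.card (P : Subgroup H) := hc ▸ Subgroup.card_dvd_of_le hle
  have hne : Nat.card (P : Subgroup H) ≠ 8 := by
    intro h8
    have hsurj : Function.Surjective φ :=
      ((Nat.bijective_iff_injective_and_card φ).2 ⟨hφ, h8.trans D.hcard.symm⟩).2
    have hcen := D.hcent _ hgs fun y hy => by
      obtain ⟨x, hx⟩ := hsurj ⟨y, hy⟩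
      have hxy : g * ((x : H) : G) * g⁻¹ = y := congrArg Subtype.val hx
      have hxs : ((x : H) : G) * s = s * (x : H) :=
        Subgroup.mem_centralizer_singleton_iff.1 (x : H).2
      calc g * s * g⁻¹ * y = g * (s * (x : H)) * g⁻¹ := by rw [← hxy]; group
        _ = g * ((x : H) * s) * g⁻¹ := by rw [hxs]
        _ = y * (g * s * g⁻¹) := by rw [← hxy]; group
    have h2 := orderOf_dvd_of_pow_eq_one ((pow_two _).trans hcen)
    rw [orderOf_conj_eq, hs] at h2
    exact absurd h2 (by norm_num)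
  have hcard : Nat.card (P : Subgroup H) = 4 := by
    have := Nat.le_of_dvd (by norm_num) hdvd
    obtain ⟨c, hc'⟩ := h4
    have := Nat.card_pos (α := (P : Subgroup H))
    omega
  refine ⟨hcard, ?_⟩
  have heq := Subgroup.eq_of_le_of_card_ge hle (by rw [hc, hcard])
  rw [← heq]; infer_instance

/-- The centralizer of an element of order four has a normal 2-complement, of order a quarter. -/
theorem exists_core_four {s : G} (hs : orderOf s = 4) :
    (∀ v : G, Commute s v → Odd (orderOf v) → v ∈ Cfsg.centralizerPPrimeCore 2 s) ∧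
      (∃ k : ℕ, (Cfsg.pPrimeCore 2 (Subgroup.centralizer ({s} : Set G))).index = 2 ^ k) ∧
      4 * Nat.card (Cfsg.pPrimeCore 2 (Subgroup.centralizer ({s} : Set G))) =
        Nat.card (Subgroup.centralizer ({s} : Set G)) := by
  set H := Subgroup.centralizer ({s} : Set G)
  obtain ⟨P⟩ := (inferInstance : Nonempty (Sylow 2 H))
  obtain ⟨hP4, hPc⟩ := D.card_two_part_centralizer hs P
  have hsH : s ∈ H := Subgroup.mem_centralizer_singleton_iff.2 rfl
  have hn : (Subgroup.zpowers (⟨s, hsH⟩ : H)) ≤ Subgroup.center H := by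
    rw [Subgroup.zpowers_le, Subgroup.mem_center_iff]
    exact fun g => Subtype.ext (Subgroup.mem_centralizer_singleton_iff.1 g.2)
  have hp : IsPGroup 2 (Subgroup.zpowers (⟨s, hsH⟩ : H)) :=
    IsPGroup.of_card (n := 2) (by rw [Nat.card_zpowers, Subgroup.orderOf_mk, hs]; rfl)
  have hnn : (Subgroup.zpowers (⟨s, hsH⟩ : H)).Normal := ⟨fun w hw g => by
    rwa [← Subgroup.mem_center_iff.1 (hn hw) g |>.symm, mul_inv_cancel_right]⟩
  have heq : Subgroup.zpowers (⟨s, hsH⟩ : H) = (P : Subgroup H) :=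
    Subgroup.eq_of_le_of_card_ge (hp.le_sylow_of_normal P)
      (by rw [hP4, Nat.card_zpowers, Subgroup.orderOf_mk, hs])
  have hcomp : Cfsg.HasNormalPComplement 2 H :=
    CfsgLib.Transfer.hasNormalPComplement_of_normalizer_le_centralizer P fun g _ =>
      Subgroup.mem_centralizer_iff.2 fun w hw =>
        (Subgroup.mem_center_iff.1 (hn (heq.symm ▸ hw)) g).symm
  have hcop := CfsgLib.Transfer.hasNormalPComplement_iff_coprime_pResidual.1 hcomp
  have hchar := CfsgLib.Transfer.pResidual_characteristic (G := H) (p := 2)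
  have hle : Cfsg.pResidual 2 H ≤ Cfsg.pPrimeCore 2 H :=
    CfsgLib.Solvable.le_pPrimeCore CfsgLib.Transfer.pResidual_normal hcop
  refine ⟨fun v hv ho => ⟨⟨v, Subgroup.mem_centralizer_singleton_iff.2 hv.eq.symm⟩,
    hle (CfsgLib.Transfer.mem_pResidual_of_coprime (Nat.coprime_two_right.2 ?_)), rfl⟩, ?_, ?_⟩
  · rwa [Subgroup.orderOf_mk]
  · obtain ⟨n, hn'⟩ := CfsgLib.Transfer.pResidual_index_eq_pow (G := H) (p := 2)
    obtain ⟨k, -, hk⟩ := (Nat.dvd_prime_pow Nat.prime_two).1 (hn' ▸ Subgroup.index_dvd_of_le hle)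
    exact ⟨k, hk⟩
  · set K := Cfsg.pPrimeCore 2 H
    have hK : (Nat.card K).Coprime 2 := CfsgLib.Solvable.pPrimeCore_coprime 2
    have h1 := K.card_mul_index
    have h2 : K.index = 4 := by
      obtain ⟨n, hn'⟩ := CfsgLib.Transfer.pResidual_index_eq_pow (G := H) (p := 2)
      obtain ⟨k, -, hk⟩ := (Nat.dvd_prime_pow Nat.prime_two).1 (hn' ▸ Subgroup.index_dvd_of_le hle)
      have hmult := P.card_eq_multiplicity
      rw [hP4, ← h1, hk, Nat.factorization_mul Nat.card_pos.ne' (by positivity), Finsupp.add_apply,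
        Nat.factorization_eq_zero_of_not_dvd (Nat.prime_two.coprime_iff_not_dvd.1 hK.symm),
        Nat.factorization_pow_self Nat.prime_two, zero_add] at hmult
      rw [hk, ← hmult]
    rw [← h1, h2, mul_comm]

variable [Fintype G] [DecidableEq G]

/-- The elements with given 2-part of order four. -/
theorem sum_fiber_four {s : G} (hs : orderOf s = 4) (F : G → ℂ) :
    ∑ g ∈ Finset.univ.filter (fun g => twoPart g = s), F g =
      ∑ᶠ v : Cfsg.pPrimeCore 2 (Subgroup.centralizer ({s} : Set G)), F (s * ((v : Subgroup.centralizer ({s} : Set G)) : G)) := by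
  classical
  set H := Subgroup.centralizer ({s} : Set G)
  have := Fintype.ofFinite (Cfsg.pPrimeCore 2 H)
  rw [finsum_eq_sum_of_fintype]
  have hodd : ∀ v : Cfsg.pPrimeCore 2 H, Odd (orderOf ((v : H) : G)) := fun v => by
    rw [Subgroup.orderOf_coe, Subgroup.orderOf_coe]
    exact (Nat.coprime_two_right.1 (CfsgLib.Solvable.pPrimeCore_coprime (G := H) 2)).of_dvd_nat
      (orderOf_dvd_natCard v)
  refine (Finset.sum_bij (fun (v : Cfsg.pPrimeCore 2 H) _ => s * ((v : H) : G)) ?_ ?_ ?_ ?_).symm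
  · intro v _
    simp only [Finset.mem_filter, Finset.mem_univ, true_and]
    exact twoPart_mul (Subgroup.mem_centralizer_singleton_iff.1 (v : H).2).symm
      ⟨2, by rw [hs]; rfl⟩ (hodd v)
  · intro a _ b _ h
    exact Subtype.ext (Subtype.ext (mul_left_cancel h))
  · intro g hg
    simp only [Finset.mem_filter, Finset.mem_univ, true_and] at hg
    have hc : Commute s (s⁻¹ * g) := by
      have h := twoPart_commute_self g
      rw [hg] at h
      exact (Commute.refl s).inv_right.mul_right h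
    have ho : Odd (orderOf (s⁻¹ * g)) := hg ▸ odd_orderOf_twoPart_inv_mul g
    obtain ⟨v, hv, hv'⟩ := (D.exists_core_four hs).1 _ hc ho
    refine ⟨⟨v, hv⟩, Finset.mem_univ _, ?_⟩
    simp only [Subgroup.subtype_apply] at hv'
    simp [hv']
  · intro a _; rfl

theorem card_fiber_four {s : G} (hs : orderOf s = 4) :
    4 * ((Finset.univ.filter fun g => twoPart g = s).card : ℂ) =
      Nat.card (Subgroup.centralizer ({s} : Set G)) := by
  classical
  have h := D.sum_fiber_four hs (fun _ => 1)
  have := Fintype.ofFinite (Cfsg.pPrimeCore 2 (Subgroup.centralizer ({s} : Set G)))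
  rw [finsum_eq_sum_of_fintype] at h
  simp only [Finset.sum_const, nsmul_one, Finset.card_univ, ← Nat.card_eq_fintype_card] at h
  rw [h, ← (D.exists_core_four hs).2.2]
  push_cast
  ring

/-- The section of the elements of order four is a quarter of the group. -/
theorem card_section_four :
    4 * ((Finset.univ.filter fun g : G => orderOf (twoPart g) = 4).card : ℂ) = Nat.card G := by
  classical
  obtain ⟨s, -, hs⟩ := D.exists_order_four
  have e : (Finset.univ.filter fun g : G => orderOf (twoPart g) = 4) =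
      Finset.univ.filter fun g : G => IsConj s (twoPart g) := by
    ext g
    simp only [Finset.mem_filter, Finset.mem_univ, true_and]
    exact ⟨D.hfour _ _ hs, fun h => by rw [orderOf_eq_of_isConj h, hs]⟩
  have h := sum_section s (F := fun _ : G => (1 : ℂ)) (fun _ _ => rfl)
  simp only [Finset.sum_const, nsmul_one] at h
  rw [e, h, mul_left_comm, D.card_fiber_four hs, ← Nat.cast_mul]
  congr 1
  rw [mul_comm, Subgroup.card_mul_index]

theorem sum_section_four_of_const (F : G → ℂ) (c : ℂ)
    (hF : ∀ g, orderOf (twoPart g) = 4 → F g = c) :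
    4 * ∑ g ∈ Finset.univ.filter (fun g : G => orderOf (twoPart g) = 4), F g =
      Nat.card G * c := by
  rw [Finset.sum_congr rfl (g := fun _ => c) (fun g hg => hF g (Finset.mem_filter.1 hg).2),
    Finset.sum_const, nsmul_eq_mul, ← mul_assoc, D.card_section_four]

/-- Splitting a sum over the group along the order of the 2-part. -/
theorem sum_split (F : G → ℂ) :
    ∑ g, F g = ∑ g ∈ Finset.univ.filter (fun g => twoPart g = 1), F g +
      ∑ g ∈ Finset.univ.filter (fun g => orderOf (twoPart g) = 2), F g +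
      ∑ g ∈ Finset.univ.filter (fun g => orderOf (twoPart g) = 4), F g := by
  classical
  simp only [Finset.sum_filter]
  rw [← Finset.sum_add_distrib, ← Finset.sum_add_distrib]
  refine Finset.sum_congr rfl fun g _ => ?_
  rcases D.orderOf_twoPart g with h | h | h
  · simp [orderOf_eq_one_iff.1 h]
  · have : twoPart g ≠ 1 := invol_ne_one h
    simp [h, this]
  · have : twoPart g ≠ 1 := fun e => by rw [e, orderOf_one] at h; omega
    simp [h, this]

/-- The same data in the centralizer of the involution. -/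
noncomputable def toCentralizer : Q8Data (Subgroup.centralizer ({D.z} : Set G)) where
  S := D.S.subtype D.le_centralizer
  z := ⟨D.z, D.le_centralizer D.hzS⟩
  hz := by rw [Subgroup.orderOf_mk, D.hz]
  hzS := D.hzS
  huniq x hx h := (D.huniq _ hx (congrArg Subtype.val h)).imp (fun h => Subtype.ext h)
    (fun h => Subtype.ext h)
  hcard := by
    rw [← D.hcard]
    exact Nat.card_congr (Subgroup.subgroupOfEquivOfLe D.le_centralizer).toEquiv
  hexp x hx := Subtype.ext (by simpa using D.hexp _ hx)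
  hcent s hs h := Subtype.ext (D.hcent _ hs fun y hy =>
    congrArg Subtype.val (h ⟨y, D.le_centralizer hy⟩ hy))
  hinv s hs := by
    obtain ⟨j, hj, h⟩ := D.hinv _ hs
    exact ⟨⟨j, D.le_centralizer hj⟩, hj, Subtype.ext h⟩
  hfour a b ha hb := by
    have ha' : orderOf (a : G) = 4 := by rw [Subgroup.orderOf_coe, ha]
    have hb' : orderOf (b : G) = 4 := by rw [Subgroup.orderOf_coe, hb]
    obtain ⟨g, hg⟩ := isConj_iff.1 (D.hfour _ _ ha' hb')
    have key : ∀ x : G, orderOf x = 4 → Commute x D.z → x * x = D.z := by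
      intro x hx hxz
      obtain ⟨h, hh⟩ := D.exists_conj_mem (x := x) ⟨2, by rw [hx]; rfl⟩
      have h1 := D.sq_eq_z hh (by rw [orderOf_conj_eq, hx])
      have h2 : IsConj D.z (x * x) := isConj_iff.2 ⟨h⁻¹, by rw [← h1]; group⟩
      exact isolated_eq_of_commute D.isolated h2 (IsConj.refl D.z) (hxz.mul_left hxz)
    have hga := key a ha' (Subgroup.mem_centralizer_singleton_iff.1 a.2)
    have hgb := key b hb' (Subgroup.mem_centralizer_singleton_iff.1 b.2)
    refine isConj_iff.2 ⟨⟨g, Subgroup.mem_centralizer_singleton_iff.2 ?_⟩, Subtype.ext hg⟩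
    refine mul_inv_eq_iff_eq_mul.1 ?_
    calc g * D.z * g⁻¹ = g * ((a : G) * a) * g⁻¹ := by rw [hga]
      _ = (g * a * g⁻¹) * (g * a * g⁻¹) := by group
      _ = D.z := by rw [hg, hgb]

theorem toCentralizer_z : (D.toCentralizer.z : G) = D.z := rfl

theorem toCentralizer_central (x : Subgroup.centralizer ({D.z} : Set G)) :
    Commute D.toCentralizer.z x :=
  Subtype.ext (Subgroup.mem_centralizer_singleton_iff.1 x.2).symm

end Q8Data

end CfsgLib.Invol
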