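import Cfsg.Agent.Lib.Invol.Q8Basic
import Cfsg.Agent.Lib.Invol.PrincipalBlock
import Cfsg.Agent.Lib.Block.KerNormal
import Cfsg.Agent.Lib.BlockB.PModular

/-!
Generalized characters attached to a quaternion Sylow 2-subgroup of order 8.
-/

set_option autoImplicit false
set_option linter.unusedSectionVars false

namespace CfsgLib.Invol

open Cfsg
open scoped ComplexConjugate

universe u

theorem central_mul_apply {G : Type u} [Group G] [Fintype G] (χ : IrrCharacter G) {z : G}
    (hz : ∀ x : G, Commute z x) (g : G) :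
    (χ : G → ℂ) (z * g) = (χ : G → ℂ) z / (χ : G → ℂ) 1 * (χ : G → ℂ) g := by
  have h := CfsgLib.BlockB.sum_irr_mul_conj χ z g
  rw [Finset.sum_congr rfl (g := fun _ => (χ : G → ℂ) (z * g)) (fun t _ => by
      rw [show z * (t * g * t⁻¹) = t * (z * g) * t⁻¹ by
        rw [← mul_assoc, ← mul_assoc, (hz t).eq, mul_assoc t z g],
        CfsgLib.Char.irr_isClassFunction χ.2]),
    Finset.sum_const, Finset.card_univ, nsmul_eq_mul, ← Nat.card_eq_fintype_card, mul_assoc,
    mul_div_assoc] at h
  rw [mul_left_cancel₀ CfsgLib.Char.natCard_ne_zero h]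
  ring

theorem central_invol_sign {G : Type u} [Group G] [Fintype G] (χ : IrrCharacter G) {z : G}
    (hz : ∀ x : G, Commute z x) (hzz : z * z = 1) :
    ∃ c : ℤ, (c = 1 ∨ c = -1) ∧ ∀ g, (χ : G → ℂ) (z * g) = (c : ℂ) * (χ : G → ℂ) g := by
  have hne : (χ : G → ℂ) 1 ≠ 0 := CfsgLib.Char.irr_apply_one_ne_zero χ.2
  have h1 := central_mul_apply χ hz z
  rw [hzz] at h1
  set c := (χ : G → ℂ) z / (χ : G → ℂ) 1 with hc
  have hcc : c * c = 1 := by
    refine mul_right_cancel₀ hne ?_
    rw [one_mul, mul_assoc, show c * (χ : G → ℂ) 1 = (χ : G → ℂ) z from div_mul_cancel₀ _ hne, ← h1]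
  rcases mul_self_eq_one_iff.1 hcc with h | h
  · exact ⟨1, Or.inl rfl, fun g => by rw [central_mul_apply χ hz g, ← hc, h]; simp⟩
  · exact ⟨-1, Or.inr rfl, fun g => by rw [central_mul_apply χ hz g, ← hc, h]; simp⟩

namespace Q8Data

variable {G : Type u} [Group G] [Finite G] (D : Q8Data G)
include D

/-- The function with constant values `A` on the 2-parts of order four and `B` on involutions. -/
noncomputable def wFn (_D : Q8Data G) (A B : ℂ) (x : G) : ℂ :=
  if orderOf x = 4 then A else if orderOf x = 2 then B else 0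

theorem wFn_isClassFunction (A B : ℂ) : IsClassFunction G (D.wFn A B) := fun g h => by
  simp [wFn, orderOf_conj_eq]

theorem isGeneralized_of_sylow {w : G → ℂ} (hw : IsClassFunction G w)
    (hS : IsGeneralizedCharacter (D.S : Subgroup G) (fun x : (D.S : Subgroup G) => w x)) :
    IsGeneralizedCharacter G (fun g => w (twoPart g)) := by
  refine isGeneralized_sectFn hw fun P hP => ?_
  obtain ⟨g, hg⟩ := D.pgroup_le_conj hP
  let φ : P →* (D.S : Subgroup G) :=
    { toFun := fun x => ⟨g * (x : G) * g⁻¹, hg x x.2⟩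
      map_one' := Subtype.ext (by simp)
      map_mul' := fun a b => Subtype.ext (by simp [mul_assoc]) }
  have := isGeneralized_comp hS φ
  convert this using 1
  ext x
  exact (hw _ g).symm

/-- Eigenvalue data of a character of `S`. -/
theorem sylow_values (χ : IrrCharacter (D.S : Subgroup G)) :
    ∃ d l : ℕ, (χ : ↥(D.S : Subgroup G) → ℂ) 1 = d ∧
      (χ : ↥(D.S : Subgroup G) → ℂ) ⟨D.z, D.hzS⟩ = (d : ℂ) - 4 * l := by
  classical
  obtain ⟨i, hiS, hi⟩ := D.exists_order_four
  obtain ⟨j, hjS, hj⟩ := D.hinv i hiS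
  obtain ⟨χ, n, ρ, hρ, rfl⟩ := χ
  set i' : (D.S : Subgroup G) := ⟨i, hiS⟩
  have hi' : orderOf i' = 4 := by rw [Subgroup.orderOf_mk, hi]
  obtain ⟨ι, hι, b, μ, -, hμ, hpow, -⟩ := CfsgLib.Char.exists_char_eigen ρ i'
  rw [hi'] at hμ
  have hsq : i' ^ 2 = ⟨D.z, D.hzS⟩ := Subtype.ext (by
    rw [SubmonoidClass.coe_pow, pow_two]; exact D.sq_eq_z hiS hi)
  have hinv' : i'⁻¹ = i' ^ 3 := by
    rw [inv_eq_iff_mul_eq_one, ← pow_succ', show 3 + 1 = orderOf i' from hi'.symm, pow_orderOf_eq_one]
  have hreal : ρ.character i' = ρ.character (i' ^ 3) := by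
    rw [← hinv', show i'⁻¹ = (⟨j, hjS⟩ : (D.S : Subgroup G)) * i' * (⟨j, hjS⟩ : (D.S : Subgroup G))⁻¹ from
      Subtype.ext hj.symm]
    exact (CfsgLib.Char.isCharacter_isClassFunction (CfsgLib.Char.isCharacter_of_rep ρ) i' _).symm
  have hcases : ∀ k, μ k = 1 ∨ μ k = -1 ∨ μ k = Complex.I ∨ μ k = -Complex.I := by
    intro k
    have h : (μ k - 1) * ((μ k + 1) * ((μ k - Complex.I) * (μ k + Complex.I))) = 0 := by
      have h4 := hμ k
      have hI := Complex.I_mul_I
      linear_combination h4 - ((μ k) ^ 2 - 1) * hI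
    rcases mul_eq_zero.1 h with h | h
    · exact Or.inl (sub_eq_zero.1 h)
    rcases mul_eq_zero.1 h with h | h
    · exact Or.inr (Or.inl (eq_neg_of_add_eq_zero_left h))
    rcases mul_eq_zero.1 h with h | h
    · exact Or.inr (Or.inr (Or.inl (sub_eq_zero.1 h)))
    · exact Or.inr (Or.inr (Or.inr (eq_neg_of_add_eq_zero_left h)))
  have hI1 : Complex.I ≠ 1 := by simp [Complex.ext_iff]
  have hI2 : Complex.I ≠ -1 := by simp [Complex.ext_iff]
  have hI3 : Complex.I ≠ -Complex.I := by simp [Complex.ext_iff]; norm_num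
  have hI4 : (1 : ℂ) ≠ -Complex.I := by simp [Complex.ext_iff]
  have hI5 : (-1 : ℂ) ≠ -Complex.I := by simp [Complex.ext_iff]
  let p : ι → ℂ := fun k => if μ k = Complex.I then 1 else 0
  let q : ι → ℂ := fun k => if μ k = -Complex.I then 1 else 0
  have h13 : ∀ k, μ k - μ k ^ 3 = 2 * Complex.I * (p k - q k) := by
    intro k
    rcases hcases k with h | h | h | h <;>
      simp [p, q, h, hI1, hI2, hI3, Ne.symm hI1, Ne.symm hI2, Ne.symm hI3, hI4, hI5, neg_eq_iff_eq_neg,
        pow_succ, Complex.I_mul_I] <;> ring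
  have h12 : ∀ k, 1 - μ k ^ 2 = 2 * (p k + q k) := by
    intro k
    rcases hcases k with h | h | h | h <;>
      simp [p, q, h, hI1, hI2, hI3, Ne.symm hI1, Ne.symm hI2, Ne.symm hI3, hI4, hI5, neg_eq_iff_eq_neg,
        pow_succ, Complex.I_mul_I] <;> norm_num
  have hpq : ∑ k, p k = ∑ k, q k := by
    have h : ∑ k, (μ k - μ k ^ 3) = 0 := by
      rw [Finset.sum_sub_distrib, ← hpow 3, ← hreal, sub_eq_zero]
      have := hpow 1
      simpa using this.symm
    rw [Finset.sum_congr rfl (fun k _ => h13 k), ← Finset.mul_sum, Finset.sum_sub_distrib,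
      mul_eq_zero, sub_eq_zero] at h
    exact h.resolve_left (by simp [Complex.I_ne_zero])
  refine ⟨Fintype.card ι, (Finset.univ.filter fun k => μ k = Complex.I).card, ?_, ?_⟩
  · have := hpow 0
    simpa using this
  · show ρ.character _ = _
    rw [← hsq, hpow 2]
    have h : ∑ k, (1 - μ k ^ 2) = 4 * ∑ k, p k := by
      rw [Finset.sum_congr rfl (fun k _ => h12 k), ← Finset.mul_sum, Finset.sum_add_distrib, ← hpq]
      ring
    rw [Finset.sum_sub_distrib] at h
    simp only [Finset.sum_const, Finset.card_univ, nsmul_one] at h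
    have hp : ∑ k, p k = ((Finset.univ.filter fun k => μ k = Complex.I).card : ℂ) := by
      simp [p, Finset.sum_boole]
    rw [hp] at h
    linear_combination -h

/-- The inner products with `wFn A B` on `S`. -/
theorem wFn_sylow_inner [Fintype (D.S : Subgroup G)] (A B : ℂ)
    (χ : IrrCharacter (D.S : Subgroup G)) {d l : ℕ}
    (hd : (χ : ↥(D.S : Subgroup G) → ℂ) 1 = d)
    (hl : (χ : ↥(D.S : Subgroup G) → ℂ) ⟨D.z, D.hzS⟩ = (d : ℂ) - 4 * l) :
    ∃ m : ℤ, 8 * classInner (fun x : (D.S : Subgroup G) => D.wFn A B x) (χ : ↥(D.S : Subgroup G) → ℂ) =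
      B * ((d : ℂ) - 4 * l) + A * (8 * m - 2 * d + 4 * l) := by
  classical
  obtain ⟨m, hm⟩ := CfsgLib.Char.classInner_isGeneralized_int
    (CfsgLib.Char.isGeneralized_of_isCharacter (CfsgLib.Char.isCharacter_one (G := (D.S : Subgroup G))))
    (CfsgLib.Char.isGeneralized_of_isCharacter (CfsgLib.Char.irr_isCharacter χ.2))
  refine ⟨m, ?_⟩
  set χ' := (χ : ↥(D.S : Subgroup G) → ℂ)
  set z' : (D.S : Subgroup G) := ⟨D.z, D.hzS⟩
  have h1z : (1 : (D.S : Subgroup G)) ≠ z' := fun h => invol_ne_one D.hz (congrArg Subtype.val h).symm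
  have hsplit : ∀ f : ↥(D.S : Subgroup G) → ℂ, ∑ x, f x = f 1 + f z' +
      ∑ x ∈ Finset.univ.filter (fun x : (D.S : Subgroup G) => orderOf (x : G) = 4), f x := by
    intro f
    have e : Finset.univ.filter (fun x : (D.S : Subgroup G) => ¬ orderOf (x : G) = 4) = {1, z'} := by
      ext x
      simp only [Finset.mem_filter, Finset.mem_univ, true_and, Finset.mem_insert, Finset.mem_singleton]
      constructor
      · intro hx
        obtain ⟨k, hk, hk'⟩ := (Nat.dvd_prime_pow Nat.prime_two).1
          (show orderOf (x : G) ∣ 2 ^ 2 from D.orderOf_dvd_four x.2)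
        rcases (show k = 0 ∨ k = 1 ∨ k = 2 by omega) with rfl | rfl | rfl
        · exact Or.inl (Subtype.ext (orderOf_eq_one_iff.1 (by simpa using hk')))
        · exact Or.inr (Subtype.ext (D.eq_z x.2 (by simpa using hk')))
        · exact absurd hk' hx
      · rintro (rfl | rfl) <;> simp [z', D.hz]
    rw [← Finset.sum_filter_not_add_sum_filter (s := Finset.univ)
      (p := fun x : (D.S : Subgroup G) => orderOf (x : G) = 4), e, Finset.sum_pair h1z]
  have hcard : (Nat.card (D.S : Subgroup G) : ℂ) = 8 := by rw [D.hcard]; norm_num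
  have hT : ∑ x, conj (χ' x) = 8 * (m : ℂ) := by
    rw [CfsgLib.Char.classInner_def, hcard] at hm
    simp only [one_mul] at hm
    rw [← hm]; ring
  have hT' : ∑ x ∈ Finset.univ.filter (fun x : (D.S : Subgroup G) => orderOf (x : G) = 4), conj (χ' x) =
      8 * (m : ℂ) - 2 * d + 4 * l := by
    rw [hsplit] at hT
    simp only [hd, hl, map_sub, map_mul, map_natCast, map_ofNat] at hT
    linear_combination hT
  rw [CfsgLib.Char.classInner_def, hcard, ← mul_assoc, mul_inv_cancel₀ (by norm_num), one_mul,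
    hsplit, ← hT', Finset.mul_sum]
  congr 1
  · simp [wFn, z', D.hz, hl, map_ofNat]
  · refine Finset.sum_congr rfl fun x hx => ?_
    have hx' : orderOf (x : G) = 4 := (Finset.mem_filter.1 hx).2
    simp only [wFn, if_pos hx']

theorem theta_isGeneralized :
    IsGeneralizedCharacter G (fun g => D.wFn 4 0 (twoPart g)) := by
  have := Fintype.ofFinite (D.S : Subgroup G)
  refine D.isGeneralized_of_sylow (D.wFn_isClassFunction 4 0) (CfsgLib.Char.isGeneralized_of_int
    (fun g h => D.wFn_isClassFunction 4 0 (g : G) (h : G)) fun χ hχ => ?_)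
  obtain ⟨d, l, hd, hl⟩ := D.sylow_values ⟨χ, hχ⟩
  obtain ⟨m, hm⟩ := D.wFn_sylow_inner 4 0 ⟨χ, hχ⟩ hd hl
  refine ⟨4 * m - d + 2 * l, ?_⟩
  push_cast
  linear_combination hm / 8

theorem gamma_isGeneralized :
    IsGeneralizedCharacter G (fun g => D.wFn 2 4 (twoPart g)) := by
  have := Fintype.ofFinite (D.S : Subgroup G)
  refine D.isGeneralized_of_sylow (D.wFn_isClassFunction 2 4) (CfsgLib.Char.isGeneralized_of_int
    (fun g h => D.wFn_isClassFunction 2 4 (g : G) (h : G)) fun χ hχ => ?_)
  obtain ⟨d, l, hd, hl⟩ := D.sylow_values ⟨χ, hχ⟩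
  obtain ⟨m, hm⟩ := D.wFn_sylow_inner 2 4 ⟨χ, hχ⟩ hd hl
  refine ⟨2 * m - l, ?_⟩
  push_cast
  linear_combination hm / 8

/-! ### The function supported on the involution section -/

open scoped Classical in
/-- `2δ(ψ - δ)` transported to the section of involutions. -/
noncomputable def betaFn (D : Q8Data G) (ψ : Subgroup.centralizer ({D.z} : Set G) → ℂ) (δ : ℂ)
    (g : G) : ℂ :=
  if h : ∃ a : G, a * twoPart g * a⁻¹ = D.z ∧ a * g * a⁻¹ ∈ Subgroup.centralizer ({D.z} : Set G) then
    2 * δ * (ψ ⟨h.choose * g * h.choose⁻¹, h.choose_spec.2⟩ - δ) else 0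

theorem mem_centralizer_of_twoPart {a g : G} (ha : a * twoPart g * a⁻¹ = D.z) :
    a * g * a⁻¹ ∈ Subgroup.centralizer ({D.z} : Set G) := by
  rw [Subgroup.mem_centralizer_singleton_iff]
  have h := (twoPart_commute_self g).map (MulAut.conj a).toMonoidHom
  simp only [MulEquiv.coe_toMonoidHom, MulAut.conj_apply, ha] at h
  exact h.symm.eq

theorem betaFn_eq {ψ : Subgroup.centralizer ({D.z} : Set G) → ℂ}
    (hψ : IsClassFunction (Subgroup.centralizer ({D.z} : Set G)) ψ) (δ : ℂ) {a g : G}
    (ha : a * twoPart g * a⁻¹ = D.z) :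
    D.betaFn ψ δ g = 2 * δ * (ψ ⟨a * g * a⁻¹, D.mem_centralizer_of_twoPart ha⟩ - δ) := by
  classical
  have h : ∃ a : G, a * twoPart g * a⁻¹ = D.z ∧
      a * g * a⁻¹ ∈ Subgroup.centralizer ({D.z} : Set G) := ⟨a, ha, D.mem_centralizer_of_twoPart ha⟩
  unfold betaFn
  rw [dif_pos h]
  set b := h.choose with hbdef
  have hb : b * twoPart g * b⁻¹ = D.z := h.choose_spec.1
  have hc : a * b⁻¹ ∈ Subgroup.centralizer ({D.z} : Set G) := by
    rw [Subgroup.mem_centralizer_singleton_iff]
    refine mul_inv_eq_iff_eq_mul.1 ?_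
    conv_lhs => rw [← hb]
    rw [← ha]; group
  congr 2
  rw [← hψ ⟨b * g * b⁻¹, h.choose_spec.2⟩ ⟨a * b⁻¹, hc⟩]
  congr 1
  refine Subtype.ext ?_
  push_cast
  group

theorem betaFn_eq_zero {ψ : Subgroup.centralizer ({D.z} : Set G) → ℂ} (δ : ℂ) {g : G}
    (hg : orderOf (twoPart g) ≠ 2) : D.betaFn ψ δ g = 0 := by
  classical
  unfold betaFn
  rw [dif_neg]
  rintro ⟨a, ha, -⟩
  exact hg (by rw [← D.hz, ← ha, orderOf_conj_eq])

theorem exists_conj_z {g : G} (hg : orderOf (twoPart g) = 2) :
    ∃ a : G, a * twoPart g * a⁻¹ = D.z :=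
  isConj_iff.1 (D.isConj_z hg).symm

theorem betaFn_isClassFunction {ψ : Subgroup.centralizer ({D.z} : Set G) → ℂ}
    (hψ : IsClassFunction (Subgroup.centralizer ({D.z} : Set G)) ψ) (δ : ℂ) :
    IsClassFunction G (D.betaFn ψ δ) := by
  intro g h
  by_cases hg : orderOf (twoPart g) = 2
  · obtain ⟨a, ha⟩ := D.exists_conj_z hg
    have ha' : a * h⁻¹ * twoPart (h * g * h⁻¹) * (a * h⁻¹)⁻¹ = D.z := by
      rw [twoPart_conj, ← ha]; group
    rw [D.betaFn_eq hψ δ ha, D.betaFn_eq hψ δ ha']
    congr 3
    refine Subtype.ext ?_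
    simp [mul_assoc]
  · rw [D.betaFn_eq_zero δ hg, D.betaFn_eq_zero δ (by rwa [twoPart_conj, orderOf_conj_eq])]

theorem beta_isGeneralized {ψ : IrrCharacter (Subgroup.centralizer ({D.z} : Set G))} {δ : ℤ}
    (hz : ∀ x, (ψ : Subgroup.centralizer ({D.z} : Set G) → ℂ) (D.toCentralizer.z * x) =
      (ψ : Subgroup.centralizer ({D.z} : Set G) → ℂ) x)
    (h4 : ∀ x : Subgroup.centralizer ({D.z} : Set G), orderOf (twoPart x) = 4 →
      (ψ : Subgroup.centralizer ({D.z} : Set G) → ℂ) x = δ) :
    IsGeneralizedCharacter G (D.betaFn ψ (δ : ℂ)) := by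
  classical
  have := Fintype.ofFinite G
  have hψc := CfsgLib.Char.irr_isClassFunction ψ.2
  refine CfsgLib.Char.brauer_characterization (D.betaFn_isClassFunction hψc _) fun E q hq hE => ?_
  have := Fintype.ofFinite E
  refine CfsgLib.Char.isGeneralized_of_int
    (fun g h => D.betaFn_isClassFunction hψc _ (g : G) (h : G)) fun χ hχ => ?_
  by_cases hex : ∃ e : E, orderOf (twoPart e) = 2
  swap
  · push Not at hex
    refine ⟨0, ?_⟩
    rw [show (fun e : E => D.betaFn (ψ : _ → ℂ) (δ : ℂ) (e : G)) = 0 from funext fun e =>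
      D.betaFn_eq_zero _ (by rw [twoPart_coe, Subgroup.orderOf_coe]; exact hex e),
      CfsgLib.Char.classInner_zero_left, Int.cast_zero]
  have hnil := isNilpotent_of_isElementary hq hE
  obtain ⟨R, hR⟩ := CfsgLib.BlockA.exists_regular_subgroup (p := 2) hq hE
  let π : E →* E :=
    { toFun := twoPart
      map_one' := twoPart_of_odd (by simp)
      map_mul' := twoPart_mul_of_nilpotent hnil hR }
  obtain ⟨e₀, he₀⟩ := hex
  set z' : E := twoPart e₀
  have hrange : IsPGroup 2 π.range := by
    rintro ⟨_, e, rfl⟩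
    obtain ⟨k, hk⟩ := exists_orderOf_twoPart e
    refine ⟨k, Subtype.ext ?_⟩
    show twoPart e ^ 2 ^ k = 1
    rw [← hk, pow_orderOf_eq_one]
  obtain ⟨Q, hQ⟩ := (hrange.map E.subtype).exists_le_sylow
  have huniq : ∀ e : E, orderOf (twoPart e) = 2 → twoPart e = z' := by
    intro e he
    refine Subtype.ext (eq_of_mem_sylow_of_isolated Q D.isolated
      (D.isConj_z (by rw [Subgroup.orderOf_coe, he])) (D.isConj_z (by rw [Subgroup.orderOf_coe, he₀]))
      (hQ ⟨_, ⟨e, rfl⟩, rfl⟩) (hQ ⟨_, ⟨e₀, rfl⟩, rfl⟩))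
  have hzc : ∀ x : E, Commute z' x := by
    intro x
    have h : twoPart (x * e₀ * x⁻¹) = z' := huniq _ (by rw [twoPart_conj, orderOf_conj_eq, he₀])
    rw [twoPart_conj] at h
    exact (mul_inv_eq_iff_eq_mul.1 h).symm
  have hzz : z' * z' = 1 := invol_mul_self he₀
  obtain ⟨a, ha⟩ := isConj_iff.1 (D.isConj_z (x := (z' : G)) (by rw [Subgroup.orderOf_coe, he₀])).symm
  let ι : E →* Subgroup.centralizer ({D.z} : Set G) :=
    { toFun := fun e => ⟨a * (e : G) * a⁻¹, by
        rw [Subgroup.mem_centralizer_singleton_iff, ← ha]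
        have := (hzc e).map ((MulAut.conj a).toMonoidHom.comp E.subtype)
        simp only [MonoidHom.coe_comp, Function.comp_apply, MulEquiv.coe_toMonoidHom,
          MulAut.conj_apply, Subgroup.subtype_apply] at this
        exact this.symm.eq⟩
      map_one' := Subtype.ext (by simp)
      map_mul' := fun x y => Subtype.ext (by simp [mul_assoc]) }
  let ρ : E →* E :=
    { toFun := fun e => (twoPart e)⁻¹ * e
      map_one' := by simp [twoPart_of_odd]
      map_mul' := fun x y => by
        rw [twoPart_mul_of_nilpotent hnil hR, mul_inv_rev]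
        have hc : Commute (twoPart y) ((twoPart x)⁻¹ * x) := by
          refine CfsgLib.OddLocal.commute_of_coprime_of_isNilpotent hnil ?_
          obtain ⟨k, hk⟩ := exists_orderOf_twoPart y
          rw [hk]
          exact Nat.Coprime.pow_left k (Nat.coprime_two_left.2 (odd_orderOf_twoPart_inv_mul x))
        calc (twoPart y)⁻¹ * (twoPart x)⁻¹ * (x * y)
            = (twoPart y)⁻¹ * ((twoPart x)⁻¹ * x) * y := by group
          _ = ((twoPart x)⁻¹ * x) * (twoPart y)⁻¹ * y := by rw [hc.inv_left.eq]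
          _ = _ := by group }
  obtain ⟨c, hc, hcχ⟩ := central_invol_sign ⟨χ, hχ⟩ hzc hzz
  -- the two integers
  have hψ' : IsCharacter E ((ψ : _ → ℂ) ∘ ι) :=
    CfsgLib.Char.isCharacter_comp (CfsgLib.Char.irr_isCharacter ψ.2) ι
  have hχρ : IsCharacter E (χ ∘ ρ) :=
    CfsgLib.Char.isCharacter_comp (CfsgLib.Char.irr_isCharacter hχ) ρ
  obtain ⟨k₁, hk₁⟩ := CfsgLib.Char.classInner_isGeneralized_int
    (CfsgLib.Char.isGeneralized_of_isCharacter hψ') (CfsgLib.Char.isGeneralized_of_isCharacter hχρ)
  obtain ⟨k₂, hk₂⟩ := CfsgLib.Char.classInner_isGeneralized_int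
    (CfsgLib.Char.isGeneralized_of_isCharacter (CfsgLib.Char.isCharacter_one (G := E)))
    (CfsgLib.Char.isGeneralized_of_isCharacter hχρ)
  refine ⟨δ * c * (k₁ - δ * k₂), ?_⟩
  have hi4 : ∀ e : E, orderOf (twoPart e) = 4 → (ψ : _ → ℂ) (ι e) = δ := by
    intro e he
    refine h4 _ ?_
    rw [← Subgroup.orderOf_coe, ← twoPart_coe]
    show orderOf (twoPart (a * (e : G) * a⁻¹)) = 4
    rw [twoPart_conj, orderOf_conj_eq, twoPart_coe, Subgroup.orderOf_coe, he]
  have hιz : ι z' = D.toCentralizer.z := Subtype.ext ha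
  set F : E → ℂ := fun e => ((ψ : _ → ℂ) (ι e) - δ) * conj (χ (ρ e)) with hF
  have hzρ : ∀ e : E, twoPart e = 1 → ρ (z' * e) = e ∧ ρ e = e ∧ twoPart (z' * e) = z' := by
    intro e he
    have ho : Odd (orderOf e) := (twoPart_eq_one_iff e).1 he
    have h2 : twoPart (z' * e) = z' := twoPart_mul (hzc e) ⟨1, by rw [he₀, pow_one]⟩ ho
    exact ⟨by show (twoPart (z' * e))⁻¹ * (z' * e) = e; rw [h2, inv_mul_cancel_left],
      by show (twoPart e)⁻¹ * e = e; rw [he, inv_one, one_mul], h2⟩
  have hFz : ∀ e : E, twoPart e = 1 → F (z' * e) = F e := by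
    intro e he
    simp only [hF, (hzρ e he).1, (hzρ e he).2.1, map_mul ι, hιz, hz]
  have hFsum : ∑ e, F e = 2 * ∑ e ∈ Finset.univ.filter (fun e : E => twoPart e = 1), F e := by
    have hsplit : ∀ e : E, F e = (if twoPart e = 1 then F e else 0) + (if twoPart e = z' then F e else 0) := by
      intro e
      have hne : z' ≠ 1 := invol_ne_one he₀
      rcases D.orderOf_twoPart (e : G) with h | h | h <;> rw [twoPart_coe, Subgroup.orderOf_coe] at h
      · simp [orderOf_eq_one_iff.1 h, Ne.symm hne]
      · simp [huniq e h, hne]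
      · have h1 : twoPart e ≠ 1 := fun e' => by rw [e', orderOf_one] at h; omega
        have h2 : twoPart e ≠ z' := fun e' => by rw [e', he₀] at h; omega
        simp [h1, h2, hF, hi4 e h]
    rw [Finset.sum_congr rfl (fun e _ => hsplit e), Finset.sum_add_distrib, ← Finset.sum_filter,
      ← Finset.sum_filter, two_mul]
    congr 1
    refine (Finset.sum_nbij' (fun e => z' * e) (fun e => z' * e) ?_ ?_ ?_ ?_ ?_).symm
    · intro e he
      simp only [Finset.mem_coe, Finset.mem_filter, Finset.mem_univ, true_and] at he ⊢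
      exact (hzρ e he).2.2
    · intro e he
      simp only [Finset.mem_coe, Finset.mem_filter, Finset.mem_univ, true_and] at he ⊢
      show π (z' * e) = 1
      rw [map_mul, show π e = z' from he, show π z' = z' from twoPart_self ⟨1, by rw [he₀, pow_one]⟩, hzz]
    · intro e _; rw [← mul_assoc, hzz, one_mul]
    · intro e _; rw [← mul_assoc, hzz, one_mul]
    · intro e he
      exact (hFz e (by simpa using he)).symm
  have hbeta : ∑ e : E, D.betaFn (ψ : _ → ℂ) (δ : ℂ) (e : G) * conj (χ e) =
      2 * δ * c * ∑ e ∈ Finset.univ.filter (fun e : E => twoPart e = 1), F e := by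
    rw [Finset.mul_sum, ← Finset.sum_filter_of_ne (p := fun e : E => twoPart e = z') (fun e _ hne => by
      by_contra h
      refine hne ?_
      rw [D.betaFn_eq_zero _ (fun h2 => h (huniq e (by rw [← Subgroup.orderOf_coe, ← twoPart_coe]; exact h2))),
        zero_mul])]
    refine (Finset.sum_nbij' (fun e => z' * e) (fun e => z' * e) ?_ ?_ ?_ ?_ ?_).symm
    · intro e he
      simp only [Finset.mem_coe, Finset.mem_filter, Finset.mem_univ, true_and] at he ⊢
      exact (hzρ e he).2.2
    · intro e he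
      simp only [Finset.mem_coe, Finset.mem_filter, Finset.mem_univ, true_and] at he ⊢
      show π (z' * e) = 1
      rw [map_mul, show π e = z' from he, show π z' = z' from twoPart_self ⟨1, by rw [he₀, pow_one]⟩, hzz]
    · intro e _; rw [← mul_assoc, hzz, one_mul]
    · intro e _; rw [← mul_assoc, hzz, one_mul]
    · intro e he
      have he' : twoPart e = 1 := by simpa using he
      have ha' : a * twoPart ((z' * e : E) : G) * a⁻¹ = D.z := by
        rw [twoPart_coe, (hzρ e he').2.2, ha]
      rw [D.betaFn_eq hψc _ ha', show (⟨a * ((z' * e : E) : G) * a⁻¹, D.mem_centralizer_of_twoPart ha'⟩ :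
        Subgroup.centralizer ({D.z} : Set G)) = ι (z' * e) from rfl, map_mul, hιz, hz]
      have := hcχ e
      simp only at this
      rw [this, map_mul, map_intCast]
      simp only [hF, (hzρ e he').2.1]
      ring
  have hFin : (Nat.card E : ℂ)⁻¹ * ∑ e, F e = (k₁ : ℂ) - δ * k₂ := by
    rw [← hk₁, ← hk₂, CfsgLib.Char.classInner_def, CfsgLib.Char.classInner_def, mul_left_comm (δ : ℂ),
      ← mul_sub, Finset.mul_sum Finset.univ _ (δ : ℂ), ← Finset.sum_sub_distrib]
    congr 1
    refine Finset.sum_congr rfl fun e _ => ?_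
    simp only [hF, Function.comp_apply]
    ring
  rw [CfsgLib.Char.classInner_def, hbeta]
  push_cast
  rw [← hFin, hFsum]
  ring

/-! ### Characters of the centralizer -/

theorem exists_psi (hzc : ∀ x : G, Commute D.z x) [Fintype G] {θ : G → ℂ}
    (hθ : θ = fun g => D.wFn 4 0 (twoPart g)) (ψ : IrrCharacter G) {δ : ℤ}
    (hδ : δ = 1 ∨ δ = -1) (hin : classInner θ (ψ : G → ℂ) = δ) :
    (∀ x, (ψ : G → ℂ) (D.z * x) = (ψ : G → ℂ) x) ∧
      ∀ x, orderOf (twoPart x) = 4 → (ψ : G → ℂ) x = δ := by
  classical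
  subst hθ
  constructor
  · have hzz := invol_mul_self D.hz
    obtain ⟨c, hc, hcψ⟩ := central_invol_sign ψ hzc hzz
    have h4 : ∀ s : G, orderOf s = 4 → orderOf (D.z * s) = 4 := by
      intro s hs
      refine orderOf_eq_prime_pow (p := 2) (n := 1) (fun h => ?_) ?_
      · rw [(hzc s).mul_pow, show (2 : ℕ) ^ 1 = 2 by rfl, pow_two D.z, hzz, one_mul] at h
        have := orderOf_dvd_of_pow_eq_one h
        rw [hs] at this
        exact absurd this (by norm_num)
      · rw [(hzc s).mul_pow, show (2 : ℕ) ^ (1 + 1) = 4 by rfl, ← hs, pow_orderOf_eq_one, mul_one,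
          hs, show 4 = 2 * 2 by rfl, pow_mul, pow_two D.z, hzz, one_pow]
    have hθz : ∀ g : G, D.wFn 4 0 (twoPart (D.z * g)) = D.wFn 4 0 (twoPart g) := by
      intro g
      obtain ⟨y, hy, hyc, ⟨k, hk⟩, hyo⟩ := twoPart_spec g
      have hpow : ∃ j : ℕ, orderOf (D.z * twoPart g) = 2 ^ j := by
        have hd : orderOf (D.z * twoPart g) ∣ 2 ^ (k + 1) := by
          refine orderOf_dvd_of_pow_eq_one ?_
          rw [(hzc _).mul_pow, pow_succ 2 k, pow_mul' D.z, pow_two, hzz, one_pow, one_mul, pow_mul,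
            ← hk, pow_orderOf_eq_one, one_pow]
        obtain ⟨j, -, hj⟩ := (Nat.dvd_prime_pow Nat.prime_two).1 hd
        exact ⟨j, hj⟩
      have e : twoPart (D.z * g) = D.z * twoPart g := by
        conv_lhs => rw [← hy, ← mul_assoc]
        exact twoPart_eq (CfsgLib.Block.isPPart_mul ((hzc y).mul_left hyc) hpow hyo)
      rw [e]
      by_cases h : orderOf (twoPart g) = 4
      · simp [wFn, h, h4 _ h]
      · have h' : orderOf (D.z * twoPart g) ≠ 4 := fun h' => h (by
          simpa [← mul_assoc, hzz] using h4 _ h')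
        simp [wFn, h, h']
    have h2 : (δ : ℂ) = c * δ := by
      conv_lhs => rw [← hin]
      rw [← hin, CfsgLib.Char.classInner_def, ← mul_assoc, mul_comm (c : ℂ), mul_assoc]
      congr 1
      rw [Finset.mul_sum]
      refine Fintype.sum_equiv (Equiv.mulLeft D.z) _ _ fun g => ?_
      simp only [Equiv.coe_mulLeft, hθz, hcψ, map_mul, map_intCast]
      rcases hc with rfl | rfl <;> push_cast <;> ring
    intro x
    rw [hcψ]
    rcases hc with rfl | rfl
    · simp
    · exfalso
      rcases hδ with rfl | rfl <;> norm_num at h2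
  · have hcard := CfsgLib.Char.natCard_ne_zero (G := G)
    have hsum : 4 * ∑ g ∈ Finset.univ.filter (fun g : G => orderOf (twoPart g) = 4), conj ((ψ : G → ℂ) g) =
        (Nat.card G : ℂ) * δ := by
      rw [← hin, CfsgLib.Char.classInner_def, ← mul_assoc, mul_inv_cancel₀ hcard, one_mul,
        Finset.mul_sum, Finset.sum_filter]
      refine Finset.sum_congr rfl fun g _ => ?_
      simp only [wFn]
      by_cases h : orderOf (twoPart g) = 4
      · simp [h]
      · simp [h]
    obtain ⟨M, hM⟩ := CfsgLib.BlockB.exists_isPModular (p := 2) Nat.prime_two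
    have := CfsgLib.Block.isPrime_of_pmodular hM
    have hB : ψ ∈ principalBlock M G := by
      by_contra hB
      have hzero : ∀ s : G, orderOf s = 4 →
          ∑ g ∈ Finset.univ.filter (fun g => twoPart g = s), (ψ : G → ℂ) g = 0 := by
        intro s hs
        obtain ⟨-, hidx, -⟩ := D.exists_core_four hs
        set H := Subgroup.centralizer ({s} : Set G)
        set K := Cfsg.pPrimeCore 2 H
        have hKn : K.Normal := CfsgLib.Solvable.pPrimeCore_normal 2 H
        have hKp : ¬ 2 ∣ Nat.card K := Nat.prime_two.coprime_iff_not_dvd.1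
          (CfsgLib.Solvable.pPrimeCore_coprime 2).symm
        have := Fintype.ofFinite H
        have := Fintype.ofFinite K
        have := Fact.mk Nat.prime_two
        have hsH : s ∈ H := Subgroup.mem_centralizer_singleton_iff.2 rfl
        set b := principalBlock M H
        -- the block idempotent is the averaging element of `K`
        have hb : CfsgLib.Block.blockSum b =
            CfsgLib.Block.mkGA (fun h : H => if h ∈ K then (Nat.card K : ℂ)⁻¹ else 0) := by
          refine CfsgLib.Block.eq_of_omegaC_eq (CfsgLib.Block.blockSum_isClassCoeff b) (fun g h => ?_)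
            fun ξ => ?_
          · simp only [CfsgLib.Block.coeff_mkGA]
            exact if_congr ⟨fun hx => by simpa [mul_assoc] using hKn.conj_mem _ hx h⁻¹,
              fun hx => hKn.conj_mem _ hx h⟩ rfl rfl
          have hval : CfsgLib.Block.omegaC (ξ : H → ℂ)
              (CfsgLib.Block.mkGA (fun h : H => if h ∈ K then (Nat.card K : ℂ)⁻¹ else 0)) =
              classInner (fun k : K => (ξ : H → ℂ) k) ((CfsgLib.Block.trivIrr : IrrCharacter K) : K → ℂ) /
                (ξ : H → ℂ) 1 := by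
            rw [CfsgLib.Block.omegaC_eq, CfsgLib.Char.classInner_def]
            congr 1
            rw [Finset.mul_sum]
            simp only [CfsgLib.Block.coeff_mkGA, ite_mul, zero_mul, CfsgLib.Block.trivIrr, map_one, mul_one]
            rw [← Finset.sum_filter]
            refine (Finset.sum_bij (fun (k : K) _ => (k : H)) (fun k _ => by simp)
              (fun x _ y _ h => Subtype.ext h)
              (fun x hx => ⟨⟨x, (Finset.mem_filter.1 hx).2⟩, Finset.mem_univ _, rfl⟩)
              (fun k _ => rfl)).symm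
          rw [CfsgLib.Block.omegaC_blockSum, hval]
          by_cases hξ : ξ ∈ b
          · rw [if_pos hξ]
            have hle := CfsgLib.Block.le_kerIrr_of_mem_principalBlock (N := K) hM hKp hξ
            rw [show (fun k : K => (ξ : H → ℂ) k) = (ξ : H → ℂ) 1 •
                ((CfsgLib.Block.trivIrr : IrrCharacter K) : K → ℂ) from funext fun k => by
                simpa [CfsgLib.Block.trivIrr] using CfsgLib.Block.mem_kerIrr.1 (hle k.2),
              CfsgLib.Char.classInner_smul_left,
              CfsgLib.Char.irr_classInner_self CfsgLib.Block.trivIrr.2, mul_one,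
              div_self (CfsgLib.Char.irr_apply_one_ne_zero ξ.2)]
          · rw [if_neg hξ]
            have : classInner (fun k : K => (ξ : H → ℂ) k)
                ((CfsgLib.Block.trivIrr : IrrCharacter K) : K → ℂ) = 0 := by
              by_contra hne
              exact hξ (CfsgLib.Block.mem_principalBlock_of_le_kerIrr (N := K) hM hidx
                ((CfsgLib.Block.le_kerIrr_iff_constituent ξ).2 hne))
            rw [this, zero_div]
        have hp : IsPGroup 2 (Subgroup.zpowers s) :=
          IsPGroup.of_card (n := 2) (by rw [Nat.card_zpowers, hs]; rfl)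
        have hCH : Subgroup.centralizer (Subgroup.zpowers s : Set G) ≤ H :=
          Subgroup.centralizer_le (Set.singleton_subset_iff.2 (Subgroup.mem_zpowers s))
        have hHN : H ≤ Subgroup.normalizer (Subgroup.zpowers s : Set G) := by
          have : H = Subgroup.centralizer (Subgroup.zpowers s : Set G) := by
            rw [Subgroup.zpowers_eq_closure, Subgroup.centralizer_closure]
          rw [this]
          exact Subgroup.centralizer_le_normalizer _
        obtain ⟨B, hind⟩ := CfsgLib.Block.exists_isInducedBlock_of_normalizer hM hp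
          (Subgroup.zpowers_le.2 hsH) hCH hHN (CfsgLib.Block.isPBlock_principalBlock (M := M) (G := H))
        have hBp : B = principalBlock M G := by
          have h1 := (Cfsg.Agent.S0936.result 2 M hM H b ⟨B, hind⟩).2 rfl
          exact CfsgLib.Block.isInducedBlock_unique H hind h1
        have h0 := CfsgLib.Block.chiExt_inclSub_blockSum_eq_zero hM hind hsH
          (CfsgLib.Block.isPPart_self ⟨2, by rw [hs]; rfl⟩ Nat.prime_two) le_rfl (χ := ψ) (hBp ▸ hB)
        rw [hb, CfsgLib.Block.chiExt_eq, ← Finset.sum_filter_of_ne (p := fun x => x ∈ H)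
          (fun x _ hne => by
            by_contra hx
            exact hne (by rw [CfsgLib.Block.coeff_inclSub_of_not_mem H _ hx, zero_mul]))] at h0
        rw [D.sum_fiber_four hs, finsum_eq_sum_of_fintype]
        have h1 : ∑ x ∈ Finset.univ.filter (fun x => x ∈ H),
            (CfsgLib.Block.inclSub H (CfsgLib.Block.mkGA
              (fun h : H => if h ∈ K then (Nat.card K : ℂ)⁻¹ else 0))).coeff x * (ψ : G → ℂ) (x * s) =
            (Nat.card K : ℂ)⁻¹ * ∑ v : K, (ψ : G → ℂ) (s * ((v : H) : G)) := by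
          rw [Finset.mul_sum]
          rw [← Finset.sum_bij (s := (Finset.univ : Finset H)) (fun (h : H) _ => (h : G))
            (f := fun h : H => (if h ∈ K then (Nat.card K : ℂ)⁻¹ else 0) * (ψ : G → ℂ) (h * s))
            (fun h _ => by simp) (fun x _ y _ h => Subtype.ext h)
            (fun x hx => ⟨⟨x, (Finset.mem_filter.1 hx).2⟩, Finset.mem_univ _, rfl⟩)
            (fun h _ => by rw [CfsgLib.Block.coeff_inclSub_of_mem, CfsgLib.Block.coeff_mkGA])]
          simp only [ite_mul, zero_mul]
          rw [← Finset.sum_filter]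
          refine (Finset.sum_bij (fun (k : K) _ => (k : H)) (fun k _ => by simp)
            (fun x _ y _ h => Subtype.ext h)
            (fun x hx => ⟨⟨x, (Finset.mem_filter.1 hx).2⟩, Finset.mem_univ _, rfl⟩)
            (fun k _ => ?_)).symm
          rw [Subgroup.mem_centralizer_singleton_iff.1 (k : H).2]
        rw [h1] at h0
        exact (mul_eq_zero.1 h0).resolve_left (inv_ne_zero (Nat.cast_ne_zero.2 Nat.card_pos.ne'))
      have htot : ∑ g ∈ Finset.univ.filter (fun g : G => orderOf (twoPart g) = 4), (ψ : G → ℂ) g = 0 := by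
        obtain ⟨s, -, hs⟩ := D.exists_order_four
        have e : (Finset.univ.filter fun g : G => orderOf (twoPart g) = 4) =
            Finset.univ.filter fun g : G => IsConj s (twoPart g) := by
          ext g
          simp only [Finset.mem_filter, Finset.mem_univ, true_and]
          exact ⟨D.hfour _ _ hs, fun h => by rw [orderOf_eq_of_isConj h, hs]⟩
        rw [e, sum_section s (CfsgLib.Char.irr_isClassFunction ψ.2), hzero s hs, mul_zero]
      rw [← map_sum, htot, map_zero, mul_zero] at hsum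
      exact mul_ne_zero hcard (Int.cast_ne_zero.2 (by omega)) hsum.symm
    -- constant values on the section
    intro x hx
    obtain ⟨s₀, -, hs₀⟩ := D.exists_order_four
    have hconst : ∀ g, orderOf (twoPart g) = 4 → (ψ : G → ℂ) g = (ψ : G → ℂ) s₀ := by
      intro g hg
      obtain ⟨k, hk⟩ := exists_orderOf_twoPart g
      have hv := (D.exists_core_four hg).1 ((twoPart g)⁻¹ * g)
        ((Commute.refl (twoPart g)).inv_right.mul_right (twoPart_commute_self g))
        (odd_orderOf_twoPart_inv_mul g)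
      conv_lhs => rw [← mul_inv_cancel_left (twoPart g) g]
      rw [principal_const_on_core hM ⟨k, hk⟩ hv hB]
      exact CfsgLib.Char.isClassFunction_isConj (CfsgLib.Char.irr_isClassFunction ψ.2) (D.hfour _ _ hg hs₀)
    have h := D.sum_section_four_of_const (fun g => conj ((ψ : G → ℂ) g)) (conj ((ψ : G → ℂ) s₀))
      fun g hg => by simp [hconst g hg]
    rw [hsum] at h
    have h' := congrArg conj (mul_left_cancel₀ hcard h)
    rw [map_intCast, Complex.conj_conj] at h'
    rw [hconst x hx, ← h']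

end Q8Data

end CfsgLib.Invol
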