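import Cfsg.Agent.Lib.Invol.QDSubgroups
import Cfsg.Agent.Lib.Invol.FusionBasics

/-!
Fusion in groups with quasi-dihedral Sylow 2-subgroups.
-/

set_option autoImplicit false
set_option linter.unusedSectionVars false

namespace CfsgLib.Invol

open Subgroup

theorem isKleinFour_subgroupOf {G : Type*} [Group G] {T P : Subgroup G} (hT : IsKleinFour T)
    (h : T ≤ P) : IsKleinFour (T.subgroupOf P) :=
  ⟨by rw [Nat.card_congr (subgroupOfEquivOfLe h).toEquiv, hT.card_four],
    by rw [Monoid.exponent_eq_of_mulEquiv (subgroupOfEquivOfLe h), hT.exponent_two]⟩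

theorem mem_subgroupOf_coe {G : Type*} [Group G] {T P : Subgroup G} (h : T ≤ P) (u : G) :
    u ∈ T ↔ ∃ s ∈ T.subgroupOf P, (s : G) = u :=
  ⟨fun hu => ⟨⟨u, h hu⟩, hu, rfl⟩, fun ⟨_, hs, e⟩ => e ▸ hs⟩

variable {G : Type*} [Group G] [Finite G] (S : Sylow 2 G) (D : QDData (S : Subgroup G))

/-- The noncentral involution. -/
def qy : G := (D.y : G)
/-- The central involution. -/
def qz : G := (D.z : G)
/-- The element of order four in the cyclic maximal subgroup. -/
def qa : G := ((D.x ^ (D.m : ℤ) : (S : Subgroup G)) : G)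
/-- An element of order four outside the cyclic maximal subgroup. -/
def qb : G := ((D.x ^ (1 : ℤ) * D.y : (S : Subgroup G)) : G)

theorem qz_commute {s : G} (hs : s ∈ (S : Subgroup G)) : Commute (qz S D) s :=
  (D.commute_z ⟨s, hs⟩).map (S : Subgroup G).subtype

theorem qy_mem : qy S D ∈ (S : Subgroup G) := D.y.2
theorem qz_mem : qz S D ∈ (S : Subgroup G) := D.z.2
theorem qa_mem : qa S D ∈ (S : Subgroup G) := (D.x ^ (D.m : ℤ)).2
theorem qb_mem : qb S D ∈ (S : Subgroup G) := (D.x ^ (1 : ℤ) * D.y).2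

theorem isConj_qy {j : ℤ} (hj : Even j) :
    IsConj ((D.x ^ j * D.y : (S : Subgroup G)) : G) (qy S D) := by
  obtain ⟨a, ha⟩ := D.exists_conj_shift (i := j) (j := 0) (by rw [zero_sub]; exact hj.neg)
  rw [zpow_zero, one_mul] at ha
  exact isConj_iff.2 ⟨((D.x ^ a : (S : Subgroup G)) : G), congrArg Subtype.val ha⟩

theorem isConj_qb {j : ℤ} (hj : Odd j) :
    IsConj ((D.x ^ j * D.y : (S : Subgroup G)) : G) (qb S D) := by
  obtain ⟨a, ha⟩ := D.exists_conj_shift (i := j) (j := 1) (odd_one.sub_odd hj)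
  exact isConj_iff.2 ⟨((D.x ^ a : (S : Subgroup G)) : G), congrArg Subtype.val ha⟩

theorem isConj_qa_inv : IsConj (qa S D)⁻¹ (qa S D) := by
  have h : D.y * (D.x ^ (D.m : ℤ))⁻¹ * D.y⁻¹ = D.x ^ (D.m : ℤ) := by
    obtain ⟨e, he⟩ := D.even_m
    have he' : (D.m : ℤ) = e + e := by exact_mod_cast he
    rw [← zpow_neg, conj_zpow_eq, D.conj_x, ← zpow_mul, D.zpow_eq_zpow_iff]
    exact ⟨e, by rw [he']; ring⟩
  exact isConj_iff.2 ⟨qy S D, congrArg Subtype.val h⟩

theorem qd_T (T : Subgroup G) (hT : IsKleinFour T) (hTS : T ≤ (S : Subgroup G)) :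
    ((centralizer (T : Set G)).relIndex (normalizer (T : Set G)) = 2 ∨
      (centralizer (T : Set G)).relIndex (normalizer (T : Set G)) = 6) ∧
    ((centralizer (T : Set G)).relIndex (normalizer (T : Set G)) = 6 ↔
      IsConj (qz S D) (qy S D)) ∧
    ((centralizer (T : Set G)).relIndex (normalizer (T : Set G)) = 6 →
      qy S D ∈ Cfsg.pResidual 2 G) := by
  classical
  have hT' := isKleinFour_subgroupOf hT hTS
  obtain ⟨j, hj, hset⟩ := D.klein_eq hT'
  set t : G := ((D.x ^ j * D.y : (S : Subgroup G)) : G) with ht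
  set z := qz S D
  have helem : ∀ u, u ∈ T ↔ u = 1 ∨ u = z ∨ u = t ∨ u = z * t := by
    intro u
    rw [mem_subgroupOf_coe hTS]
    simp only [← SetLike.mem_coe, hset, Set.mem_insert_iff, Set.mem_singleton_iff]
    constructor
    · rintro ⟨s, (rfl | rfl | rfl | rfl), rfl⟩
      exacts [Or.inl rfl, Or.inr (Or.inl rfl), Or.inr (Or.inr (Or.inl rfl)),
        Or.inr (Or.inr (Or.inr rfl))]
    · rintro (rfl | rfl | rfl | rfl)
      exacts [⟨1, Or.inl rfl, rfl⟩, ⟨_, Or.inr (Or.inl rfl), rfl⟩,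
        ⟨_, Or.inr (Or.inr (Or.inl rfl)), rfl⟩, ⟨_, Or.inr (Or.inr (Or.inr rfl)), rfl⟩]
  have hzT : z ∈ T := (helem z).2 (Or.inr (Or.inl rfl))
  have htT : t ∈ T := (helem t).2 (Or.inr (Or.inr (Or.inl rfl)))
  have hz1 : z ≠ 1 := fun h => invol_ne_one D.orderOf_z (Subtype.ext h)
  have ht1 : t ≠ 1 := fun h => invol_ne_one (D.orderOf_even_y hj) (Subtype.ext h)
  set s : Set G := {u | u ∈ T ∧ u ≠ 1} with hs
  have hcard : Nat.card s = 3 := by
    rw [show s = (T : Set G) \ {1} from rfl, Nat.card_coe_set_eq, Set.ncard_sdiff_singleton_of_mem (one_mem T),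
      ← Nat.card_coe_set_eq]
    show Nat.card T - 1 = 3
    rw [hT.card_four]
  set N := normalizer (T : Set G)
  have hinv : ∀ n ∈ N, ∀ u ∈ s, n * u * n⁻¹ ∈ s := fun n hn u hu =>
    ⟨(mem_normalizer_iff.1 hn u).1 hu.1, fun h => hu.2 (conj_eq_one_iff.1 h)⟩
  set φ := conjPerm N s hinv
  have hker : φ.ker = (centralizer (T : Set G)).subgroupOf N := by
    ext n
    rw [mem_subgroupOf, mem_centralizer_iff]
    refine (mem_ker_restrictPerm ..).trans ⟨fun h u hu => ?_, fun h u hu => ?_⟩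
    · by_cases hu1 : u = 1
      · simp [hu1]
      · have := h u ⟨hu, hu1⟩
        exact (mul_inv_eq_iff_eq_mul.1 this).symm
    · exact mul_inv_eq_iff_eq_mul.2 (h u hu.1).symm
  have hidx : (centralizer (T : Set G)).relIndex N = φ.ker.index := by rw [hker]; rfl
  -- a transposition
  obtain ⟨e, he⟩ := D.even_m
  have he' : (D.m : ℤ) = e + e := by exact_mod_cast he
  have hn : ((D.x ^ (D.m : ℤ) : (S : Subgroup G)) : G) ∈ N := by
    have h1 := (D.klein_normalizer_zpow hT' (a := (D.m : ℤ))).2 dvd_rfl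
    refine mem_normalizer_iff.2 fun u => ⟨fun hu => ?_, fun hu => ?_⟩
    · exact (mem_normalizer_iff.1 h1 ⟨u, hTS hu⟩).1 hu
    · have huS : u ∈ (S : Subgroup G) := by
        have := mul_mem (mul_mem (inv_mem (D.x ^ (D.m : ℤ)).2) (hTS hu)) (D.x ^ (D.m : ℤ)).2
        simpa [mul_assoc] using this
      exact (mem_normalizer_iff.1 h1 ⟨u, huS⟩).2 hu
  set n₀ : N := ⟨_, hn⟩
  have hfix : φ n₀ ⟨z, hzT, hz1⟩ = ⟨z, hzT, hz1⟩ := Subtype.ext (by
    show _ * z * _⁻¹ = z
    rw [← (qz_commute S D (D.x ^ (D.m : ℤ)).2).eq, mul_inv_cancel_right])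
  have hmove : φ n₀ ⟨t, htT, ht1⟩ ≠ ⟨t, htT, ht1⟩ := by
    intro h
    have h' : D.x ^ (D.m : ℤ) * (D.x ^ j * D.y) * (D.x ^ (D.m : ℤ))⁻¹ = D.x ^ j * D.y :=
      Subtype.ext (congrArg (fun u : s => (u : G)) h)
    rw [D.conj_zpow_of_zpow, D.zpow_mul_y_eq_iff] at h'
    obtain ⟨c, hc⟩ := h'
    have hm := D.two_le
    have : (D.m : ℤ) - 1 = 2 * c := mul_left_cancel₀ (show 2 * (D.m : ℤ) ≠ 0 by omega) (by linarith)
    omega
  have heven : 2 ∣ φ.ker.index := by
    rw [Subgroup.index_ker]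
    have hne : φ n₀ ≠ 1 := fun h => hmove (by rw [h]; rfl)
    have hsq : φ n₀ * φ n₀ = 1 := by
      rw [← map_mul, ← MonoidHom.mem_ker, hker, mem_subgroupOf, mem_centralizer_iff]
      intro u hu
      have hz : ((n₀ * n₀ : N) : G) = z := congrArg Subtype.val
        (show D.x ^ (D.m : ℤ) * D.x ^ (D.m : ℤ) = D.z by rw [← zpow_add, QDData.z, two_mul])
      rw [hz]
      exact (qz_commute S D (hTS hu)).eq.symm
    have h2 : orderOf (φ n₀) = 2 := invol_of_mul_self hsq hne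
    rw [← h2]
    exact φ.range.orderOf_dvd_natCard ⟨n₀, rfl⟩
  have htwo : φ.ker.index = 2 ∨ φ.ker.index = 6 := index_two_or_six φ hcard heven
  rw [hidx]
  refine ⟨htwo, ⟨fun h6 => ?_, fun hconj => ?_⟩, fun h6 => ?_⟩
  · obtain ⟨n, hn'⟩ := transitive_of_index_six φ hcard h6 ⟨z, hzT, hz1⟩ ⟨t, htT, ht1⟩
    exact (isConj_iff.2 ⟨(n : G), congrArg Subtype.val hn'⟩).trans (isConj_qy S D hj)
  · have h1 : IsConj t z := (hconj.trans (isConj_qy S D hj).symm).symm
    obtain ⟨g, hg⟩ := isConj_iff.1 h1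
    have hTc : ∀ u ∈ T, Commute u t := fun u hu => congrArg Subtype.val
      (IsKleinFour.isMulCommutative.is_comm.comm (⟨u, hu⟩ : T) ⟨t, htT⟩)
    obtain ⟨k, hk, hkT⟩ := exists_conj_extend S (fun w hw => qz_commute S D hw) hg
      (IsPGroup.of_card (n := 2) (by rw [hT.card_four]; rfl)) hTc
    have hW : T.map (MulAut.conj k).toMonoidHom ≤ (S : Subgroup G) := by
      rintro _ ⟨u, hu, rfl⟩; exact hkT u hu
    have hWK : IsKleinFour (T.map (MulAut.conj k).toMonoidHom) :=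
      let eT := T.equivMapOfInjective _ (MulAut.conj k).injective
      ⟨by rw [← Nat.card_congr eT.toEquiv, hT.card_four],
        by rw [← Monoid.exponent_eq_of_mulEquiv eT, hT.exponent_two]⟩
    obtain ⟨w, hw⟩ := D.klein_conj (isKleinFour_subgroupOf hWK hW) hT'
    have hmap : T.map (MulAut.conj ((w : G) * k)).toMonoidHom = T := by
      refine Subgroup.eq_of_le_of_card_ge ?_ (le_of_eq ?_)
      · rintro _ ⟨u, hu, rfl⟩
        have : w * (⟨_, hW ⟨u, hu, rfl⟩⟩ : (S : Subgroup G)) * w⁻¹ ∈ T.subgroupOf (S : Subgroup G) := by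
          rw [← hw]; exact ⟨_, ⟨u, hu, rfl⟩, rfl⟩
        show (w : G) * k * u * ((w : G) * k)⁻¹ ∈ T
        simpa [mem_subgroupOf, mul_assoc] using this
      · exact Nat.card_congr (T.equivMapOfInjective _ (MulAut.conj _).injective).toEquiv
    have hnN : (w : G) * k ∈ N := by
      refine mem_normalizer_iff.2 fun u => ⟨fun hu => hmap.le ⟨u, hu, rfl⟩, fun hu => ?_⟩
      obtain ⟨v, hv, hv'⟩ := hmap.ge hu
      rwa [(MulAut.conj ((w : G) * k)).injective hv'] at hv
    refine index_six_of_move φ hcard hfix hmove (k := (⟨_, hnN⟩ : N)⁻¹) fun h => ?_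
    have h2 : ((w : G) * k)⁻¹ * z * (((w : G) * k)⁻¹)⁻¹ = z := congrArg Subtype.val h
    have h3 : (w : G) * k * t * ((w : G) * k)⁻¹ = z := by
      rw [show (w : G) * k * t * ((w : G) * k)⁻¹ = w * (k * t * k⁻¹) * (w : G)⁻¹ by group, hk,
        ← (qz_commute S D w.2).eq, mul_inv_cancel_right]
    have h4 : t = z :=
      calc t = ((w : G) * k)⁻¹ * ((w : G) * k * t * ((w : G) * k)⁻¹) * (((w : G) * k)⁻¹)⁻¹ := by
            group
        _ = z := by rw [h3, h2]
    exact hmove (by rw [show (⟨t, htT, ht1⟩ : s) = ⟨z, hzT, hz1⟩ from Subtype.ext h4]; exact hfix)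
  · obtain ⟨n, hodd, hmov⟩ := exists_odd_move φ hcard h6
    have hR := CfsgLib.Transfer.pResidual_normal (G := G) (p := 2)
    have h1 := comm_mem_pResidual (g := (n : G)) (by rwa [Subgroup.orderOf_coe]) z
    set u : s := φ n ⟨z, hzT, hz1⟩
    have hu : (n : G) * z * (n : G)⁻¹ = u := rfl
    have hw1 : z⁻¹ * (u : G) ≠ 1 := fun h => hmov ⟨z, hzT, hz1⟩ (Subtype.ext (inv_mul_eq_one.1 h).symm)
    have hwT : z⁻¹ * (u : G) ∈ T := mul_mem (inv_mem hzT) u.2.1
    rw [hu] at h1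
    obtain ⟨k, hk⟩ := transitive_of_index_six φ hcard h6 ⟨_, hwT, hw1⟩ ⟨t, htT, ht1⟩
    obtain ⟨g, hg⟩ := isConj_iff.1 ((isConj_iff.2 ⟨(k : G), congrArg Subtype.val hk⟩).trans
      (isConj_qy S D hj))
    exact hg ▸ hR.conj_mem _ h1 g

theorem qd_Q (Q : Subgroup G) (hQS : Q ≤ (S : Subgroup G)) (eQ : Q ≃* QuaternionGroup 2) :
    ((Q ⊔ centralizer (Q : Set G)).relIndex (normalizer (Q : Set G)) = 2 ∨
      (Q ⊔ centralizer (Q : Set G)).relIndex (normalizer (Q : Set G)) = 6) ∧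
    ((Q ⊔ centralizer (Q : Set G)).relIndex (normalizer (Q : Set G)) = 6 ↔
      IsConj (qa S D) (qb S D)) ∧
    ((Q ⊔ centralizer (Q : Set G)).relIndex (normalizer (Q : Set G)) = 6 →
      qb S D ∈ Cfsg.pResidual 2 G) := by
  classical
  obtain ⟨j, hj, hQ⟩ := D.quaternion_eq ((subgroupOfEquivOfLe hQS).trans eQ)
  obtain ⟨e, he⟩ := D.even_m
  have he' : (D.m : ℤ) = e + e := by exact_mod_cast he
  have hm := D.two_le
  set a := qa S D
  set b : G := ((D.x ^ j * D.y : (S : Subgroup G)) : G) with hb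
  have haQ : a ∈ Q := by
    have : D.x ^ (D.m : ℤ) ∈ Q.subgroupOf (S : Subgroup G) := hQ ▸ subset_closure (by simp)
    exact this
  have hbQ : b ∈ Q := by
    have : D.x ^ j * D.y ∈ Q.subgroupOf (S : Subgroup G) := hQ ▸ subset_closure (by simp)
    exact this
  have haa : a * a = qz S D := congrArg Subtype.val
    (show D.x ^ (D.m : ℤ) * D.x ^ (D.m : ℤ) = D.z by rw [← zpow_add, QDData.z, two_mul])
  have ha2 : a * a ≠ 1 := by
    rw [haa]; exact fun h => invol_ne_one D.orderOf_z (Subtype.ext h)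
  have hb2 : b * b ≠ 1 := by
    rw [show b * b = qz S D from congrArg Subtype.val (D.sq_odd_y hj)]
    exact fun h => invol_ne_one D.orderOf_z (Subtype.ext h)
  have hba : b ≠ a := fun h => D.zpow_mul_y_ne _ _ (Subtype.ext h)
  have hba' : b ≠ a⁻¹ := fun h => D.zpow_mul_y_ne j (-(D.m : ℤ)) (by
    rw [zpow_neg]; exact Subtype.ext h)
  obtain ⟨hall, hinva, hinvb, h4, hbb, hcc⟩ := q8_facts eQ haQ hbQ ha2 hb2 hba hba'
  set c := a * b
  have hcQ : c ∈ Q := mul_mem haQ hbQ
  -- the three cyclic subgroups of order four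
  set s : Set (Subgroup G) := {zpowers a, zpowers b, zpowers c} with hs
  have haxis : ∀ u ∈ Q, u * u ≠ 1 → zpowers u ∈ s := by
    intro u hu hu2
    rcases hall u hu with rfl | rfl | rfl | rfl | rfl | rfl | rfl | rfl
    · exact absurd (one_mul 1) hu2
    · exact absurd h4 hu2
    all_goals simp [hs, zpowers_inv]
  have hnotab : b ∉ zpowers a := by
    intro h
    obtain ⟨i, hi⟩ := h
    exact D.zpow_mul_y_ne j ((D.m : ℤ) * i) (Subtype.ext (by
      rw [zpow_mul]; push_cast; exact hi.symm))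
  have hnca : c ∉ zpowers a := fun h => hnotab ((mul_mem_cancel_left (mem_zpowers a)).1 h)
  have hncb : c ∉ zpowers b := by
    intro h
    have h1 : a ∈ zpowers b := (mul_mem_cancel_right (mem_zpowers b)).1 h
    obtain ⟨i, hi⟩ := h1
    have hcm : Commute a b := hi ▸ (Commute.refl b).zpow_left i
    exact ha2 (mul_eq_one_iff_eq_inv.2 (by rw [← hinva, ← hcm.eq, mul_inv_cancel_right]))
  have hcard : Nat.card s = 3 := by
    rw [Nat.card_coe_set_eq, Set.ncard_eq_three]
    refine ⟨zpowers a, zpowers b, zpowers c, fun h => hnotab ?_, fun h => hnca ?_,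
      fun h => hncb ?_, rfl⟩ <;> rw [h] <;> exact mem_zpowers _
  set N := normalizer (Q : Set G)
  have hmapz : ∀ g u : G, (zpowers u).map (MulAut.conj g).toMonoidHom = zpowers (g * u * g⁻¹) :=
    fun g u => MonoidHom.map_zpowers _ _
  have hinv : ∀ n ∈ N, ∀ H ∈ s, H.map (MulAut.conj n).toMonoidHom ∈ s := by
    intro n hn H hH
    have key : ∀ u ∈ Q, u * u ≠ 1 → (zpowers u).map (MulAut.conj n).toMonoidHom ∈ s := by
      intro u hu hu2
      rw [hmapz]
      refine haxis _ ((mem_normalizer_iff.1 hn u).1 hu) fun h => hu2 ?_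
      rwa [conj_mul, conj_eq_one_iff] at h
    rcases hH with rfl | rfl | rfl
    exacts [key a haQ ha2, key b hbQ hb2, key c hcQ (hcc ▸ ha2)]
  set φ := conjPermSub N s hinv
  have hker : φ.ker = (Q ⊔ centralizer (Q : Set G)).subgroupOf N := by
    ext ⟨n, hn⟩
    rw [mem_subgroupOf]
    refine (mem_ker_restrictPerm ..).trans ⟨fun h => ?_, fun h => ?_⟩
    · have key : ∀ u ∈ Q, u * u ≠ 1 → (zpowers u).map (MulAut.conj n).toMonoidHom = zpowers u →
          n * u * n⁻¹ = u ∨ n * u * n⁻¹ = u⁻¹ := by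
        intro u hu hu2 hmap
        have hu4 : u * u * (u * u) = 1 := by
          rcases hall u hu with rfl | rfl | rfl | rfl | rfl | rfl | rfl | rfl <;>
            simp only [← mul_inv_rev, inv_eq_one, mul_one, hbb, hcc, h4]
        obtain ⟨i, hi⟩ : n * u * n⁻¹ ∈ zpowers u := hmap.le ⟨u, mem_zpowers u, rfl⟩
        simp only at hi
        have hne : (n * u * n⁻¹) * (n * u * n⁻¹) ≠ 1 := fun h0 => hu2 (by
          rwa [conj_mul, conj_eq_one_iff] at h0)
        have hu2' : u ^ (4 : ℤ) = 1 := by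
          rw [show (4 : ℤ) = 2 + 2 by norm_num, zpow_add, zpow_two]; exact hu4
        rw [← hi] at hne ⊢
        obtain ⟨q, rfl | rfl | rfl | rfl⟩ : ∃ q : ℤ, i = 4 * q ∨ i = 4 * q + 1 ∨ i = 4 * q + 2 ∨
            i = 4 * q + 3 := ⟨i / 4, by omega⟩
        · exact absurd (by
            rw [← zpow_add, show (4 * q + 4 * q : ℤ) = 4 * (2 * q) by ring, zpow_mul, hu2', one_zpow]) hne
        · left; simp [zpow_add, zpow_mul, hu2']
        · exact absurd (by
            rw [← zpow_add, show (4 * q + 2 + (4 * q + 2) : ℤ) = 4 * (2 * q + 1) by ring, zpow_mul, hu2',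
              one_zpow]) hne
        · right
          rw [zpow_add, zpow_mul, hu2', one_zpow, one_mul, eq_inv_iff_mul_eq_one, ← zpow_add_one]
          exact hu2'
      have h1 := key a haQ ha2 (h _ (by simp [hs]))
      have h2 := key b hbQ hb2 (h _ (by simp [hs]))
      obtain ⟨w, hwQ, hwa, hwb⟩ : ∃ w ∈ Q, w * a * w⁻¹ = n * a * n⁻¹ ∧ w * b * w⁻¹ = n * b * n⁻¹ := by
        rcases h1 with e1 | e1 <;> rcases h2 with e2 | e2 <;> rw [e1, e2]
        · exact ⟨1, one_mem Q, by simp, by simp⟩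
        · exact ⟨a, haQ, by simp, hinvb⟩
        · exact ⟨b, hbQ, hinva, by simp⟩
        · refine ⟨a * b, hcQ, ?_, ?_⟩
          · rw [show a * b * a * (a * b)⁻¹ = a * (b * a * b⁻¹) * a⁻¹ by group, hinva]; group
          · rw [show a * b * b * (a * b)⁻¹ = a * b * a⁻¹ by group, hinvb]
      show n ∈ Q ⊔ centralizer (Q : Set G)
      rw [show n = w * (w⁻¹ * n) by group]
      refine mul_mem_sup hwQ (mem_centralizer_iff.2 fun u hu => ?_)
      have hfa : ∀ v, w * v * w⁻¹ = n * v * n⁻¹ → Commute (w⁻¹ * n) v := fun v hv =>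
        mul_inv_eq_iff_eq_mul.1 (by
          rw [show w⁻¹ * n * v * (w⁻¹ * n)⁻¹ = w⁻¹ * (n * v * n⁻¹) * w by group, ← hv]; group)
      have hca := hfa a hwa
      have hcb := hfa b hwb
      rcases hall u hu with rfl | rfl | rfl | rfl | rfl | rfl | rfl | rfl
      exacts [by simp, (hca.mul_right hca).eq.symm, hca.eq.symm, hca.inv_right.eq.symm, hcb.eq.symm,
        hcb.inv_right.eq.symm, (hca.mul_right hcb).eq.symm, (hca.mul_right hcb).inv_right.eq.symm]
    · revert h
      suffices hle : (Q ⊔ centralizer (Q : Set G)).subgroupOf N ≤ φ.ker from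
        fun h => by
          have h9 : (⟨n, hn⟩ : N) ∈ φ.ker := hle h
          exact (mem_ker_restrictPerm (fun (n : N) (H : Subgroup G) =>
            H.map (MulAut.conj (n : G)).toMonoidHom) _ _ s _ _).1 h9
      have hCN : centralizer (Q : Set G) ≤ N := fun c hc => mem_normalizer_iff.2 fun u => by
        rw [mem_centralizer_iff] at hc
        refine ⟨fun hu => by rw [← hc u hu, mul_inv_cancel_right]; exact hu, fun hu => ?_⟩
        have e := hc _ hu
        rw [inv_mul_cancel_right] at e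
        rwa [← mul_left_cancel (show c * u = c * (c * u * c⁻¹) by rw [← e])] at hu
      rw [subgroupOf_sup (le_normalizer : Q ≤ N) hCN]
      refine sup_le (fun w hw => (mem_ker_restrictPerm ..).2 fun H hH => ?_)
        fun w hw => (mem_ker_restrictPerm ..).2 fun H hH => ?_
      · have key : ∀ u ∈ Q, ∀ q ∈ Q, q * u * q⁻¹ ∈ zpowers u := by
          have hQ8 : ∀ p q : QuaternionGroup 2, q * p * q⁻¹ = p ∨ q * p * q⁻¹ = p⁻¹ := by decide
          intro u hu q hq
          rcases hQ8 (eQ ⟨u, hu⟩) (eQ ⟨q, hq⟩) with h | h <;>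
            simp only [← map_inv, ← map_mul, EmbeddingLike.apply_eq_iff_eq] at h
          · rw [show q * u * q⁻¹ = u from congrArg Subtype.val h]; exact mem_zpowers u
          · rw [show q * u * q⁻¹ = u⁻¹ from congrArg Subtype.val h]; exact inv_mem (mem_zpowers u)
        have key2 : ∀ u ∈ Q, (zpowers u).map (MulAut.conj (w : G)).toMonoidHom = zpowers u := by
          intro u hu
          refine eq_of_le_of_card_ge (by rw [hmapz, zpowers_le]; exact key u hu _ hw) ?_
          exact (Nat.card_congr ((zpowers u).equivMapOfInjective _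
            (MulAut.conj _).injective).toEquiv).le
        rcases hH with rfl | rfl | rfl
        exacts [key2 a haQ, key2 b hbQ, key2 c hcQ]
      · have key2 : ∀ u ∈ Q, (zpowers u).map (MulAut.conj (w : G)).toMonoidHom = zpowers u := by
          intro u hu
          rw [hmapz]
          congr 1
          exact mul_inv_eq_iff_eq_mul.2 (mem_centralizer_iff.1 hw u hu).symm
        rcases hH with rfl | rfl | rfl
        exacts [key2 a haQ, key2 b hbQ, key2 c hcQ]
  have hidx : (Q ⊔ centralizer (Q : Set G)).relIndex N = φ.ker.index := by rw [hker]; rfl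
  -- a transposition
  set τ : (S : Subgroup G) := D.x ^ (e : ℤ) with hτ
  have hτa : τ * D.x ^ (D.m : ℤ) * τ⁻¹ = D.x ^ (D.m : ℤ) := by
    rw [hτ, ← zpow_neg, ← zpow_add, ← zpow_add]; congr 1; ring
  have hτb : τ * (D.x ^ j * D.y) * τ⁻¹ =
      D.x ^ ((D.m : ℤ) * (1 - (D.m : ℤ))) * (D.x ^ j * D.y) := by
    rw [hτ, D.conj_zpow_of_zpow, ← mul_assoc, ← zpow_add]
    congr 2; rw [he']; ring
  have hτb' : ∃ i : ℤ, (τ : G) * b * (τ : G)⁻¹ = a ^ i * b ∧ Odd i :=
    ⟨1 - (D.m : ℤ), by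
      refine (congrArg Subtype.val hτb).trans ?_
      show ((D.x ^ ((D.m : ℤ) * (1 - (D.m : ℤ))) : (S : Subgroup G)) : G) * b = _
      rw [zpow_mul, Subgroup.coe_zpow]; rfl,
      ⟨-(e : ℤ), by omega⟩⟩
  have hτN : (τ : G) ∈ N := by
    have hle : Q.map (MulAut.conj (τ : G)).toMonoidHom ≤ Q := by
      have hgen : Q ≤ closure {a, b} := by
        intro u hu
        have hA : a ∈ closure ({a, b} : Set G) := subset_closure (by simp)
        have hB : b ∈ closure ({a, b} : Set G) := subset_closure (by simp)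
        rcases hall u hu with rfl | rfl | rfl | rfl | rfl | rfl | rfl | rfl
        exacts [one_mem _, mul_mem hA hA, hA, inv_mem hA, hB, inv_mem hB, mul_mem hA hB,
          inv_mem (mul_mem hA hB)]
      refine le_trans (map_mono hgen) ?_
      rw [MonoidHom.map_closure, closure_le]
      rintro _ ⟨u, rfl | rfl, rfl⟩
      · show (τ : G) * a * (τ : G)⁻¹ ∈ Q
        rw [show (τ : G) * a * (τ : G)⁻¹ = a from congrArg Subtype.val hτa]; exact haQ
      · obtain ⟨i, hi, -⟩ := hτb'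
        show (τ : G) * b * (τ : G)⁻¹ ∈ Q
        rw [hi]; exact mul_mem (zpow_mem haQ i) hbQ
    have heq := eq_of_le_of_card_ge hle
      (Nat.card_congr (Q.equivMapOfInjective _ (MulAut.conj _).injective).toEquiv).le
    refine mem_normalizer_iff.2 fun u => ⟨fun hu => heq.le ⟨u, hu, rfl⟩, fun hu => ?_⟩
    obtain ⟨v, hv, hv'⟩ := heq.ge hu
    rwa [(MulAut.conj (τ : G)).injective hv'] at hv
  set n₀ : N := ⟨_, hτN⟩
  have hbs : zpowers b ∈ s := by simp [hs]
  have has : zpowers a ∈ s := by simp [hs]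
  have hfix : φ n₀ ⟨_, has⟩ = ⟨_, has⟩ := Subtype.ext (by
    show (zpowers a).map (MulAut.conj (τ : G)).toMonoidHom = zpowers a
    rw [hmapz, show (τ : G) * a * (τ : G)⁻¹ = a from congrArg Subtype.val hτa])
  have hmove : φ n₀ ⟨_, hbs⟩ ≠ ⟨_, hbs⟩ := by
    intro h
    obtain ⟨i, hi, hodd⟩ := hτb'
    have h1 : a ^ i * b ∈ zpowers b :=
      hi ▸ (congrArg (fun u : s => (u : Subgroup G)) h).le ⟨b, mem_zpowers b, rfl⟩
    have h2 : a ^ i ∈ zpowers b := (mul_mem_cancel_right (mem_zpowers b)).1 h1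
    obtain ⟨k, rfl⟩ := hodd
    have h3 : a * a ∈ zpowers b := by rw [← hbb]; exact mul_mem (mem_zpowers b) (mem_zpowers b)
    rw [zpow_add, zpow_mul, zpow_two, zpow_one] at h2
    have h4 : a ∈ zpowers b := (mul_mem_cancel_left (zpow_mem h3 k)).1 h2
    exact hncb (mul_mem h4 (mem_zpowers b))
  have heven : 2 ∣ φ.ker.index := by
    rw [Subgroup.index_ker]
    have hne : φ n₀ ≠ 1 := fun h => hmove (by rw [h]; rfl)
    have hsq : φ n₀ * φ n₀ = 1 := by
      rw [← map_mul, ← MonoidHom.mem_ker, hker, mem_subgroupOf]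
      refine mem_sup_left ?_
      rw [show ((n₀ * n₀ : N) : G) = a from congrArg Subtype.val (show τ * τ = D.x ^ (D.m : ℤ) by
        rw [hτ, ← zpow_add, he'])]
      exact haQ
    have h2 : orderOf (φ n₀) = 2 := invol_of_mul_self hsq hne
    rw [← h2]
    exact φ.range.orderOf_dvd_natCard ⟨n₀, rfl⟩
  rw [hidx]
  have hbconj : IsConj b (qb S D) := isConj_qb S D hj
  refine ⟨index_two_or_six φ hcard heven, ⟨fun h6 => ?_, fun hconj => ?_⟩, fun h6 => ?_⟩
  · obtain ⟨n, hn'⟩ := transitive_of_index_six φ hcard h6 ⟨_, has⟩ ⟨_, hbs⟩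
    have h1 : zpowers ((n : G) * a * (n : G)⁻¹) = zpowers b :=
      (hmapz _ _).symm.trans (congrArg (fun u : s => (u : Subgroup G)) hn')
    have hQm : (n : G) * a * (n : G)⁻¹ ∈ Q := (mem_normalizer_iff.1 n.2 a).1 haQ
    rcases hall _ hQm with e1 | e1 | e1 | e1 | e1 | e1 | e1 | e1
    · rw [conj_eq_one_iff] at e1; exact absurd (by rw [e1, one_mul]) ha2
    · rw [e1] at h1
      exfalso
      obtain ⟨i, hi⟩ : b ∈ zpowers (a * a) := h1 ▸ mem_zpowers b
      exact hb2 (by rw [← hi, ← (Commute.refl (a * a)).mul_zpow, h4, one_zpow])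
    · rw [e1] at h1; exact absurd (h1 ▸ mem_zpowers b) hnotab
    · rw [e1, zpowers_inv] at h1; exact absurd (h1 ▸ mem_zpowers b) hnotab
    · exact (isConj_iff.2 ⟨_, e1⟩).trans hbconj
    · have : IsConj b⁻¹ b := isConj_iff.2 ⟨a,
        calc a * b⁻¹ * a⁻¹ = (a * b * a⁻¹)⁻¹ := by group
          _ = b := by rw [show a * b * a⁻¹ = b⁻¹ from hinvb, inv_inv]⟩
      exact ((isConj_iff.2 ⟨_, e1⟩).trans this).trans hbconj
    · rw [e1] at h1; exact absurd (h1 ▸ mem_zpowers _) hncb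
    · rw [e1, zpowers_inv] at h1; exact absurd (h1 ▸ mem_zpowers _) hncb
  · obtain ⟨g, hg⟩ := isConj_iff.1 (hconj.trans hbconj.symm).symm
    set M := normalizer (zpowers a : Set G)
    have hSM : (S : Subgroup G) ≤ M := by
      intro w hw
      refine mem_normalizer_iff_of_finite ?_
      intro u hu
      obtain ⟨i, rfl⟩ := hu
      rcases D.cases ⟨w, hw⟩ with ⟨k, hk⟩ | ⟨k, hk⟩
      · have h9 : w * a * w⁻¹ = a := congrArg Subtype.val
          (show (⟨w, hw⟩ : (S : Subgroup G)) * D.x ^ (D.m : ℤ) * (⟨w, hw⟩)⁻¹ = D.x ^ (D.m : ℤ) by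
            rw [hk, ← zpow_neg, ← zpow_add, ← zpow_add]; congr 1; ring)
        exact ⟨i, by simp only; rw [conj_zpow_eq, h9]⟩
      · have h9 : w * a * w⁻¹ = a ^ (2 * (D.m : ℤ) - 1) := congrArg Subtype.val
          (show (⟨w, hw⟩ : (S : Subgroup G)) * D.x ^ (D.m : ℤ) * (⟨w, hw⟩)⁻¹ =
              (D.x ^ (D.m : ℤ)) ^ (2 * (D.m : ℤ) - 1) by
            rw [hk, mul_inv_eq_iff_eq_mul, D.mul_rule_zy, ← zpow_mul, ← mul_assoc, ← zpow_add]
            congr 2; ring)
        exact ⟨(2 * (D.m : ℤ) - 1) * i, by simp only; rw [conj_zpow_eq, h9, zpow_mul]⟩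
    have hQM : Q.map (MulAut.conj g).toMonoidHom ≤ M := by
      rintro _ ⟨u, hu, rfl⟩
      refine mem_normalizer_iff_of_finite fun v hv => ?_
      obtain ⟨i, rfl⟩ := hv
      have hQ8 : ∀ p q : QuaternionGroup 2, q * p * q⁻¹ = p ∨ q * p * q⁻¹ = p⁻¹ := by decide
      show g * u * g⁻¹ * a ^ i * (g * u * g⁻¹)⁻¹ ∈ zpowers a
      rw [← hg, ← conj_zpow_eq,
        show g * u * g⁻¹ * (g * b ^ i * g⁻¹) * (g * u * g⁻¹)⁻¹ = g * (u * b ^ i * u⁻¹) * g⁻¹ by group,
        conj_zpow_eq u]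
      rcases hQ8 (eQ ⟨b, hbQ⟩) (eQ ⟨u, hu⟩) with h | h <;>
        simp only [← map_inv, ← map_mul, EmbeddingLike.apply_eq_iff_eq] at h
      · rw [show u * b * u⁻¹ = b from congrArg Subtype.val h, conj_zpow_eq]
        exact zpow_mem (mem_zpowers _) i
      · rw [show u * b * u⁻¹ = b⁻¹ from congrArg Subtype.val h, conj_zpow_eq,
          show g * b⁻¹ * g⁻¹ = (g * b * g⁻¹)⁻¹ by group]
        exact zpow_mem (inv_mem (mem_zpowers _)) i
    obtain ⟨k, hk⟩ := exists_conj_mem_sylow (p := 2) (S.subtype hSM)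
      (H := (Q.map (MulAut.conj g).toMonoidHom).subgroupOf M)
      ((IsPGroup.of_card (n := 3) (by
        rw [Nat.card_congr eQ.toEquiv, Nat.card_eq_fintype_card, QuaternionGroup.card]; rfl)).map
          _).comap_subtype
    have hkS : ∀ u ∈ Q, (k : G) * g * u * ((k : G) * g)⁻¹ ∈ (S : Subgroup G) := fun u hu => by
      have h9 : (k : G) * (g * u * g⁻¹) * (k : G)⁻¹ ∈ (S : Subgroup G) :=
        hk ⟨_, hQM ⟨u, hu, rfl⟩⟩ ⟨u, hu, rfl⟩
      simpa [mul_assoc] using h9
    have hW : Q.map (MulAut.conj ((k : G) * g)).toMonoidHom ≤ (S : Subgroup G) := by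
      rintro _ ⟨u, hu, rfl⟩; exact hkS u hu
    obtain ⟨w, hw⟩ := D.quaternion_conj
      (((subgroupOfEquivOfLe hW).trans (Q.equivMapOfInjective _ (MulAut.conj _).injective).symm).trans eQ)
      ((subgroupOfEquivOfLe hQS).trans eQ)
    set q := (w : G) * ((k : G) * g)
    have hqM : zpowers (q * b * q⁻¹) = zpowers a := by
      have hkw : (w : G) * k ∈ M := mul_mem (hSM w.2) k.2
      rw [show q * b * q⁻¹ = (w : G) * k * (g * b * g⁻¹) * ((w : G) * k)⁻¹ by simp only [q]; group, hg,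
        ← hmapz]
      refine eq_of_le_of_card_ge ?_ (Nat.card_congr ((zpowers a).equivMapOfInjective _
        (MulAut.conj _).injective).toEquiv).le
      rintro _ ⟨v, hv, rfl⟩
      exact (mem_normalizer_iff.1 hkw v).1 hv
    have hqN : q ∈ N := by
      refine mem_normalizer_iff_of_finite fun u hu => ?_
      have h9 : w * (⟨_, hkS u hu⟩ : (S : Subgroup G)) * w⁻¹ ∈ Q.subgroupOf (S : Subgroup G) := by
        rw [← hw]; exact ⟨_, ⟨u, hu, rfl⟩, rfl⟩
      show q * u * q⁻¹ ∈ Q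
      simpa [q, mem_subgroupOf, mul_assoc] using h9
    refine index_six_of_move φ hcard hfix hmove (k := (⟨q, hqN⟩ : N)⁻¹) fun h => ?_
    have h2 : (zpowers a).map (MulAut.conj q⁻¹).toMonoidHom = zpowers a :=
      congrArg (fun u : s => (u : Subgroup G)) h
    rw [← hqM, hmapz, show q⁻¹ * (q * b * q⁻¹) * q⁻¹⁻¹ = b by group, hqM] at h2
    exact hnotab (h2 ▸ mem_zpowers b)
  · obtain ⟨n, hodd, hmov⟩ := exists_odd_move φ hcard h6
    have hR := CfsgLib.Transfer.pResidual_normal (G := G) (p := 2)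
    have h1 := comm_mem_pResidual (g := (n : G)) (by rwa [Subgroup.orderOf_coe]) a
    have hQm : (n : G) * a * (n : G)⁻¹ ∈ Q := (mem_normalizer_iff.1 n.2 a).1 haQ
    have hnax : zpowers ((n : G) * a * (n : G)⁻¹) ≠ zpowers a := fun h =>
      hmov ⟨_, has⟩ (Subtype.ext ((hmapz _ _).trans h))
    set u := (n : G) * a * (n : G)⁻¹
    -- `a⁻¹ u` lies outside the axis of `a`
    have hout : a⁻¹ * u ∉ zpowers a := by
      intro h
      have hu : u ∈ zpowers a := (mul_mem_cancel_left (inv_mem (mem_zpowers a))).1 h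
      refine hnax (eq_of_le_of_card_ge (zpowers_le.2 hu) ?_)
      rw [Nat.card_zpowers, Nat.card_zpowers, orderOf_conj_eq]
    have hwQ : a⁻¹ * u ∈ Q := mul_mem (inv_mem haQ) hQm
    obtain ⟨i, hiodd, hi⟩ : ∃ i : ℤ, Odd i ∧ a⁻¹ * u = ((D.x ^ i * D.y : (S : Subgroup G)) : G) := by
      rcases D.cases ⟨a⁻¹ * u, hQS hwQ⟩ with ⟨i, hi⟩ | ⟨i, hi⟩
      · exfalso
        apply hout
        have : D.x ^ i ∈ Q.subgroupOf (S : Subgroup G) := hi ▸ hwQ
        rw [hQ, D.quaternion_mem_iff hj] at this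
        obtain ⟨l, rfl⟩ := this
        rw [show a⁻¹ * u = ((D.x ^ ((D.m : ℤ) * l) : (S : Subgroup G)) : G) from
          congrArg Subtype.val hi, zpow_mul, Subgroup.coe_zpow]
        exact zpow_mem (mem_zpowers a) l
      · refine ⟨i, ?_, congrArg Subtype.val hi⟩
        by_contra ho
        rw [Int.not_odd_iff_even] at ho
        have h5 := invol_mul_self (D.orderOf_even_y ho)
        rw [← hi] at h5
        have h6 : a⁻¹ * u * (a⁻¹ * u) = 1 := congrArg Subtype.val h5
        rcases hall _ hwQ with e1 | e1 | e1 | e1 | e1 | e1 | e1 | e1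
        · exact hout (e1 ▸ one_mem _)
        · exact hout (e1 ▸ mul_mem (mem_zpowers a) (mem_zpowers a))
        · exact hout (by rw [e1]; exact mem_zpowers a)
        · exact hout (by rw [e1]; exact inv_mem (mem_zpowers a))
        all_goals rw [e1] at h6
        · exact hb2 h6
        · exact hb2 (by rw [← inv_eq_one, mul_inv_rev]; exact h6)
        · exact ha2 (hcc ▸ h6)
        · exact ha2 (by rw [← hcc, ← inv_eq_one, mul_inv_rev]; exact h6)
    obtain ⟨g, hg⟩ := isConj_iff.1 (isConj_qb S D hiodd)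
    rw [← hg, ← hi]
    exact hR.conj_mem _ h1 g

end CfsgLib.Invol
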