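import Mathlib.GroupTheory.Frattini
import Cfsg.Agent.Lib.Invol.QuasiDihedral

/-!
# Four-subgroups, quaternion subgroups and maximal subgroups of quasi-dihedral groups
-/

namespace CfsgLib.Invol

namespace QDData

open scoped commutatorElement

variable {S : Type*} [Group S] (D : QDData S)

theorem commute_y_iff {i j : ℤ} :
    Commute (D.x ^ i) (D.x ^ j * D.y) ↔ 2 * (D.m : ℤ) ∣ i := by
  constructor
  · intro h
    have h' : D.x ^ i * (D.x ^ j * D.y) = D.x ^ j * D.y * D.x ^ i := h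
    rw [← mul_assoc, ← zpow_add, D.mul_rule_zy, D.zpow_mul_y_eq_iff] at h'
    obtain ⟨c, hc⟩ := h'
    obtain ⟨e, he⟩ := D.even_m
    have he' : (D.m : ℤ) = e + e := by exact_mod_cast he
    refine ⟨-c * (1 - (D.m : ℤ)) - (e - 1) * i, ?_⟩
    have h3 : (1 - (D.m : ℤ)) * i = -(2 * (D.m : ℤ)) * c := by linarith
    calc i = (1 - (D.m : ℤ)) * ((1 - (D.m : ℤ)) * i) - 2 * (D.m : ℤ) * ((e - 1) * i) := by
          rw [he']; ring
      _ = _ := by rw [h3]; ring
  · rintro ⟨c, rfl⟩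
    rw [zpow_mul]
    exact (D.commute_z _).zpow_left c

include D in
theorem z_mul_z : D.z * D.z = 1 := invol_mul_self D.orderOf_z

theorem z_mul_even_y {j : ℤ} : D.z * (D.x ^ j * D.y) = D.x ^ (j + 2 * (D.m : ℤ)) * D.y := by
  rw [z, ← mul_assoc, ← zpow_add, add_comm]

theorem klein_eq {V : Subgroup S} (hV : IsKleinFour V) :
    ∃ j : ℤ, Even j ∧
      (V : Set S) = {1, D.z, D.x ^ j * D.y, D.z * (D.x ^ j * D.y)} := by
  have := D.finite
  have hform : ∀ v ∈ V, v = 1 ∨ v = D.z ∨ ∃ i : ℤ, Even i ∧ v = D.x ^ i * D.y := by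
    intro v hv
    have h : v * v = 1 := congrArg Subtype.val (IsKleinFour.mul_self (⟨v, hv⟩ : V))
    by_cases h1 : v = 1
    · exact Or.inl h1
    · exact Or.inr (D.eq_of_orderOf_two (invol_of_mul_self h h1))
  have hV4 : (V : Set S).ncard = 4 := by rw [← Nat.card_coe_set_eq]; exact hV.card_four
  obtain ⟨j, hj, hjV⟩ : ∃ j : ℤ, Even j ∧ D.x ^ j * D.y ∈ V := by
    by_contra hcon
    push Not at hcon
    have hsub : (V : Set S) ⊆ {1, D.z} := by
      intro v hv
      rcases hform v hv with h | h | ⟨i, hi, rfl⟩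
      · exact Or.inl h
      · exact Or.inr h
      · exact absurd hv (hcon i hi)
    have := Set.ncard_le_ncard hsub
    rw [hV4, Set.ncard_pair (invol_ne_one D.orderOf_z).symm] at this
    omega
  refine ⟨j, hj, Set.eq_of_subset_of_ncard_le ?_ ?_⟩
  · intro v hv
    rcases hform v hv with h | h | ⟨i, hi, rfl⟩
    · exact Or.inl h
    · exact Or.inr (Or.inl h)
    · right; right
      have hp : D.x ^ (i + (2 * (D.m : ℤ) - 1) * j) ∈ V := D.mul_rule_yy i j ▸ mul_mem hv hjV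
      obtain ⟨b, hb⟩ := hj
      rcases hform _ hp with h | h | ⟨l, -, hl⟩
      · left
        rw [D.zpow_eq_one_iff] at h
        obtain ⟨c, hc⟩ := h
        rw [D.zpow_mul_y_eq_iff]
        exact ⟨b - c, by rw [hb] at hc ⊢; linarith⟩
      · right
        rw [z, D.zpow_eq_zpow_iff] at h
        obtain ⟨c, hc⟩ := h
        show _ = D.z * _
        rw [D.z_mul_even_y, D.zpow_mul_y_eq_iff]
        exact ⟨b + c, by rw [hb] at hc ⊢; linarith⟩
      · exact absurd hl.symm (D.zpow_mul_y_ne _ _)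
  · rw [hV4]
    refine le_trans (Set.ncard_insert_le _ _) (Nat.succ_le_succ ?_)
    refine le_trans (Set.ncard_insert_le _ _) (Nat.succ_le_succ ?_)
    refine le_trans (Set.ncard_insert_le _ _) (Nat.succ_le_succ ?_)
    simp

theorem klein_mem_zpow {V : Subgroup S} (hV : IsKleinFour V) {i : ℤ} (h : D.x ^ i ∈ V) :
    2 * (D.m : ℤ) ∣ i := by
  obtain ⟨j, -, hset⟩ := D.klein_eq hV
  rw [← SetLike.mem_coe, hset] at h
  rcases h with h | h | h | h
  · rw [D.zpow_eq_one_iff] at h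
    exact dvd_trans ⟨2, by ring⟩ h
  · rw [z, D.zpow_eq_zpow_iff] at h
    obtain ⟨c, hc⟩ := h
    exact ⟨1 - 2 * c, by linarith⟩
  · exact absurd h.symm (D.zpow_mul_y_ne _ _)
  · rw [Set.mem_singleton_iff, D.z_mul_even_y] at h
    exact absurd h.symm (D.zpow_mul_y_ne _ _)

include D in
theorem klein_conj {V W : Subgroup S} (hV : IsKleinFour V) (hW : IsKleinFour W) :
    ∃ s : S, V.map (MulAut.conj s).toMonoidHom = W := by
  obtain ⟨j, hj, hV'⟩ := D.klein_eq hV
  obtain ⟨i, hi, hW'⟩ := D.klein_eq hW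
  obtain ⟨a, ha⟩ := D.exists_conj_shift (hi.sub hj)
  refine ⟨D.x ^ a, SetLike.coe_injective ?_⟩
  have hz : D.x ^ a * D.z * (D.x ^ a)⁻¹ = D.z := by
    rw [← (D.commute_z _).eq, mul_inv_cancel_right]
  have hzj : D.x ^ a * (D.z * (D.x ^ j * D.y)) * (D.x ^ a)⁻¹ = D.z * (D.x ^ i * D.y) := by
    rw [← ha, ← mul_assoc (D.x ^ a) D.z, ← (D.commute_z _).eq]
    simp only [mul_assoc]
  rw [Subgroup.coe_map, hV', hW']
  simp only [Set.image_insert_eq, Set.image_singleton, MulEquiv.coe_toMonoidHom,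
    MulAut.conj_apply, mul_one, mul_inv_cancel, hz, ha, hzj]

include D in
theorem klein_centralizer {V : Subgroup S} (hV : IsKleinFour V) :
    Subgroup.centralizer (V : Set S) = V := by
  obtain ⟨j, hj, hset⟩ := D.klein_eq hV
  have hzV : D.z ∈ V := by rw [← SetLike.mem_coe, hset]; simp
  have haV : D.x ^ j * D.y ∈ V := by rw [← SetLike.mem_coe, hset]; simp
  apply le_antisymm
  · intro c hc
    have hca : Commute c (D.x ^ j * D.y) := (Subgroup.mem_centralizer_iff.1 hc _ haV).symm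
    rcases D.cases c with ⟨i, rfl⟩ | ⟨i, rfl⟩
    · obtain ⟨k, rfl⟩ := D.commute_y_iff.1 hca
      rw [zpow_mul]; exact zpow_mem hzV k
    · have h2 : Commute (D.x ^ (i + (2 * (D.m : ℤ) - 1) * j)) (D.x ^ j * D.y) := by
        rw [← D.mul_rule_yy i j]; exact hca.mul_left (Commute.refl _)
      obtain ⟨k, hk⟩ := D.commute_y_iff.1 h2
      have h3 : D.x ^ (i + (2 * (D.m : ℤ) - 1) * j) ∈ V := by
        rw [hk, zpow_mul]; exact zpow_mem hzV k
      have h4 := mul_mem h3 (inv_mem haV)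
      rwa [← D.mul_rule_yy i j, mul_inv_cancel_right] at h4
  · exact Subgroup.le_centralizer_iff_isMulCommutative.2 (IsKleinFour.isMulCommutative)

theorem klein_normalizer_zpow {V : Subgroup S} (hV : IsKleinFour V) {a : ℤ} :
    D.x ^ a ∈ Subgroup.normalizer (V : Set S) ↔ (D.m : ℤ) ∣ a := by
  obtain ⟨j, hj, hset⟩ := D.klein_eq hV
  have hzV : D.z ∈ V := by rw [← SetLike.mem_coe, hset]; simp
  have haV : D.x ^ j * D.y ∈ V := by rw [← SetLike.mem_coe, hset]; simp
  constructor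
  · intro ha
    have h := (Subgroup.mem_normalizer_iff.1 ha _).1 haV
    rw [D.conj_zpow_of_zpow] at h
    have h2 := mul_mem h haV
    rw [D.mul_rule_yy] at h2
    obtain ⟨b, hb⟩ := hj
    obtain ⟨c, hc⟩ := D.klein_mem_zpow hV h2
    obtain ⟨e, he⟩ := D.even_m
    -- `2 (1 - m) a` is divisible by `2 m`
    refine ⟨c - j + a, ?_⟩
    linarith
  · rintro ⟨k, rfl⟩
    have key : ∀ l : ℤ, ∀ v ∈ V, D.x ^ ((D.m : ℤ) * l) * v * (D.x ^ ((D.m : ℤ) * l))⁻¹ ∈ V := by
      intro l v hv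
      rw [← SetLike.mem_coe, hset] at hv
      have hz : ∀ g : S, g * D.z * g⁻¹ = D.z := fun g => by
        rw [← (D.commute_z g).eq, mul_inv_cancel_right]
      have hshift : D.x ^ ((D.m : ℤ) * l) * (D.x ^ j * D.y) * (D.x ^ ((D.m : ℤ) * l))⁻¹ ∈ V := by
        have e : D.x ^ ((D.m : ℤ) * l) * (D.x ^ j * D.y) * (D.x ^ ((D.m : ℤ) * l))⁻¹
            = D.z ^ ((1 - (D.m : ℤ)) * l) * (D.x ^ j * D.y) := by
          rw [D.conj_zpow_of_zpow, z, ← zpow_mul, ← mul_assoc (D.x ^ _), ← zpow_add]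
          congr 2
          ring
        rw [e]
        exact mul_mem (zpow_mem hzV _) haV
      rcases hv with rfl | rfl | rfl | h
      · simp
      · rw [hz]; exact hzV
      · exact hshift
      · rw [Set.mem_singleton_iff] at h
        subst h
        rw [← conj_mul, hz]
        exact mul_mem hzV hshift
    rw [Subgroup.mem_normalizer_iff]
    intro v
    refine ⟨key k v, fun h => ?_⟩
    have := key (-k) _ h
    rw [mul_neg, zpow_neg, inv_inv] at this
    simpa [mul_assoc] using this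

include D in
theorem klein_relIndex {V : Subgroup S} (hV : IsKleinFour V) :
    V.relIndex (Subgroup.normalizer (V : Set S)) = 2 := by
  obtain ⟨j, hj, hset⟩ := D.klein_eq hV
  have haV : D.x ^ j * D.y ∈ V := by rw [← SetLike.mem_coe, hset]; simp
  have hzV : D.z ∈ V := by rw [← SetLike.mem_coe, hset]; simp
  have hm := D.two_le
  have hxm : D.x ^ (D.m : ℤ) ∈ Subgroup.normalizer (V : Set S) :=
    (D.klein_normalizer_zpow hV).2 dvd_rfl
  rw [Subgroup.relIndex, Subgroup.index_eq_two_iff']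
  refine ⟨⟨_, hxm⟩, fun ⟨b, hb⟩ => ?_⟩
  simp only [Subgroup.mem_subgroupOf, Subgroup.coe_mul]
  -- reduce to powers of `x`
  obtain ⟨i, v, hv, rfl⟩ : ∃ i : ℤ, ∃ v ∈ V, b = D.x ^ i * v := by
    rcases D.cases b with ⟨i, rfl⟩ | ⟨i, rfl⟩
    · exact ⟨i, 1, one_mem V, (mul_one _).symm⟩
    · exact ⟨i - j, _, haV, by rw [← mul_assoc, ← zpow_add, sub_add_cancel]⟩
  have hiN : D.x ^ i ∈ Subgroup.normalizer (V : Set S) := by
    have := mul_mem hb (inv_mem (Subgroup.le_normalizer hv))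
    rwa [mul_inv_cancel_right] at this
  obtain ⟨k, rfl⟩ := (D.klein_normalizer_zpow hV).1 hiN
  rw [← mul_assoc, ← zpow_add, V.mul_mem_cancel_right hv, V.mul_mem_cancel_right hv]
  have hiff : ∀ l : ℤ, D.x ^ ((D.m : ℤ) * l) ∈ V ↔ 2 ∣ l := by
    intro l
    constructor
    · intro h
      obtain ⟨c, hc⟩ := D.klein_mem_zpow hV h
      exact ⟨c, mul_left_cancel₀ (show (D.m : ℤ) ≠ 0 by omega) (by linarith)⟩
    · rintro ⟨c, rfl⟩
      rw [show (D.m : ℤ) * (2 * c) = 2 * (D.m : ℤ) * c by ring, zpow_mul]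
      exact zpow_mem hzV c
  rw [show (D.m : ℤ) + (D.m : ℤ) * k = (D.m : ℤ) * (1 + k) by ring, hiff, hiff]
  simp only [xor_def]
  omega

/-! ### Quaternion subgroups -/

theorem quaternion_eq {Q : Subgroup S} (e : Q ≃* QuaternionGroup 2) :
    ∃ j : ℤ, Odd j ∧ Q = Subgroup.closure {D.x ^ (D.m : ℤ), D.x ^ j * D.y} := by
  classical
  have := D.finite
  have hm := D.two_le
  have hQ8 : Nat.card Q = 8 := by
    rw [Nat.card_congr e.toEquiv, Nat.card_eq_fintype_card, QuaternionGroup.card]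
  -- every element has order dividing 4, and there is exactly one involution
  have hfour : ∀ q ∈ Q, q * q * (q * q) = 1 := by
    intro q hq
    have h : ∀ w : QuaternionGroup 2, w * w * (w * w) = 1 := by decide
    exact congrArg Subtype.val (e.injective (a₁ := ⟨q, hq⟩ * ⟨q, hq⟩ * (⟨q, hq⟩ * ⟨q, hq⟩))
      (a₂ := 1) (by rw [map_mul, map_mul, map_one, h]))
  have huniq : ∀ p ∈ Q, ∀ q ∈ Q, p * p = 1 → q * q = 1 → p ≠ 1 → q ≠ 1 → p = q := by
    intro p hp q hq h1 h2 hp1 hq1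
    have h : ∀ v w : QuaternionGroup 2, v * v = 1 → w * w = 1 → v ≠ 1 → w ≠ 1 → v = w := by decide
    have := h (e ⟨p, hp⟩) (e ⟨q, hq⟩) (by rw [← map_mul, ← map_one e]; exact congrArg e (Subtype.ext h1))
      (by rw [← map_mul, ← map_one e]; exact congrArg e (Subtype.ext h2))
      (fun h => hp1 (congrArg Subtype.val (e.injective (h.trans (map_one e).symm))))
      (fun h => hq1 (congrArg Subtype.val (e.injective (h.trans (map_one e).symm))))
    exact congrArg Subtype.val (e.injective this)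
  have hrot : ∀ i : ℤ, D.x ^ i ∈ Q → (D.m : ℤ) ∣ i := by
    intro i hi
    have := hfour _ hi
    rw [← zpow_add, ← zpow_add, D.zpow_eq_one_iff] at this
    obtain ⟨c, hc⟩ := this
    exact ⟨c, by linarith⟩
  -- `Q ∩ ⟨x⟩` is generated by `x ^ m`
  have hz : D.x ^ (D.m : ℤ) ∈ Q ∧ ∃ j : ℤ, D.x ^ j * D.y ∈ Q := by
    by_contra hcon
    have hle : ∀ q ∈ Q, q ∈ ({1, D.x ^ (D.m : ℤ), D.z, D.x ^ (3 * (D.m : ℤ))} : Set S) ∨
        ∃ j : ℤ, q = D.x ^ j * D.y := by
      intro q hq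
      rcases D.cases q with ⟨i, rfl⟩ | ⟨i, rfl⟩
      · left
        obtain ⟨c, rfl⟩ := hrot i hq
        obtain ⟨d, hd⟩ : ∃ d : ℤ, c = 4 * d ∨ c = 4 * d + 1 ∨ c = 4 * d + 2 ∨ c = 4 * d + 3 :=
          ⟨c / 4, by omega⟩
        rcases hd with rfl | rfl | rfl | rfl
        · left; rw [D.zpow_eq_one_iff]; exact ⟨d, by ring⟩
        · right; left; rw [D.zpow_eq_zpow_iff]; exact ⟨-d, by ring⟩
        · right; right; left; rw [z, D.zpow_eq_zpow_iff]; exact ⟨-d, by ring⟩
        · right; right; right; rw [Set.mem_singleton_iff, D.zpow_eq_zpow_iff]; exact ⟨-d, by ring⟩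
      · exact Or.inr ⟨i, rfl⟩
    by_cases hy : ∃ j : ℤ, D.x ^ j * D.y ∈ Q
    · obtain ⟨j, hj⟩ := hy
      have hxm : D.x ^ (D.m : ℤ) ∉ Q := fun h => hcon ⟨h, j, hj⟩
      have hsub : ∀ q ∈ Q, q ∈ ({1, D.z, D.x ^ j * D.y, D.z * (D.x ^ j * D.y)} : Set S) := by
        intro q hq
        have hz3 : ∀ i : ℤ, D.x ^ i ∈ Q → D.x ^ i = 1 ∨ D.x ^ i = D.z := by
          intro i hi
          rcases hle _ hi with (h | h | h | h) | ⟨l, hl⟩
          · exact Or.inl h
          · exact absurd (h ▸ hi) hxm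
          · exact Or.inr h
          · exfalso
            rw [Set.mem_singleton_iff] at h
            have h3 := inv_mem (h ▸ hi : D.x ^ (3 * (D.m : ℤ)) ∈ Q)
            rw [← zpow_neg] at h3
            apply hxm
            convert h3 using 1
            rw [D.zpow_eq_zpow_iff]
            exact ⟨-1, by ring⟩
          · exact absurd hl.symm (D.zpow_mul_y_ne _ _)
        rcases D.cases q with ⟨i, rfl⟩ | ⟨i, rfl⟩
        · rcases hz3 i hq with h | h <;> simp [h]
        · have hp := mul_mem hq (inv_mem hj)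
          rw [D.inv_rule_y, D.mul_rule_yy] at hp
          have hk : D.x ^ i * D.y = D.x ^ (i + (2 * (D.m : ℤ) - 1) * (-(2 * (D.m : ℤ) - 1) * j)) *
              (D.x ^ j * D.y) := by
            rw [← D.mul_rule_yy, ← D.inv_rule_y, inv_mul_cancel_right]
          rcases hz3 _ hp with h | h <;> rw [h] at hk <;> simp [hk]
      have hle4 := Set.ncard_le_ncard (show (Q : Set S) ⊆ _ from hsub)
      rw [← Nat.card_coe_set_eq, show Nat.card (Q : Set S) = 8 from hQ8] at hle4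
      have h4 : ({1, D.z, D.x ^ j * D.y, D.z * (D.x ^ j * D.y)} : Set S).ncard ≤ 4 := by
        refine le_trans (Set.ncard_insert_le _ _) (Nat.succ_le_succ ?_)
        refine le_trans (Set.ncard_insert_le _ _) (Nat.succ_le_succ ?_)
        refine le_trans (Set.ncard_insert_le _ _) (Nat.succ_le_succ ?_)
        simp
      omega
    · have hsub : (Q : Set S) ⊆ ({1, D.x ^ (D.m : ℤ), D.z, D.x ^ (3 * (D.m : ℤ))} : Set S) := by
        intro q hq
        rcases hle q hq with h | ⟨l, hl⟩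
        · exact h
        · exact absurd ⟨l, hl ▸ hq⟩ hy
      have hle4 := Set.ncard_le_ncard hsub
      rw [← Nat.card_coe_set_eq, show Nat.card (Q : Set S) = 8 from hQ8] at hle4
      have h4 : ({1, D.x ^ (D.m : ℤ), D.z, D.x ^ (3 * (D.m : ℤ))} : Set S).ncard ≤ 4 := by
        refine le_trans (Set.ncard_insert_le _ _) (Nat.succ_le_succ ?_)
        refine le_trans (Set.ncard_insert_le _ _) (Nat.succ_le_succ ?_)
        refine le_trans (Set.ncard_insert_le _ _) (Nat.succ_le_succ ?_)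
        simp
      omega
  obtain ⟨hxm, j, hj⟩ := hz
  have hzQ : D.z ∈ Q := by
    rw [z, show 2 * (D.m : ℤ) = (D.m : ℤ) + (D.m : ℤ) by ring, zpow_add]
    exact mul_mem hxm hxm
  have hodd : Odd j := by
    rw [← Int.not_even_iff_odd]
    intro hev
    have ha := D.orderOf_even_y hev
    exact D.zpow_mul_y_ne j _
      (huniq _ hj _ hzQ (invol_mul_self ha) D.z_mul_z (invol_ne_one ha) (invol_ne_one D.orderOf_z))
  refine ⟨j, hodd, le_antisymm ?_ ?_⟩
  · intro q hq
    have h1 : ∀ i : ℤ, D.x ^ i ∈ Q → D.x ^ i ∈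
        Subgroup.closure ({D.x ^ (D.m : ℤ), D.x ^ j * D.y} : Set S) := by
      intro i hi
      obtain ⟨c, rfl⟩ := hrot i hi
      rw [zpow_mul]
      exact zpow_mem (Subgroup.subset_closure (by simp)) c
    rcases D.cases q with ⟨i, rfl⟩ | ⟨i, rfl⟩
    · exact h1 i hq
    · have hp := mul_mem hq (inv_mem hj)
      rw [D.inv_rule_y, D.mul_rule_yy] at hp
      have h2 := mul_mem (h1 _ hp)
        (Subgroup.subset_closure (by simp : D.x ^ j * D.y ∈ ({D.x ^ (D.m : ℤ), D.x ^ j * D.y} : Set S)))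
      rwa [← D.mul_rule_yy, ← D.inv_rule_y, inv_mul_cancel_right] at h2
  · rw [Subgroup.closure_le]
    rintro w (rfl | rfl)
    exacts [hxm, hj]

theorem quaternion_mem_iff {j : ℤ} (hj : Odd j) {i : ℤ} :
    D.x ^ i ∈ Subgroup.closure ({D.x ^ (D.m : ℤ), D.x ^ j * D.y} : Set S) ↔ (D.m : ℤ) ∣ i := by
  constructor
  · intro h
    have hgen : ∀ g ∈ Subgroup.closure ({D.x ^ (D.m : ℤ), D.x ^ j * D.y} : Set S),
        ∃ k : ℤ, g = D.x ^ ((D.m : ℤ) * k) ∨ g = D.x ^ ((D.m : ℤ) * k + j) * D.y := by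
      intro g hg
      induction hg using Subgroup.closure_induction with
      | mem g hg =>
        rcases hg with rfl | rfl
        · exact ⟨1, Or.inl (by rw [mul_one])⟩
        · exact ⟨0, Or.inr (by rw [mul_zero, zero_add])⟩
      | one => exact ⟨0, Or.inl (by simp)⟩
      | mul a b _ _ iha ihb =>
        obtain ⟨k, rfl | rfl⟩ := iha <;> obtain ⟨l, rfl | rfl⟩ := ihb
        · exact ⟨k + l, Or.inl (by rw [← zpow_add, mul_add])⟩
        · exact ⟨k + l, Or.inr (by rw [← mul_assoc, ← zpow_add]; congr 2; ring)⟩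
        · refine ⟨k + (2 * (D.m : ℤ) - 1) * l, Or.inr ?_⟩
          rw [D.mul_rule_zy]; congr 2; ring
        · refine ⟨k + (2 * (D.m : ℤ) - 1) * l + 2 * j, Or.inl ?_⟩
          rw [D.mul_rule_yy]; congr 1; ring
      | inv a _ iha =>
        obtain ⟨k, rfl | rfl⟩ := iha
        · exact ⟨-k, Or.inl (by rw [← zpow_neg, mul_neg])⟩
        · refine ⟨-(2 * (D.m : ℤ) - 1) * k - 2 * j, Or.inr ?_⟩
          rw [D.inv_rule_y]; congr 2; ring
    obtain ⟨k, hk | hk⟩ := hgen _ h
    · rw [D.zpow_eq_zpow_iff] at hk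
      obtain ⟨c, hc⟩ := hk
      exact ⟨k - 4 * c, by linarith⟩
    · exact absurd hk.symm (D.zpow_mul_y_ne _ _)
  · rintro ⟨c, rfl⟩
    rw [zpow_mul]
    exact zpow_mem (Subgroup.subset_closure (by simp)) c

include D in
theorem quaternion_centralizer {Q : Subgroup S} (e : Q ≃* QuaternionGroup 2) :
    Subgroup.centralizer (Q : Set S) = (Subgroup.center Q).map Q.subtype := by
  obtain ⟨j, hj, rfl⟩ := D.quaternion_eq e
  set Q := Subgroup.closure ({D.x ^ (D.m : ℤ), D.x ^ j * D.y} : Set S)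
  have hxmQ : D.x ^ (D.m : ℤ) ∈ Q := Subgroup.subset_closure (by simp)
  have hjQ : D.x ^ j * D.y ∈ Q := Subgroup.subset_closure (by simp)
  have hcz : Subgroup.centralizer (Q : Set S) ≤ Subgroup.zpowers D.z := by
    intro c hc
    rw [Subgroup.mem_centralizer_iff] at hc
    rcases D.cases c with ⟨i, rfl⟩ | ⟨i, rfl⟩
    · obtain ⟨k, hk⟩ := D.commute_y_iff.1 (show Commute (D.x ^ i) _ from (hc _ hjQ).symm)
      rw [hk, zpow_mul]
      exact zpow_mem (Subgroup.mem_zpowers D.z) k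
    · exfalso
      have := D.commute_y_iff.1 (show Commute (D.x ^ (D.m : ℤ)) _ from hc _ hxmQ)
      have hm := D.two_le
      have := Int.le_of_dvd (by omega) this
      omega
  apply le_antisymm
  · intro c hc
    have hcQ : c ∈ Q := by
      obtain ⟨k, rfl⟩ := hcz hc
      refine zpow_mem ?_ k
      rw [z, show 2 * (D.m : ℤ) = (D.m : ℤ) + (D.m : ℤ) by ring, zpow_add]
      exact mul_mem hxmQ hxmQ
    exact ⟨⟨c, hcQ⟩, Subgroup.mem_center_iff.2 fun g =>
      Subtype.ext (Subgroup.mem_centralizer_iff.1 hc g g.2), rfl⟩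
  · rintro _ ⟨⟨c, hc⟩, hcen, rfl⟩
    rw [Subgroup.mem_centralizer_iff]
    intro g hg
    exact congrArg Subtype.val (Subgroup.mem_center_iff.1 hcen ⟨g, hg⟩)

include D in
theorem quaternion_conj {P Q : Subgroup S} (e : P ≃* QuaternionGroup 2)
    (f : Q ≃* QuaternionGroup 2) : ∃ s : S, P.map (MulAut.conj s).toMonoidHom = Q := by
  obtain ⟨i, hi, rfl⟩ := D.quaternion_eq e
  obtain ⟨j, hj, rfl⟩ := D.quaternion_eq f
  obtain ⟨a, ha⟩ := D.exists_conj_shift (hj.sub_odd hi)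
  refine ⟨D.x ^ a, ?_⟩
  rw [MonoidHom.map_closure]
  congr 1
  simp only [Set.image_insert_eq, Set.image_singleton, MulEquiv.coe_toMonoidHom, MulAut.conj_apply, ha]
  rw [← zpow_add, ← zpow_neg, ← zpow_add, show a + (D.m : ℤ) + -a = (D.m : ℤ) by ring]

include D in
theorem quaternion_relIndex {Q : Subgroup S} (e : Q ≃* QuaternionGroup 2) :
    Q.relIndex (Subgroup.normalizer (Q : Set S)) = 2 := by
  obtain ⟨j, hj, rfl⟩ := D.quaternion_eq e
  set Q := Subgroup.closure ({D.x ^ (D.m : ℤ), D.x ^ j * D.y} : Set S) with hQ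
  have hxmQ : D.x ^ (D.m : ℤ) ∈ Q := Subgroup.subset_closure (by simp)
  have hjQ : D.x ^ j * D.y ∈ Q := Subgroup.subset_closure (by simp)
  obtain ⟨e', he⟩ := D.even_m
  have hm := D.two_le
  have he' : (D.m : ℤ) = e' + e' := by exact_mod_cast he
  have hnorm : ∀ a : ℤ, D.x ^ a ∈ Subgroup.normalizer (Q : Set S) ↔ (e' : ℤ) ∣ a := by
    intro a
    constructor
    · intro ha
      have h := (Subgroup.mem_normalizer_iff.1 ha _).1 hjQ
      rw [D.conj_zpow_of_zpow] at h
      have h2 := mul_mem h (inv_mem hjQ)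
      rw [D.inv_rule_y, D.mul_rule_yy, D.quaternion_mem_iff hj] at h2
      obtain ⟨c, hc⟩ := h2
      refine ⟨c + 4 * (j * ((D.m : ℤ) - 1)) + 2 * a, ?_⟩
      have key : 2 * (e' : ℤ) * (c + 4 * (j * ((D.m : ℤ) - 1)) + 2 * a) = 2 * a := by
        rw [he'] at hc ⊢
        linarith
      linarith
    · rintro ⟨k, rfl⟩
      have key : ∀ l : ℤ, ∀ v ∈ Q, D.x ^ ((e' : ℤ) * l) * v * (D.x ^ ((e' : ℤ) * l))⁻¹ ∈ Q := by
        intro l
        suffices Q.map (MulAut.conj (D.x ^ ((e' : ℤ) * l))).toMonoidHom ≤ Q from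
          fun v hv => this ⟨v, hv, rfl⟩
        rw [Subgroup.map_le_iff_le_comap, hQ, Subgroup.closure_le]
        rintro w (rfl | rfl)
        · show D.x ^ ((e' : ℤ) * l) * D.x ^ (D.m : ℤ) * (D.x ^ ((e' : ℤ) * l))⁻¹ ∈ Q
          rw [← zpow_add, ← zpow_neg, ← zpow_add, show (e' : ℤ) * l + (D.m : ℤ) + -((e' : ℤ) * l) = (D.m : ℤ) by ring]
          exact hxmQ
        · show D.x ^ ((e' : ℤ) * l) * (D.x ^ j * D.y) * (D.x ^ ((e' : ℤ) * l))⁻¹ ∈ Q
          have e2 : D.x ^ ((e' : ℤ) * l) * (D.x ^ j * D.y) * (D.x ^ ((e' : ℤ) * l))⁻¹ =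
              (D.x ^ (D.m : ℤ)) ^ ((1 - (D.m : ℤ)) * l) * (D.x ^ j * D.y) := by
            rw [D.conj_zpow_of_zpow, ← zpow_mul, ← mul_assoc (D.x ^ _), ← zpow_add]
            congr 2
            rw [he']; ring
          rw [e2]
          exact mul_mem (zpow_mem hxmQ _) hjQ
      rw [Subgroup.mem_normalizer_iff]
      intro v
      refine ⟨key k v, fun h => ?_⟩
      have := key (-k) _ h
      rw [mul_neg, zpow_neg, inv_inv] at this
      simpa [mul_assoc] using this
  rw [Subgroup.relIndex, Subgroup.index_eq_two_iff']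
  refine ⟨⟨D.x ^ (e' : ℤ), (hnorm _).2 dvd_rfl⟩, fun ⟨b, hb⟩ => ?_⟩
  simp only [Subgroup.mem_subgroupOf, Subgroup.coe_mul]
  obtain ⟨i, v, hv, rfl⟩ : ∃ i : ℤ, ∃ v ∈ Q, b = D.x ^ i * v := by
    rcases D.cases b with ⟨i, rfl⟩ | ⟨i, rfl⟩
    · exact ⟨i, 1, one_mem Q, (mul_one _).symm⟩
    · exact ⟨i - j, _, hjQ, by rw [← mul_assoc, ← zpow_add, sub_add_cancel]⟩
  have hiN : D.x ^ i ∈ Subgroup.normalizer (Q : Set S) := by
    have := mul_mem hb (inv_mem (Subgroup.le_normalizer hv))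
    rwa [mul_inv_cancel_right] at this
  obtain ⟨k, rfl⟩ := (hnorm i).1 hiN
  rw [← mul_assoc, ← zpow_add, Q.mul_mem_cancel_right hv, Q.mul_mem_cancel_right hv,
    D.quaternion_mem_iff hj, D.quaternion_mem_iff hj,
    show (e' : ℤ) + (e' : ℤ) * k = (e' : ℤ) * (1 + k) by ring, he',
    show (e' : ℤ) + (e' : ℤ) = (e' : ℤ) * 2 by ring,
    mul_dvd_mul_iff_left (show (e' : ℤ) ≠ 0 by omega),
    mul_dvd_mul_iff_left (show (e' : ℤ) ≠ 0 by omega)]
  simp only [xor_def]
  omega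

/-! ### Maximal subgroups -/

/-- The maximal quaternion subgroup. -/
def quatMax : Subgroup S := Subgroup.closure {D.x ^ (2 : ℤ), D.x ^ (1 : ℤ) * D.y}

/-- The maximal dihedral subgroup. -/
def dihMax : Subgroup S := Subgroup.closure {D.x ^ (2 : ℤ), D.y}

theorem orderOf_x_sq : orderOf (D.x ^ (2 : ℤ)) = 2 * D.m := by
  have := D.two_le
  rw [zpow_two, ← pow_two, orderOf_pow' _ (by norm_num), D.orderOf_x,
    Nat.gcd_eq_right ⟨2 * D.m, by ring⟩]
  omega

theorem zpowers_x_sq_le {d : S} (hd : d ∈ Subgroup.zpowers (D.x ^ (2 : ℤ))) :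
    ∃ k : ℤ, d = D.x ^ (2 * k) := by
  obtain ⟨k, rfl⟩ := hd
  exact ⟨k, by simp only [← zpow_mul]⟩

theorem quatMax_equiv : Nonempty (D.quatMax ≃* QuaternionGroup D.m) := by
  have : NeZero D.m := ⟨D.m_ne_zero⟩
  refine exists_mulEquiv_quaternion D.orderOf_x_sq ?_ ?_ ?_
  · rw [D.sq_odd_y odd_one, z, ← zpow_natCast (D.x ^ (2 : ℤ)), ← zpow_mul]
  · rw [← zpow_neg, D.inv_rule_y, D.mul_rule_zy, D.mul_rule_yy, D.zpow_eq_zpow_iff]
    exact ⟨(D.m : ℤ) - 2, by ring⟩
  · intro h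
    obtain ⟨k, hk⟩ := D.zpowers_x_sq_le h
    exact D.zpow_mul_y_ne _ _ hk

theorem dihMax_equiv : Nonempty (D.dihMax ≃* DihedralGroup (2 * D.m)) := by
  have : NeZero (2 * D.m) := ⟨by have := D.two_le; omega⟩
  refine exists_mulEquiv_dihedral D.orderOf_x_sq D.orderOf_y ?_ ?_
  · rw [← zpow_neg, conj_zpow_eq, D.conj_x, ← zpow_mul, D.zpow_eq_zpow_iff]
    exact ⟨-1, by ring⟩
  · intro h
    obtain ⟨k, hk⟩ := D.zpowers_x_sq_le h
    exact D.y_notMem ⟨2 * k, hk.symm⟩

theorem index_quatMax : D.quatMax.index = 2 := by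
  have := D.finite
  obtain ⟨e⟩ := D.quatMax_equiv
  have : NeZero D.m := ⟨D.m_ne_zero⟩
  have h := D.quatMax.card_mul_index
  rw [Nat.card_congr e.toEquiv, Nat.card_eq_fintype_card, QuaternionGroup.card, D.card_eq] at h
  have := D.two_le
  exact Nat.eq_of_mul_eq_mul_left (by omega : 0 < 4 * D.m) (h.trans (by ring))

theorem index_dihMax : D.dihMax.index = 2 := by
  have := D.finite
  obtain ⟨e⟩ := D.dihMax_equiv
  have h := D.dihMax.card_mul_index
  rw [Nat.card_congr e.toEquiv, DihedralGroup.nat_card, D.card_eq] at h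
  have := D.two_le
  exact Nat.eq_of_mul_eq_mul_left (by omega : 0 < 2 * (2 * D.m)) (h.trans (by ring))

theorem eq_top_of_mem {M : Subgroup S} (hx : D.x ∈ M) (hy : D.y ∈ M) : M = ⊤ := by
  rw [eq_top_iff]
  intro s _
  rcases D.cases s with ⟨i, rfl⟩ | ⟨i, rfl⟩
  · exact zpow_mem hx i
  · exact mul_mem (zpow_mem hx i) hy

theorem zpowers_ne_quatMax : Subgroup.zpowers D.x ≠ D.quatMax := fun h =>
  D.zpow_mul_y_notMem 1 (h ▸ Subgroup.subset_closure (by simp))

theorem zpowers_ne_dihMax : Subgroup.zpowers D.x ≠ D.dihMax := fun h =>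
  D.y_notMem (h ▸ Subgroup.subset_closure (by simp))

theorem quatMax_ne_dihMax : D.quatMax ≠ D.dihMax := by
  intro h
  have hy : D.y ∈ D.quatMax := h ▸ Subgroup.subset_closure (by simp)
  have hxy : D.x ^ (1 : ℤ) * D.y ∈ D.quatMax := Subgroup.subset_closure (by simp)
  have hx : D.x ∈ D.quatMax := by
    have := mul_mem hxy (inv_mem hy)
    rwa [mul_inv_cancel_right, zpow_one] at this
  have h2 := D.index_quatMax
  rw [D.eq_top_of_mem hx hy] at h2
  simp at h2

theorem index_two_eq {M : Subgroup S} (hM : M.index = 2) :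
    M = Subgroup.zpowers D.x ∨ M = D.quatMax ∨ M = D.dihMax := by
  have hco := isCoatom_of_index_two hM
  have hsq : D.x ^ (2 : ℤ) ∈ M := by rw [zpow_two]; exact Subgroup.mul_self_mem_of_index_two hM _
  have heq : ∀ K : Subgroup S, K ≤ M → K.index = 2 → M = K := fun K hK hK2 =>
    ((isCoatom_of_index_two hK2).le_iff.1 hK).resolve_left hco.1
  by_cases hx : D.x ∈ M
  · exact Or.inl (heq _ (Subgroup.zpowers_le.2 hx) D.index_zpowers)
  by_cases hy : D.y ∈ M
  · refine Or.inr (Or.inr (heq _ ?_ D.index_dihMax))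
    rw [dihMax, Subgroup.closure_le]
    rintro w (rfl | rfl)
    exacts [hsq, hy]
  · refine Or.inr (Or.inl (heq _ ?_ D.index_quatMax))
    rw [quatMax, Subgroup.closure_le]
    rintro w (rfl | rfl)
    · exact hsq
    · rw [zpow_one]
      exact (Subgroup.mul_mem_iff_of_index_two hM).2 (iff_of_false hx hy)

theorem isPGroup_of_m {k : ℕ} (hk : D.m = 2 ^ k) : IsPGroup 2 S :=
  IsPGroup.of_card (n := k + 3) (by rw [D.card_eq, hk]; ring)

theorem mem_zpowers_sq_of_mem_inf {s : S} (hs : s ∈ Subgroup.zpowers D.x) (hd : s ∈ D.dihMax) :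
    s ∈ Subgroup.zpowers (D.x ^ (2 : ℤ)) := by
  obtain ⟨i, rfl⟩ := hs
  simp only at hd ⊢
  rcases Int.even_or_odd' i with ⟨k, rfl | rfl⟩
  · rw [zpow_mul]; exact zpow_mem (Subgroup.mem_zpowers _) k
  · exfalso
    have h2 : D.x ^ (2 * k) ∈ D.dihMax := by
      rw [zpow_mul]; exact zpow_mem (Subgroup.subset_closure (by simp)) k
    have hx : D.x ∈ D.dihMax := by
      have := mul_mem (inv_mem h2) hd
      rwa [zpow_add, inv_mul_cancel_left, zpow_one] at this
    have h := D.index_dihMax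
    rw [D.eq_top_of_mem hx (Subgroup.subset_closure (by simp))] at h
    simp at h

theorem commutator_eq : commutator S = Subgroup.zpowers (D.x ^ (2 : ℤ)) := by
  apply le_antisymm
  · have hle : ∀ M : Subgroup S, M.index = 2 → commutator S ≤ M := by
      intro M hM
      rw [commutator_def, Subgroup.commutator_le]
      intro g _ h _
      rw [commutatorElement_def, Subgroup.mul_mem_iff_of_index_two hM,
        Subgroup.mul_mem_iff_of_index_two hM, Subgroup.mul_mem_iff_of_index_two hM, inv_mem_iff,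
        inv_mem_iff]
      tauto
    intro s hs
    exact D.mem_zpowers_sq_of_mem_inf (hle _ D.index_zpowers hs) (hle _ D.index_dihMax hs)
  · rw [Subgroup.zpowers_le]
    obtain ⟨e, he⟩ := D.even_m
    have he' : (D.m : ℤ) = e + e := by exact_mod_cast he
    have h : D.x ^ (2 * (D.m : ℤ) - 2) ∈ commutator S := by
      have h0 := Subgroup.commutator_mem_commutator (Subgroup.mem_top D.y) (Subgroup.mem_top D.x)
      rw [commutatorElement_def, D.conj_x] at h0
      nth_rewrite 2 [← zpow_one D.x] at h0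
      rw [← zpow_neg, ← zpow_add, show 2 * (D.m : ℤ) - 1 + -1 = 2 * (D.m : ℤ) - 2 by ring] at h0
      exact h0
    have h2 := zpow_mem h ((D.m : ℤ) - 1)
    rw [← zpow_mul] at h2
    convert h2 using 1
    rw [D.zpow_eq_zpow_iff]
    exact ⟨(e : ℤ) - 1, by rw [he']; ring⟩

theorem frattini_eq {k : ℕ} (hk : D.m = 2 ^ k) : frattini S = Subgroup.zpowers (D.x ^ (2 : ℤ)) := by
  have := D.finite
  apply le_antisymm
  · intro s hs
    exact D.mem_zpowers_sq_of_mem_inf
      (frattini_le_coatom (isCoatom_of_index_two D.index_zpowers) hs)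
      (frattini_le_coatom (isCoatom_of_index_two D.index_dihMax) hs)
  · rw [frattini, Order.radical, le_iInf₂_iff]
    intro M hM
    rw [Subgroup.zpowers_le, zpow_two]
    exact Subgroup.mul_self_mem_of_index_two (index_two_of_isCoatom (D.isPGroup_of_m hk) hM) _

end QDData

end CfsgLib.Invol
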