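import Cfsg.Agent.Lib.Invol.HeisenbergCore
import Cfsg.Agent.Lib.Invol.EssentialSmall
import Cfsg.Agent.Lib.Fusion.OmegaChain
import Cfsg.Agent.Lib.OddLocal.RankTwoAction
import Mathlib

/-!
# Saturated fusion systems over p-groups of rank two, p ≥ 5, have no essential subgroups
(unless the group is extraspecial of order p³ and exponent p)
-/

set_option autoImplicit false

namespace CfsgLib.Invol.RankTwoEssential

open Subgroup Cfsg Cfsg.FusionSystem CfsgLib.Fusion CfsgLib.Invol.PlanePairs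
  CfsgLib.Invol.Heisenberg CfsgLib.Invol.EssentialSmall
open scoped commutatorElement

/-- Restriction of automorphisms to a characteristic subgroup. -/
noncomputable def resAut {G : Type*} [Group G] (D : Subgroup G) (hD : D.Characteristic) :
    MulAut G →* MulAut D where
  toFun α := (α.subgroupMap D).trans
    (MulEquiv.subgroupCongr (characteristic_iff_map_eq.1 hD α))
  map_one' := MulEquiv.ext fun _ => Subtype.ext rfl
  map_mul' _ _ := MulEquiv.ext fun _ => Subtype.ext rfl

theorem resAut_apply {G : Type*} [Group G] (D : Subgroup G) (hD : D.Characteristic) (α : MulAut G)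
    (x : D) : ((resAut D hD α x : D) : G) = α x := rfl

theorem exists_units {p : ℕ} (hp : p.Prime) (hp5 : 5 ≤ p) :
    ∃ t s : ℤ, (p : ℤ) ∣ t * s - 1 ∧ ¬ (p : ℤ) ∣ t ∧ ¬ (p : ℤ) ∣ t * t - 1 ∧
      ¬ (p : ℤ) ∣ t * t * t - 1 := by
  have hP := Nat.prime_iff_prime_int.1 hp
  obtain ⟨t, h0, h1, h2⟩ : ∃ t : ℕ, ¬ p ∣ t ∧ ¬ p ∣ t * t - 1 ∧ ¬ p ∣ t * t * t - 1 := by
    by_cases h7 : p = 7
    · subst h7; exact ⟨3, by decide, by decide, by decide⟩
    · refine ⟨2, fun h => ?_, fun h => ?_, fun h => h7 ?_⟩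
      · have := Nat.le_of_dvd (by norm_num) h; omega
      · have := Nat.le_of_dvd (by norm_num) h; omega
      · exact (Nat.prime_dvd_prime_iff_eq hp (by norm_num)).1 h
  have ht : 1 ≤ t := Nat.one_le_iff_ne_zero.2 fun h => h0 (h ▸ dvd_zero p)
  obtain ⟨a, s, hs⟩ := hP.coprime_iff_not_dvd.2 (show ¬ (p : ℤ) ∣ (t : ℤ) by exact_mod_cast h0)
  refine ⟨t, s, ⟨-a, by linear_combination hs⟩, by exact_mod_cast h0, ?_, ?_⟩
  · rw [show (t : ℤ) * t - 1 = ((t * t - 1 : ℕ) : ℤ) by
      rw [Nat.cast_sub (Nat.mul_pos ht ht)]; push_cast; ring]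
    exact_mod_cast h1
  · rw [show (t : ℤ) * t * t - 1 = ((t * t * t - 1 : ℕ) : ℤ) by
      rw [Nat.cast_sub (Nat.mul_pos (Nat.mul_pos ht ht) ht)]; push_cast; ring]
    exact_mod_cast h2

variable {Ω : Type*} [Group Ω] {S : Subgroup Ω} [Finite S] {p : ℕ} [hp : Fact p.Prime]
  {F : Cfsg.FusionSystem S} {E : Subgroup Ω}
  (hS : IsPGroup p S) (hF : F.IsSaturated p) (hE : F.IsEssential p E)

include hS hF hE

/-- A plane representation of the automiser of an essential subgroup with `p`-group kernel. -/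
theorem plane_rep {V : Type*} [CommGroup V] [Finite V] (hexp : ∀ x : V, x ^ p = 1)
    (hcard : Nat.card V = p ^ 2) (hp2 : p ≠ 2) (r : F.autGroup E →* MulAut V)
    (hker : IsPGroup p r.ker) :
    (∀ a : F.autGroup E, (a : MulAut E) ∈ Cfsg.Inn E → r a = 1) ∧
    (∃ a : F.autGroup E, (∃ k : ℕ, a ^ p ^ k = 1) ∧ r a ≠ 1) ∧
    ∀ a : F.autGroup E, (∃ k : ℕ, a ^ p ^ k = 1) → r a ≠ 1 → ∀ l : V, l ≠ 1 → r a l = l →
      ∃ b : F.autGroup E, r b l ∉ zpowers l := by
  haveI := finite_of_le hE.1.1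
  obtain ⟨hmax, a₀, ha₀, k₀, hk₀⟩ := exists_pElement hS hF hE
  have hk₀' : a₀ ^ p ^ k₀ = 1 := Subtype.ext (by rw [SubmonoidClass.coe_pow]; exact hk₀)
  have hr₀ : r a₀ ≠ 1 := fun h => ha₀ (hmax r.ker inferInstance hker a₀ h)
  have move : ∀ a : F.autGroup E, (∃ k : ℕ, a ^ p ^ k = 1) → r a ≠ 1 → ∀ l : V, l ≠ 1 → r a l = l →
      ∃ b : F.autGroup E, r b l ∉ zpowers l := by
    intro a ha hra l hl hal
    by_contra hcon
    push Not at hcon
    let N : Subgroup (F.autGroup E) :=
      { carrier := {g | r g l = l ∧ ∀ x, ∃ i : ℤ, r g x = x * l ^ i}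
        one_mem' := ⟨by simp, fun x => ⟨0, by simp⟩⟩
        mul_mem' := by
          rintro g h ⟨g1, g2⟩ ⟨h1, h2⟩
          refine ⟨by rw [map_mul, MulAut.mul_apply, h1, g1], fun x => ?_⟩
          obtain ⟨i, hi⟩ := h2 x
          obtain ⟨j, hj⟩ := g2 x
          exact ⟨j + i, by
            rw [map_mul, MulAut.mul_apply, hi, map_mul, hj, map_zpow, g1, mul_assoc, ← zpow_add]⟩
        inv_mem' := by
          rintro g ⟨g1, g2⟩
          have h1 : r g⁻¹ l = l := by
            conv_lhs => rw [← g1]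
            rw [map_inv, MulAut.inv_apply_self]
          refine ⟨h1, fun x => ?_⟩
          obtain ⟨i, hi⟩ := g2 x
          refine ⟨-i, (r g).injective ?_⟩
          rw [map_inv, MulAut.apply_inv_self, map_mul, hi, map_zpow, g1, mul_assoc, ← zpow_add]
          simp }
    have hN : N.Normal := by
      refine ⟨fun g hg b => ?_⟩
      obtain ⟨g1, g2⟩ := hg
      obtain ⟨c, hc⟩ := mem_zpowers_iff.1 (hcon b)
      obtain ⟨d, hd⟩ := mem_zpowers_iff.1 (hcon b⁻¹)
      refine ⟨?_, fun x => ?_⟩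
      · rw [map_mul, map_mul, MulAut.mul_apply, MulAut.mul_apply, ← hd, map_zpow (r g), g1, hd,
          map_inv, MulAut.apply_inv_self]
      · obtain ⟨i, hi⟩ := g2 (r b⁻¹ x)
        refine ⟨c * i, ?_⟩
        rw [map_mul, map_mul, MulAut.mul_apply, MulAut.mul_apply, hi, map_mul, map_zpow, ← hc,
          ← zpow_mul, map_inv, MulAut.apply_inv_self]
    have hmemN : ∀ g : F.autGroup E, (∃ k : ℕ, g ^ p ^ k = 1) → g ∈ N := by
      rintro g ⟨k, hk⟩
      have hgl : r g l = l := by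
        obtain ⟨j, hj⟩ := mem_zpowers_iff.1 (hcon g)
        have hpow : ∀ n : ℕ, (r g ^ n) l = l ^ (j ^ n) := by
          intro n
          induction n with
          | zero => simp
          | succ n ih => rw [aut_pow_succ, ih, map_zpow, ← hj, ← zpow_mul, pow_succ', mul_comm j]
        have h2 := hpow (p ^ k)
        rw [← map_pow, hk, map_one, MulAut.one_apply] at h2
        have h3 := zpow_eq_imp hexp hl ((zpow_one l).trans h2)
        rw [← ZMod.intCast_zmod_eq_zero_iff_dvd] at h3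
        push_cast at h3
        rw [ZMod.pow_card_pow] at h3
        rw [← hj, ← zpow_congr hexp l (i := 1) (j := j)
          ((ZMod.intCast_zmod_eq_zero_iff_dvd _ _).1 (by push_cast; exact h3)), zpow_one]
      refine ⟨hgl, fun x => ?_⟩
      by_cases hg1 : r g = 1
      · exact ⟨0, by simp [hg1]⟩
      · exact (of_fixed hexp hcard ⟨k, by rw [← map_pow, hk, map_one]⟩ hg1 hl hgl).2 x
    have hNp : IsPGroup p N := by
      rintro ⟨g, g1, g2⟩
      have hgp : g ^ p ∈ r.ker := by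
        rw [MonoidHom.mem_ker, map_pow]
        refine MulEquiv.ext fun x => ?_
        obtain ⟨i, hi⟩ := g2 x
        have hit : ∀ n : ℕ, (r g ^ n) x = x * l ^ (i * n) := by
          intro n
          induction n with
          | zero => simp
          | succ n ih =>
            rw [aut_pow_succ, ih, map_mul, map_zpow, g1, hi, mul_assoc, ← zpow_add]
            congr 2
            push_cast
            ring
        rw [hit, zpow_congr hexp l (j := 0) (by simp), zpow_zero, mul_one, MulAut.one_apply]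
      obtain ⟨k, hk⟩ := hker ⟨g ^ p, hgp⟩
      refine ⟨k + 1, Subtype.ext ?_⟩
      have h2 : (g ^ p) ^ p ^ k = 1 := congrArg Subtype.val hk
      rw [← pow_mul, ← pow_succ'] at h2
      exact h2
    exact ha₀ (hmax N hN hNp a₀ (hmemN a₀ ⟨k₀, hk₀'⟩))
  refine ⟨fun a ha => ?_, ⟨a₀, ⟨k₀, hk₀'⟩, hr₀⟩, move⟩
  by_contra hra
  have hinn : IsPGroup p ((Cfsg.Inn E).subgroupOf (F.autGroup E)) :=
    ((isPGroup_autInducedBy hS E).to_le (inn_le_autInducedBy hE.1.1)).comap_of_injective _
      (Subgroup.subtype_injective (F.autGroup E))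
  obtain ⟨k, hk⟩ := hinn ⟨a, ha⟩
  have hak : a ^ p ^ k = 1 := congrArg Subtype.val hk
  obtain ⟨l, hl, hal, -⟩ := exists_line hexp hcard ⟨k, by rw [← map_pow, hak, map_one]⟩ hra
  obtain ⟨b, hb⟩ := move a ⟨k, hak⟩ hra l hl hal
  haveI : ((Cfsg.Inn E).subgroupOf (F.autGroup E)).Normal := hE.2.2.choose
  have hmem : b * a * b⁻¹ ∈ (Cfsg.Inn E).subgroupOf (F.autGroup E) :=
    Subgroup.Normal.conj_mem inferInstance a ha b
  have hfix := pgroup_fixes hexp hcard hp2 (hinn.map r)
    (mem_map_of_mem r (show a ∈ (Cfsg.Inn E).subgroupOf (F.autGroup E) from ha))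
    (mem_map_of_mem r hmem) hra hl hal
  refine hb ?_
  have h1 : r b⁻¹ l ∈ zpowers l := by
    refine (of_fixed hexp hcard ⟨k, by rw [← map_pow, hak, map_one]⟩ hra hl hal).1 _ ((r b).injective ?_)
    rw [map_mul, map_mul, MulAut.mul_apply, MulAut.mul_apply] at hfix
    rw [hfix, map_inv, MulAut.apply_inv_self]
  obtain ⟨j, hj⟩ := mem_zpowers_iff.1 h1
  have hj0 : ¬ (p : ℤ) ∣ j := fun hd => hl ((r b⁻¹).injective (by
    rw [← hj, zpow_congr hexp l (j := 0) (by simpa using hd), zpow_zero, map_one]))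
  refine mem_of_zpow_mem hexp hj0 ?_
  rw [← map_zpow, hj, map_inv, MulAut.apply_inv_self]
  exact mem_zpowers l

/-- The elementary abelian case. -/
theorem no_elementary (hp5 : 5 ≤ p)
    (hrank : ∀ A : Subgroup Ω, A ≤ S → Cfsg.IsElementaryAbelian p A → Nat.card A ≤ p ^ 2)
    (hnotE : ¬ (Nat.card S = p ^ 3 ∧ Monoid.exponent ↥S = p))
    (hel : Cfsg.IsElementaryAbelian p E) (hcard : Nat.card E = p ^ 2) : False := by
  have hES := hE.1.1
  haveI := finite_of_le hES
  have hp2 : p ≠ 2 := by omega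
  have hP := Nat.prime_iff_prime_int.1 hp.out
  letI : CommGroup E := { (inferInstance : Group E) with mul_comm := hel.1.is_comm.comm }
  have hexp : ∀ x : E, x ^ p = 1 := fun x => Subtype.ext (by simpa using hel.2 x x.2)
  have hself : centralizerIn S E = E :=
    le_antisymm (hE.1.2 E (isConj_refl hES)) (fun x hx => ⟨hES hx, fun y hy =>
      congrArg Subtype.val (hel.1.is_comm.comm ⟨y, hy⟩ ⟨x, hx⟩)⟩)
  let r : F.autGroup E →* MulAut E := (F.autGroup E).subtype
  have hr : ∀ a, r a = (a : MulAut E) := fun a => rfl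
  have hker : IsPGroup p r.ker := fun g => ⟨0, by
    rw [pow_zero, pow_one]
    exact Subtype.ext (Subtype.ext g.2)⟩
  obtain ⟨-, -, move⟩ := plane_rep hS hF hE hexp hcard hp2 r hker
  -- an element inducing a transvection
  obtain ⟨n, hn, hnE⟩ := SetLike.exists_of_lt (lt_normalizerIn hS (lt_of_essential hS hF hE))
  let f : F.autGroup E := ⟨E.normalizerMonoidHom ⟨n, hn.2⟩,
    autInducedBy_le_autGroup hES (mem_autInducedBy_iff.2 ⟨n, hn.1, fun _ => rfl⟩)⟩
  have hfA : (f : MulAut E) ∈ autInducedBy S E := mem_autInducedBy_iff.2 ⟨n, hn.1, fun _ => rfl⟩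
  have hf : ∀ x : E, (((f : MulAut E) x : E) : Ω) = n * (x : Ω) * n⁻¹ := fun _ => rfl
  have hf1 : (f : MulAut E) ≠ 1 := fun e => hnE (hself ▸ ⟨hn.1, fun x hx => by
    have h1 := hf ⟨x, hx⟩
    rw [e, MulAut.one_apply] at h1
    exact eq_mul_inv_iff_mul_eq.1 h1⟩)
  have hAS := isPGroup_autInducedBy hS E
  obtain ⟨kf, hkf⟩ := hAS ⟨_, hfA⟩
  have hfp : ∃ k : ℕ, f ^ p ^ k = 1 := ⟨kf, Subtype.ext (congrArg Subtype.val hkf :)⟩
  have hfp' : ∃ k : ℕ, (f : MulAut E) ^ p ^ k = 1 := ⟨kf, congrArg Subtype.val hkf⟩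
  obtain ⟨l, hl, hfl, -⟩ := exists_line hexp hcard hfp' hf1
  obtain ⟨b, hb⟩ := move f hfp hf1 l hl hfl
  have hw : (b : MulAut E) l ∉ zpowers l := hb
  obtain ⟨w, hw_def⟩ : ∃ w : E, (b : MulAut E) l = w := ⟨_, rfl⟩
  rw [hw_def] at hw
  obtain ⟨a, ha, hfw⟩ := transvection hexp hcard hfp' hf1 hl hfl hw
  obtain ⟨t, s, hts, ht0, ht2, ht3⟩ := exists_units hp.out hp5
  obtain ⟨τ, hτA, hτl, hτw⟩ := torus_of_move hexp hcard (G := F.autGroup E) f.2 b.2 hfp' hf1 hl hfl
    (hw_def.symm ▸ hw) hts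
  rw [hw_def] at hτw
  have hfk : ∀ k : ℤ, ((f : MulAut E) ^ k) l = l ∧ ((f : MulAut E) ^ k) w = w * l ^ (a * k) := by
    intro k
    induction k with
    | zero => simp
    | succ k ih =>
      rw [zpow_add_one, MulAut.mul_apply, MulAut.mul_apply, hfl, hfw, map_mul, map_zpow, ih.1, ih.2,
        mul_assoc, ← zpow_add, mul_add, mul_one]
      simp
    | pred k ih =>
      have e1 : (f : MulAut E)⁻¹ l = l := by
        conv_lhs => rw [← hfl]
        rw [MulAut.inv_apply_self]
      have e2 : (f : MulAut E)⁻¹ w = w * l ^ (-a) := by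
        apply (f : MulAut E).injective
        rw [MulAut.apply_inv_self, map_mul, map_zpow, hfl, hfw, mul_assoc, ← zpow_add]
        simp
      rw [zpow_sub_one, MulAut.mul_apply, MulAut.mul_apply, e1, e2, map_mul, map_zpow, ih.1, ih.2,
        mul_assoc, ← zpow_add]
      refine ⟨rfl, ?_⟩
      congr 2
      ring
  have hline : ∀ α ∈ autInducedBy S E, ∃ k : ℤ, α = (f : MulAut E) ^ k := by
    intro α hα
    have hal : α l = l := pgroup_fixes hexp hcard hp2 hAS hfA hα hf1 hl hfl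
    by_cases hα1 : α = 1
    · exact ⟨0, by rw [hα1, zpow_zero]⟩
    obtain ⟨kα, hkα⟩ := hAS ⟨α, hα⟩
    obtain ⟨c, -, hc⟩ := transvection hexp hcard ⟨kα, congrArg Subtype.val hkα⟩ hα1 hl hal hw
    obtain ⟨u₁, u₂, hu⟩ := hP.coprime_iff_not_dvd.2 ha
    refine ⟨u₂ * c, aut_ext hexp hcard hl hw (hal.trans (hfk _).1.symm) ?_⟩
    rw [hc, (hfk _).2]
    congr 1
    exact zpow_congr hexp l ⟨c * u₁, by linear_combination -c * hu⟩
  have hNdec : ∀ x ∈ normalizerIn S E, ∃ (e : E) (k : ℤ), x = (e : Ω) * n ^ k := by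
    intro x hx
    obtain ⟨k, hk⟩ := hline (E.normalizerMonoidHom ⟨x, hx.2⟩)
      (mem_autInducedBy_iff.2 ⟨x, hx.1, fun _ => rfl⟩)
    have hc : x * (n ^ k)⁻¹ ∈ centralizerIn S E := by
      refine ⟨S.mul_mem hx.1 (S.inv_mem (S.zpow_mem hn.1 k)), fun y hy => ?_⟩
      have hnk : E.normalizerMonoidHom (⟨n, hn.2⟩ ^ k) = (f : MulAut E) ^ k := map_zpow _ _ _
      have h2 := congrArg (fun α : MulAut E =>
        ((α ((E.normalizerMonoidHom (⟨n, hn.2⟩ ^ k))⁻¹ ⟨y, hy⟩) : E) : Ω)) (hk.trans hnk.symm)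
      simp only [MulAut.apply_inv_self] at h2
      rw [← map_inv] at h2
      change x * (((⟨n, hn.2⟩ ^ k)⁻¹ : normalizer (E : Set Ω)) * y *
        ((⟨n, hn.2⟩ ^ k)⁻¹ : normalizer (E : Set Ω))⁻¹) * x⁻¹ = y at h2
      simp only [Subgroup.coe_inv, Subgroup.coe_zpow, inv_inv] at h2
      calc y * (x * (n ^ k)⁻¹) = x * ((n ^ k)⁻¹ * y * n ^ k) * x⁻¹ * (x * (n ^ k)⁻¹) := by rw [h2]
        _ = x * (n ^ k)⁻¹ * y := by group
    rw [hself] at hc
    exact ⟨⟨_, hc⟩, k, (inv_mul_cancel_right x (n ^ k)).symm⟩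
  -- the extension of `τ`
  have hτi := isMap_of_autGroup hES hτA
  have hbase : τ * (f : MulAut E) * τ⁻¹ = (f : MulAut E) ^ (t * t) := by
    refine aut_ext hexp hcard hl hw ?_ ?_
    · rw [(hfk _).1, MulAut.mul_apply, MulAut.mul_apply]
      have : τ⁻¹ l = l ^ s := by
        apply τ.injective
        rw [MulAut.apply_inv_self, map_zpow, hτl, ← zpow_mul, zpow_congr hexp l (j := 1) hts, zpow_one]
      rw [this, map_zpow, hfl, map_zpow, hτl, ← zpow_mul, zpow_congr hexp l (j := 1) hts, zpow_one]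
    · rw [(hfk _).2, MulAut.mul_apply, MulAut.mul_apply]
      have hst : (p : ℤ) ∣ s * t - 1 := by rwa [mul_comm]
      have : τ⁻¹ w = w ^ t := by
        apply τ.injective
        rw [MulAut.apply_inv_self, map_zpow, hτw, ← zpow_mul, zpow_congr hexp w (j := 1) hst, zpow_one]
      rw [this, map_zpow, hfw, map_zpow, map_mul, map_zpow, hτw, hτl, mul_zpow, ← zpow_mul, ← zpow_mul,
        ← zpow_mul, zpow_congr hexp w (j := 1) hst, zpow_one,
        show t * (a * t) = a * (t * t) by ring]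
  obtain ⟨ψ, hψ, hψx⟩ := receptive_extend (receptive_of_fullyNormalized hS hF hE.2.1) hτi
    (img_toFun_aut τ) (le_normalizerIn hES) fun x hx => by
      have hxA : E.normalizerMonoidHom ⟨x, hx.2⟩ ∈ autInducedBy S E :=
        mem_autInducedBy_iff.2 ⟨x, hx.1, fun _ => rfl⟩
      obtain ⟨k, hk⟩ := hline _ hxA
      obtain ⟨c, hc, hc'⟩ := mem_autInducedBy_iff.1 (zpow_mem hfA (t * t * k))
      refine ⟨hx.1, hx.2, c, hc, fun y hy => ?_⟩
      rw [toFun_aut_apply τ ((hx.2 y).1 hy), toFun_aut_apply τ hy, ← hc']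
      have he : τ * E.normalizerMonoidHom ⟨x, hx.2⟩ * τ⁻¹ = (f : MulAut E) ^ (t * t * k) := by
        rw [hk, zpow_mul, ← hbase, conj_zpow]
      rw [← he, MulAut.mul_apply, MulAut.mul_apply, MulAut.inv_apply_self]
      rfl
  have hEN : E ≤ normalizerIn S E := le_normalizerIn hES
  have hψτ : ∀ x : E, ψ (x : Ω) = ((τ x : E) : Ω) := fun x => by
    rw [hψx x x.2, toFun_aut_apply τ x.2]
  have hψE : img E ψ = E := by rw [img_congr hψx, img_toFun_aut]
  have hψN : ∀ x ∈ normalizerIn S E, ψ x ∈ normalizerIn S E := fun x hx => by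
    have := hψ.apply_mem_normalizerIn hEN hx hx.2
    rwa [hψE] at this
  obtain ⟨en, hψn⟩ : ∃ e : E, ψ n = (e : Ω) * n ^ (t * t) := by
    obtain ⟨e, k, hk⟩ := hNdec (ψ n) (hψN n hn)
    have hfx : ∀ x : E, (((f : MulAut E) ^ k) x : Ω) = ψ n * (x : Ω) * (ψ n)⁻¹ := by
      intro x
      have hnk : E.normalizerMonoidHom (⟨n, hn.2⟩ ^ k) = (f : MulAut E) ^ k := map_zpow _ _ _
      rw [← hnk, hk]
      change ((⟨n, hn.2⟩ ^ k : normalizer (E : Set Ω)) : Ω) * x *
        ((⟨n, hn.2⟩ ^ k : normalizer (E : Set Ω)) : Ω)⁻¹ = _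
      rw [Subgroup.coe_zpow]
      have hc : (e : Ω) * (n ^ k * x * (n ^ k)⁻¹) = n ^ k * x * (n ^ k)⁻¹ * e := by
        have hmem : n ^ k * (x : Ω) * (n ^ k)⁻¹ ∈ E := (((Subgroup.normalizer (E : Set Ω)).zpow_mem hn.2 k) x).1 x.2
        exact congrArg Subtype.val (hel.1.is_comm.comm e ⟨_, hmem⟩)
      calc n ^ k * (x : Ω) * (n ^ k)⁻¹ = (e : Ω) * (n ^ k * x * (n ^ k)⁻¹) * (e : Ω)⁻¹ := by
            rw [hc, mul_inv_cancel_right]
        _ = _ := by group
    have hcmp : (f : MulAut E) ^ k = (f : MulAut E) ^ (t * t) := by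
      rw [← hbase]
      refine MulEquiv.ext fun x => Subtype.ext ?_
      rw [hfx, MulAut.mul_apply, MulAut.mul_apply, ← hψτ, hf, hψ.map_conj hn (hEN (τ⁻¹ x).2), hψτ,
        MulAut.apply_inv_self]
    have hkk : (p : ℤ) ∣ a * k - a * (t * t) := by
      refine zpow_eq_imp hexp hl ?_
      have h1 := (hfk k).2.symm.trans ((congrArg (fun α : MulAut E => α w) hcmp).trans (hfk _).2)
      exact mul_left_cancel h1
    have hkk' : (p : ℤ) ∣ k - t * t := (hP.dvd_mul.1 (by rwa [← mul_sub] at hkk)).resolve_left ha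
    obtain ⟨d, hd⟩ := hkk'
    have hnp : n ^ ((p : ℤ) * d) ∈ E := by
      have h1 : n ^ (p : ℕ) ∈ centralizerIn S E := by
        refine ⟨S.pow_mem hn.1 p, fun y hy => ?_⟩
        have h2 : (f : MulAut E) ^ ((p : ℕ) : ℤ) = 1 := aut_ext hexp hcard hl hw ((hfk _).1.trans rfl)
          ((hfk _).2.trans (by rw [zpow_congr hexp l (j := 0) (⟨a, by ring⟩), zpow_zero, mul_one]; rfl))
        rw [zpow_natCast] at h2
        have hnk : E.normalizerMonoidHom (⟨n, hn.2⟩ ^ p) = (f : MulAut E) ^ p := map_pow _ _ _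
        have h3 := congrArg (fun α : MulAut E => ((α ⟨y, hy⟩ : E) : Ω)) (hnk.trans h2)
        change ((⟨n, hn.2⟩ ^ p : normalizer (E : Set Ω)) : Ω) * y *
          ((⟨n, hn.2⟩ ^ p : normalizer (E : Set Ω)) : Ω)⁻¹ = y at h3
        rw [Subgroup.coe_pow] at h3
        exact (eq_mul_inv_iff_mul_eq.1 h3.symm)
      rw [hself] at h1
      rw [zpow_mul, zpow_natCast]
      exact E.zpow_mem h1 d
    refine ⟨e * ⟨_, hnp⟩, ?_⟩
    rw [hk, Subgroup.coe_mul, mul_assoc, ← zpow_add, ← hd, sub_add_cancel]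
  -- `p`-th powers in `N_S(E)`
  have hpow : ∀ (e : E) (k : ℤ), ((e : Ω) * n ^ k) ^ p = (n ^ (p : ℕ)) ^ k := by
    intro e k
    obtain ⟨i, j, he⟩ := exists_coords hexp hcard hl hw e
    let z : E := l ^ (a * k * j)
    have hz : n ^ k * (e : Ω) * (n ^ k)⁻¹ = ((e * z : E) : Ω) := by
      have hnk : E.normalizerMonoidHom (⟨n, hn.2⟩ ^ k) = (f : MulAut E) ^ k := map_zpow _ _ _
      have h1 : ((f : MulAut E) ^ k) e = e * z := by
        rw [he, map_mul, map_zpow, map_zpow, (hfk k).1, (hfk k).2, mul_zpow, ← zpow_mul,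
          ← mul_assoc (l ^ i)]
      rw [← h1, ← hnk]
      change _ = ((⟨n, hn.2⟩ ^ k : normalizer (E : Set Ω)) : Ω) * e *
        ((⟨n, hn.2⟩ ^ k : normalizer (E : Set Ω)) : Ω)⁻¹
      rw [Subgroup.coe_zpow]
    have hzf : Commute (n ^ k) (z : Ω) := by
      have h1 : n * (l : Ω) * n⁻¹ = l := by rw [← hf, hfl]
      have h2 : Commute n (l : Ω) := mul_inv_eq_iff_eq_mul.1 h1
      rw [show (z : Ω) = (l : Ω) ^ (a * k * j) from Subgroup.coe_zpow _ _ _]
      exact h2.zpow_zpow _ _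
    have hze : Commute (e : Ω) (z : Ω) := congrArg Subtype.val (hel.1.is_comm.comm e z)
    have hxe : n ^ k * (e : Ω) = (e : Ω) * (z : Ω) * n ^ k := by
      rw [← Subgroup.coe_mul, ← hz, inv_mul_cancel_right]
    have hmove : ∀ m : ℕ, (n ^ k) ^ m * (e : Ω) = (e : Ω) * (z : Ω) ^ m * (n ^ k) ^ m := by
      intro m
      induction m with
      | zero => simp
      | succ m ih =>
        rw [pow_succ' (n ^ k), mul_assoc, ih, ← mul_assoc, ← mul_assoc, hxe, mul_assoc _ (n ^ k) _,
          (hzf.pow_right m).eq, ← mul_assoc, mul_assoc _ (n ^ k), ← pow_succ', mul_assoc ((e : Ω)),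
          ← pow_succ']
    have hgen : ∀ m : ℕ, ((e : Ω) * n ^ k) ^ m =
        (e : Ω) ^ m * (z : Ω) ^ (m.choose 2) * (n ^ k) ^ m := by
      intro m
      induction m with
      | zero => simp
      | succ m ih =>
        rw [pow_succ, ih, mul_assoc ((e : Ω) ^ m * (z : Ω) ^ m.choose 2), ← mul_assoc ((n ^ k) ^ m),
          hmove, mul_assoc ((e : Ω) * (z : Ω) ^ m), ← pow_succ, ← mul_assoc,
          mul_assoc ((e : Ω) ^ m), ← mul_assoc ((z : Ω) ^ m.choose 2),
          ((hze.pow_right (m.choose 2))).symm.eq, mul_assoc (e : Ω), ← pow_add, ← mul_assoc, ← pow_succ,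
          show (m + 1).choose 2 = m.choose 2 + m by rw [Nat.choose_succ_succ m 1, Nat.choose_one_right, add_comm]]
    obtain ⟨c, hc⟩ := Nat.Prime.dvd_choose_self hp.out two_ne_zero (by omega : 2 < p)
    rw [hgen, hc, pow_mul, show (e : Ω) ^ p = 1 from hel.2 _ e.2, show (z : Ω) ^ p = 1 from hel.2 _ z.2,
      one_pow, one_mul, one_mul, ← zpow_natCast, ← zpow_natCast, ← zpow_mul, ← zpow_mul, mul_comm]
  have hnp1 : n ^ (p : ℕ) = 1 := by
    have hmem : n ^ (p : ℕ) ∈ E := by
      rw [← hself]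
      refine ⟨S.pow_mem hn.1 p, fun y hy => ?_⟩
      have h2 : (f : MulAut E) ^ ((p : ℕ) : ℤ) = 1 := aut_ext hexp hcard hl hw ((hfk _).1.trans rfl)
        ((hfk _).2.trans (by rw [zpow_congr hexp l (j := 0) (⟨a, by ring⟩), zpow_zero, mul_one]; rfl))
      rw [zpow_natCast] at h2
      have hnk : E.normalizerMonoidHom (⟨n, hn.2⟩ ^ p) = (f : MulAut E) ^ p := map_pow _ _ _
      have h3 := congrArg (fun α : MulAut E => ((α ⟨y, hy⟩ : E) : Ω)) (hnk.trans h2)
      change ((⟨n, hn.2⟩ ^ p : normalizer (E : Set Ω)) : Ω) * y *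
        ((⟨n, hn.2⟩ ^ p : normalizer (E : Set Ω)) : Ω)⁻¹ = y at h3
      rw [Subgroup.coe_pow] at h3
      exact (eq_mul_inv_iff_mul_eq.1 h3.symm)
    have hfx : (f : MulAut E) ⟨_, hmem⟩ = ⟨_, hmem⟩ := Subtype.ext (by rw [hf]; group)
    obtain ⟨j, hj⟩ := mem_zpowers_iff.1 ((of_fixed hexp hcard hfp' hf1 hl hfl).1 _ hfx)
    have hj' : (l : Ω) ^ j = n ^ (p : ℕ) := by rw [← Subgroup.coe_zpow, hj]
    have h1 : ψ (n ^ (p : ℕ)) = (n ^ (p : ℕ)) ^ (t * t) := by rw [hψ.map_pow hn, hψn, hpow]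
    have h2 : ψ (n ^ (p : ℕ)) = (((l ^ (t * j) : E)) : Ω) := by
      rw [← hj', ← Subgroup.coe_zpow, hψτ, map_zpow, hτl, ← zpow_mul]
    have h3 : l ^ (j * (t * t)) = l ^ (t * j) := Subtype.ext (by
      rw [← h2, h1, ← hj', ← zpow_mul, Subgroup.coe_zpow])
    have h4 := zpow_eq_imp hexp hl h3
    rw [show j * (t * t) - t * j = t * j * (t - 1) by ring] at h4
    have hj0 : (p : ℤ) ∣ j := by
      rcases hP.dvd_mul.1 h4 with h5 | h5
      · exact (hP.dvd_mul.1 h5).resolve_left ht0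
      · exact absurd (show (p : ℤ) ∣ t * t - 1 by
          rw [show t * t - 1 = (t - 1) * (t + 1) by ring]; exact dvd_mul_of_dvd_left h5 _) ht2
    rw [← hj', ← Subgroup.coe_zpow, zpow_congr hexp l (j := 0) (by simpa using hj0), zpow_zero]
    rfl
  -- `N_S(E)` has order `p³` and exponent `p`
  let N := normalizerIn S E
  haveI : Finite N := finite_normalizerIn
  have hNexp : ∀ x : N, x ^ p = 1 := by
    intro x
    obtain ⟨e, k, hk⟩ := hNdec x x.2
    apply Subtype.ext
    rw [Subgroup.coe_pow, hk, hpow, hnp1, one_zpow]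
    rfl
  have hfo : orderOf (f : MulAut E) = p := by
    refine orderOf_eq_prime (aut_ext hexp hcard hl hw (aut_fix_pow hfl p) ?_) hf1
    rw [← zpow_natCast, (hfk _).2, zpow_congr hexp l (j := 0) (⟨a, by ring⟩), zpow_zero, mul_one]
    rfl
  have hNcard : Nat.card N = p ^ 3 := by
    have h1 : autInducedBy S E = zpowers (f : MulAut E) := le_antisymm
      (fun α hα => by obtain ⟨k, rfl⟩ := hline α hα; exact zpow_mem (mem_zpowers _) k)
      (zpowers_le.2 hfA)
    rw [card_normalizerIn_eq, hself, hcard, h1, Nat.card_zpowers, hfo]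
    ring
  have hNS : N < S := by
    refine lt_of_le_of_ne inf_le_left fun he => hnotE ⟨by rw [← he]; exact hNcard, ?_⟩
    refine ((Nat.dvd_prime hp.out).1 (Monoid.exponent_dvd_of_forall_pow_eq_one fun x : S =>
      Subtype.ext ?_)).resolve_left fun h1 => hnE ?_
    · have hx : (x : Ω) ∈ N := he.symm ▸ x.2
      have := congrArg Subtype.val (hNexp ⟨x, hx⟩)
      simpa using this
    · haveI := Monoid.exp_eq_one_iff.1 h1
      have : (⟨n, hn.1⟩ : S) = 1 := Subsingleton.elim _ _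
      rw [show n = 1 from congrArg Subtype.val this]
      exact E.one_mem
  let n' : N := ⟨n, hn⟩
  let w' : N := ⟨w, hEN w.2⟩
  let l' : N := ⟨l, hEN l.2⟩
  have hnw : ⁅n', w'⁆ = l' ^ a := Subtype.ext (by
    have h1 : n * (w : Ω) * n⁻¹ = ((w * l ^ a : E) : Ω) := by rw [← hf, hfw]
    rw [commutatorElement_def]
    simp only [Subgroup.coe_mul, Subgroup.coe_inv, Subgroup.coe_zpow, n', w', l']
    rw [h1, Subgroup.coe_mul, Subgroup.coe_zpow]
    have hc : Commute (w : Ω) ((l : Ω) ^ a) :=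
      (show Commute (w : Ω) (l : Ω) from congrArg Subtype.val (hel.1.is_comm.comm w l)).zpow_right a
    rw [hc.eq, mul_inv_cancel_right])
  have hne : ⁅n', w'⁆ ≠ 1 := by
    rw [hnw]
    intro h
    refine ha (zpow_eq_one_imp hexp hl (Subtype.ext ?_))
    simpa [l'] using congrArg Subtype.val h
  have hH : IsHeis p N n' w' := ⟨hNcard, hNexp, hne⟩
  have hl'Z : l' ∈ center N := by
    obtain ⟨c₁, c₂, hc⟩ := hP.coprime_iff_not_dvd.2 ha
    have h1 : l' = ⁅n', w'⁆ ^ c₂ := by
      rw [hnw, ← zpow_mul, show a * c₂ = 1 + (p : ℤ) * (-c₁) by linear_combination hc,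
        zpow_add, zpow_one, zpow_mul, zpow_natCast, hNexp, one_zpow, mul_one]
    rw [h1]
    exact zpow_mem hH.c_mem _
  have hV := hH.ab_exp
  have hC := hH.center_data.2.2
  have hψimg : img N ψ = N := eq_of_le_of_card_le (fun y hy => by
    obtain ⟨x, hx, rfl⟩ := hψ.mem_img.1 hy
    exact hψN x hx) hψ.card_img.ge
  let τN : MulAut N := hψ.toAut hψimg
  have hτN : ∀ x : N, ((τN x : N) : Ω) = ψ x := hψ.toAut_apply hψimg
  have hofl : Abelianization.of l' = 1 := hH.of_eq_one.2 hl'Z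
  have hofE : ∀ e : E, ∃ j : ℤ, Abelianization.of (⟨e, hEN e.2⟩ : N) = Abelianization.of w' ^ j := by
    intro e
    obtain ⟨i, j, he⟩ := exists_coords hexp hcard hl hw e
    refine ⟨j, ?_⟩
    have h1 : (⟨e, hEN e.2⟩ : N) = l' ^ i * w' ^ j := Subtype.ext (by simp [he, l', w'])
    rw [h1, map_mul, map_zpow, map_zpow, hofl, one_zpow, one_mul]
  have hτw' : abAut N τN (Abelianization.of w') = Abelianization.of w' ^ s := by
    rw [abAut_of, ← map_zpow]
    congr 1
    apply Subtype.ext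
    rw [hτN, Subgroup.coe_zpow]
    show ψ (w : Ω) = (w : Ω) ^ s
    rw [hψτ, hτw, Subgroup.coe_zpow]
  obtain ⟨j₀, hj₀⟩ := hofE en
  have hτn : abAut N τN (Abelianization.of n') =
      Abelianization.of w' ^ j₀ * Abelianization.of n' ^ (t * t) := by
    rw [abAut_of, ← hj₀, ← map_zpow, ← map_mul]
    congr 1
    apply Subtype.ext
    rw [hτN, Subgroup.coe_mul, Subgroup.coe_zpow]
    exact hψn
  have hks : ¬ (p : ℤ) ∣ t * t - s := fun hd => ht3 (by
    have := dvd_add (dvd_mul_of_dvd_left hd t) hts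
    rwa [show (t * t - s) * t + (t * s - 1) = t * t * t - 1 by ring] at this)
  have hs2 : ¬ (p : ℤ) ∣ s * s - 1 := fun hd => ht2 (by
    have := dvd_sub (dvd_mul_of_dvd_left hts (t * s + 1)) (dvd_mul_of_dvd_right hd (t * t))
    rwa [show (t * s - 1) * (t * s + 1) - t * t * (s * s - 1) = t * t - 1 by ring] at this)
  obtain ⟨c₁, c₂, hc⟩ := hP.coprime_iff_not_dvd.2 hks
  obtain ⟨i, hi⟩ : ∃ i, i = j₀ * c₂ := ⟨_, rfl⟩
  let n'' : N := n' * w' ^ i
  have hH' : IsHeis p N n'' w' := ⟨hNcard, hNexp, fun h => hne (by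
    rw [commutatorElement_eq_one_iff_mul_comm] at h ⊢
    have h1 : Commute n' w' := by
      have h2 : Commute (n'' * (w' ^ i)⁻¹) w' :=
        (show Commute n'' w' from h).mul_left ((Commute.self_zpow w' i).symm).inv_left
      rwa [show n'' * (w' ^ i)⁻¹ = n' from mul_inv_cancel_right _ _] at h2
    exact h1.eq)⟩
  have hτn'' : abAut N τN (Abelianization.of n'') = Abelianization.of n'' ^ (t * t) := by
    rw [map_mul, map_zpow, map_mul, map_zpow, hτn, hτw', mul_zpow, ← zpow_mul, ← zpow_mul,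
      mul_right_comm, ← zpow_add, mul_comm]
    congr 1
    refine zpow_congr hV _ ⟨j₀ * c₁, ?_⟩
    rw [hi]
    linear_combination (-j₀) * hc
  -- a transvection on `N`
  obtain ⟨m, hm, hmN⟩ := SetLike.exists_of_lt (lt_normalizerIn hS hNS)
  have hNle : N ≤ S := inf_le_left
  let u : MulAut N := N.normalizerMonoidHom ⟨m, hm.2⟩
  have hu : ∀ x : N, ((u x : N) : Ω) = m * (x : Ω) * m⁻¹ := fun _ => rfl
  have huA : u ∈ autInducedBy S N := mem_autInducedBy_iff.2 ⟨m, hm.1, hu⟩
  have huF : u ∈ F.autGroup N := autInducedBy_le_autGroup hNle huA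
  have hu1 : abAut N u ≠ 1 := by
    intro h1
    obtain ⟨g, hg⟩ := hH.inner h1
    refine hmN ?_
    have hc' : (g : Ω)⁻¹ * m ∈ centralizerIn S E := by
      refine ⟨S.mul_mem (S.inv_mem (hNle g.2)) hm.1, fun x hx => ?_⟩
      have h2 : (g : Ω) * x * (g : Ω)⁻¹ = m * x * m⁻¹ :=
        congrArg (fun α : MulAut N => ((α ⟨x, hEN hx⟩ : N) : Ω)) hg
      calc x * ((g : Ω)⁻¹ * m) = (g : Ω)⁻¹ * ((g : Ω) * x * (g : Ω)⁻¹) * m := by group
        _ = _ := by rw [h2]; group
    rw [hself] at hc'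
    simpa using mul_mem g.2 (hEN hc')
  obtain ⟨ku, hku⟩ := isPGroup_autInducedBy hS N ⟨u, huA⟩
  have hup : ∃ k : ℕ, u ^ p ^ k = 1 := ⟨ku, congrArg Subtype.val hku⟩
  have hup' : ∃ k : ℕ, abAut N u ^ p ^ k = 1 :=
    ⟨ku, by rw [← map_pow]; exact (congrArg (fun α => abAut N (Subtype.val α)) hku).trans (map_one _)⟩
  obtain ⟨L, hL, huL, hufix, -⟩ := exists_line hV hC hup' hu1
  have hτF : τN ∈ F.autGroup N := hψ.toAut_mem hψimg
  have hW1 := hH'.of_left_ne
  have hW2 := hH'.of_right_not_mem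
  by_cases hfixn : abAut N u (Abelianization.of n'') = Abelianization.of n''
  · exact no_heisenberg hS hF hp2 hrank hNle hH' huF hup hτF hfixn
      (fun h => hW2 ((of_fixed hV hC hup' hu1 hW1 hfixn).1 _ h))
      hτn'' hτw' hks hs2
  have hfixw : abAut N u (Abelianization.of w') ≠ Abelianization.of w' := by
    intro hw'
    refine hmN ⟨hm.1, ?_⟩
    haveI : Finite (E : Set Ω) := inferInstanceAs (Finite E)
    refine Subgroup.mem_normalizer_fintype fun x hx => ?_
    obtain ⟨j, hj⟩ := hofE ⟨x, hx⟩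
    have h1 : Abelianization.of (u ⟨x, hEN hx⟩) = Abelianization.of w' ^ j := by
      rw [← abAut_of, hj, map_zpow, hw']
    have h2 : u ⟨x, hEN hx⟩ * (w' ^ j)⁻¹ ∈ center N :=
      hH.of_eq_one.1 (by rw [map_mul, map_inv, map_zpow, h1, mul_inv_cancel])
    rw [hH.center_data.2.1, hnw] at h2
    obtain ⟨d, hd⟩ := mem_zpowers_iff.1 h2
    have h3 : m * x * m⁻¹ = (((l ^ a) ^ d * w ^ j : E) : Ω) := by
      have h4 := congrArg Subtype.val ((eq_mul_inv_iff_mul_eq.1 hd).symm)
      simp only [hu, Subgroup.coe_mul, Subgroup.coe_zpow, l', w'] at h4 ⊢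
      exact h4
    rw [h3]
    exact SetLike.coe_mem _
  obtain ⟨i₁, j₁, hLij⟩ := exists_coords hV hC hW1 hW2 L
  have hmove : abAut N τN L ∉ zpowers L := by
    intro hmem
    obtain ⟨c, hc⟩ := mem_zpowers_iff.1 hmem
    rw [hLij, map_mul (abAut N τN), map_zpow (abAut N τN), map_zpow (abAut N τN), hτn'', hτw', mul_zpow, ← zpow_mul, ← zpow_mul, ← zpow_mul,
      ← zpow_mul] at hc
    obtain ⟨h1, h2⟩ := coords_eq hV hW1 hW2 (i := i₁ * c - t * t * i₁) (j := j₁ * c - s * j₁) (by
      rw [zpow_sub, zpow_sub, mul_mul_mul_comm, ← mul_inv, hc, mul_inv_cancel])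
    rw [show i₁ * c - t * t * i₁ = i₁ * (c - t * t) by ring] at h1
    rw [show j₁ * c - s * j₁ = j₁ * (c - s) by ring] at h2
    rcases hP.dvd_mul.1 h1 with h3 | h3
    · refine hfixw ?_
      have e : L = Abelianization.of w' ^ j₁ := by
        rw [hLij, zpow_congr hV _ (j := 0) (by simpa using h3), zpow_zero, one_mul]
      have hj : ¬ (p : ℤ) ∣ j₁ := fun hd => hL (by
        rw [e, zpow_congr hV _ (j := 0) (by simpa using hd), zpow_zero])
      exact mem_of_zpow_mem hV hj
        (H := MonoidHom.eqLocus (abAut N u).toMonoidHom (MonoidHom.id _)) (e ▸ huL :)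
    · rcases hP.dvd_mul.1 h2 with h4 | h4
      · refine hfixn ?_
        have e : L = Abelianization.of n'' ^ i₁ := by
          rw [hLij, zpow_congr hV (Abelianization.of w') (j := 0) (by simpa using h4), zpow_zero, mul_one]
        have hi : ¬ (p : ℤ) ∣ i₁ := fun hd => hL (by
          rw [e, zpow_congr hV _ (j := 0) (by simpa using hd), zpow_zero])
        exact mem_of_zpow_mem hV hi
          (H := MonoidHom.eqLocus (abAut N u).toMonoidHom (MonoidHom.id _)) (e ▸ huL :)
      · exact hks (by simpa using dvd_sub h4 h3)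
  obtain ⟨_, ⟨σ, hσ, rfl⟩, hσL, hσM⟩ := torus_of_move hV hC (G := (F.autGroup N).map (abAut N))
    (mem_map_of_mem _ huF) (mem_map_of_mem _ hτF) hup' hu1 hL huL hmove hts
  obtain ⟨x₁, hx₁⟩ := QuotientGroup.mk_surjective L
  obtain ⟨x₂, hx₂⟩ := QuotientGroup.mk_surjective (abAut N τN L)
  have hx₁' : Abelianization.of x₁ = L := hx₁
  have hx₂' : Abelianization.of x₂ = abAut N τN L := hx₂
  have hHx : IsHeis p N x₁ x₂ := by
    refine ⟨hNcard, hNexp, fun hc => hne ?_⟩
    have hgen : ∀ y : N, ∃ i j : ℤ, ∃ z ∈ center N, y = x₁ ^ i * x₂ ^ j * z := by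
      intro y
      obtain ⟨i, j, hij⟩ := exists_coords hV hC hL hmove (Abelianization.of y)
      refine ⟨i, j, (x₁ ^ i * x₂ ^ j)⁻¹ * y, hH.of_eq_one.1 ?_, by group⟩
      rw [map_mul, map_inv, map_mul, map_zpow, map_zpow, hx₁', hx₂', ← hij, inv_mul_cancel]
    rw [commutatorElement_eq_one_iff_mul_comm] at hc ⊢
    have h12 : Commute x₁ x₂ := hc
    obtain ⟨i, j, z, hz, e1⟩ := hgen n'
    obtain ⟨i', j', z', hz', e2⟩ := hgen w'
    have cz : ∀ z ∈ center N, ∀ g : N, Commute z g := fun z hz g => (mem_center_iff.1 hz g).symm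
    rw [e1, e2]
    exact ((((Commute.zpow_zpow_self x₁ i i').mul_right (h12.zpow_zpow i j')).mul_left
      ((h12.symm.zpow_zpow j i').mul_right (Commute.zpow_zpow_self x₂ j j'))).mul_right
      ((cz z' hz' _).symm)).mul_left (cz z hz _)
  refine no_heisenberg hS hF hp2 hrank hNle hHx huF hup hσ (t := t) (s := s) (by rw [hx₁']; exact huL)
    (by rw [hx₂']; exact fun h => hmove (hufix _ h)) (by rw [hx₁']; exact hσL)
    (by rw [hx₂']; exact hσM) (fun hd => ?_) hs2
  refine ht2 ?_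
  have := dvd_add (dvd_mul_of_dvd_right hd t) hts
  rwa [show t * (t - s) + (t * s - 1) = t * t - 1 by ring] at this

/-- **No essential subgroups.** -/
theorem no_essential (hp5 : 5 ≤ p)
    (hrank : ∀ A : Subgroup Ω, A ≤ S → Cfsg.IsElementaryAbelian p A → Nat.card A ≤ p ^ 2)
    (hnotE : ¬ (Nat.card S = p ^ 3 ∧ Monoid.exponent ↥S = p)) : False := by
  have hES := hE.1.1
  haveI := finite_of_le hES
  have hp2 : p ≠ 2 := by omega
  have hP := Nat.prime_iff_prime_int.1 hp.out
  have hEp := isPGroup_P hS hE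
  have hrk : Cfsg.PRankLE p 2 E := by
    intro A hA hAp
    rw [← card_map_of_injective (f := E.subtype) (K := A) E.subtype_injective]
    refine hrank _ ((map_subtype_le A).trans hES) ⟨by haveI := hA; infer_instance, ?_⟩
    rintro _ ⟨x, hx, rfl⟩
    exact congrArg Subtype.val (hAp x hx)
  obtain ⟨D, hDc, hDexp, hD3, hDcl, hD2, hdet⟩ :=
    CfsgLib.OddLocal.exists_detecting hp2 hEp hrk
  let res := resAut D hDc
  let r : F.autGroup E →* MulAut (Abelianization D) :=
    ((abAut D).comp res).comp (F.autGroup E).subtype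
  have hrof : ∀ (a : F.autGroup E) (x : D),
      r a (Abelianization.of x) = Abelianization.of (res (a : MulAut E) x) := fun a x => abAut_of _ x
  have hexpD : ∀ x : D, x ^ p = 1 := fun x => Subtype.ext (by simpa using hDexp x x.2)
  have hV : ∀ x : Abelianization D, x ^ p = 1 := fun x => by
    obtain ⟨y, rfl⟩ := QuotientGroup.mk_surjective x
    show (Abelianization.of y) ^ p = 1
    rw [← map_pow, hexpD, map_one]
  have hcZ : commutator D ≤ center D := by
    rw [commutator_def, commutator_le]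
    exact fun x _ y _ => hDcl x y
  -- coprime elements of the kernel are trivial
  have hcop : ∀ a : F.autGroup E, (orderOf (a : MulAut E)).Coprime p → r a = 1 → a = 1 := by
    intro a hao hra
    refine Subtype.ext (hdet _ hao fun x hx => ?_)
    have hβo : (orderOf (res (a : MulAut E))).Coprime p := hao.coprime_dvd_left (orderOf_map_dvd res _)
    let β := res (a : MulAut E)
    have hβ : ∀ y : D, y⁻¹ * β y ∈ commutator D := fun y => by
      rw [← Abelianization.ker_of, MonoidHom.mem_ker, map_mul, map_inv, ← hrof, hra, MulAut.one_apply,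
        inv_mul_cancel]
    have hfixc : ∀ z ∈ commutator D, β z = z := by
      intro z hz
      rw [commutator_eq_closure] at hz
      refine closure_induction (p := fun y _ => β y = y) ?_ (map_one β) ?_ ?_ hz
      · rintro _ ⟨x₁, x₂, rfl⟩
        obtain ⟨z1, hz1, e1⟩ : ∃ z ∈ center D, β x₁ = x₁ * z :=
          ⟨_, hcZ (hβ x₁), (mul_inv_cancel_left _ _).symm⟩
        obtain ⟨z2, hz2, e2⟩ : ∃ z ∈ center D, β x₂ = x₂ * z :=
          ⟨_, hcZ (hβ x₂), (mul_inv_cancel_left _ _).symm⟩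
        rw [map_commutatorElement, e1, e2, CfsgLib.OddLocal.comm_mul_central_left _
          (fun g => mem_center_iff.1 hz1 g), CfsgLib.OddLocal.comm_mul_central_right _
          (fun g => mem_center_iff.1 hz2 g)]
      · intro u v _ _ hu hv; rw [map_mul, hu, hv]
      · intro u _ hu; rw [map_inv, hu]
    exact congrArg Subtype.val
      (CfsgLib.Transfer.apply_eq_self_of_fixed_quotient (hEp.to_subgroup D) β hβo (x := ⟨x, hx⟩)
        (hfixc _ (hβ _)))
  have hcopow : ∀ a : F.autGroup E, ∃ k : ℕ, (orderOf ((a ^ p ^ k : F.autGroup E) : MulAut E)).Coprime p := by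
    intro a
    obtain ⟨k, m, hm, he⟩ := Nat.exists_eq_pow_mul_and_not_dvd
      (orderOf_pos (a : MulAut E)).ne' p hp.out.ne_one
    refine ⟨k, ?_⟩
    rw [SubmonoidClass.coe_pow, orderOf_pow' _ (pow_ne_zero _ hp.out.ne_zero), he,
      Nat.gcd_eq_right (dvd_mul_right _ _), Nat.mul_div_cancel_left _ (pow_pos hp.out.pos k)]
    exact ((hp.out.coprime_iff_not_dvd).2 hm).symm
  have hker : IsPGroup p r.ker := fun ⟨a, ha⟩ => by
    obtain ⟨k, hk⟩ := hcopow a
    refine ⟨k, Subtype.ext ?_⟩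
    exact hcop _ hk (show r (a ^ p ^ k) = 1 by rw [map_pow, MonoidHom.mem_ker.1 ha, one_pow])
  -- the quotient is a plane
  have hcard : Nat.card (Abelianization D) = p ^ 2 := by
    obtain ⟨e, he, hec⟩ := (Nat.dvd_prime_pow hp.out).1
      (show Nat.card (Abelianization D) ∣ p ^ 3 by
        obtain ⟨n, hn⟩ := IsPGroup.iff_card.1 (hEp.to_subgroup D)
        refine (card_quotient_dvd_card (commutator D)).trans ?_
        rw [hn] at hD3 ⊢
        exact pow_dvd_pow p ((Nat.pow_le_pow_iff_right hp.out.one_lt).1 hD3))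
    have he2 : e ≤ 2 := (Nat.pow_le_pow_iff_right hp.out.one_lt).1 (hec ▸ hD2)
    rw [hec]
    suffices ¬ e ≤ 1 by rw [show e = 2 by omega]
    intro he1
    obtain ⟨hmax, a, ha, k, hk⟩ := exists_pElement hS hF hE
    refine ha (hmax r.ker inferInstance hker a ?_)
    haveI : IsCyclic (Abelianization D) := by
      interval_cases e
      · haveI : Subsingleton (Abelianization D) :=
          (Nat.card_eq_one_iff_unique.1 (by simpa using hec)).1
        infer_instance
      · exact isCyclic_of_prime_card (by simpa using hec)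
    obtain ⟨g, hg⟩ := IsCyclic.exists_generator (α := Abelianization D)
    rw [MonoidHom.mem_ker]
    obtain ⟨j, hj⟩ := mem_zpowers_iff.1 (hg (r a g))
    have hpow : ∀ n : ℕ, (r a ^ n) g = g ^ (j ^ n) := by
      intro n
      induction n with
      | zero => simp
      | succ n ih => rw [aut_pow_succ, ih, map_zpow, ← hj, ← zpow_mul, pow_succ', mul_comm j]
    have h2 := hpow (p ^ k)
    rw [← map_pow, show a ^ p ^ k = 1 from Subtype.ext (by rw [SubmonoidClass.coe_pow]; exact hk),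
      map_one, MulAut.one_apply] at h2
    refine MulEquiv.ext fun x => ?_
    obtain ⟨c, rfl⟩ := mem_zpowers_iff.1 (hg x)
    rw [map_zpow, MulAut.one_apply]
    congr 1
    by_cases hg1 : g = 1
    · rw [hg1, map_one]
    have h3 := zpow_eq_imp hV hg1 ((zpow_one g).trans h2)
    rw [← ZMod.intCast_zmod_eq_zero_iff_dvd] at h3
    push_cast at h3
    rw [ZMod.pow_card_pow] at h3
    rw [← hj, ← zpow_congr hV g (i := 1) (j := j)
      ((ZMod.intCast_zmod_eq_zero_iff_dvd _ _).1 (by push_cast; exact h3)), zpow_one]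
  obtain ⟨hinn, ⟨a, ⟨k, hk⟩, hra⟩, move⟩ := plane_rep hS hF hE hV hcard hp2 r hker
  obtain ⟨l, hl, hal, -⟩ := exists_line hV hcard ⟨k, by rw [← map_pow, hk, map_one]⟩ hra
  obtain ⟨b, hb⟩ := move a ⟨k, hk⟩ hra l hl hal
  obtain ⟨l₀, rfl⟩ : ∃ x, Abelianization.of x = l := QuotientGroup.mk_surjective l
  obtain ⟨w₀, hw₀⟩ : ∃ x, Abelianization.of x = r b (Abelianization.of l₀) :=
    QuotientGroup.mk_surjective _
  rw [← hw₀] at hb
  obtain ⟨c, hc, hrw⟩ := transvection hV hcard ⟨k, by rw [← map_pow, hk, map_one]⟩ hra hl hal hb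
  have htor : ∀ t s : ℤ, (p : ℤ) ∣ t * s - 1 → ∃ h : F.autGroup E,
      r h (Abelianization.of l₀) = Abelianization.of l₀ ^ t ∧
      r h (Abelianization.of w₀) = Abelianization.of w₀ ^ s := by
    intro t s hts
    obtain ⟨_, ⟨h, rfl⟩, h1, h2⟩ := torus_of_move hV hcard (G := r.range) ⟨a, rfl⟩ ⟨b, rfl⟩
      ⟨k, by rw [← map_pow, hk, map_one]⟩ hra hl hal (hw₀ ▸ hb) hts
    exact ⟨h, h1, by rwa [← hw₀] at h2⟩
  by_cases hlw : ⁅l₀, w₀⁆ = 1
  · -- `D` is abelian
    have hcomm : ∀ x y : D, x * y = y * x := by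
      have hgen : ∀ y : D, ∃ i j : ℤ, ∃ z ∈ center D, y = l₀ ^ i * w₀ ^ j * z := by
        intro y
        obtain ⟨i, j, hij⟩ := exists_coords hV hcard hl hb (Abelianization.of y)
        refine ⟨i, j, (l₀ ^ i * w₀ ^ j)⁻¹ * y, hcZ ?_, by group⟩
        rw [← Abelianization.ker_of, MonoidHom.mem_ker, map_mul, map_inv, map_mul, map_zpow, map_zpow,
          ← hij, inv_mul_cancel]
      intro x y
      have h12 : Commute l₀ w₀ := commutatorElement_eq_one_iff_mul_comm.1 hlw
      obtain ⟨i, j, z, hz, rfl⟩ := hgen x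
      obtain ⟨i', j', z', hz', rfl⟩ := hgen y
      have cz : ∀ z ∈ center D, ∀ g : D, Commute z g := fun z hz g => (mem_center_iff.1 hz g).symm
      exact (((((Commute.zpow_zpow_self l₀ i i').mul_right (h12.zpow_zpow i j')).mul_left
        ((h12.symm.zpow_zpow j i').mul_right (Commute.zpow_zpow_self w₀ j j'))).mul_right
        ((cz z' hz' _).symm)).mul_left (cz z hz _)).eq
    have hcb : commutator D = ⊥ := by
      rw [commutator_eq_closure, Subgroup.closure_eq_bot_iff]
      rintro _ ⟨x, y, rfl⟩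
      exact commutatorElement_eq_one_iff_mul_comm.2 (hcomm x y)
    have hinj : Function.Injective (Abelianization.of : D → Abelianization D) := by
      rw [← MonoidHom.ker_eq_bot_iff, Abelianization.ker_of, hcb]
    have hDcard : Nat.card D = p ^ 2 :=
      (Nat.card_eq_of_bijective _ ⟨hinj, QuotientGroup.mk_surjective⟩).trans hcard
    -- `D` is central
    have hDZ : ∀ d : D, ∀ e : E, Commute e (d : E) := by
      intro d e
      have h1 := hinn ⟨MulAut.conj e, inn_le_autGroup hES ⟨e, rfl⟩⟩ ⟨e, rfl⟩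
      have h2 : res (MulAut.conj e) d = d := hinj (by
        rw [← hrof ⟨MulAut.conj e, inn_le_autGroup hES ⟨e, rfl⟩⟩ d, h1, MulAut.one_apply])
      have h3 := congrArg Subtype.val h2
      rw [resAut_apply, MulAut.conj_apply] at h3
      exact mul_inv_eq_iff_eq_mul.1 h3
    have hOm : ∀ x : E, x ^ p = 1 → x ∈ D := by
      intro x hx
      by_contra hxD
      refine rank_three_false hrank (hES (l₀ : E).2) (hES (w₀ : E).2) (hES x.2)
        (congrArg (fun u : D => ((u : E) : Ω)) (hcomm l₀ w₀))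
        (congrArg Subtype.val (hDZ l₀ x).symm.eq) (congrArg Subtype.val (hDZ w₀ x).symm.eq)
        (congrArg (fun u : D => ((u : E) : Ω)) (hexpD l₀))
        (congrArg (fun u : D => ((u : E) : Ω)) (hexpD w₀)) (congrArg Subtype.val hx)
        (fun h1 => hl (by rw [show l₀ = 1 from Subtype.ext (Subtype.ext h1), map_one])) ?_ ?_
      · intro hmem
        obtain ⟨i, hi⟩ := mem_zpowers_iff.1 hmem
        refine hb ⟨i, ?_⟩
        show Abelianization.of l₀ ^ i = Abelianization.of w₀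
        rw [← map_zpow]
        exact congrArg _ (Subtype.ext (Subtype.ext (by simpa using hi)))
      · intro hmem
        refine hxD ?_
        have hle : closure ({((l₀ : E) : Ω), ((w₀ : E) : Ω)} : Set Ω) ≤ D.map E.subtype := by
          rw [closure_le]
          rintro y (rfl | rfl) <;> exact ⟨_, SetLike.coe_mem _, rfl⟩
        obtain ⟨y, hy, hyx⟩ := hle hmem
        rwa [← E.subtype_injective hyx]
    -- an automorphism inverting `D`
    obtain ⟨h, hh1, hh2⟩ := htor (-1) (-1) (by simp)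
    obtain ⟨k', hk'⟩ := hcopow h
    let x := h ^ p ^ k'
    have hrx : ∀ v, r x v = v⁻¹ := by
      have hr2 : r h ^ 2 = 1 := aut_ext hV hcard hl hb
        (by rw [pow_two, MulAut.mul_apply, hh1, map_zpow, hh1]; simp)
        (by rw [pow_two, MulAut.mul_apply, hh2, map_zpow, hh2]; simp)
      obtain ⟨q, hq⟩ := (hp.out.odd_of_ne_two hp2).pow (n := k')
      intro v
      obtain ⟨i, j, rfl⟩ := exists_coords hV hcard hl hb v
      simp only [x, map_pow, hq]
      rw [pow_succ, pow_mul, hr2, one_pow, one_mul, map_mul, map_zpow, map_zpow, hh1, hh2]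
      simp [mul_comm]
    have hx2 : x * x = 1 := by
      refine hcop _ ?_ ?_
      · rw [Subgroup.coe_mul, ← pow_two]
        exact hk'.coprime_dvd_left (orderOf_pow_dvd _)
      · refine MulEquiv.ext fun v => ?_
        rw [map_mul, MulAut.mul_apply, hrx, hrx, inv_inv, MulAut.one_apply]
    let φ : MulAut E := (x : MulAut E)
    have hfpf : MonoidHom.FixedPointFree φ := by
      intro g hg
      by_contra hg1
      obtain ⟨e, he⟩ := (IsPGroup.iff_orderOf.1 hEp) g
      have he0 : e ≠ 0 := by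
        rintro rfl
        exact hg1 (orderOf_eq_one_iff.1 (by simpa using he))
      let g₁ := g ^ p ^ (e - 1)
      have hg₁ : g₁ ^ p = 1 := by
        rw [← pow_mul, ← pow_succ, show e - 1 + 1 = e by omega, ← he, pow_orderOf_eq_one]
      have hg₁1 : g₁ ≠ 1 := fun h1 => by
        have := Nat.le_of_dvd (pow_pos hp.out.pos _) (he ▸ orderOf_dvd_of_pow_eq_one h1)
        exact absurd ((Nat.pow_le_pow_iff_right hp.out.one_lt).1 this) (by omega)
      have hfix : φ g₁ = g₁ := by rw [map_pow, hg]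
      let d : D := ⟨g₁, hOm g₁ hg₁⟩
      have hd : res φ d = d := Subtype.ext hfix
      have h1 : Abelianization.of d = (Abelianization.of d)⁻¹ := by
        rw [← hrx, hrof]
        exact congrArg _ hd.symm
      have h2 : Abelianization.of d = 1 := by
        by_contra hne
        have h3 := zpow_eq_imp hV hne (i := 1) (j := -1) (by rw [zpow_one, zpow_neg, zpow_one]; exact h1)
        have h6 : p ∣ 2 := by exact_mod_cast (show (p : ℤ) ∣ 2 by simpa using h3)
        exact hp2 ((Nat.prime_dvd_prime_iff_eq hp.out Nat.prime_two).1 h6)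
      exact hg₁1 (congrArg Subtype.val (hinj (h2.trans (map_one _).symm)))
    have hinv : Function.Involutive φ := fun g => by
      rw [← MulAut.mul_apply, ← Subgroup.coe_mul, hx2]
      rfl
    have hab : ∀ u v : E, u * v = v * u := fun u v => hfpf.commute_all_of_involutive hinv u v
    have hpk : Nat.card (powKer hab p) ≤ p ^ 2 := by
      rw [← hDcard]
      exact Nat.card_le_card_of_injective
        (fun u : powKer hab p => (⟨u, hOm u (mem_powKer.1 u.2)⟩ : D))
        fun u v h => Subtype.ext (congrArg (fun d : D => (d : E)) h :)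
    rcases abelian_rank_two hS hF hE hab hpk with ⟨hel, hcardE⟩ | ⟨hp3, -⟩
    · exact no_elementary hS hF hE hp5 hrank hnotE hel hcardE
    · omega
  · -- `D` is extraspecial
    have hD : Nat.card D = p ^ 3 := by
      obtain ⟨n, hn⟩ := IsPGroup.iff_card.1 (hEp.to_subgroup D)
      have h1 := card_eq_card_quotient_mul_card_subgroup (commutator D)
      rw [hn, show Nat.card (D ⧸ commutator D) = p ^ 2 from hcard] at h1
      rw [hn] at hD3 ⊢
      have h2 := (Nat.pow_le_pow_iff_right hp.out.one_lt).1 hD3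
      have h3 : 1 < Nat.card (commutator D) := by
        rw [Finite.one_lt_card_iff_nontrivial, Subgroup.nontrivial_iff_ne_bot]
        intro hb'
        refine hlw ?_
        have := commutator_mem_commutator (mem_top l₀) (mem_top w₀)
        rw [← _root_.commutator_def, hb', mem_bot] at this
        exact this
      have h4 : p ^ 2 < p ^ n := by
        rw [h1]; exact lt_mul_of_one_lt_right (pow_pos hp.out.pos 2) h3
      rw [show n = 3 by have := (Nat.pow_lt_pow_iff_right hp.out.one_lt).1 h4; omega]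
    let Q : Subgroup Ω := D.map E.subtype
    have hQE : Q ≤ E := map_subtype_le D
    have hQS := hQE.trans hES
    let g : D ≃* Q := D.equivMapOfInjective E.subtype E.subtype_injective
    have hg : ∀ x : D, ((g x : Q) : Ω) = ((x : E) : Ω) := fun x => rfl
    have hH : IsHeis p Q (g l₀) (g w₀) := by
      refine ⟨(Nat.card_congr g.toEquiv).symm.trans hD, fun y => ?_, fun hc => hlw (g.injective ?_)⟩
      · obtain ⟨x, rfl⟩ := g.surjective y
        rw [← map_pow, hexpD, map_one]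
      · rw [map_commutatorElement, hc, map_one]
    obtain ⟨t, s, hts, ht0, ht2, -⟩ := exists_units hp.out hp5
    obtain ⟨h, hh1, hh2⟩ := htor t s hts
    have hres : ∀ γ : F.autGroup E, ∃ δ ∈ F.autGroup Q, orderOf δ ∣ orderOf (γ : MulAut E) ∧
        ∀ x : D, abAut Q δ (Abelianization.of (g x)) =
          (MulEquiv.abelianizationCongr g) (r γ (Abelianization.of x)) := by
      intro γ
      obtain ⟨δ, hδ, hδx, hδo⟩ := exists_restrictAut (F := F) hES hQE γ.2 (fun x hx => by
        obtain ⟨y, hy, hyx⟩ := hx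
        rw [← E.subtype_injective hyx]
        exact ⟨_, (res (γ : MulAut E) ⟨y, hy⟩).2, rfl⟩)
      refine ⟨δ, hδ, hδo, fun x => ?_⟩
      rw [abAut_of, hrof, abelianizationCongr_of]
      congr 1
      apply Subtype.ext
      exact (hδx _).trans rfl
    obtain ⟨u, hu, huo, hux⟩ := hres a
    obtain ⟨τ, hτ, -, hτx⟩ := hres h
    have hup : ∃ k : ℕ, u ^ p ^ k = 1 := ⟨k, orderOf_dvd_iff_pow_eq_one.1 (huo.trans
      (orderOf_dvd_of_pow_eq_one (by rw [← SubmonoidClass.coe_pow, hk]; rfl)))⟩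
    refine no_heisenberg hS hF hp2 hrank hQS hH hu hup hτ (t := t) (s := s) ?_ ?_ ?_ ?_
      (fun hd => ht2 ?_) (fun hd => ht2 ?_)
    · rw [hux, hal, abelianizationCongr_of]
    · rw [hux, ← abelianizationCongr_of g w₀]
      intro he
      refine hc (zpow_eq_one_imp hV hl ?_)
      have h5 := (MulEquiv.abelianizationCongr g).injective he
      rw [hrw] at h5
      exact mul_eq_left.1 h5
    · rw [hτx, hh1, map_zpow, abelianizationCongr_of]
    · rw [hτx, hh2, map_zpow, abelianizationCongr_of]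
    · have := dvd_add (dvd_mul_of_dvd_right hd t) hts
      rwa [show t * (t - s) + (t * s - 1) = t * t - 1 by ring] at this
    · have := dvd_sub (dvd_mul_of_dvd_left hts (t * s + 1)) (dvd_mul_of_dvd_right hd (t * t))
      rwa [show (t * s - 1) * (t * s + 1) - t * t * (s * s - 1) = t * t - 1 by ring] at this

end CfsgLib.Invol.RankTwoEssential
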