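import Cfsg.Agent.Lib.Transfer.ClassTwo
import Cfsg.Agent.Lib.Invol.HigmanTwo
import Cfsg.Agent.Lib.Invol.FusionBasics
import Cfsg.Agent.Lib.Solvable.Nilpotent
import Cfsg.Prelude.Def_CaseTheorems
import Cfsg.Prelude.Def_OddOrderLocal

/-!
2-groups of sectional rank at most two are metacyclic.
-/

set_option autoImplicit false
set_option linter.style.haveILetI false

namespace CfsgLib.Invol

open Subgroup
open scoped commutatorElement

theorem prankLE_of_mulEquiv {G H : Type*} [Group G] [Group H] (e : G ≃* H) {p k : ℕ}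
    (h : Cfsg.PRankLE p k G) : Cfsg.PRankLE p k H := by
  intro A hA hp
  rw [← Nat.card_congr ((A.equivMapOfInjective e.symm.toMonoidHom e.symm.injective).toEquiv).symm]
  refine h _ inferInstance ?_
  rintro _ ⟨a, ha, rfl⟩
  rw [← map_pow, hp a ha, map_one]

theorem sectional_quotient {G : Type*} [Group G] {p k : ℕ} (N : Subgroup G) [N.Normal]
    (h : Cfsg.SectionalPRankLE p k G) : Cfsg.SectionalPRankLE p k (G ⧸ N) := by
  intro H M hM
  let f : ↥(H.comap (QuotientGroup.mk' N)) →* H ⧸ M :=
    (QuotientGroup.mk' M).comp (((QuotientGroup.mk' N).comp (H.comap (QuotientGroup.mk' N)).subtype).codRestrict H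
      fun x => x.2)
  have hf : Function.Surjective f := by
    intro q
    obtain ⟨⟨y, hy⟩, rfl⟩ := QuotientGroup.mk'_surjective M q
    obtain ⟨x, rfl⟩ := QuotientGroup.mk'_surjective N y
    exact ⟨⟨x, hy⟩, rfl⟩
  exact prankLE_of_mulEquiv (QuotientGroup.quotientKerEquivOfSurjective f hf) (h _ f.ker)

theorem prank_of_sectional {G : Type*} [Group G] {p k : ℕ} (h : Cfsg.SectionalPRankLE p k G)
    (A : Subgroup G) (hA : IsMulCommutative A) (hp : ∀ a ∈ A, a ^ p = 1) : Nat.card A ≤ p ^ k := by
  have h1 := prankLE_of_mulEquiv (QuotientGroup.quotientBot (G := A)) (h A ⊥)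
  have h2 := h1 ⊤ inferInstance fun a _ => Subtype.ext (by simpa using hp a a.2)
  simpa using h2

/-- Two generators. -/
theorem exists_two_generators {S : Type*} [Group S] [Finite S] (h2 : IsPGroup 2 S)
    (hr : Cfsg.SectionalPRankLE 2 2 S) : ∃ a b : S, closure ({a, b} : Set S) = ⊤ := by
  classical
  haveI : Fact (Nat.Prime 2) := ⟨Nat.prime_two⟩
  let π := QuotientGroup.mk' (frattini S)
  have hsq : ∀ q : S ⧸ frattini S, q * q = 1 := fun q => by
    obtain ⟨x, rfl⟩ := QuotientGroup.mk'_surjective _ q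
    rw [← map_mul, QuotientGroup.mk'_apply, QuotientGroup.eq_one_iff, ← pow_two]
    exact CfsgLib.Transfer.pow_mem_frattini h2 x
  have hcomm : ∀ a b : S ⧸ frattini S, a * b = b * a := fun a b => by
    have hinv : ∀ c : S ⧸ frattini S, c⁻¹ = c := fun c => inv_eq_of_mul_eq_one_right (hsq c)
    rw [← hinv (a * b), mul_inv_rev, hinv, hinv]
  have h4 : Nat.card (⊤ : Subgroup (S ⧸ frattini S)) ≤ 4 :=
    prank_of_sectional (sectional_quotient _ hr) ⊤
      ⟨⟨fun a b => Subtype.ext (hcomm a b)⟩⟩ fun a _ => by rw [pow_two]; exact hsq a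
  have hle : ∀ q : S ⧸ frattini S, Subgroup.zpowers q ≤ ⊤ := fun q => le_top
  -- choose two elements generating the quotient
  obtain ⟨p, q, hpq⟩ : ∃ p q : S ⧸ frattini S, closure ({p, q} : Set (S ⧸ frattini S)) = ⊤ := by
    by_cases h1 : ∀ p : S ⧸ frattini S, p = 1
    · exact ⟨1, 1, eq_top_iff.2 fun x _ => by rw [h1 x]; exact one_mem _⟩
    push Not at h1
    obtain ⟨p, hp⟩ := h1
    by_cases h1' : ∀ q, q ∈ zpowers p
    · refine ⟨p, p, eq_top_iff.2 fun x _ => ?_⟩
      exact (zpowers_le.2 (Subgroup.subset_closure (Set.mem_insert _ _))) (h1' x)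
    push Not at h1'
    obtain ⟨q, hq⟩ := h1'
    refine ⟨p, q, ?_⟩
    have hp2 : orderOf p = 2 := orderOf_eq_prime (by rw [pow_two]; exact hsq p) hp
    have hlt : zpowers p < closure ({p, q} : Set (S ⧸ frattini S)) :=
      lt_of_le_of_ne (zpowers_le.2 (Subgroup.subset_closure (Set.mem_insert _ _)))
        fun e => hq (e ▸ Subgroup.subset_closure (Set.mem_insert_of_mem _ rfl))
    have h5 := two_mul_card_le hlt
    rw [Nat.card_zpowers, hp2] at h5
    refine eq_top_of_le_card _ ?_
    rw [card_top] at h4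
    omega
  obtain ⟨a, rfl⟩ := QuotientGroup.mk'_surjective _ p
  obtain ⟨b, rfl⟩ := QuotientGroup.mk'_surjective _ q
  refine ⟨a, b, frattini_nongenerating ?_⟩
  rw [← QuotientGroup.ker_mk' (frattini S), ← comap_map_eq, MonoidHom.map_closure, Set.image_pair, hpq,
    comap_top]

theorem isMetacyclic_of_gen {G : Type*} [Group G] (x y : G) (hn : (zpowers x).Normal)
    (hgen : closure ({x, y} : Set G) = ⊤) : Cfsg.IsMetacyclic G := by
  refine ⟨zpowers x, hn, inferInstance, ?_⟩
  refine isCyclic_iff_exists_zpowers_eq_top.2 ⟨QuotientGroup.mk' _ y, ?_⟩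
  rw [eq_top_iff, ← map_top_of_surjective _ (QuotientGroup.mk'_surjective (zpowers x)), ← hgen,
    MonoidHom.map_closure, closure_le]
  rintro _ ⟨w, rfl | rfl, rfl⟩
  · rw [show QuotientGroup.mk' (zpowers w) w = 1 from (QuotientGroup.eq_one_iff w).2 (mem_zpowers w)]
    exact one_mem _
  · exact mem_zpowers _

/-- The minimal non-abelian case. -/
theorem isMetacyclic_minimal {G : Type*} [Group G] [Finite G] (h2 : IsPGroup 2 G) (a b n : G)
    (hgen : closure ({a, b} : Set G) = ⊤) (hn : ∀ g, Commute n g) (hnn : n * n = 1) (hn1 : n ≠ 1)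
    (hab : ⁅b, a⁆ = n)
    (hrk : ∀ A : Subgroup G, IsMulCommutative A → (∀ v ∈ A, v ^ 2 = 1) → Nat.card A ≤ 4) :
    Cfsg.IsMetacyclic G := by
  classical
  haveI : Fact (Nat.Prime 2) := ⟨Nat.prime_two⟩
  have hZ : ∀ i : ℤ, n ^ i = 1 ∨ n ^ i = n := fun i => by
    rcases Int.even_or_odd' i with ⟨l, rfl | rfl⟩
    · exact Or.inl (by rw [zpow_mul, zpow_two, hnn, one_zpow])
    · exact Or.inr (by rw [zpow_add, zpow_mul, zpow_two, hnn, one_zpow, one_mul, zpow_one])
  haveI hnN : (zpowers n).Normal := ⟨by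
    rintro _ ⟨i, rfl⟩ g
    exact ⟨i, by rw [← ((hn g).zpow_left i).eq, mul_inv_cancel_right]⟩⟩
  -- all commutators lie in `⟨n⟩`
  have hcomm : ∀ u v : G, ⁅u, v⁆ = 1 ∨ ⁅u, v⁆ = n := by
    have hle : commutator G ≤ zpowers n := by
      rw [Subgroup.Normal.quotient_commutative_iff_commutator_le.symm]
      refine ⟨⟨fun p q => ?_⟩⟩
      have hg : closure ({(a : G ⧸ zpowers n), (b : G ⧸ zpowers n)} : Set (G ⧸ zpowers n)) = ⊤ := by
        rw [← map_top_of_surjective _ (QuotientGroup.mk'_surjective (zpowers n)), ← hgen,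
          MonoidHom.map_closure, Set.image_pair]
        rfl
      have hab' : (b : G ⧸ zpowers n) * a = a * b := by
        rw [← commutatorElement_eq_one_iff_mul_comm, ← QuotientGroup.mk'_apply, ← QuotientGroup.mk'_apply,
          ← map_commutatorElement, hab]
        exact (QuotientGroup.eq_one_iff n).2 (mem_zpowers n)
      have hc : IsMulCommutative (closure ({(a : G ⧸ zpowers n), (b : G ⧸ zpowers n)} : Set (G ⧸ zpowers n))) :=
        isMulCommutative_closure (by
          rintro u (rfl | rfl) v (rfl | rfl)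
          exacts [rfl, hab'.symm, hab', rfl])
      exact congrArg Subtype.val (hc.is_comm.comm ⟨p, hg ▸ mem_top p⟩ ⟨q, hg ▸ mem_top q⟩)
    intro u v
    obtain ⟨i, hi⟩ := hle (commutator_mem_commutator (mem_top u) (mem_top v))
    exact hi ▸ hZ i
  have hcc : ∀ u v g : G, Commute ⁅u, v⁆ g := fun u v g => by
    rcases hcomm u v with e | e <;> rw [e]
    exacts [Commute.one_left g, hn g]
  have hsq : ∀ u v : G, Commute (u * u) v := fun u v => by
    rw [← commutatorElement_eq_one_iff_commute, commutator_mul_left_of_central (hcc u v)]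
    rcases hcomm u v with e | e <;> rw [e]
    exacts [one_mul 1, hnn]
  by_contra hno
  have hnon : ∀ x y : G, closure ({x, y} : Set G) = ⊤ → n ∉ zpowers x := by
    intro x y hxy hx
    refine hno (isMetacyclic_of_gen x y ⟨fun w hw g => ?_⟩ hxy)
    have e : g * w * g⁻¹ = ⁅g, w⁆ * w := by rw [commutatorElement_def]; group
    rw [e]
    refine mul_mem ?_ hw
    rcases hcomm g w with e' | e' <;> rw [e']
    exacts [one_mem _, hx]
  obtain ⟨x, ⟨y, hxy⟩, hmin⟩ := Set.exists_min_image {x : G | ∃ y, closure ({x, y} : Set G) = ⊤}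
    orderOf (Set.toFinite _) ⟨a, b, hgen⟩
  have hne : ∀ u v : G, closure ({u, v} : Set G) = ⊤ → ⁅v, u⁆ = n := by
    intro u v huv
    refine (hcomm v u).resolve_left fun e => hn1 ?_
    have hc : IsMulCommutative (closure ({u, v} : Set G)) := isMulCommutative_closure (by
      have h := commutatorElement_eq_one_iff_mul_comm.1 e
      rintro p (rfl | rfl) q (rfl | rfl)
      exacts [rfl, h.symm, h, rfl])
    rw [← hab, commutatorElement_eq_one_iff_mul_comm]
    exact congrArg Subtype.val (hc.is_comm.comm ⟨b, huv ▸ mem_top b⟩ ⟨a, huv ▸ mem_top a⟩)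
  have hyx : closure ({y, x} : Set G) = ⊤ := by rwa [Set.pair_comm]
  obtain ⟨l, hl⟩ := IsPGroup.iff_orderOf.1 h2 x
  obtain ⟨k, hk⟩ := IsPGroup.iff_orderOf.1 h2 y
  have hlk : l ≤ k := (Nat.pow_le_pow_iff_right (by norm_num : 1 < 2)).1 (hl ▸ hk ▸ hmin y ⟨x, hyx⟩)
  have hx1 : x ≠ 1 := fun e => hn1 (by rw [← hne x y hxy, e, commutatorElement_one_right])
  have hl1 : 1 ≤ l := by
    by_contra hc
    rw [show l = 0 by omega, pow_zero] at hl
    exact hx1 (orderOf_eq_one_iff.1 hl)
  obtain ⟨l', rfl⟩ : ∃ l', l = l' + 1 := ⟨l - 1, by omega⟩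
  obtain ⟨k', rfl⟩ : ∃ k', k = k' + 1 := ⟨k - 1, by omega⟩
  have hmul : ∀ (u : G) (j : ℕ), orderOf u = 2 ^ (j + 1) → u ^ 2 ^ j * u ^ 2 ^ j = 1 ∧ u ^ 2 ^ j ≠ 1 := by
    intro u j hu
    refine ⟨by rw [← pow_add, ← two_mul, ← pow_succ', ← hu, pow_orderOf_eq_one], fun e => ?_⟩
    have h := Nat.le_of_dvd (by positivity) (hu ▸ orderOf_dvd_of_pow_eq_one e)
    rw [pow_succ] at h
    have : 0 < 2 ^ j := by positivity
    omega
  obtain ⟨htx, htx1⟩ := hmul x l' hl
  obtain ⟨hty, hty1⟩ := hmul y k' hk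
  set tx := x ^ 2 ^ l' with htxdef
  set ty := y ^ 2 ^ k' with htydef
  have htxn : tx ≠ n := fun e => hnon x y hxy (e ▸ pow_mem (mem_zpowers x) _)
  have htyn : ty ≠ n := fun e => hnon y x hyx (e ▸ pow_mem (mem_zpowers y) _)
  rcases Nat.eq_zero_or_pos k' with hk0 | hkpos
  · -- two involutions
    have hl0 : l' = 0 := by omega
    have ex : x * x = 1 := by rw [htxdef, hl0, pow_zero, pow_one] at htx; exact htx
    have ey : y * y = 1 := by rw [htydef, hk0, pow_zero, pow_one] at hty; exact hty
    have hz : closure ({x * y, y} : Set G) = ⊤ := by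
      rw [eq_top_iff, ← hxy, closure_le]
      rintro w (rfl | rfl)
      · simpa using mul_mem (Subgroup.subset_closure (Set.mem_insert _ _) : w * y ∈ closure ({w * y, y} : Set G))
          (inv_mem (Subgroup.subset_closure (Set.mem_insert_of_mem _ rfl) : y ∈ closure ({w * y, y} : Set G)))
      · exact Subgroup.subset_closure (Set.mem_insert_of_mem _ rfl)
    refine hnon _ _ hz ⟨2, ?_⟩
    show (x * y) ^ (2 : ℤ) = n
    rw [zpow_two, mul_sq_of_commute (hcc y x x) (hcc y x _), ex, ey, one_mul, one_mul, hne x y hxy]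
  have hyc : ∀ g, Commute ty g := fun g => by
    obtain ⟨c, rfl⟩ : ∃ c, k' = c + 1 := ⟨k' - 1, by omega⟩
    rw [htydef, pow_succ', pow_mul, pow_two]
    exact (hsq y g).pow_left _
  -- the involutions `n, tx, ty` are dependent
  have hty' : ty = tx ∨ ty = n * tx := by
    set W := closure ({n, tx, ty} : Set G)
    have hWc : IsMulCommutative W := isMulCommutative_closure (by
      rintro p (rfl | rfl | rfl) q (rfl | rfl | rfl)
      exacts [rfl, (hn _).eq, (hn _).eq, (hn _).eq.symm, rfl, (hyc _).eq.symm, (hn _).eq.symm, (hyc _).eq, rfl])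
    have hW2 : ∀ w ∈ W, w ^ 2 = 1 := by
      intro w hw
      induction hw using Subgroup.closure_induction with
      | mem u hu => rcases hu with rfl | rfl | rfl <;> rw [pow_two] <;> assumption
      | one => exact one_pow 2
      | mul u v hu hv ihu ihv =>
        have huv : Commute u v := congrArg Subtype.val (hWc.is_comm.comm ⟨u, hu⟩ ⟨v, hv⟩)
        rw [huv.mul_pow, ihu, ihv, one_mul]
      | inv u _ ih => rw [inv_pow, ih, inv_one]
    have hW4 := hrk W hWc hW2
    by_contra hcon
    push Not at hcon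
    have hnt : n * tx ≠ 1 := fun e => htxn (by
      rw [← inv_eq_of_mul_eq_one_right hnn]; exact (eq_inv_of_mul_eq_one_right e))
    have h5 : ({1, n, tx, n * tx, ty} : Finset G).card = 5 := by
      rw [Finset.card_insert_of_notMem, Finset.card_insert_of_notMem, Finset.card_insert_of_notMem,
        Finset.card_insert_of_notMem, Finset.card_singleton]
      · simp [hcon.2.symm]
      · simp [hcon.1.symm, hn1]
      · simp [htxn.symm, htyn.symm, htx1]
      · simp [hn1.symm, htx1.symm, hty1.symm, hnt.symm]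
    haveI := Fintype.ofFinite W
    have : ({1, n, tx, n * tx, ty} : Finset G).card ≤ Nat.card W := by
      rw [Nat.card_eq_fintype_card, ← Finset.card_univ,
        ← Finset.card_map (Function.Embedding.subtype (fun u => u ∈ W))]
      refine Finset.card_le_card fun u hu => ?_
      simp only [Finset.mem_map, Finset.mem_univ, true_and]
      refine ⟨⟨u, ?_⟩, rfl⟩
      simp only [Finset.mem_insert, Finset.mem_singleton] at hu
      rcases hu with rfl | rfl | rfl | rfl | rfl
      exacts [one_mem _, Subgroup.subset_closure (by simp), Subgroup.subset_closure (by simp),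
        mul_mem (Subgroup.subset_closure (by simp)) (Subgroup.subset_closure (by simp)), Subgroup.subset_closure (by simp)]
    omega
  rcases Nat.eq_zero_or_pos l' with hl0 | hlpos
  · -- `x` would be central
    have htxx : tx = x := by rw [htxdef, hl0, pow_zero, pow_one]
    refine hn1 ?_
    rw [← hne x y hxy, commutatorElement_eq_one_iff_commute, ← htxx]
    rcases hty' with e | e
    · exact e ▸ (hyc y).symm
    · have h := (hn y).symm.mul_right (e ▸ (hyc y).symm : Commute y (n * tx))
      rwa [← mul_assoc, hnn, one_mul] at h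
  -- a shorter generator
  set m := 2 ^ (k' - l') with hm
  have hnew : closure ({x * y ^ m, y} : Set G) = ⊤ := by
    rw [eq_top_iff, ← hxy, closure_le]
    rintro w (rfl | rfl)
    · simpa using mul_mem (Subgroup.subset_closure (Set.mem_insert _ _) : w * y ^ m ∈ closure ({w * y ^ m, y} : Set G))
        (inv_mem (pow_mem (Subgroup.subset_closure (Set.mem_insert_of_mem _ rfl) : y ∈ closure ({w * y ^ m, y} : Set G)) m))
    · exact Subgroup.subset_closure (Set.mem_insert_of_mem _ rfl)
  obtain ⟨c, rfl⟩ : ∃ c, l' = c + 1 := ⟨l' - 1, by omega⟩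
  have hpow : (x * y ^ m) ^ 2 ^ (c + 1) = tx * ty * ⁅y ^ m, x⁆ ^ 2 ^ c := by
    rw [pow_succ' 2 c, pow_mul, pow_two, mul_sq_of_commute (hcc _ _ _) (hcc _ _ _),
      ((hcc (y ^ m) x _).symm).mul_pow, ((hsq x (y ^ m * y ^ m))).mul_pow]
    congr 2
    · rw [htxdef, pow_succ' 2 c, pow_mul, pow_two]
    · rw [← pow_add, ← pow_mul, htydef]
      congr 1
      rw [hm, ← two_mul, mul_assoc, ← pow_add, ← pow_succ']
      congr 1
      omega
  have h1n : (x * y ^ m) ^ 2 ^ (c + 1) = 1 ∨ (x * y ^ m) ^ 2 ^ (c + 1) = n := by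
    rw [hpow]
    have hpowc : ⁅y ^ m, x⁆ ^ 2 ^ c = 1 ∨ ⁅y ^ m, x⁆ ^ 2 ^ c = n := by
      rcases hcomm (y ^ m) x with e | e <;> rw [e]
      · exact Or.inl (one_pow _)
      · rw [← zpow_natCast]; exact hZ _
    rcases hty' with e | e <;> rw [e]
    · rw [htx, one_mul]; exact hpowc
    · rw [← mul_assoc, ← (hn tx).eq, mul_assoc n, htx, mul_one]
      rcases hpowc with h | h <;> rw [h]
      · exact Or.inr (mul_one n)
      · exact Or.inl hnn
  rcases h1n with h | h
  · have := Nat.le_of_dvd (by positivity) (orderOf_dvd_of_pow_eq_one h)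
    have h' := hmin (x * y ^ m) ⟨y, hnew⟩
    rw [hl, pow_succ] at h'
    have : 0 < 2 ^ (c + 1) := by positivity
    omega
  · exact hnon _ _ hnew (h ▸ pow_mem (mem_zpowers _) _)

/-- A 2-group of sectional rank at most two is metacyclic. -/
theorem isMetacyclic_of_sectional : ∀ (N : ℕ) {S : Type*} [Group S] [Finite S], Nat.card S = N →
    IsPGroup 2 S → Cfsg.SectionalPRankLE 2 2 S → Cfsg.IsMetacyclic S := by
  intro N
  induction N using Nat.strong_induction_on with
  | _ N ih =>
    intro S _ _ hN h2 hr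
    haveI : Fact (Nat.Prime 2) := ⟨Nat.prime_two⟩
    haveI := h2.isNilpotent
    obtain ⟨g1, g2, hg⟩ := exists_two_generators h2 hr
    by_cases hab : ⁅g1, g2⁆ = 1
    · refine isMetacyclic_of_gen g1 g2 ⟨fun w hw g => ?_⟩ hg
      have hc : IsMulCommutative (closure ({g1, g2} : Set S)) := isMulCommutative_closure (by
        have h := commutatorElement_eq_one_iff_mul_comm.1 hab
        rintro p (rfl | rfl) q (rfl | rfl)
        exacts [rfl, h, h.symm, rfl])
      have e : g * w = w * g :=
        congrArg Subtype.val (hc.is_comm.comm ⟨g, hg ▸ mem_top g⟩ ⟨w, hg ▸ mem_top w⟩)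
      rwa [e, mul_inv_cancel_right]
    -- a central involution of the derived group
    obtain ⟨n0, hn0c, hn0z, hn0⟩ : ∃ n0 : S, n0 ∈ commutator S ∧ n0 ∈ center S ∧ orderOf n0 = 2 := by
      have hne : commutator S ≠ ⊥ := fun e => hab (by
        have := commutator_mem_commutator (mem_top g1) (mem_top g2)
        rw [show ⁅(⊤ : Subgroup S), ⊤⁆ = commutator S from rfl, e] at this
        exact mem_bot.1 this)
      have hmeet : commutator S ⊓ center S ≠ ⊥ :=
        CfsgLib.Solvable.normal_inf_center_ne_bot _ hne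
      obtain ⟨w, hw⟩ := exists_prime_orderOf_dvd_card' (G := (commutator S ⊓ center S : Subgroup S)) 2
        ((h2.to_subgroup _).card_eq_or_dvd.resolve_left fun e => hmeet (card_eq_one.1 e))
      exact ⟨w, w.2.1, w.2.2, by rw [orderOf_coe]; exact hw⟩
    have hn01 : n0 ≠ 1 := fun e => by rw [e, orderOf_one] at hn0; omega
    have hn02 : n0 * n0 = 1 := by rw [← pow_two, ← hn0, pow_orderOf_eq_one]
    have hnc : ∀ g, Commute n0 g := fun g => (mem_center_iff.1 hn0z g).symm
    set K := zpowers n0 with hKdef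
    haveI hK : K.Normal := ⟨by
      rintro _ ⟨i, rfl⟩ g
      exact ⟨i, by rw [← ((hnc g).zpow_left i).eq, mul_inv_cancel_right]⟩⟩
    have hKfr : K ≤ frattini S :=
      zpowers_le.2 (CfsgLib.Transfer.commutator_le_frattini_pgroup h2 hn0c)
    have hlt : Nat.card (S ⧸ K) < N := by
      rw [← hN, card_eq_card_quotient_mul_card_subgroup K, hKdef, Nat.card_zpowers, hn0]
      have := Nat.card_pos (α := S ⧸ zpowers n0)
      omega
    obtain ⟨M, hM, hMc, hQc⟩ := ih _ hlt rfl (h2.to_quotient K) (sectional_quotient K hr)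
    obtain ⟨qa, hqa⟩ := isCyclic_iff_exists_zpowers_eq_top.1 hMc
    obtain ⟨qb, hqb⟩ := isCyclic_iff_exists_zpowers_eq_top.1 hQc
    obtain ⟨a, ha⟩ := QuotientGroup.mk'_surjective K (qa : S ⧸ K)
    obtain ⟨b', rfl⟩ := QuotientGroup.mk'_surjective M qb
    obtain ⟨b, rfl⟩ := QuotientGroup.mk'_surjective K b'
    set A := M.comap (QuotientGroup.mk' K) with hAdef
    have haA : a ∈ A := by rw [mem_comap, ha]; exact qa.2
    have hAcases : ∀ w ∈ A, ∃ i : ℤ, w = a ^ i ∨ w = a ^ i * n0 := by
      intro w hw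
      obtain ⟨i, hi⟩ : (⟨_, hw⟩ : M) ∈ zpowers qa := hqa ▸ mem_top _
      have hi' : QuotientGroup.mk' K (a ^ i) = QuotientGroup.mk' K w := by
        rw [map_zpow, ha, ← Subgroup.coe_zpow]; exact congrArg Subtype.val hi
      obtain ⟨j, hj⟩ := QuotientGroup.eq.1 hi'
      refine ⟨i, ?_⟩
      simp only at hj
      rcases Int.even_or_odd' j with ⟨l, rfl | rfl⟩
      · left
        rw [zpow_mul, zpow_two, hn02, one_zpow] at hj
        exact (inv_mul_eq_one.1 hj.symm).symm
      · right
        rw [zpow_add, zpow_mul, zpow_two, hn02, one_zpow, one_mul, zpow_one] at hj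
        rw [hj, mul_inv_cancel_left]
    haveI : A.Normal := hM.comap _
    have hgen : closure ({a, b} : Set S) = ⊤ := by
      refine frattini_nongenerating (eq_top_iff.2 fun w _ => ?_)
      obtain ⟨i, hi⟩ : QuotientGroup.mk' M (QuotientGroup.mk' K w) ∈
          zpowers (QuotientGroup.mk' M (QuotientGroup.mk' K b)) := hqb ▸ mem_top _
      have hi' : QuotientGroup.mk' M (QuotientGroup.mk' K (b ^ i)) = QuotientGroup.mk' M (QuotientGroup.mk' K w) := by
        rw [map_zpow, map_zpow]; exact hi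
      have hmem : (b ^ i)⁻¹ * w ∈ A := by
        rw [mem_comap, map_mul, map_inv]; exact QuotientGroup.eq.1 hi'
      have haC : a ∈ Subgroup.closure ({a, b} : Set S) := Subgroup.subset_closure (Set.mem_insert a {b})
      have hbC : b ∈ Subgroup.closure ({a, b} : Set S) :=
        Subgroup.subset_closure (Set.mem_insert_of_mem a (Set.mem_singleton b))
      have hbw : b ^ i ∈ Subgroup.closure ({a, b} : Set S) := Subgroup.zpow_mem _ hbC i
      rw [show w = b ^ i * ((b ^ i)⁻¹ * w) by group]
      refine mul_mem (mem_sup_left hbw) ?_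
      obtain ⟨j, e | e⟩ := hAcases _ hmem <;> rw [e]
      · exact mem_sup_left (Subgroup.zpow_mem _ haC j)
      · exact mul_mem (mem_sup_left (Subgroup.zpow_mem _ haC j))
          (mem_sup_right (hKfr (mem_zpowers n0)))
    by_cases hna : n0 ∈ zpowers a
    · have hAz : A = zpowers a := le_antisymm (fun w hw => by
        obtain ⟨j, e | e⟩ := hAcases w hw <;> rw [e]
        · exact zpow_mem (mem_zpowers a) j
        · exact mul_mem (zpow_mem (mem_zpowers a) j) hna) (zpowers_le.2 haA)
      exact isMetacyclic_of_gen a b (hAz ▸ inferInstance) hgen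
    set d := ⁅b, a⁆ with hd
    have hba : b * a * b⁻¹ = d * a := by rw [hd, commutatorElement_def]; group
    have hdA : d ∈ A := by
      rw [hd, commutatorElement_def]
      exact mul_mem (Normal.conj_mem inferInstance a haA b) (inv_mem haA)
    obtain ⟨i, e, he⟩ : ∃ (i : ℤ) (e : ℕ), d = a ^ i * n0 ^ e := by
      obtain ⟨i, h | h⟩ := hAcases d hdA
      · exact ⟨i, 0, by rw [pow_zero, mul_one]; exact h⟩
      · exact ⟨i, 1, by rw [pow_one]; exact h⟩
    have hda : Commute d a := by
      rw [he]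
      exact ((Commute.refl a).zpow_left i).mul_left ((hnc a).pow_left e)
    have hbd : b * d * b⁻¹ = d ^ (i + 1) := by
      have e1 : b * d * b⁻¹ = (b * a * b⁻¹) ^ i * n0 ^ e := by
        conv_lhs => rw [he]
        rw [conj_zpow, ← mul_assoc b, mul_assoc (b * a ^ i) _ b⁻¹, ((hnc b⁻¹).pow_left e).eq]
        group
      rw [e1, hba, hda.mul_zpow, mul_assoc, ← he, zpow_add, zpow_one]
    haveI hdn : (zpowers d).Normal := by
      rw [← normalizer_eq_top_iff, eq_top_iff, ← hgen, closure_le]
      have key : ∀ g, g * d * g⁻¹ ∈ zpowers d → g ∈ normalizer (zpowers d : Set S) := fun g hg =>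
        mem_normalizer_iff_of_finite fun w hw => by
          obtain ⟨j, rfl⟩ := hw
          rw [← conj_zpow]
          exact zpow_mem hg j
      rintro g (rfl | rfl)
      · exact key _ ⟨1, by show d ^ (1 : ℤ) = _; rw [zpow_one, ← hda.eq, mul_inv_cancel_right]⟩
      · exact key _ ⟨i + 1, hbd.symm⟩
    have hle : commutator S ≤ zpowers d := by
      rw [Subgroup.Normal.quotient_commutative_iff_commutator_le.symm]
      refine ⟨⟨fun p q => ?_⟩⟩
      have hg' : closure ({(a : S ⧸ zpowers d), (b : S ⧸ zpowers d)} : Set (S ⧸ zpowers d)) = ⊤ := by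
        rw [← map_top_of_surjective _ (QuotientGroup.mk'_surjective (zpowers d)), ← hgen,
          MonoidHom.map_closure, Set.image_pair]
        rfl
      have hab' : (b : S ⧸ zpowers d) * a = a * b := by
        rw [← commutatorElement_eq_one_iff_mul_comm, ← QuotientGroup.mk'_apply, ← QuotientGroup.mk'_apply,
          ← map_commutatorElement, ← hd]
        exact (QuotientGroup.eq_one_iff d).2 (mem_zpowers d)
      have hc : IsMulCommutative (closure ({(a : S ⧸ zpowers d), (b : S ⧸ zpowers d)} : Set (S ⧸ zpowers d))) :=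
        isMulCommutative_closure (by
          rintro u (rfl | rfl) v (rfl | rfl)
          exacts [rfl, hab'.symm, hab', rfl])
      exact congrArg Subtype.val (hc.is_comm.comm ⟨p, hg' ▸ mem_top p⟩ ⟨q, hg' ▸ mem_top q⟩)
    obtain ⟨k, hk⟩ := hle hn0c
    change d ^ k = n0 at hk
    rw [he, ((hnc (a ^ i)).symm.pow_right e).mul_zpow, ← zpow_mul, ← zpow_natCast, ← zpow_mul] at hk
    have hak : a ^ (i * k) = 1 ∧ Odd k := by
      rcases Int.even_or_odd' ((e : ℤ) * k) with ⟨l, h | h⟩ <;> rw [h] at hk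
      · rw [zpow_mul n0, zpow_two, hn02, one_zpow, mul_one] at hk
        exact absurd (hk ▸ zpow_mem (mem_zpowers a) _) hna
      · rw [zpow_add n0, zpow_mul n0, zpow_two, hn02, one_zpow, one_mul, zpow_one, mul_eq_right] at hk
        refine ⟨hk, ?_⟩
        rcases Int.even_or_odd k with ⟨q, hq⟩ | hq
        · exfalso; rw [hq, mul_add] at h; omega
        · exact hq
    have hai : a ^ i = 1 := by
      refine eq_one_of_two_odd h2 (n := k.natAbs) ?_ ?_
      · have := Int.natAbs_odd.2 hak.2
        exact fun hd' => Nat.not_even_iff_odd.2 this (even_iff_two_dvd.2 hd')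
      · rw [← zpow_natCast, Int.natCast_natAbs]
        rcases abs_choice k with h | h <;> rw [h]
        · rw [← zpow_mul]; exact hak.1
        · rw [zpow_neg, ← zpow_mul, hak.1, inv_one]
    rw [hai, one_mul] at he
    have hd1 : d ≠ 1 := fun e' => hab (by
      rw [commutatorElement_eq_one_iff_mul_comm]
      have hc : IsMulCommutative (closure ({a, b} : Set S)) := isMulCommutative_closure (by
        have h := commutatorElement_eq_one_iff_mul_comm.1 (hd ▸ e')
        rintro p (rfl | rfl) q (rfl | rfl)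
        exacts [rfl, h.symm, h, rfl])
      exact congrArg Subtype.val (hc.is_comm.comm ⟨g1, hgen ▸ mem_top g1⟩ ⟨g2, hgen ▸ mem_top g2⟩))
    have hdn0 : d = n0 := by
      rcases Nat.even_or_odd' e with ⟨l, rfl | rfl⟩
      · exact absurd (by rw [he, pow_mul, pow_two, hn02, one_pow]) hd1
      · rw [he, pow_succ, pow_mul, pow_two, hn02, one_pow, one_mul]
    exact isMetacyclic_minimal h2 a b n0 hgen hnc hn02 hn01 (hd ▸ hdn0)
      fun A hA hp => prank_of_sectional hr A hA hp

end CfsgLib.Invol
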