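import Cfsg.Agent.Lib.StructC.QuatPair
import Mathlib

/-!
A `p`-group of permutations, `p` odd, has a regular orbit on subsets.
-/

set_option autoImplicit false
set_option linter.style.haveILetI false

open Subgroup

namespace CfsgLib.Invol

variable {Ω : Type*} [DecidableEq Ω] {p : ℕ} [Fact p.Prime]

omit [DecidableEq Ω] in
theorem perm_inv_apply (g : Equiv.Perm Ω) (x : Ω) : g⁻¹ (g x) = x := g.symm_apply_apply x

omit [DecidableEq Ω] in
theorem perm_apply_inv (g : Equiv.Perm Ω) (x : Ω) : g (g⁻¹ x) = x := g.apply_symm_apply x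

theorem exists_regular_subset_aux [Finite Ω] (hp : p ≠ 2) :
    ∀ (n : ℕ) (Q : Subgroup (Equiv.Perm Ω)) (B : Finset Ω), IsPGroup p Q → B.card ≤ n →
      (∀ g ∈ Q, ∀ x ∈ B, g x ∈ B) →
      ∃ S ⊆ B, ∀ g ∈ Q, (∀ x, x ∈ S ↔ g x ∈ S) → ∀ x ∈ B, g x = x := by
  intro n
  induction n using Nat.strong_induction_on with
  | _ n ih =>
  intro Q B hQ hBn hinv
  classical
  rcases B.eq_empty_or_nonempty with rfl | ⟨x0, hx0⟩
  · exact ⟨∅, subset_rfl, fun g _ _ x hx => absurd hx (Finset.notMem_empty x)⟩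
  by_cases htr : ∀ x ∈ B, ∃ g ∈ Q, g x0 = x
  swap
  · -- intransitive
    let A := B.filter fun x => ∃ g ∈ Q, g x0 = x
    have hA : ∀ g ∈ Q, ∀ x ∈ A, g x ∈ A := by
      intro g hg x hx
      obtain ⟨hxB, h, hh, rfl⟩ := Finset.mem_filter.1 hx
      exact Finset.mem_filter.2 ⟨hinv g hg _ hxB, g * h, mul_mem hg hh, rfl⟩
    have hA' : ∀ g ∈ Q, ∀ x ∈ B \ A, g x ∈ B \ A := by
      intro g hg x hx
      obtain ⟨hxB, hxA⟩ := Finset.mem_sdiff.1 hx
      refine Finset.mem_sdiff.2 ⟨hinv g hg _ hxB, fun h => hxA ?_⟩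
      have := hA g⁻¹ (inv_mem hg) _ h
      rwa [perm_inv_apply] at this
    have hAB : A.card < B.card := by
      refine Finset.card_lt_card (Finset.ssubset_iff_subset_ne.2 ⟨Finset.filter_subset _ _, fun h => ?_⟩)
      exact htr fun x hx => (Finset.mem_filter.1 (show x ∈ A by rw [h]; exact hx)).2
    have hx0A : x0 ∈ A := Finset.mem_filter.2 ⟨hx0, 1, one_mem _, rfl⟩
    have hBA : (B \ A).card < B.card :=
      Finset.card_lt_card (Finset.sdiff_ssubset (Finset.filter_subset _ _) ⟨x0, hx0A⟩)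
    obtain ⟨S1, hS1, h1⟩ := ih _ (lt_of_lt_of_le hAB hBn) Q A hQ le_rfl hA
    obtain ⟨S2, hS2, h2⟩ := ih _ (lt_of_lt_of_le hBA hBn) Q (B \ A) hQ le_rfl hA'
    refine ⟨S1 ∪ S2, Finset.union_subset (hS1.trans (Finset.filter_subset _ _))
      (hS2.trans Finset.sdiff_subset), fun g hg hS x hx => ?_⟩
    by_cases hxA : x ∈ A
    · refine h1 g hg (fun y => ?_) x hxA
      constructor
      · intro hy
        have := (hS y).1 (Finset.mem_union_left _ hy)
        rcases Finset.mem_union.1 this with h | h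
        · exact h
        · exact absurd (hA g hg y (hS1 hy)) (Finset.mem_sdiff.1 (hS2 h)).2
      · intro hy
        have := (hS y).2 (Finset.mem_union_left _ hy)
        rcases Finset.mem_union.1 this with h | h
        · exact h
        · exact absurd (hS1 hy) (Finset.mem_sdiff.1 (hA' g hg y (hS2 h))).2
    · refine h2 g hg (fun y => ?_) x (Finset.mem_sdiff.2 ⟨hx, hxA⟩)
      constructor
      · intro hy
        have := (hS y).1 (Finset.mem_union_right _ hy)
        rcases Finset.mem_union.1 this with h | h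
        · exact absurd (hS1 h) (Finset.mem_sdiff.1 (hA' g hg y (hS2 hy))).2
        · exact h
      · intro hy
        have := (hS y).2 (Finset.mem_union_right _ hy)
        rcases Finset.mem_union.1 this with h | h
        · exact absurd (hA g hg y (hS1 h)) (Finset.mem_sdiff.1 (hS2 hy)).2
        · exact h
  -- transitive
  by_cases hfix : ∀ g ∈ Q, g x0 = x0
  · refine ⟨∅, Finset.empty_subset _, fun g hg _ x hx => ?_⟩
    obtain ⟨h, hh, rfl⟩ := htr x hx
    rw [hfix h hh, hfix g hg]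
  push Not at hfix
  obtain ⟨g0, hg0, hg0x⟩ := hfix
  let St : Subgroup Q := (MulAction.stabilizer (Equiv.Perm Ω) x0).subgroupOf Q
  have hSt : St ≠ ⊤ := fun h => hg0x
    (show (⟨g0, hg0⟩ : Q) ∈ St from h ▸ Subgroup.mem_top _)
  obtain ⟨M, hM, hStM⟩ := (eq_top_or_exists_le_coatom St).resolve_left hSt
  obtain ⟨hMn, hMc⟩ := CfsgLib.StructC.coatom_card_mul hQ hM
  haveI := hMn
  let B0 := B.filter fun x => ∃ m : M, ((m : Q) : Equiv.Perm Ω) x0 = x
  have hB0M : ∀ g ∈ M.map Q.subtype, ∀ x ∈ B0, g x ∈ B0 := by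
    rintro _ ⟨g, hg, rfl⟩ x hx
    obtain ⟨hxB, m, rfl⟩ := Finset.mem_filter.1 hx
    exact Finset.mem_filter.2 ⟨hinv _ g.2 _ hxB, ⟨g * m, mul_mem hg m.2⟩, rfl⟩
  have hx0B : x0 ∈ B0 := Finset.mem_filter.2 ⟨hx0, 1, rfl⟩
  -- an element of `Q` mapping a point of `B0` into `B0` lies in `M`
  have hblock : ∀ h : Q, ∀ x ∈ B0, (h : Equiv.Perm Ω) x ∈ B0 → h ∈ M := by
    intro h x hx hhx
    obtain ⟨-, m, rfl⟩ := Finset.mem_filter.1 hx
    obtain ⟨-, m', hm'⟩ := Finset.mem_filter.1 hhx
    have h1 : ((m' : Q)⁻¹ * h * m) ∈ M := by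
      apply hStM
      show ((((m' : Q)⁻¹ * h * m : Q)) : Equiv.Perm Ω) x0 = x0
      simp only [Subgroup.coe_mul, Subgroup.coe_inv]
      rw [Equiv.Perm.mul_apply, Equiv.Perm.mul_apply, ← hm', perm_inv_apply]
    have h2 := mul_mem (mul_mem m'.2 h1) (inv_mem m.2)
    simpa [mul_assoc] using h2
  have hB0B : B0.card < B.card := by
    refine Finset.card_lt_card (Finset.ssubset_iff_subset_ne.2 ⟨Finset.filter_subset _ _, fun h => ?_⟩)
    apply hM.1
    rw [eq_top_iff]
    intro g _
    exact hblock g x0 hx0B (h.symm ▸ hinv _ g.2 _ hx0)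
  obtain ⟨S1, hS1, h1⟩ := ih _ (lt_of_lt_of_le hB0B hBn) (M.map Q.subtype) B0
    ((hQ.to_subgroup M).map Q.subtype) le_rfl hB0M
  -- the block has odd size
  have hodd : Odd B0.card := by
    have e : (B0 : Set Ω) = MulAction.orbit (M.map Q.subtype) x0 := by
      ext x
      constructor
      · intro hx
        obtain ⟨-, m, rfl⟩ := Finset.mem_filter.1 hx
        exact ⟨⟨_, Subgroup.mem_map_of_mem _ m.2⟩, rfl⟩
      · rintro ⟨⟨_, g, hg, rfl⟩, rfl⟩
        exact hB0M _ (Subgroup.mem_map_of_mem _ hg) x0 hx0B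
    have hM' : IsPGroup p (M.map Q.subtype) := (hQ.to_subgroup M).map Q.subtype
    obtain ⟨k, hk⟩ := hM'.card_orbit x0
    have hc : Nat.card ↑(B0 : Set Ω) = B0.card := by rw [Nat.card_coe_set_eq, Set.ncard_coe_finset]
    rw [← hc, e, hk]
    exact ((Fact.out : p.Prime).odd_of_ne_two hp).pow
  -- choose the smaller one among `S1` and its complement
  obtain ⟨S0, hS0, hlt, h0⟩ : ∃ S0 ⊆ B0, 2 * S0.card < B0.card ∧
      ∀ g ∈ M.map Q.subtype, (∀ x, x ∈ S0 ↔ g x ∈ S0) → ∀ x ∈ B0, g x = x := by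
    rcases lt_or_ge (2 * S1.card) B0.card with h | h
    · exact ⟨S1, hS1, h, h1⟩
    · refine ⟨B0 \ S1, Finset.sdiff_subset, ?_, fun g hg hS => h1 g hg fun x => ?_⟩
      · obtain ⟨j, hj⟩ := hodd
        rw [Finset.card_sdiff_of_subset hS1]
        omega
      · have hx := hS x
        simp only [Finset.mem_sdiff] at hx
        constructor
        · intro h'
          by_contra hc
          exact (hx.2 ⟨hB0M g hg x (hS1 h'), hc⟩).2 h'
        · intro h'
          by_contra hc
          have hxB : x ∈ B0 := by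
            have := hB0M g⁻¹ (inv_mem hg) _ (hS1 h')
            rwa [perm_inv_apply] at this
          exact (hx.1 ⟨hxB, hc⟩).2 h'
  let t : Q ⧸ M → Q := fun q => q.out
  let SB : Q ⧸ M → Finset Ω := fun q => if q = 1 then S0 else (B0 \ S0).image fun z => (t q : Equiv.Perm Ω) z
  let rep : Q ⧸ M → Q := fun q => if q = 1 then 1 else t q
  have hrep : ∀ q, (rep q : Q ⧸ M) = q := by
    intro q
    simp only [rep]
    split_ifs with h
    · rw [h]; rfl
    · exact q.out_eq'
  have hSB : ∀ q, ∀ x ∈ SB q, ∃ z ∈ B0, (rep q : Equiv.Perm Ω) z = x := by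
    intro q x hx
    simp only [SB] at hx
    simp only [rep]
    split_ifs at hx ⊢ with h
    · exact ⟨x, hS0 hx, rfl⟩
    · obtain ⟨z, hz, rfl⟩ := Finset.mem_image.1 hx
      exact ⟨z, (Finset.mem_sdiff.1 hz).1, rfl⟩
  haveI := Fintype.ofFinite (Q ⧸ M)
  refine ⟨Finset.univ.biUnion SB, fun x hx => ?_, fun g hg hS x hx => ?_⟩
  · obtain ⟨q, -, hq⟩ := Finset.mem_biUnion.1 hx
    obtain ⟨z, hz, rfl⟩ := hSB q x hq
    exact hinv _ (rep q).2 _ (Finset.mem_filter.1 hz).1
  set g' : Q := ⟨g, hg⟩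
  set S := Finset.univ.biUnion SB
  -- the part of `S` in the block of `q`
  have hpart : ∀ q, ∀ z ∈ B0, (rep q : Equiv.Perm Ω) z ∈ S → (rep q : Equiv.Perm Ω) z ∈ SB q := by
    intro q z hz hzS
    obtain ⟨q', -, hq'⟩ := Finset.mem_biUnion.1 hzS
    obtain ⟨z', hz', e⟩ := hSB q' _ hq'
    have hm : (rep q')⁻¹ * rep q ∈ M := by
      refine hblock _ z hz ?_
      simp only [Subgroup.coe_mul, Subgroup.coe_inv]
      rw [Equiv.Perm.mul_apply, ← e, perm_inv_apply]
      exact hz'
    have : q' = q := by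
      rw [← hrep q', ← hrep q]
      exact QuotientGroup.eq.2 hm
    exact this ▸ hq'
  have hSBS : ∀ q, SB q ⊆ S := fun q => Finset.subset_biUnion_of_mem SB (Finset.mem_univ q)
  have hcard : ∀ q, (SB q).card = if q = 1 then S0.card else B0.card - S0.card := by
    intro q
    simp only [SB]
    split_ifs with h
    · rfl
    · rw [Finset.card_image_of_injective _ (Equiv.injective _), Finset.card_sdiff_of_subset hS0]
  -- `g` fixes the first block
  have hgM : g' ∈ M := by
    by_contra hgM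
    set q : Q ⧸ M := QuotientGroup.mk g' with hq
    have hq1 : q ≠ 1 := fun h => hgM ((QuotientGroup.eq_one_iff g').1 h)
    have hmap : S0.image g = SB q := by
      ext y
      constructor
      · intro hy
        obtain ⟨z, hz, rfl⟩ := Finset.mem_image.1 hy
        have hzS : z ∈ S := hSBS 1 (by simp only [SB, if_pos]; exact hz)
        have hgz : g z ∈ S := (hS z).1 hzS
        have hz0 : ((rep q)⁻¹ * g' : Q) ∈ M := QuotientGroup.eq.1 ((hrep q).trans hq)
        have hz' : (((rep q)⁻¹ * g' : Q) : Equiv.Perm Ω) z ∈ B0 :=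
          hB0M _ (Subgroup.mem_map_of_mem _ hz0) z (hS0 hz)
        have e : (rep q : Equiv.Perm Ω) ((((rep q)⁻¹ * g' : Q) : Equiv.Perm Ω) z) = g z := by
          simp only [Subgroup.coe_mul, Subgroup.coe_inv]
          rw [Equiv.Perm.mul_apply, perm_apply_inv]
        have := hpart q _ hz' (e.symm ▸ hgz)
        rwa [e] at this
      · intro hy
        obtain ⟨z, hz, e⟩ := hSB q y hy
        have hz0 : (g'⁻¹ * rep q : Q) ∈ M := QuotientGroup.eq.1 (hq.symm.trans (hrep q).symm)
        set w := (((g'⁻¹ * rep q : Q)) : Equiv.Perm Ω) z with hw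
        have hwB : w ∈ B0 := hB0M _ (Subgroup.mem_map_of_mem _ hz0) z hz
        have hgw : g w = y := by
          rw [hw]; simp only [Subgroup.coe_mul, Subgroup.coe_inv]
          rw [Equiv.Perm.mul_apply, perm_apply_inv, e]
        have hwS : w ∈ S := (hS w).2 (hgw ▸ hSBS q hy)
        have h1 : (rep (1 : Q ⧸ M) : Equiv.Perm Ω) = 1 := by simp [rep]
        have := hpart 1 w hwB (by rw [h1]; exact hwS)
        rw [h1] at this
        simp only [SB, if_pos] at this
        exact Finset.mem_image.2 ⟨w, this, hgw⟩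
    have h2 := congrArg Finset.card hmap
    rw [Finset.card_image_of_injective _ (Equiv.injective _), hcard, if_neg hq1] at h2
    have h3 := Finset.card_le_card hS0
    omega
  -- the block of `x`
  obtain ⟨h, hh, rfl⟩ := htr x hx
  set q : Q ⧸ M := QuotientGroup.mk (⟨h, hh⟩ : Q) with hq
  set c : Q := (rep q)⁻¹ * g' * rep q with hc
  have hcM : c ∈ M := by
    have := hMn.conj_mem g' hgM (rep q)⁻¹
    simpa [hc] using this
  have hx' : (((rep q)⁻¹ * ⟨h, hh⟩ : Q) : Equiv.Perm Ω) x0 ∈ B0 :=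
    hB0M _ (Subgroup.mem_map_of_mem _ (QuotientGroup.eq.1 ((hrep q).trans hq))) x0 hx0B
  have hcfix : ∀ y ∈ B0, (c : Equiv.Perm Ω) y = y := by
    refine h0 _ (Subgroup.mem_map_of_mem _ hcM) fun y => ?_
    show y ∈ S0 ↔ (c : Equiv.Perm Ω) y ∈ S0
    have hco : ∀ y, (c : Equiv.Perm Ω) y = (rep q : Equiv.Perm Ω)⁻¹ (g ((rep q : Equiv.Perm Ω) y)) := by
      intro y
      rw [hc]; simp only [Subgroup.coe_mul, Subgroup.coe_inv]
      rfl
    have hmem : ∀ y ∈ B0, (c : Equiv.Perm Ω) y ∈ B0 := fun y hy =>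
      hB0M _ (Subgroup.mem_map_of_mem _ hcM) y hy
    have hiff : ∀ y ∈ B0, y ∈ S0 ↔ (c : Equiv.Perm Ω) y ∈ S0 := by
      intro y hy
      have hSiff : ∀ w ∈ B0, (rep q : Equiv.Perm Ω) w ∈ S ↔ if q = 1 then w ∈ S0 else w ∉ S0 := by
        intro w hw
        constructor
        · intro h'
          have := hpart q w hw h'
          simp only [SB, rep] at this ⊢
          split_ifs at this ⊢ with hq1
          · simpa using this
          · obtain ⟨v, hv, e⟩ := Finset.mem_image.1 this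
            exact (Equiv.injective _ e) ▸ (Finset.mem_sdiff.1 hv).2
        · intro h'
          refine hSBS q ?_
          simp only [SB, rep] at h' ⊢
          split_ifs at h' ⊢ with hq1
          · simpa using h'
          · exact Finset.mem_image_of_mem _ (Finset.mem_sdiff.2 ⟨hw, h'⟩)
      have e1 := hSiff y hy
      have e2 := hSiff _ (hmem y hy)
      rw [hco, perm_apply_inv, ← hS] at e2
      rw [e1, ← hco] at e2
      split_ifs at e2 <;> tauto
    constructor
    · intro hy; exact (hiff y (hS0 hy)).1 hy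
    · intro hy
      have hyB : y ∈ B0 := by
        have := hB0M _ (inv_mem (Subgroup.mem_map_of_mem Q.subtype hcM)) _ (hS0 hy)
        simpa using this
      exact (hiff y hyB).2 hy
  have := hcfix _ hx'
  rw [hc] at this
  simp only [Subgroup.coe_mul, Subgroup.coe_inv] at this
  simp only [Equiv.Perm.mul_apply, perm_apply_inv] at this
  exact (Equiv.injective _ this)

/-- A `p`-group acting on a finite set, `p` odd, has a subset whose setwise stabiliser acts trivially. -/
theorem exists_regular_subset {P : Type*} [Group P] [Finite Ω] (hp : p ≠ 2) (hP : IsPGroup p P)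
    (f : P →* Equiv.Perm Ω) : ∃ S : Finset Ω, ∀ g, (∀ x, x ∈ S ↔ f g x ∈ S) → f g = 1 := by
  classical
  haveI := Fintype.ofFinite Ω
  have hQ : IsPGroup p f.range := hP.of_surjective f.rangeRestrict f.rangeRestrict_surjective
  obtain ⟨S, -, hS⟩ := exists_regular_subset_aux hp _ f.range Finset.univ hQ le_rfl
    (fun g _ x _ => Finset.mem_univ _)
  exact ⟨S, fun g hg => Equiv.ext fun x => hS (f g) ⟨g, rfl⟩ hg x (Finset.mem_univ x)⟩

end CfsgLib.Invol
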