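import Mathlib
import Cfsg.Agent.Lib.StructC.BurnsideBasis
import Cfsg.Agent.Lib.Solvable.Nilpotent

/-!
2-groups with upper central series of Rudvalis type: the bottom of the series, the centralizer `W`
of its third term, the action of `T/W` on that term and the functions on `T/W` describing `W` modulo
its Frattini subgroup.
-/

set_option autoImplicit false
set_option linter.style.haveILetI false
set_option linter.unusedSectionVars false

namespace CfsgLib.RuType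

open Subgroup
open scoped commutatorElement

abbrev Z (T : Type*) [Group T] (i : ℕ) : Subgroup T := Subgroup.upperCentralSeries T i

abbrev W (T : Type*) [Group T] : Subgroup T := Subgroup.centralizer ((Z T 3 : Subgroup T) : Set T)

/-- The hypotheses on a 2-group. -/
structure Hyp (T : Type*) [Group T] : Prop where
  pg : IsPGroup 2 T
  big : 2 ^ 14 ≤ Nat.card T
  z4 : Nat.card ↥(Z T 4) = 16
  phi : Nat.card ↥(frattini ↥(W T)) ≤ 8
  deep : ∀ U : Subgroup ↥(W T), U.index ≤ 16 → frattini ↥(W T) ≤ U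

variable {T : Type*} [Group T]

/-- The homomorphism onto a group of order two with given kernel of index two. -/
noncomputable def signHom {X : Type*} [Group X] (M : Subgroup X) (hM : M.index = 2) :
    X →* Multiplicative (ZMod 2) := by
  classical
  exact MonoidHom.mk' (fun x => if x ∈ M then 1 else Multiplicative.ofAdd 1) fun a b => by
    have h := Subgroup.mul_mem_iff_of_index_two hM (a := a) (b := b)
    by_cases ha : a ∈ M <;> by_cases hb : b ∈ M <;> simp [ha, hb, h] <;> decide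

theorem signHom_eq_one {X : Type*} [Group X] {M : Subgroup X} (hM : M.index = 2) (x : X) :
    signHom M hM x = 1 ↔ x ∈ M := by
  classical
  simp only [signHom, MonoidHom.mk'_apply]
  by_cases hx : x ∈ M <;> simp [hx]

section Series

theorem mem_Z_succ {i : ℕ} {x : T} : x ∈ Z T (i + 1) ↔ ∀ y : T, ⁅x, y⁆ ∈ Z T i :=
  Subgroup.mem_upperCentralSeries_succ_iff

theorem Z_le_succ (i : ℕ) : Z T i ≤ Z T (i + 1) := Subgroup.upperCentralSeries_mono T (Nat.le_succ i)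

theorem comm_mem_of_mem_Z {i : ℕ} {x : T} (hx : x ∈ Z T (i + 1)) (y : T) : ⁅x, y⁆ ∈ Z T i :=
  mem_Z_succ.1 hx y

theorem mem_Z_one {x : T} : x ∈ Z T 1 ↔ ∀ y : T, y * x = x * y := by
  rw [show Z T 1 = Subgroup.center T from Subgroup.upperCentralSeries_one T, Subgroup.mem_center_iff]

theorem out_inv_mul_mem (N : Subgroup T) [N.Normal] (t : T) : (QuotientGroup.mk (s := N) t).out⁻¹ * t ∈ N :=
  QuotientGroup.eq.1 (QuotientGroup.out_eq' _)

variable [Finite T]

theorem exists_fixed_mod (hT : IsPGroup 2 T) (N : Subgroup T) [N.Normal] {i : ℕ} (h : ¬ N ≤ Z T i) :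
    ∃ x ∈ N, x ∉ Z T i ∧ x ∈ Z T (i + 1) := by
  haveI : Group.IsNilpotent (T ⧸ Z T i) := (hT.to_quotient (Z T i)).isNilpotent
  have hne : N.map (QuotientGroup.mk' (Z T i)) ≠ ⊥ := fun e => h fun x hx => by
    have h1 : QuotientGroup.mk' (Z T i) x ∈ (⊥ : Subgroup (T ⧸ Z T i)) := e ▸ Subgroup.mem_map_of_mem _ hx
    exact (QuotientGroup.eq_one_iff x).1 (Subgroup.mem_bot.1 h1)
  haveI : (N.map (QuotientGroup.mk' (Z T i))).Normal :=
    Subgroup.Normal.map inferInstance _ (QuotientGroup.mk'_surjective _)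
  obtain ⟨⟨q, hq⟩, hq1⟩ := Subgroup.ne_bot_iff_exists_ne_one.1
    (CfsgLib.Solvable.normal_inf_center_ne_bot _ hne)
  obtain ⟨⟨x, hx, rfl⟩, hc⟩ := Subgroup.mem_inf.1 hq
  refine ⟨x, hx, fun hZ => hq1 (Subtype.ext ((QuotientGroup.eq_one_iff x).2 hZ)),
    mem_Z_succ.2 fun y => (QuotientGroup.eq_one_iff _).1 ?_⟩
  rw [← QuotientGroup.mk'_apply (Z T i), map_commutatorElement, commutatorElement_eq_one_iff_mul_comm]
  exact (Subgroup.mem_center_iff.1 hc (QuotientGroup.mk' (Z T i) y)).symm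

theorem two_mul_card_le (hT : IsPGroup 2 T) {i : ℕ} (h : Z T i ≠ ⊤) :
    2 * Nat.card ↥(Z T i) ≤ Nat.card ↥(Z T (i + 1)) := by
  obtain ⟨x, -, hx, hx'⟩ := exists_fixed_mod hT ⊤ (fun hle => h (top_le_iff.1 hle))
  have h1 := Subgroup.relIndex_mul_relIndex ⊥ (Z T i) (Z T (i + 1)) bot_le (Z_le_succ i)
  rw [Subgroup.relIndex_bot_left, Subgroup.relIndex_bot_left] at h1
  have h2 : (Z T i).relIndex (Z T (i + 1)) ≠ 1 := fun e => hx (Subgroup.relIndex_eq_one.1 e hx')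
  have h3 : (Z T i).relIndex (Z T (i + 1)) ≠ 0 := fun e => by
    rw [e, mul_zero] at h1
    exact Nat.card_pos.ne' h1.symm
  rw [← h1, mul_comm]
  exact Nat.mul_le_mul_left _ (by omega)

variable (H : Hyp T)
include H

theorem Z_ne_top {i : ℕ} (hi : i ≤ 4) : Z T i ≠ ⊤ := fun e => by
  have h1 : Z T 4 = ⊤ := top_le_iff.1 (e ▸ Subgroup.upperCentralSeries_mono T hi)
  have h2 := H.z4
  rw [h1, Subgroup.card_top] at h2
  have := H.big
  omega

theorem card_Z : Nat.card ↥(Z T 0) = 1 ∧ Nat.card ↥(Z T 1) = 2 ∧ Nat.card ↥(Z T 2) = 4 ∧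
    Nat.card ↥(Z T 3) = 8 := by
  have h0 : Nat.card ↥(Z T 0) = 1 := by
    rw [show Z T 0 = ⊥ from Subgroup.upperCentralSeries_zero T, Subgroup.card_bot]
  have a0 := two_mul_card_le H.pg (Z_ne_top H (show 0 ≤ 4 by omega))
  have a1 := two_mul_card_le H.pg (Z_ne_top H (show 1 ≤ 4 by omega))
  have a2 := two_mul_card_le H.pg (Z_ne_top H (show 2 ≤ 4 by omega))
  have a3 := two_mul_card_le H.pg (Z_ne_top H (show 3 ≤ 4 by omega))
  have h4 := H.z4
  simp only [show 0 + 1 = 1 from rfl, show 1 + 1 = 2 from rfl, show 2 + 1 = 3 from rfl,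
    show 3 + 1 = 4 from rfl] at a0 a1 a2 a3
  omega

theorem relIndex_Z {i : ℕ} (hi : i ≤ 3) : (Z T i).relIndex (Z T (i + 1)) = 2 := by
  obtain ⟨h0, h1, h2, h3⟩ := card_Z H
  have h4 := H.z4
  have h := Subgroup.relIndex_mul_relIndex ⊥ (Z T i) (Z T (i + 1)) bot_le (Z_le_succ i)
  rw [Subgroup.relIndex_bot_left, Subgroup.relIndex_bot_left] at h
  interval_cases i <;> simp only [Nat.reduceAdd, h0, h1, h2, h3, h4] at h ⊢ <;> omega

theorem inv_mul_mem_Z {i : ℕ} (hi : i ≤ 3) {x y : T} (hx : x ∈ Z T (i + 1)) (hx' : x ∉ Z T i)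
    (hy : y ∈ Z T (i + 1)) (hy' : y ∉ Z T i) : x⁻¹ * y ∈ Z T i := by
  have h := relIndex_Z H hi
  rw [Subgroup.relIndex] at h
  have h' := (Subgroup.mul_mem_iff_of_index_two h (a := (⟨x, hx⟩ : ↥(Z T (i + 1)))⁻¹) (b := ⟨y, hy⟩)).2
    (by simp [Subgroup.mem_subgroupOf, hx', hy'])
  simpa [Subgroup.mem_subgroupOf] using h'

theorem Z_le_of_not_le (N : Subgroup T) [N.Normal] : ∀ i ≤ 3, ¬ N ≤ Z T i → Z T (i + 1) ≤ N
  | 0, _, h => by
    obtain ⟨x, hxN, hx, hx'⟩ := exists_fixed_mod H.pg N h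
    intro y hy
    by_cases hy0 : y ∈ Z T 0
    · rw [show Z T 0 = ⊥ from Subgroup.upperCentralSeries_zero T, Subgroup.mem_bot] at hy0
      exact hy0 ▸ N.one_mem
    · have := inv_mul_mem_Z H (by omega) hx' hx hy hy0
      rw [show Z T 0 = ⊥ from Subgroup.upperCentralSeries_zero T, Subgroup.mem_bot, inv_mul_eq_one] at this
      exact this ▸ hxN
  | i + 1, hi, h => by
    have hlow : Z T (i + 1) ≤ N :=
      Z_le_of_not_le N i (by omega) fun hle => h (hle.trans (Z_le_succ i))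
    obtain ⟨x, hxN, hx, hx'⟩ := exists_fixed_mod H.pg N h
    intro y hy
    by_cases hy0 : y ∈ Z T (i + 1)
    · exact hlow hy0
    · have := N.mul_mem hxN (hlow (inv_mul_mem_Z H hi hx' hx hy hy0))
      rwa [mul_inv_cancel_left] at this

theorem normal_small (N : Subgroup T) [N.Normal] (hN : Nat.card ↥N ≤ 8) : ∃ k ≤ 3, N = Z T k := by
  have h3 : N ≤ Z T 3 := by
    by_contra h
    have := Subgroup.card_le_of_le (Z_le_of_not_le H N 3 le_rfl h)
    have := H.z4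
    simp only [show 3 + 1 = 4 from rfl] at *
    omega
  by_cases h2 : N ≤ Z T 2
  · by_cases h1 : N ≤ Z T 1
    · by_cases h0 : N ≤ Z T 0
      · exact ⟨0, by omega, le_antisymm h0 (by simp [Z])⟩
      · exact ⟨1, by omega, le_antisymm h1 (Z_le_of_not_le H N 0 (by omega) h0)⟩
    · exact ⟨2, by omega, le_antisymm h2 (Z_le_of_not_le H N 1 (by omega) h1)⟩
  · exact ⟨3, le_rfl, le_antisymm h3 (Z_le_of_not_le H N 2 (by omega) h2)⟩

/-- Chosen generators `e₁, e₂, e₃` of the successive terms. -/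
theorem exists_gens : ∃ z₁ e₂ e₃ : T, z₁ ∈ Z T 1 ∧ z₁ ≠ 1 ∧ e₂ ∈ Z T 2 ∧ e₂ ∉ Z T 1 ∧
    e₃ ∈ Z T 3 ∧ e₃ ∉ Z T 2 := by
  have key : ∀ i ≤ 2, ∃ x ∈ Z T (i + 1), x ∉ Z T i := fun i hi => by
    obtain ⟨x, -, hx, hx'⟩ := exists_fixed_mod H.pg ⊤
      (fun hle => Z_ne_top H (show i ≤ 4 by omega) (top_le_iff.1 hle))
    exact ⟨x, hx', hx⟩
  obtain ⟨z, hz, hz'⟩ := key 0 (by omega)
  obtain ⟨a, ha, ha'⟩ := key 1 (by omega)
  obtain ⟨b, hb, hb'⟩ := key 2 le_rfl
  exact ⟨z, a, b, hz, fun e => hz' (e ▸ one_mem _), ha, ha', hb, hb'⟩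

end Series

section Action

variable [Finite T] (H : Hyp T)
include H

/-- Two elements agreeing on generators of the third term differ by an element of `W`. -/
theorem inv_mul_mem_W {e₂ e₃ : T} (h2 : e₂ ∈ Z T 2) (h2' : e₂ ∉ Z T 1) (h3 : e₃ ∈ Z T 3)
    (h3' : e₃ ∉ Z T 2) {t u : T} (ht2 : ⁅t, e₂⁆ = ⁅u, e₂⁆) (ht3 : ⁅t, e₃⁆ = ⁅u, e₃⁆) :
    u⁻¹ * t ∈ W T := by
  have key : ∀ e, ⁅t, e⁆ = ⁅u, e⁆ → e * (u⁻¹ * t) = u⁻¹ * t * e := fun e he => by
    simp only [commutatorElement_def] at he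
    have h1 : t * e * t⁻¹ = u * e * u⁻¹ := mul_right_cancel he
    calc e * (u⁻¹ * t) = u⁻¹ * (u * e * u⁻¹) * t := by group
      _ = u⁻¹ * (t * e * t⁻¹) * t := by rw [h1]
      _ = u⁻¹ * t * e := by group
  have hZ2 : ∀ x ∈ Z T 2, x * (u⁻¹ * t) = u⁻¹ * t * x := fun x hx => by
    by_cases hx1 : x ∈ Z T 1
    · exact ((mem_Z_one.1 hx1) _).symm
    · have hz := inv_mul_mem_Z H (by omega) h2 h2' hx hx1
      rw [show x = e₂ * (e₂⁻¹ * x) by group]
      exact Commute.mul_left (key e₂ ht2) ((mem_Z_one.1 hz) _).symm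
  refine Subgroup.mem_centralizer_iff.2 fun x hx => ?_
  by_cases hx2 : x ∈ Z T 2
  · exact hZ2 x hx2
  · have hz := inv_mul_mem_Z H (i := 2) (by omega) h3 h3' hx hx2
    rw [show x = e₃ * (e₃⁻¹ * x) by group]
    exact Commute.mul_left (key e₃ ht3) (hZ2 _ hz)

omit H in
theorem comm_mem_Z {i : ℕ} {e : T} (he : e ∈ Z T (i + 1)) (t : T) : ⁅t, e⁆ ∈ Z T i := by
  rw [← commutatorElement_inv]
  exact inv_mem (comm_mem_of_mem_Z he t)

/-- The coordinate map of `T/W`. -/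
theorem coord_injective {e₂ e₃ : T} (h2 : e₂ ∈ Z T 2) (h2' : e₂ ∉ Z T 1) (h3 : e₃ ∈ Z T 3)
    (h3' : e₃ ∉ Z T 2) :
    Function.Injective (fun p : T ⧸ W T => ((⟨⁅p.out, e₂⁆, comm_mem_Z h2 _⟩ : ↥(Z T 1)),
      (⟨⁅p.out, e₃⁆, comm_mem_Z h3 _⟩ : ↥(Z T 2)))) := fun p q h => by
  simp only [Prod.mk.injEq, Subtype.mk.injEq] at h
  have := inv_mul_mem_W H h2 h2' h3 h3' h.1 h.2
  rw [← QuotientGroup.out_eq' p, ← QuotientGroup.out_eq' q]
  exact (QuotientGroup.eq.2 this).symm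

theorem card_quot_le : Nat.card (T ⧸ W T) ≤ 8 := by
  obtain ⟨z, a, b, -, -, ha, ha', hb, hb'⟩ := exists_gens H
  have h := Nat.card_le_card_of_injective _ (coord_injective H ha ha' hb hb')
  rw [Nat.card_prod] at h
  obtain ⟨-, h1, h2, -⟩ := card_Z H
  rw [h1, h2] at h
  omega

theorem Z_four_le_W : Z T 4 ≤ W T := by
  refine Z_le_of_not_le H (W T) 3 le_rfl fun h => ?_
  have h1 := Subgroup.card_le_of_le h
  have h2 := Subgroup.card_eq_card_quotient_mul_card_subgroup (W T)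
  have h3 := card_quot_le H
  obtain ⟨-, -, -, h4⟩ := card_Z H
  have h5 := H.big
  have h6 : Nat.card (T ⧸ W T) * Nat.card ↥(W T) ≤ 8 * 8 := Nat.mul_le_mul h3 (h1.trans h4.le)
  omega

end Action

section Functions

/-- The value at `p` of the function attached to `x`. -/
noncomputable def psiHom (φ : ↥(W T) →* Multiplicative (ZMod 2)) :
    ↥(W T) →* (T ⧸ W T → Multiplicative (ZMod 2)) :=
  MonoidHom.pi fun p => φ.comp (MulAut.conjNormal p.out⁻¹ : MulAut ↥(W T)).toMonoidHom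

theorem psiHom_apply (φ : ↥(W T) →* Multiplicative (ZMod 2)) (x : ↥(W T)) (p : T ⧸ W T) :
    psiHom φ x p = φ (MulAut.conjNormal p.out⁻¹ x) := rfl

theorem psiHom_mk (φ : ↥(W T) →* Multiplicative (ZMod 2)) (x : ↥(W T)) (t : T) :
    psiHom φ x (QuotientGroup.mk t) = φ (MulAut.conjNormal t⁻¹ x) := by
  set o := (QuotientGroup.mk (s := W T) t).out with ho
  have hw : o⁻¹ * t ∈ W T := out_inv_mul_mem (W T) t
  have he : MulAut.conjNormal t⁻¹ x
      = (⟨_, hw⟩ : ↥(W T))⁻¹ * MulAut.conjNormal o⁻¹ x * ⟨_, hw⟩ := Subtype.ext (by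
    simp only [MulAut.conjNormal_apply, Subgroup.coe_mul, Subgroup.coe_inv]
    group)
  rw [psiHom_apply, he, map_mul φ, map_mul φ, map_inv φ, mul_comm (φ _)⁻¹, inv_mul_cancel_right]

theorem psiHom_conj (φ : ↥(W T) →* Multiplicative (ZMod 2)) (x : ↥(W T)) (g : T) (p : T ⧸ W T) :
    psiHom φ (MulAut.conjNormal g x) p = psiHom φ x ((QuotientGroup.mk g⁻¹ : T ⧸ W T) * p) := by
  obtain ⟨t, rfl⟩ := QuotientGroup.mk_surjective p
  rw [← QuotientGroup.mk_mul, psiHom_mk, psiHom_mk]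
  congr 1
  refine Subtype.ext ?_
  simp only [MulAut.conjNormal_apply]
  group

variable [Finite T]

theorem phiW_card_le (H : Hyp T) : Nat.card ↥((frattini ↥(W T)).map (W T).subtype) ≤ 8 :=
  (Subgroup.card_map_of_injective (Subgroup.subtype_injective _)).trans_le H.phi

theorem exists_psi (H : Hyp T) : ∃ (k : ℕ) (_ : k ≤ 3) (e : ↥(W T)) (φ : ↥(W T) →* Multiplicative (ZMod 2)),
    (frattini ↥(W T)).map (W T).subtype = Z T k ∧ (e : T) ∈ Z T (k + 1) ∧ φ e ≠ 1 ∧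
      (psiHom φ).ker = frattini ↥(W T) := by
  obtain ⟨k, hk, hkeq⟩ := normal_small H _ (phiW_card_le H)
  have hWp : IsPGroup 2 ↥(W T) := H.pg.to_subgroup _
  obtain ⟨e, he, he', -⟩ : ∃ e : T, e ∈ Z T (k + 1) ∧ e ∉ Z T k ∧ True := by
    obtain ⟨x, -, hx, hx'⟩ := exists_fixed_mod H.pg ⊤
      (fun hle => Z_ne_top H (show k ≤ 4 by omega) (top_le_iff.1 hle))
    exact ⟨x, hx', hx, trivial⟩
  have heW : e ∈ W T := Z_four_le_W H (Subgroup.upperCentralSeries_mono T (show k + 1 ≤ 4 by omega) he)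
  have hene : (⟨e, heW⟩ : ↥(W T)) ∉ frattini ↥(W T) := fun h =>
    he' (hkeq ▸ Subgroup.mem_map_of_mem (W T).subtype h)
  obtain ⟨M, hM, heM⟩ : ∃ M : Subgroup ↥(W T), IsCoatom M ∧ (⟨e, heW⟩ : ↥(W T)) ∉ M := by
    by_contra hh
    push Not at hh
    exact hene (CfsgLib.StructC.mem_frattini_of_forall_coatom hh)
  have hMi : M.index = 2 := by
    obtain ⟨-, hc⟩ := CfsgLib.StructC.coatom_card_mul hWp hM
    have h := M.index_mul_card
    rw [← hc, mul_comm (Nat.card M)] at h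
    exact Nat.eq_of_mul_eq_mul_right Nat.card_pos h
  refine ⟨k, hk, ⟨e, heW⟩, signHom M hMi, hkeq, he, fun h => heM ((signHom_eq_one hMi _).1 h), ?_⟩
  set φ := signHom M hMi
  apply le_antisymm
  · have hN : ((psiHom φ).ker.map (W T).subtype).Normal := ⟨fun x hx g => by
      obtain ⟨y, hy, rfl⟩ := hx
      refine ⟨MulAut.conjNormal g y, MonoidHom.mem_ker.2 (funext fun p => ?_), rfl⟩
      rw [psiHom_conj]
      exact congrFun (MonoidHom.mem_ker.1 hy) _⟩
    intro y hy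
    by_contra hy'
    have hle : ¬ (psiHom φ).ker.map (W T).subtype ≤ Z T k := fun hle => hy' (by
      have h1 := hle (Subgroup.mem_map_of_mem (W T).subtype hy)
      rw [← hkeq] at h1
      exact (Subgroup.mem_map_iff_mem (Subgroup.subtype_injective _)).1 h1)
    obtain ⟨y', hy2, hye⟩ := Z_le_of_not_le H _ k hk hle he
    obtain rfl : y' = ⟨e, heW⟩ := Subtype.ext hye
    have h2 := congrFun (MonoidHom.mem_ker.1 hy2) (QuotientGroup.mk (1 : T))
    rw [psiHom_mk, Pi.one_apply, inv_one, map_one, MulAut.one_apply] at h2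
    exact heM ((signHom_eq_one hMi _).1 h2)
  · intro y hy
    refine MonoidHom.mem_ker.2 (funext fun p => ?_)
    rw [psiHom_apply, Pi.one_apply, signHom_eq_one]
    exact frattini_le_coatom hM (Subgroup.characteristic_iff_le_comap.1 inferInstance
      (MulAut.conjNormal p.out⁻¹) hy)

theorem orders (H : Hyp T) : Nat.card (T ⧸ W T) = 8 ∧ Nat.card ↥(W T) = 2 ^ 11 ∧ Nat.card T = 2 ^ 14 ∧
    (frattini ↥(W T)).map (W T).subtype = Z T 3 := by
  classical
  haveI : Fintype (T ⧸ W T) := Fintype.ofFinite _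
  obtain ⟨k, hk, e, φ, hkeq, -, -, hker⟩ := exists_psi H
  have hkc : Nat.card ↥(frattini ↥(W T)) = Nat.card ↥(Z T k) := by
    rw [← hkeq, Subgroup.card_map_of_injective (Subgroup.subtype_injective _)]
  have hW : Nat.card ↥(W T) ≤ Nat.card ↥(Z T k) * 2 ^ Nat.card (T ⧸ W T) := by
    rw [← (psiHom φ).ker.card_mul_index, hker, hkc, ← hker, Subgroup.index_ker]
    refine Nat.mul_le_mul_left _ ((Subgroup.card_le_card_group _).trans ?_)
    rw [Nat.card_fun, Nat.card_eq_fintype_card (α := Multiplicative (ZMod 2))]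
    simp
  obtain ⟨n, hn⟩ := (H.pg.to_quotient (W T)).exists_card_eq
  have hT := Subgroup.card_eq_card_quotient_mul_card_subgroup (W T)
  have hp := card_quot_le H
  obtain ⟨h0, h1, h2, h3⟩ := card_Z H
  have hb := H.big
  rw [hn] at hT hW hp
  have hn3 : n ≤ 3 := by
    by_contra hh
    have : 2 ^ 4 ≤ 2 ^ n := Nat.pow_le_pow_right (by norm_num) (by omega)
    omega
  have hz : Nat.card ↥(Z T k) ≤ 8 ∧ (Nat.card ↥(Z T k) = 8 → k = 3) := by
    interval_cases k <;> omega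
  have hW8 : Nat.card ↥(W T) ≤ 8 * 2 ^ 2 ^ n := hW.trans (Nat.mul_le_mul_right _ hz.1)
  have hk3 : n = 3 := by
    interval_cases n <;> norm_num at hT hW8 <;> omega
  subst hk3
  norm_num at hT hW hW8 hn ⊢
  have hk3 : k = 3 := hz.2 (by omega)
  subst hk3
  exact ⟨hn, by omega, by omega, hkeq⟩

end Functions

end CfsgLib.RuType
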