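import Cfsg.Agent.Lib.Invol.RuTypeStruct

/-!
2-groups with upper central series of Rudvalis type: the fourth term is not central in `W`, so the
centre of `W` is the third term.
-/

set_option autoImplicit false
set_option linter.style.haveILetI false
set_option linter.unusedSectionVars false

namespace CfsgLib.RuType

open Subgroup
open scoped commutatorElement

variable {T : Type*} [Group T] [Finite T] (H : Hyp T)
include H

theorem conj_mem_Z_two_iff {c g : T} (hc : c ∈ Z T 3) : g * c * g⁻¹ ∈ Z T 2 ↔ c ∈ Z T 2 := by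
  rw [show g * c * g⁻¹ = ⁅g, c⁆ * c by rw [commutatorElement_def]; group]
  exact Subgroup.mul_mem_cancel_left _ (comm_mem_Z hc g)

theorem index_Z_two : ((Z T 2).subgroupOf (Z T 3)).index = 2 := relIndex_Z H (i := 2) (by omega)

/-- The commutator pairing of `W` modulo the second term. -/
noncomputable def pr (x y : ↥(W T)) : Multiplicative (ZMod 2) :=
  signHom ((Z T 2).subgroupOf (Z T 3)) (index_Z_two H)
    ⟨⁅(x : T), (y : T)⁆, comm_mem H x.2 y.2⟩

theorem pr_eq_one (x y : ↥(W T)) : pr H x y = 1 ↔ ⁅(x : T), (y : T)⁆ ∈ Z T 2 := by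
  rw [pr, signHom_eq_one, Subgroup.mem_subgroupOf]

omit H in
theorem C2_eq {a b : Multiplicative (ZMod 2)} : (a = 1 ↔ b = 1) → a = b := by
  revert a b; decide

omit H in
theorem C2_ne_one {a : Multiplicative (ZMod 2)} : a ≠ 1 → a = Multiplicative.ofAdd 1 := by
  revert a; decide

theorem pr_symm (x y : ↥(W T)) : pr H x y = pr H y x := C2_eq (by
  rw [pr_eq_one, pr_eq_one, ← commutatorElement_inv, Subgroup.inv_mem_iff])

theorem pr_mul_left (x x' y : ↥(W T)) : pr H (x * x') y = pr H x y * pr H x' y := by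
  rw [pr, pr, pr, ← map_mul]
  congr 1
  exact Subtype.ext (comm_mul_left H x.2 x'.2 y.2)

theorem pr_mul_right (x y y' : ↥(W T)) : pr H x (y * y') = pr H x y * pr H x y' := by
  rw [pr_symm, pr_mul_left, pr_symm H y, pr_symm H y']

theorem pr_conj (g : T) (x y : ↥(W T)) :
    pr H (MulAut.conjNormal g x) (MulAut.conjNormal g y) = pr H x y := C2_eq (by
  rw [pr_eq_one, pr_eq_one, MulAut.conjNormal_apply, MulAut.conjNormal_apply,
    show ⁅g * (x : T) * g⁻¹, g * (y : T) * g⁻¹⁆ = g * ⁅(x : T), (y : T)⁆ * g⁻¹ by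
      simp only [commutatorElement_def]; group]
  exact conj_mem_Z_two_iff H (comm_mem H x.2 y.2))

theorem pr_central {z : ↥(W T)} (hz : (z : T) ∈ Z T 3) (y : ↥(W T)) : pr H z y = 1 := by
  rw [pr_eq_one, commutatorElement_eq_one_iff_mul_comm.2 (comm_Z_W hz y.2)]
  exact one_mem _

theorem pr_conj_congr (x : ↥(W T)) {g k : T} (h : k⁻¹ * g ∈ W T) (y : ↥(W T)) :
    pr H x (MulAut.conjNormal g y) = pr H x (MulAut.conjNormal k y) := by
  have he : MulAut.conjNormal g y = (⟨_, conj_mem_aux⟩ : ↥(W T)) * MulAut.conjNormal k y := Subtype.ext (by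
    change g * (y : T) * g⁻¹ = (k * ⁅k⁻¹ * g, (y : T)⁆ * k⁻¹) * (k * (y : T) * k⁻¹)
    simp only [commutatorElement_def]; group)
  rw [he, pr_symm, pr_mul_left, pr_central H ?_ x, one_mul, pr_symm]
  exact (inferInstance : (Z T 3).Normal).conj_mem _ (comm_mem H h y.2) k
where
  conj_mem_aux {g k : T} {y : ↥(W T)} : k * ⁅k⁻¹ * g, (y : T)⁆ * k⁻¹ ∈ W T := by
    refine (inferInstance : (W T).Normal).conj_mem _ ?_ k
    rw [commutatorElement_def, mul_assoc, mul_assoc, ← mul_assoc (y : T)]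
    have h2 : (y : T) * (k⁻¹ * g)⁻¹ * (y : T)⁻¹ * (k⁻¹ * g) ∈ W T := by
      rw [mul_assoc, mul_assoc]
      refine mul_mem y.2 ?_
      rw [← mul_assoc]
      simpa using (inferInstance : (W T).Normal).conj_mem _ (inv_mem y.2) (k⁻¹ * g)⁻¹
    simpa [mul_assoc] using (inferInstance : (W T).Normal).conj_mem _ h2 (k⁻¹ * g)

theorem psi_data : ∃ (e : ↥(W T)) (φ : ↥(W T) →* Multiplicative (ZMod 2)),
    (e : T) ∈ Z T 4 ∧ φ e ≠ 1 ∧ (∀ x : ↥(W T), psiHom φ x = 1 ↔ (x : T) ∈ Z T 3) ∧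
      Function.Surjective (psiHom φ) := by
  classical
  haveI : Fintype (T ⧸ W T) := Fintype.ofFinite _
  obtain ⟨hP, hW, -, h3⟩ := orders H
  obtain ⟨k, hk, e, φ, hkeq, he, hφ, hker⟩ := exists_psi H
  obtain rfl : k = 3 := by
    have h : Nat.card ↥(Z T k) = 8 := by rw [← hkeq, h3, (card_Z H).2.2.2]
    obtain ⟨h0, h1, h2, -⟩ := card_Z H
    interval_cases k <;> omega
  refine ⟨e, φ, he, hφ, fun x => ?_, MonoidHom.range_eq_top.1 (Subgroup.eq_top_of_card_eq _ ?_)⟩
  · rw [← MonoidHom.mem_ker, hker, ← hkeq]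
    exact (Subgroup.mem_map_iff_mem (f := (W T).subtype) (Subgroup.subtype_injective _)).symm
  · have h := (psiHom φ).ker.card_mul_index
    rw [Subgroup.index_ker, hW, hker,
      ← Subgroup.card_map_of_injective (K := frattini ↥(W T)) (Subgroup.subtype_injective (W T)), h3,
      (card_Z H).2.2.2] at h
    rw [Nat.card_fun, hP, Nat.card_eq_fintype_card (α := Multiplicative (ZMod 2)),
      Fintype.card_multiplicative, ZMod.card]
    omega

omit H in
theorem comm_mul_eq (F : Frame (T := T)) {t e : T} (ht : ⁅t, e⁆ ∈ Z T 1) (g : T) :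
    ⁅g * t, e⁆ = ⁅t, e⁆ * ⁅g, e⁆ := by
  have h := mem_Z_one.1 ht g
  calc ⁅g * t, e⁆ = g * ⁅t, e⁆ * g⁻¹ * ⁅g, e⁆ := by simp only [commutatorElement_def]; group
    _ = ⁅t, e⁆ * ⁅g, e⁆ := by rw [h, mul_inv_cancel_right]

omit H in
theorem commute_Z_two {F : Frame (T := T)} (t : T) (ht : ⁅t, F.e₂⁆ = 1) (H : Hyp T) {x : T}
    (hx : x ∈ Z T 2) : t * x = x * t := by
  have h := commutatorElement_eq_one_iff_mul_comm.1 ht
  by_cases hx1 : x ∈ Z T 1
  · exact mem_Z_one.1 hx1 t
  · have hz := inv_mul_mem_Z H (show 1 ≤ 3 by omega) F.he₂ F.he₂' hx hx1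
    rw [show x = F.e₂ * (F.e₂⁻¹ * x) by group]
    exact Commute.mul_right h (mem_Z_one.1 hz t)

/-- An element moving the third term, fixing the second and squaring into `W` pairs trivially. -/
theorem pr_self_conj (F : Frame (T := T)) (w : ↥(W T)) {g : T} (h2 : ⁅g, F.e₂⁆ = 1) :
    pr H w (MulAut.conjNormal g w) = 1 := by
  have hfix : ∀ {x : T}, x ∈ Z T 2 → g * x = x * g := fun hx => commute_Z_two (F := F) g h2 H hx
  by_cases h3 : ⁅g, F.e₃⁆ = 1
  · have hgW := inv_mul_mem_W H F.he₂ F.he₂' F.he₃ F.he₃' (t := g) (u := 1)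
      (by rw [h2, commutatorElement_one_left]) (by rw [h3, commutatorElement_one_left])
    rw [pr_conj_congr H w (k := 1) (by simpa using hgW), map_one, MulAut.one_apply, pr_eq_one,
      commutatorElement_self]
    exact one_mem _
  · rw [pr_eq_one]
    set c := ⁅(w : T), ((MulAut.conjNormal g w : ↥(W T)) : T)⁆ with hc
    have hcZ : c ∈ Z T 3 := comm_mem H w.2 (MulAut.conjNormal g w).2
    by_contra hcn
    -- the square of `g` lies in `W`
    have hd : ⁅g, F.e₃⁆ ∈ Z T 2 := comm_mem_Z F.he₃ g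
    have hg2 : g * g ∈ W T := by
      have h := inv_mul_mem_W H F.he₂ F.he₂' F.he₃ F.he₃' (t := g * g) (u := 1) ?_ ?_
      · simpa using h
      · rw [comm_mul_eq F (by rw [h2]; exact one_mem _), h2, one_mul, commutatorElement_one_left]
      · rw [commutatorElement_one_left]
        calc ⁅g * g, F.e₃⁆ = g * ⁅g, F.e₃⁆ * g⁻¹ * ⁅g, F.e₃⁆ := by simp only [commutatorElement_def]; group
          _ = ⁅g, F.e₃⁆ * ⁅g, F.e₃⁆ := by rw [hfix hd, mul_inv_cancel_right]
          _ = 1 := sq_Z_three H (Z_le_succ 2 hd)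
    -- `g` inverts `c`
    have hcc : g * c * g⁻¹ = c⁻¹ := by
      have hz := comm_mem H hg2 w.2
      have hw2 : g * (g * (w : T) * g⁻¹) * g⁻¹ = ⁅g * g, (w : T)⁆ * w := by
        simp only [commutatorElement_def]; group
      rw [hc, MulAut.conjNormal_apply, commutatorElement_inv]
      calc g * ⁅(w : T), g * w * g⁻¹⁆ * g⁻¹ = ⁅g * w * g⁻¹, g * (g * w * g⁻¹) * g⁻¹⁆ := by
            simp only [commutatorElement_def]; group
        _ = ⁅g * w * g⁻¹, ⁅g * g, (w : T)⁆ * w⁆ := by rw [hw2]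
        _ = ⁅g * w * g⁻¹, (w : T)⁆ := by
            have hv := (inferInstance : (W T).Normal).conj_mem _ w.2 g
            rw [← commutatorElement_inv, comm_mul_left H (Z_three_le_W H hz) w.2 hv,
              commutatorElement_eq_one_iff_mul_comm.2 (comm_Z_W hz hv), one_mul, commutatorElement_inv]
    rw [inv_Z_three H hcZ] at hcc
    have hce := inv_mul_mem_Z H (show 2 ≤ 3 by omega) F.he₃ F.he₃' hcZ hcn
    have hgc : Commute g c := mul_inv_eq_iff_eq_mul.1 hcc
    have he : Commute g F.e₃ := by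
      have hs : Commute g (F.e₃⁻¹ * c) := hfix hce
      have := hgc.mul_right hs.inv_right
      rwa [mul_inv_rev, inv_inv, mul_inv_cancel_left] at this
    exact h3 (commutatorElement_eq_one_iff_mul_comm.2 he)

theorem Z_four_not_central : ¬ ∀ z ∈ Z T 4, ∀ x ∈ W T, z * x = x * z := by
  classical
  intro hcen
  haveI : Fintype (T ⧸ W T) := Fintype.ofFinite _
  obtain ⟨F⟩ := exists_frame H
  obtain ⟨e, φ, he, hφe, hker, hsurj⟩ := psi_data H
  obtain ⟨w, hw⟩ := hsurj (Pi.mulSingle (QuotientGroup.mk 1 : T ⧸ W T) (Multiplicative.ofAdd 1))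
  set ψ := psiHom φ
  have hsingle : ∀ g : T, ψ (MulAut.conjNormal g w)
      = Pi.mulSingle (QuotientGroup.mk g : T ⧸ W T) (Multiplicative.ofAdd 1) := fun g => funext fun p => by
    rw [psiHom_conj, hw, Pi.mulSingle_apply, Pi.mulSingle_apply]
    refine if_congr ?_ rfl rfl
    rw [QuotientGroup.mk_one, QuotientGroup.mk_inv, inv_mul_eq_one, eq_comm]
  have hconst : ψ e = fun _ => Multiplicative.ofAdd 1 := funext fun p => by
    obtain ⟨t, rfl⟩ := QuotientGroup.mk_surjective p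
    rw [psiHom_mk]
    have hmem : ⁅t⁻¹, (e : T)⁆ ∈ Z T 3 := comm_mem_Z he _
    have hk : φ (⟨_, Z_three_le_W H hmem⟩ : ↥(W T)) = 1 := by
      have h := congrFun ((hker ⟨_, Z_three_le_W H hmem⟩).2 hmem) (QuotientGroup.mk 1 : T ⧸ W T)
      rw [psiHom_mk, inv_one, map_one, MulAut.one_apply] at h
      exact h
    have hee : MulAut.conjNormal t⁻¹ e = (⟨_, Z_three_le_W H hmem⟩ : ↥(W T)) * e := Subtype.ext (by
      rw [MulAut.conjNormal_apply, Subgroup.coe_mul]
      change t⁻¹ * (e : T) * t⁻¹⁻¹ = ⁅t⁻¹, (e : T)⁆ * e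
      rw [commutatorElement_def]; group)
    rw [hee, map_mul φ, hk, one_mul]
    exact C2_ne_one hφe
  -- the pairing with `w` as a function of the coordinates
  let ε : ↥(W T) →* Multiplicative (ZMod 2) := MonoidHom.mk' (fun x => pr H w x) (pr_mul_right H w)
  have hεk : ψ.ker ≤ ε.ker := fun x hx => MonoidHom.mem_ker.2 (by
    change pr H w x = 1
    rw [pr_symm]
    exact pr_central H ((hker x).1 hx) w)
  let L := ψ.liftOfSurjective hsurj ⟨ε, hεk⟩
  have hL : ∀ x, L (ψ x) = pr H w x := fun x =>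
    MonoidHom.liftOfRightInverse_comp_apply _ _ (Function.rightInverse_surjInv hsurj) ⟨ε, hεk⟩ x
  set b : T ⧸ W T → Multiplicative (ZMod 2) := fun p => L (Pi.mulSingle p (Multiplicative.ofAdd 1)) with hbdef
  have hb : ∀ g : T, b (QuotientGroup.mk g) = pr H w (MulAut.conjNormal g w) := fun g => by
    rw [hbdef]; dsimp only
    rw [← hsingle, hL]
  have hprod : ∏ p, b p = 1 := by
    rw [hbdef]; dsimp only
    rw [← map_prod, Finset.univ_prod_mulSingle (fun _ : T ⧸ W T => Multiplicative.ofAdd (1 : ZMod 2)), ← hconst,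
      hL, pr_symm, pr_eq_one, commutatorElement_eq_one_iff_mul_comm.2 (hcen e he w w.2)]
    exact one_mem _
  obtain ⟨t₀, ht2, ht3⟩ := F.surj 1 (one_mem _) F.z₁ ((Z_le_succ 1) F.hz₁)
  have hz2 : F.z₁ * F.z₁ = 1 := sq_Z_three H ((Z_le_succ 1).trans (Z_le_succ 2) F.hz₁)
  have hzi : F.z₁⁻¹ = F.z₁ := inv_eq_of_mul_eq_one_right hz2
  -- coordinates of `g * t₀`
  have cg2 : ∀ g : T, ⁅g * t₀, F.e₂⁆ = ⁅g, F.e₂⁆ := fun g => by
    rw [comm_mul_eq F (by rw [ht2]; exact one_mem _), ht2, one_mul]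
  have cg3 : ∀ g : T, ⁅g * t₀, F.e₃⁆ = F.z₁ * ⁅g, F.e₃⁆ := fun g => by
    rw [comm_mul_eq F (by rw [ht3]; exact F.hz₁), ht3]
  have hmk : ∀ g k : T, ⁅g, F.e₂⁆ = ⁅k, F.e₂⁆ → ⁅g, F.e₃⁆ = ⁅k, F.e₃⁆ →
      (QuotientGroup.mk g : T ⧸ W T) = QuotientGroup.mk k := fun g k h2 h3 =>
    (QuotientGroup.eq.2 (inv_mul_mem_W H F.he₂ F.he₂' F.he₃ F.he₃' h2 h3)).symm
  set z : T ⧸ W T := QuotientGroup.mk t₀ with hzdef
  obtain ⟨u, hu2, hu3⟩ := F.surj F.z₁ F.hz₁ 1 (one_mem _)
  set pu : T ⧸ W T := QuotientGroup.mk u with hpu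
  have hzz : z * z = 1 := by
    rw [hzdef, ← QuotientGroup.mk_mul, ← QuotientGroup.mk_one]
    exact hmk _ _ (by rw [cg2, ht2, commutatorElement_one_left])
      (by rw [cg3, ht3, hz2, commutatorElement_one_left])
  have hz1 : z ≠ 1 := fun e => by
    rw [hzdef, QuotientGroup.eq_one_iff] at e
    have := Subgroup.mem_centralizer_iff.1 e F.e₃ F.he₃
    exact F.hz₁' (by rw [← ht3, commutatorElement_eq_one_iff_mul_comm.2 this.symm])
  -- pairs away from the class of `u`
  have hpair : ∀ p : T ⧸ W T, p ≠ pu → p ≠ pu * z → b (p * z) = b p := by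
    intro p hp hp'
    obtain ⟨g, rfl⟩ := QuotientGroup.mk_surjective p
    rw [hzdef, ← QuotientGroup.mk_mul, hb, hb]
    rcases eq_one_or_eq H F (comm_mem_Z F.he₂ g) with h2 | h2
    · rw [pr_self_conj H F w h2, pr_self_conj H F w ((cg2 g).trans h2)]
    · by_cases h3 : ⁅g, F.e₃⁆ ∈ Z T 1
      · exfalso
        rcases eq_one_or_eq H F h3 with h3 | h3
        · exact hp (hmk _ _ (h2.trans hu2.symm) (h3.trans hu3.symm))
        · refine hp' ?_
          rw [hpu, hzdef, ← QuotientGroup.mk_mul]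
          exact hmk _ _ (by rw [cg2, h2, hu2]) (by rw [cg3, h3, hu3, mul_one])
      · set c := ⁅g, F.e₃⁆ with hc
        have hc2 : c ∈ Z T 2 := comm_mem_Z F.he₃ g
        have hci : c⁻¹ = c := inv_Z_three H (Z_le_succ 2 hc2)
        have hy := inv_mul_mem_Z H (show 1 ≤ 3 by omega) F.he₂ F.he₂' hc2 h3
        have hinv2 : ⁅g⁻¹, F.e₂⁆ = F.z₁ := by
          calc ⁅g⁻¹, F.e₂⁆ = g⁻¹ * ⁅g, F.e₂⁆⁻¹ * g := by simp only [commutatorElement_def]; group
            _ = g⁻¹ * (g * F.z₁) := by rw [h2, hzi, mem_Z_one.1 F.hz₁ g]; group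
            _ = F.z₁ := by group
        have hge : g⁻¹ * F.e₂ * g = F.z₁ * F.e₂ := by
          rw [← hinv2, commutatorElement_def]; group
        have hinv3 : ⁅g⁻¹, F.e₃⁆ = F.z₁ * c := by
          calc ⁅g⁻¹, F.e₃⁆ = g⁻¹ * c⁻¹ * g := by rw [hc]; simp only [commutatorElement_def]; group
            _ = g⁻¹ * F.e₂ * g * (g⁻¹ * (F.e₂⁻¹ * c) * g) := by rw [hci]; group
            _ = F.z₁ * F.e₂ * (g⁻¹ * (g * (F.e₂⁻¹ * c))) := by
                rw [hge, mem_Z_one.1 hy g]; group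
            _ = F.z₁ * c := by group
        have hcong : (QuotientGroup.mk (g * t₀) : T ⧸ W T) = QuotientGroup.mk g⁻¹ :=
          hmk _ _ (by rw [cg2, h2, hinv2]) (by rw [cg3, hinv3])
        rw [← hb, hcong, hb, ← pr_conj H g w (MulAut.conjNormal g⁻¹ w), pr_symm, ← MulAut.mul_apply,
          ← map_mul, mul_inv_cancel, map_one, MulAut.one_apply]
  have hall : ∀ p : T ⧸ W T, b (p * z) = b p := by
    have hmul : ∀ p : T ⧸ W T, p * z * z = p := fun p => by rw [mul_assoc, hzz, mul_one]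
    have hne : pu * z ≠ pu := fun e => hz1 (mul_eq_left.1 e)
    have hrest : ∏ p ∈ (Finset.univ.erase pu).erase (pu * z), b p = 1 := by
      refine Finset.prod_involution (fun p _ => p * z) (fun p hp => ?_) (fun p _ _ e => hz1 (mul_eq_left.1 e))
        (fun p hp => ?_) (fun p _ => hmul p)
      · simp only [Finset.mem_erase, Finset.mem_univ, and_true] at hp
        rw [hpair p hp.2 hp.1]
        rcases (show ∀ a : Multiplicative (ZMod 2), a = 1 ∨ a = Multiplicative.ofAdd 1 by decide) (b p) with h | h <;>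
          rw [h] <;> decide
      · simp only [Finset.mem_erase, Finset.mem_univ, and_true] at hp ⊢
        refine ⟨fun e => hp.2 (mul_right_cancel e), fun e => hp.1 ?_⟩
        rw [← e, hmul]
    have hu : b (pu * z) = b pu := by
      rw [← Finset.mul_prod_erase _ b (Finset.mem_univ pu),
        ← Finset.mul_prod_erase _ b (Finset.mem_erase.2 ⟨hne, Finset.mem_univ (pu * z)⟩), hrest, mul_one] at hprod
      revert hprod
      generalize b pu = a
      generalize b (pu * z) = a'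
      revert a a'
      decide
    intro p
    by_cases hp : p = pu
    · rw [hp, hu]
    · by_cases hp' : p = pu * z
      · rw [hp', hmul, hu]
      · exact hpair p hp hp'
  -- the elements `x * x ^ t₀` pair trivially
  have hzc : ∀ p : T ⧸ W T, z * p = p * z := fun p => by
    obtain ⟨g, rfl⟩ := QuotientGroup.mk_surjective p
    rw [hzdef, ← QuotientGroup.mk_mul, ← QuotientGroup.mk_mul]
    have hc2 : ⁅g, F.e₂⁆ ∈ Z T 1 := comm_mem_Z F.he₂ g
    have hc3 : ⁅g, F.e₃⁆ ∈ Z T 2 := comm_mem_Z F.he₃ g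
    refine hmk _ _ ?_ ?_
    · rw [cg2, comm_mul_eq F hc2, ht2, mul_one]
    · rw [cg3, show ⁅t₀ * g, F.e₃⁆ = t₀ * ⁅g, F.e₃⁆ * t₀⁻¹ * ⁅t₀, F.e₃⁆ by
        simp only [commutatorElement_def]; group, commute_Z_two (F := F) t₀ ht2 H hc3,
        mul_inv_cancel_right, ht3]
      exact mem_Z_one.1 F.hz₁ _
  let C : Subgroup T :=
    { carrier := {x | x ∈ W T ∧ ∀ y ∈ W T, ⁅x, y⁆ ∈ Z T 2}
      one_mem' := ⟨one_mem _, fun y _ => by rw [commutatorElement_one_left]; exact one_mem _⟩
      mul_mem' := fun {a c} ha hc => ⟨mul_mem ha.1 hc.1, fun y hy => by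
        rw [comm_mul_left H ha.1 hc.1 hy]; exact mul_mem (ha.2 y hy) (hc.2 y hy)⟩
      inv_mem' := fun {a} ha => ⟨inv_mem ha.1, fun y hy => by
        have h := comm_mul_left H (inv_mem ha.1) ha.1 hy
        rw [inv_mul_cancel, commutatorElement_one_left] at h
        rw [eq_inv_of_mul_eq_one_left h.symm]
        exact inv_mem (ha.2 y hy)⟩ }
  have hCW : C ≤ W T := fun x hx => hx.1
  have hZC : Z T 3 ≤ C := fun x hx => ⟨Z_three_le_W H hx, fun y hy => by
    rw [commutatorElement_eq_one_iff_mul_comm.2 (comm_Z_W hx hy)]; exact one_mem _⟩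
  have hb' : ∀ q : T ⧸ W T, b (z * q) = b q := fun q => by rw [hzc, hall]
  have htriv : ∀ x : ↥(W T), pr H w (x * MulAut.conjNormal t₀ x) = 1 := fun x => by
    rw [← hL, map_mul ψ, map_mul L]
    have h1 : ψ (MulAut.conjNormal t₀ x) = fun p => ψ x (z * p) := funext fun p => by
      rw [psiHom_conj, QuotientGroup.mk_inv, ← hzdef, inv_eq_of_mul_eq_one_right hzz]
    have hLf : ∀ f : T ⧸ W T → Multiplicative (ZMod 2), L f = ∏ p, if f p = 1 then 1 else b p := fun f => by
      conv_lhs => rw [← Finset.univ_prod_mulSingle f, map_prod]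
      refine Finset.prod_congr rfl fun p _ => ?_
      split_ifs with h
      · rw [h, Pi.mulSingle_one, map_one]
      · rw [C2_ne_one h]
    rw [h1, hLf, hLf]
    have : (∏ p, if ψ x (z * p) = 1 then 1 else b p) = ∏ p, if ψ x p = 1 then 1 else b p := by
      refine Fintype.prod_equiv (Equiv.mulLeft z) _ _ fun p => ?_
      rw [Equiv.coe_mulLeft, hb']
    rw [this]
    exact (show ∀ a : Multiplicative (ZMod 2), a * a = 1 by decide) _
  have hmemC : ∀ x : ↥(W T), ((x * MulAut.conjNormal t₀ x : ↥(W T)) : T) ∈ C := fun x => by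
    refine ⟨SetLike.coe_mem _, fun y hy => (pr_eq_one H _ ⟨y, hy⟩).1 ?_⟩
    let K : Subgroup ↥(W T) := (MonoidHom.mk' (fun y => pr H (x * MulAut.conjNormal t₀ x) y)
      (pr_mul_right H _)).ker
    suffices hK : K = ⊤ from MonoidHom.mem_ker.1 (hK.symm ▸ Subgroup.mem_top (⟨y, hy⟩ : ↥(W T)) : _ ∈ K)
    have hkerK : ψ.ker ≤ K := fun v hv => MonoidHom.mem_ker.2 (by
      change pr H _ v = 1
      rw [pr_symm]
      exact pr_central H ((hker v).1 hv) _)
    have hmap : K.map ψ = ⊤ := eq_top_iff.2 fun f _ => by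
      refine Subgroup.pi_mem_of_mulSingle_mem f fun p => ?_
      obtain ⟨g, rfl⟩ := QuotientGroup.mk_surjective p
      by_cases h : f (QuotientGroup.mk g) = 1
      · rw [h, Pi.mulSingle_one]; exact one_mem _
      · rw [C2_ne_one h, ← hsingle g]
        refine Subgroup.mem_map_of_mem _ (MonoidHom.mem_ker.2 ?_)
        change pr H _ (MulAut.conjNormal g w) = 1
        rw [← pr_conj H g⁻¹, pr_symm]
        set x' := MulAut.conjNormal g⁻¹ x with hx'
        have e1 : MulAut.conjNormal g⁻¹ (MulAut.conjNormal g w) = w := Subtype.ext (by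
          simp only [MulAut.conjNormal_apply]; group)
        have e2 : MulAut.conjNormal g⁻¹ (MulAut.conjNormal t₀ x) = MulAut.conjNormal (g⁻¹ * t₀) x :=
          Subtype.ext (by simp only [MulAut.conjNormal_apply]; group)
        have e3 : MulAut.conjNormal (t₀ * g⁻¹) x = MulAut.conjNormal t₀ x' := Subtype.ext (by
          simp only [hx', MulAut.conjNormal_apply]; group)
        have hcong : (t₀ * g⁻¹)⁻¹ * (g⁻¹ * t₀) ∈ W T := by
          rw [← QuotientGroup.eq, QuotientGroup.mk_mul, QuotientGroup.mk_mul, ← hzdef, hzc]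
        rw [e1, map_mul (MulAut.conjNormal g⁻¹), e2, pr_mul_right, pr_conj_congr H w hcong, e3, ← pr_mul_right]
        exact htriv _
    have := congrArg (Subgroup.comap ψ) hmap
    rwa [Subgroup.comap_map_eq, sup_eq_left.2 hkerK, Subgroup.comap_top] at this
  -- count
  have hsmall := radical_small H (Z T 2) (Z_le_succ 2) (card_Z H).2.2.1 C hCW (fun x hx => hx.2) hZC
  let sh : (T ⧸ W T → Multiplicative (ZMod 2)) →* (T ⧸ W T → Multiplicative (ZMod 2)) :=
    MonoidHom.mk' (fun f p => f p * f (z * p)) fun f f' => funext fun p => by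
      simp only [Pi.mul_apply]; exact mul_mul_mul_comm _ _ _ _
  have hsub : sh.range ≤ (C.subgroupOf (W T)).map ψ := by
    rintro _ ⟨f, rfl⟩
    obtain ⟨x, rfl⟩ := hsurj f
    refine ⟨x * MulAut.conjNormal t₀ x, hmemC x, funext fun p => ?_⟩
    rw [map_mul ψ, Pi.mul_apply, psiHom_conj, QuotientGroup.mk_inv, ← hzdef,
      inv_eq_of_mul_eq_one_right hzz]
    rfl
  have hrange : 2 ^ 4 ≤ Nat.card ↥sh.range := by
    have h := sh.ker.card_mul_index
    rw [Subgroup.index_ker, Nat.card_fun, (orders H).1,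
      Nat.card_eq_fintype_card (α := Multiplicative (ZMod 2))] at h
    have hq : Nat.card ((T ⧸ W T) ⧸ Subgroup.zpowers z) = 4 := by
      have h' := (Subgroup.zpowers z).card_mul_index
      rw [Nat.card_zpowers, (orders H).1, orderOf_eq_prime (by rw [sq, hzz]) hz1, Subgroup.index] at h'
      omega
    have hk : Nat.card ↥sh.ker ≤ 2 ^ 4 := by
      refine (Nat.card_le_card_of_injective (fun (f : ↥sh.ker) (q : (T ⧸ W T) ⧸ Subgroup.zpowers z) => f.1 q.out)
        fun f f' hff => Subtype.ext (funext fun p => ?_)).trans ?_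
      · have hinv : ∀ (k : ↥sh.ker) (p : T ⧸ W T), k.1 (p * z) = k.1 p := fun k p => by
          have h := congrFun (MonoidHom.mem_ker.1 k.2) p
          change k.1 p * k.1 (z * p) = 1 at h
          rw [hzc] at h
          revert h
          generalize k.1 p = a
          generalize k.1 (p * z) = a'
          revert a a'
          decide
        obtain ⟨o, ho⟩ : ∃ o, o = (QuotientGroup.mk p : (T ⧸ W T) ⧸ Subgroup.zpowers z).out := ⟨_, rfl⟩
        have hmem : o⁻¹ * p ∈ Subgroup.zpowers z := ho ▸ QuotientGroup.eq.1 (QuotientGroup.out_eq' _)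
        have hop : f.1 o = f'.1 o := ho ▸ congrFun hff (QuotientGroup.mk p)
        rw [← mul_inv_cancel_left o p]
        obtain ⟨i, hi⟩ := Subgroup.mem_zpowers_iff.1 hmem
        rw [← hi]
        rcases Int.even_or_odd i with ⟨j, rfl⟩ | ⟨j, rfl⟩
        · rw [← two_mul, zpow_mul, zpow_two, hzz, one_zpow, mul_one]
          exact hop
        · rw [zpow_add, zpow_mul, zpow_two, hzz, one_zpow, one_mul, zpow_one, hinv, hinv]
          exact hop
      · rw [Nat.card_fun, hq, Nat.card_eq_fintype_card (α := Multiplicative (ZMod 2))]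
        simp
    rw [Fintype.card_multiplicative, ZMod.card] at h
    by_contra hh
    have h' : Nat.card ↥sh.ker * Nat.card ↥sh.range ≤ 16 * 15 := Nat.mul_le_mul (by omega) (by omega)
    omega
  have hC := (ψ.comp (C.subgroupOf (W T)).subtype).ker.card_mul_index
  rw [Subgroup.index_ker, MonoidHom.range_comp, Subgroup.range_subtype,
    Nat.card_congr (Subgroup.subgroupOfEquivOfLe hCW).toEquiv] at hC
  have hkc : 8 ≤ Nat.card ↥(ψ.comp (C.subgroupOf (W T)).subtype).ker := by
    rw [← (card_Z H).2.2.2]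
    refine Nat.card_le_card_of_injective (fun x : ↥(Z T 3) => (⟨⟨⟨x, Z_three_le_W H x.2⟩, hZC x.2⟩,
      MonoidHom.mem_ker.2 ((hker _).2 x.2)⟩ : ↥(ψ.comp (C.subgroupOf (W T)).subtype).ker)) ?_
    intro a c hac
    exact Subtype.ext (congrArg (fun v : ↥(ψ.comp (C.subgroupOf (W T)).subtype).ker => (((v : ↥(C.subgroupOf (W T))) : ↥(W T)) : T)) hac)
  have hge : 8 * 2 ^ 4 ≤ Nat.card ↥C := by
    rw [← hC]
    exact Nat.mul_le_mul hkc (hrange.trans (Subgroup.card_le_of_le hsub))
  omega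

theorem card_center : Nat.card ↥(Subgroup.center ↥(W T)) = 8 := by
  set K := (Subgroup.center ↥(W T)).map (W T).subtype with hK
  have hcard : Nat.card ↥K = Nat.card ↥(Subgroup.center ↥(W T)) :=
    Subgroup.card_map_of_injective (Subgroup.subtype_injective _)
  have h3 : Z T 3 ≤ K := fun z hz => ⟨⟨z, Z_three_le_W H hz⟩,
    Subgroup.mem_center_iff.2 fun g => Subtype.ext (comm_Z_W hz g.2).symm, rfl⟩
  have hle : K ≤ Z T 3 := by
    by_contra h
    refine Z_four_not_central H fun z hz x hx => ?_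
    obtain ⟨c, hc, rfl⟩ := Z_le_of_not_le H K 3 le_rfl h hz
    exact (congrArg Subtype.val (Subgroup.mem_center_iff.1 hc ⟨x, hx⟩)).symm
  rw [← hcard, le_antisymm hle h3, (card_Z H).2.2.2]

end CfsgLib.RuType
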