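import Cfsg.Agent.Lib.Invol.RuTypeCentre

/-!
2-groups with upper central series of Rudvalis type: `W` is the only subgroup isomorphic to itself,
and every automorphism of odd order is trivial.
-/

set_option autoImplicit false
set_option linter.style.haveILetI false
set_option linter.unusedSectionVars false

namespace CfsgLib.RuType

open Subgroup
open scoped commutatorElement

variable {T : Type*} [Group T] [Finite T] (H : Hyp T)
include H

omit H in
theorem exists_grow (S : Subgroup T) (L : Subgroup T) (hSL : S ≤ L)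
    (hsq : ∀ x ∈ L, x * x ∈ S) (hcomm : ∀ x ∈ L, ∀ y ∈ L, ⁅x, y⁆ ∈ S) :
    ∃ (a : T) (S' : Subgroup T), a ∈ L ∧ S ≤ S' ∧ S' ≤ L ∧ (S' = L ∨ 2 * Nat.card ↥S ≤ Nat.card ↥S') ∧
      ∀ K : Subgroup T, S ≤ K → a ∈ K → S' ≤ K := by
  classical
  by_cases h : S = L
  · exact ⟨1, L, one_mem L, hSL, le_rfl, Or.inl rfl, fun K hK _ => h ▸ hK⟩
  obtain ⟨a, haL, haS⟩ := SetLike.exists_of_lt (lt_of_le_of_ne hSL h)
  set S' := CfsgLib.AvoidCentral.adj S a (hsq a haL)
    (CfsgLib.AvoidCentral.conj_mem_of_comm a fun u hu => hcomm a haL u (hSL hu)) with hS'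
  have hle : S ≤ S' := CfsgLib.AvoidCentral.le_adj _ _ _ _
  refine ⟨a, S', haL, hle, ?_, Or.inr ?_, fun K hK haK => ?_⟩
  · rintro y (hy | hy)
    · exact hSL hy
    · simpa [mul_assoc] using L.mul_mem (hSL hy) (L.inv_mem haL)
  · obtain ⟨k, hk⟩ := Subgroup.card_dvd_of_le hle
    have hlt : Nat.card ↥S < Nat.card ↥S' :=
      Set.ncard_lt_ncard (SetLike.coe_ssubset_coe.2 (lt_of_le_of_ne hle fun e =>
        haS (e ▸ CfsgLib.AvoidCentral.self_mem_adj _ _ _ _))) (Set.toFinite _)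
    rw [hk] at hlt ⊢
    have : 2 ≤ k := by
      by_contra hh
      interval_cases k <;> simp at hlt
    nlinarith
  · rintro y (hy | hy)
    · exact hK hy
    · simpa [mul_assoc] using K.mul_mem (hK hy) (K.inv_mem haK)

/-- The pairing of `W` modulo a subgroup of index two of the third term has no isotropic subgroup of
index at most four. -/
theorem isotropic_small (K : Subgroup T) (hK3 : K ≤ Z T 3) (hK : Nat.card ↥K = 4) (D : Subgroup T)
    (hDW : D ≤ W T) (hZD : Z T 3 ≤ D) (hD : ∀ x ∈ D, ∀ y ∈ D, ⁅x, y⁆ ∈ K) :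
    Nat.card ↥D < 2 ^ 9 := by
  classical
  by_contra hlt
  obtain ⟨a, S₁, haW, hDS₁, hS₁W, hgrow₁, hgen₁⟩ := exists_grow D (W T) hDW
    (fun x hx => hZD (sq_mem H hx)) (fun x hx y hy => hZD (comm_mem H hx hy))
  obtain ⟨b, S₂, hbW, hS₁S₂, hS₂W, hgrow₂, hgen₂⟩ := exists_grow S₁ (W T) hS₁W
    (fun x hx => hDS₁ (hZD (sq_mem H hx))) (fun x hx y hy => hDS₁ (hZD (comm_mem H hx hy)))
  have hWc := (orders H).2.1
  have hS₂ : S₂ = W T := by
    rcases hgrow₂ with h | h2
    · exact h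
    rcases hgrow₁ with h | h1
    · exact le_antisymm hS₂W (h ▸ hS₁S₂)
    refine Subgroup.eq_of_le_of_card_ge hS₂W ?_
    omega
  have hidx : (K.subgroupOf (Z T 3)).index = 2 := by
    have h := Subgroup.relIndex_mul_relIndex ⊥ K (Z T 3) bot_le hK3
    rw [Subgroup.relIndex_bot_left, Subgroup.relIndex_bot_left, hK, (card_Z H).2.2.2] at h
    change K.relIndex (Z T 3) = 2
    omega
  let χ : ∀ y : ↥(W T), ↥D →* Multiplicative (ZMod 2) := fun y => MonoidHom.mk'
    (fun x => signHom (K.subgroupOf (Z T 3)) hidx ⟨⁅(x : T), (y : T)⁆, comm_mem H (hDW x.2) y.2⟩)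
    fun x x' => by
      rw [← map_mul]
      congr 1
      exact Subtype.ext (comm_mul_left H (hDW x.2) (hDW x'.2) y.2)
  let f := (χ ⟨a, haW⟩).prod (χ ⟨b, hbW⟩)
  let C := f.ker.map D.subtype
  have hker : ∀ (y : ↥(W T)) (x : ↥D), χ y x = 1 → ⁅(x : T), (y : T)⁆ ∈ K := fun y x h =>
    Subgroup.mem_subgroupOf.1 ((signHom_eq_one hidx _).1 h)
  have hCD : C ≤ D := Subgroup.map_subtype_le _
  have hC : ∀ x ∈ C, ∀ y ∈ W T, ⁅x, y⁆ ∈ K := by
    rintro _ ⟨x, hx, rfl⟩ y hy
    have hx' := MonoidHom.mem_ker.1 hx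
    rw [MonoidHom.prod_apply, Prod.mk_eq_one] at hx'
    let R : Subgroup T :=
      { carrier := {u | u ∈ W T ∧ ⁅(x : T), u⁆ ∈ K}
        one_mem' := ⟨one_mem _, by rw [commutatorElement_one_right]; exact one_mem _⟩
        mul_mem' := fun {u v} hu hv => ⟨mul_mem hu.1 hv.1, by
          rw [← commutatorElement_inv, comm_mul_left H hu.1 hv.1 (hDW x.2), mul_inv_rev,
            commutatorElement_inv, commutatorElement_inv]
          exact mul_mem hv.2 hu.2⟩
        inv_mem' := fun {u} hu => ⟨inv_mem hu.1, by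
          have h := comm_mul_left H (inv_mem hu.1) hu.1 (hDW x.2)
          rw [inv_mul_cancel, commutatorElement_one_left] at h
          rw [← commutatorElement_inv, eq_inv_of_mul_eq_one_left h.symm, inv_inv, ← commutatorElement_inv]
          exact inv_mem hu.2⟩ }
    have hDR : D ≤ R := fun u hu => ⟨hDW hu, hD x x.2 u hu⟩
    have h1 : S₁ ≤ R := hgen₁ R hDR ⟨haW, hker ⟨a, haW⟩ x hx'.1⟩
    exact ((hS₂ ▸ hgen₂ R h1 ⟨hbW, hker ⟨b, hbW⟩ x hx'.2⟩ : W T ≤ R) hy).2
  have hZC : Z T 3 ≤ C := fun z hz => by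
    refine ⟨⟨z, hZD hz⟩, MonoidHom.mem_ker.2 ?_, rfl⟩
    rw [MonoidHom.prod_apply, Prod.mk_eq_one]
    constructor <;>
    · refine (signHom_eq_one hidx _).2 ?_
      rw [Subgroup.mem_subgroupOf]
      dsimp only
      rw [commutatorElement_eq_one_iff_mul_comm.2 (comm_Z_W hz (by assumption))]
      exact one_mem _
  have hsmall := radical_small H K hK3 hK C (hCD.trans hDW) hC hZC
  have hcard := f.ker.card_mul_index
  rw [Subgroup.index_ker, ← Subgroup.card_map_of_injective (Subgroup.subtype_injective D)] at hcard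
  have hr : Nat.card ↥f.range ≤ 4 := by
    refine (Subgroup.card_le_card_group _).trans ?_
    rw [Nat.card_prod, Nat.card_eq_fintype_card (α := Multiplicative (ZMod 2)), Fintype.card_multiplicative,
      ZMod.card]
  have : Nat.card ↥C * Nat.card ↥f.range ≤ 127 * 4 := Nat.mul_le_mul (by omega) hr
  change Nat.card ↥C * Nat.card ↥f.range = Nat.card ↥D at hcard
  omega

/-- `W` is the only subgroup isomorphic to `W`. -/
theorem eq_W (A : Subgroup T) (e : ↥(W T) ≃* ↥A) : A = W T := by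
  classical
  have h3W := Z_three_le_W H
  have hA : Nat.card ↥A = 2 ^ 11 := by rw [← Nat.card_congr e.toEquiv, (orders H).2.1]
  set Y := (((Z T 3).subgroupOf (W T)).map e.toMonoidHom).map A.subtype with hY
  have hYA : Y ≤ A := Subgroup.map_subtype_le _
  have memY : ∀ {w : ↥(W T)}, (w : T) ∈ Z T 3 → ((e w : ↥A) : T) ∈ Y := fun {w} hw =>
    ⟨e w, ⟨w, Subgroup.mem_subgroupOf.2 hw, rfl⟩, rfl⟩
  have hsqA : ∀ a ∈ A, a * a ∈ Y := fun a ha => by
    obtain ⟨w, hw⟩ := e.surjective ⟨a, ha⟩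
    have h := memY (w := w * w) (sq_mem H w.2)
    rwa [map_mul, hw] at h
  have hcommA : ∀ a ∈ A, ∀ b ∈ A, ⁅a, b⁆ ∈ Y := fun a ha b hb => by
    obtain ⟨v, hv⟩ := e.surjective ⟨a, ha⟩
    obtain ⟨w, hw⟩ := e.surjective ⟨b, hb⟩
    have h := memY (w := ⁅v, w⁆) (by simpa [commutatorElement_def] using comm_mem H v.2 w.2)
    rw [map_commutatorElement, hv, hw] at h
    simpa [commutatorElement_def] using h
  have hcent : ∀ y ∈ Y, ∀ a ∈ A, y * a = a * y := by
    rintro _ ⟨_, ⟨z, hz, rfl⟩, rfl⟩ a ha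
    obtain ⟨w, hw⟩ := e.surjective ⟨a, ha⟩
    have h : z * w = w * z := Subtype.ext (comm_Z_W (Subgroup.mem_subgroupOf.1 hz) w.2)
    have h' := congrArg (fun u => ((e u : ↥A) : T)) h
    simpa [map_mul, hw] using h'
  have hYc : Nat.card ↥Y = 8 := by
    rw [hY, Subgroup.card_map_of_injective (Subgroup.subtype_injective _),
      Subgroup.card_map_of_injective e.injective, Nat.card_congr (Subgroup.subgroupOfEquivOfLe h3W).toEquiv,
      (card_Z H).2.2.2]
  set D := A ⊓ W T with hDdef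
  have hiA : (D.subgroupOf A).index ≤ 8 := by
    have h : (W T).relIndex A ∣ (W T).index := Subgroup.relIndex_dvd_index_of_normal _ _
    have h2 : (W T).index = 8 := (orders H).1
    rw [h2] at h
    change D.relIndex A ≤ 8
    rw [hDdef, Subgroup.inf_relIndex_left]
    exact Nat.le_of_dvd (by norm_num) h
  have hDA := (D.subgroupOf A).card_mul_index
  rw [Nat.card_congr (Subgroup.subgroupOfEquivOfLe (inf_le_left : D ≤ A)).toEquiv, hA] at hDA
  have hDW := (D.subgroupOf (W T)).card_mul_index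
  rw [Nat.card_congr (Subgroup.subgroupOfEquivOfLe (inf_le_right : D ≤ W T)).toEquiv, (orders H).2.1] at hDW
  have hiW : (D.subgroupOf (W T)).index ≤ 16 := by
    have : (D.subgroupOf (W T)).index = (D.subgroupOf A).index :=
      Nat.eq_of_mul_eq_mul_left (Nat.card_pos (α := ↥D)) (hDW.trans hDA.symm)
    omega
  have hΦ : ∀ {w : ↥(W T)}, (w : T) ∈ Z T 3 → w ∈ frattini ↥(W T) := fun {w} hw => by
    rw [← (orders H).2.2.2] at hw
    exact (Subgroup.mem_map_iff_mem (f := (W T).subtype) (Subgroup.subtype_injective _)).1 hw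
  have hYD : Y ≤ D := by
    rintro _ ⟨_, ⟨z, hz, rfl⟩, rfl⟩
    have hU : ((D.subgroupOf A).comap e.toMonoidHom).index ≤ 16 := by
      rw [Subgroup.index_comap_of_surjective _ e.surjective]
      omega
    exact H.deep _ hU (hΦ (Subgroup.mem_subgroupOf.1 hz))
  have h3D : Z T 3 ≤ D := fun z hz => Subgroup.mem_subgroupOf.1 (H.deep _ hiW (hΦ (w := ⟨z, h3W hz⟩) hz))
  by_cases hYZ : Z T 3 ≤ Y
  · refine Subgroup.eq_of_le_of_card_ge (fun a ha => Subgroup.mem_centralizer_iff.2 fun z hz =>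
      hcent z (hYZ hz) a ha) ?_
    rw [hA, (orders H).2.1]
  exfalso
  have hne : (Y ⊓ Z T 3).subgroupOf (Z T 3) ≠ ⊤ := fun e => hYZ fun z hz => by
    have h : (⟨z, hz⟩ : ↥(Z T 3)) ∈ (Y ⊓ Z T 3).subgroupOf (Z T 3) := e ▸ Subgroup.mem_top _
    exact (Subgroup.mem_subgroupOf.1 h).1
  obtain ⟨M, hM, hMle⟩ := (IsCoatomic.eq_top_or_exists_le_coatom _).resolve_left hne
  set K := M.map (Z T 3).subtype with hKdef
  have hKc : Nat.card ↥K = 4 := by
    obtain ⟨-, h⟩ := CfsgLib.StructC.coatom_card_mul (H.pg.to_subgroup _) hM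
    rw [(card_Z H).2.2.2] at h
    rw [hKdef, Subgroup.card_map_of_injective (Subgroup.subtype_injective _)]
    omega
  have hlt := isotropic_small H K (Subgroup.map_subtype_le _) hKc D inf_le_right h3D fun x hx y hy => by
    have h3 := comm_mem H hx.2 hy.2
    exact ⟨⟨_, h3⟩, hMle (Subgroup.mem_subgroupOf.2 ⟨hcommA x hx.1 y hy.1, h3⟩), rfl⟩
  -- the image of `A` in `T/W` has order at most four
  set f := (QuotientGroup.mk' (W T)).comp A.subtype with hf
  have hsqR : ∀ r : ↥f.range, r * r = 1 := by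
    rintro ⟨_, a, rfl⟩
    refine Subtype.ext ?_
    rw [Subgroup.coe_mul, Subgroup.coe_one, ← map_mul, ← MonoidHom.mem_ker, hf, MonoidHom.mem_ker,
      MonoidHom.comp_apply, QuotientGroup.mk'_apply, QuotientGroup.eq_one_iff]
    exact (hYD (hsqA a a.2)).2
  have hR : Nat.card ↥f.range ≤ 4 := by
    have hne : f.range ≠ ⊤ := fun htop => by
      obtain ⟨d⟩ := quot_dihedral H
      obtain ⟨r, hr⟩ := d.surjective (DihedralGroup.r 1)
      have h := congrArg (fun u : ↥f.range => d (u : T ⧸ W T)) (hsqR ⟨r, htop ▸ Subgroup.mem_top r⟩)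
      simp only [Subgroup.coe_mul, Subgroup.coe_one, map_mul, map_one, hr] at h
      revert h
      decide
    have hdvd := f.range.card_subgroup_dvd_card
    rw [(orders H).1] at hdvd
    have hle : Nat.card ↥f.range ≤ 8 := Nat.le_of_dvd (by norm_num) hdvd
    have h8 : Nat.card ↥f.range ≠ 8 := fun h =>
      hne (Subgroup.eq_top_of_card_eq _ (h.trans (orders H).1.symm))
    by_contra hh
    interval_cases hc : Nat.card ↥f.range <;> omega
  have hker : Nat.card ↥f.ker ≤ Nat.card ↥D := by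
    refine Nat.card_le_card_of_injective (fun a : ↥f.ker => (⟨((a : ↥A) : T), ⟨(a : ↥A).2, ?_⟩⟩ : ↥D))
      fun a b h => Subtype.ext (Subtype.ext (congrArg (fun u : ↥D => (u : T)) h :))
    exact (QuotientGroup.eq_one_iff _).1 (MonoidHom.mem_ker.1 a.2)
  have h := f.ker.card_mul_index
  rw [Subgroup.index_ker, hA] at h
  have : Nat.card ↥f.ker * Nat.card ↥f.range ≤ 511 * 4 := Nat.mul_le_mul (by omega) hR
  omega

omit H in
theorem fix_of_fixed (hT : IsPGroup 2 T) (α : MulAut T) {m : ℕ} (hm : Odd m) (hα : α ^ m = 1) {v : T}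
    (h : α (v⁻¹ * α v) = v⁻¹ * α v) : α v = v := by
  set y := v⁻¹ * α v with hy
  have hj : ∀ j : ℕ, (α ^ j) v = v * y ^ j := fun j => by
    induction j with
    | zero => simp
    | succ j ih =>
      rw [pow_succ', MulAut.mul_apply, ih, map_mul α, map_pow α, h, hy, pow_succ', ← mul_assoc,
        mul_inv_cancel_left]
  have hym : y ^ m = 1 := by
    have := hj m
    rw [hα, MulAut.one_apply] at this
    exact (mul_eq_left.1 this.symm)
  obtain ⟨k, hk⟩ := hT y
  have h1 : orderOf y ∣ Nat.gcd m (2 ^ k) :=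
    Nat.dvd_gcd (orderOf_dvd_of_pow_eq_one hym) (orderOf_dvd_of_pow_eq_one hk)
  rw [show Nat.gcd m (2 ^ k) = 1 from (Nat.Coprime.pow_right k (Nat.coprime_two_right.2 hm)),
    Nat.dvd_one, orderOf_eq_one_iff] at h1
  exact (inv_mul_eq_one.1 h1).symm

/-- An automorphism of odd order is trivial. -/
theorem aut_eq_one (α : MulAut T) {m : ℕ} (hm : Odd m) (hα : α ^ m = 1) : α = 1 := by
  classical
  have hZ : ∀ i (x : T), α x ∈ Z T i ↔ x ∈ Z T i := fun i x => by
    conv_rhs => rw [← Subgroup.characteristic_iff_comap_eq.1 (inferInstance : (Z T i).Characteristic) α]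
    rw [Subgroup.mem_comap]
    rfl
  have hfix : ∀ v, α (v⁻¹ * α v) = v⁻¹ * α v → α v = v := fun v => fix_of_fixed H.pg α hm hα
  have h4 : ∀ i ≤ 4, ∀ x ∈ Z T i, α x = x := by
    intro i
    induction i with
    | zero =>
      intro _ x hx
      rw [show Z T 0 = ⊥ from Subgroup.upperCentralSeries_zero T, Subgroup.mem_bot] at hx
      rw [hx, map_one]
    | succ i ih =>
      intro hi x hx
      by_cases hx' : x ∈ Z T i
      · exact ih (by omega) x hx'
      · exact hfix x (ih (by omega) _ (inv_mul_mem_Z H (by omega) hx hx' ((hZ _ x).2 hx)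
          (fun h => hx' ((hZ _ x).1 h))))
  have hW : ∀ g : T, g⁻¹ * α g ∈ W T := fun g => Subgroup.mem_centralizer_iff.2 fun c hc => by
    have hc' : g * c * g⁻¹ ∈ Z T 3 := (inferInstance : (Z T 3).Normal).conj_mem c hc g
    have h := h4 3 (by omega) _ hc'
    rw [map_mul, map_mul, map_inv, h4 3 (by omega) c hc] at h
    calc c * (g⁻¹ * α g) = g⁻¹ * (g * c * g⁻¹) * α g := by group
      _ = g⁻¹ * (α g * c * (α g)⁻¹) * α g := by rw [h]
      _ = g⁻¹ * α g * c := by group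
  have hαW : ∀ x ∈ W T, α x ∈ W T := fun x hx => by
    simpa [mul_assoc] using (W T).mul_mem hx (hW x)
  obtain ⟨e, φ, he, hφe, hker, hsurj⟩ := psi_data H
  set ψ := psiHom φ
  let αW : ↥(W T) →* ↥(W T) := MonoidHom.mk' (fun x => ⟨α x, hαW x x.2⟩) fun x y =>
    Subtype.ext (map_mul α (x : T) y)
  let δ : ↥(W T) →* (T ⧸ W T → Multiplicative (ZMod 2)) :=
    MonoidHom.mk' (fun x => ψ (αW x) * ψ x) fun x y => by
      rw [map_mul αW, map_mul ψ, map_mul ψ]
      exact mul_mul_mul_comm _ _ _ _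
  have hsq : ∀ f : T ⧸ W T → Multiplicative (ZMod 2), f * f = 1 := fun f => funext fun p =>
    (show ∀ a : Multiplicative (ZMod 2), a * a = 1 by decide) _
  have hδfix : ∀ {x : ↥(W T)}, α x = x → δ x = 1 := fun {x} hx => by
    change ψ (αW x) * ψ x = 1
    rw [show αW x = x from Subtype.ext hx, hsq]
  set S := (δ.range.comap ψ).map (W T).subtype with hSdef
  haveI : S.Normal := ⟨by
    rintro _ ⟨y, ⟨x, hx⟩, rfl⟩ g
    refine ⟨MulAut.conjNormal g y, ⟨MulAut.conjNormal g x, funext fun p => ?_⟩, rfl⟩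
    have hg : (QuotientGroup.mk (α g)⁻¹ : T ⧸ W T) = QuotientGroup.mk g⁻¹ := by
      rw [QuotientGroup.mk_inv, QuotientGroup.mk_inv, inv_inj]
      exact (QuotientGroup.eq.2 (hW g)).symm
    have hαg : αW (MulAut.conjNormal g x) = MulAut.conjNormal (α g) (αW x) := Subtype.ext (by
      change α (g * (x : T) * g⁻¹) = α g * α x * (α g)⁻¹
      rw [map_mul, map_mul, map_inv])
    change ψ (αW (MulAut.conjNormal g x)) p * ψ (MulAut.conjNormal g x) p = _
    rw [hαg, psiHom_conj, psiHom_conj, psiHom_conj, hg]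
    exact congrFun hx _⟩
  have hψe : ψ e ≠ 1 := fun h => hφe (by
    have := congrFun h (QuotientGroup.mk (1 : T) : T ⧸ W T)
    rwa [psiHom_mk, inv_one, map_one, MulAut.one_apply] at this)
  have hS : S ≤ Z T 3 := by
    by_contra hle
    obtain ⟨y, ⟨x, hx⟩, hye⟩ := Z_le_of_not_le H S 3 le_rfl hle he
    obtain rfl : y = e := Subtype.ext hye
    have hstep : ∀ v : ↥(W T), ψ (αW v) = ψ v * δ v := fun v => by
      change ψ (αW v) = ψ v * (ψ (αW v) * ψ v)
      rw [mul_left_comm, hsq, mul_one]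
    have hδker : ψ.ker ≤ δ.ker := fun v hv => MonoidHom.mem_ker.2 (hδfix (h4 3 (by omega) _ ((hker v).1 hv)))
    have hj : ∀ j : ℕ, ψ ((αW : ↥(W T) → ↥(W T))^[j] x) = ψ x * ψ y ^ j := fun j => by
      induction j with
      | zero => simp
      | succ j ih =>
        have h1 : δ ((αW : ↥(W T) → ↥(W T))^[j] x) = δ (x * y ^ j) := by
          rw [← inv_mul_eq_one, ← map_inv, ← map_mul]
          refine MonoidHom.mem_ker.1 (hδker (MonoidHom.mem_ker.2 ?_))
          rw [map_mul ψ, map_inv ψ, ih, map_mul ψ, map_pow ψ, inv_mul_cancel]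
        rw [Function.iterate_succ_apply', hstep, h1, ih, map_mul δ, map_pow δ, hδfix (h4 4 le_rfl _ he),
          one_pow, mul_one, hx, pow_succ, mul_assoc]
    have hit : ∀ j : ℕ, (((αW : ↥(W T) → ↥(W T))^[j] x : ↥(W T)) : T) = (α ^ j) x := fun j => by
      induction j with
      | zero => simp
      | succ j ih =>
        rw [Function.iterate_succ_apply', pow_succ', MulAut.mul_apply, ← ih]
        rfl
    have hm' := hj m
    rw [show ((αW : ↥(W T) → ↥(W T))^[m] x) = x from Subtype.ext (by rw [hit, hα, MulAut.one_apply]),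
      left_eq_mul] at hm'
    refine hψe ?_
    obtain ⟨q, rfl⟩ := hm
    rwa [pow_succ, pow_mul, sq, hsq, one_pow, one_mul] at hm'
  have hWfix : ∀ x ∈ W T, α x = x := fun x hx => hfix x (h4 3 (by omega) _ (by
    obtain ⟨y, hy⟩ := hsurj (δ ⟨x, hx⟩)
    have hy3 : (y : T) ∈ Z T 3 := hS ⟨y, ⟨⟨x, hx⟩, hy.symm⟩, rfl⟩
    have h1 : δ ⟨x, hx⟩ = 1 := hy.symm.trans ((hker y).2 hy3)
    have h2 : ψ ((⟨x, hx⟩ : ↥(W T))⁻¹ * αW ⟨x, hx⟩) = 1 := by
      have hu : ψ (αW ⟨x, hx⟩) * ψ ⟨x, hx⟩ = 1 := h1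
      rw [map_mul ψ, map_inv ψ, inv_eq_of_mul_eq_one_right (hsq _), mul_comm, hu]
    have h3 := (hker ((⟨x, hx⟩ : ↥(W T))⁻¹ * αW ⟨x, hx⟩)).1 h2
    rw [Subgroup.coe_mul, Subgroup.coe_inv] at h3
    exact h3))
  exact MulEquiv.ext fun g => hfix g (hWfix _ (hW g))

end CfsgLib.RuType
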