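import Cfsg.Agent.Lib.Invol.RuTypeBasic
import Cfsg.Agent.Lib.Invol.AvoidCentral
import Cfsg.Agent.Lib.Classical.DiagGroups

/-!
2-groups with upper central series of Rudvalis type: the derived group of `W`, the quotient `T/W`,
and radicals of the commutator pairing of `W`.
-/

set_option autoImplicit false
set_option linter.style.haveILetI false
set_option linter.unusedSectionVars false

namespace CfsgLib.RuType

open Subgroup
open scoped commutatorElement

variable {T : Type*} [Group T] [Finite T] (H : Hyp T)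
include H

theorem Z_three_le_W : Z T 3 ≤ W T := (Z_le_succ 3).trans (Z_four_le_W H)

omit H in
theorem comm_Z_W {z x : T} (hz : z ∈ Z T 3) (hx : x ∈ W T) : z * x = x * z :=
  Subgroup.mem_centralizer_iff.1 hx z hz

theorem sq_mem {x : T} (hx : x ∈ W T) : x * x ∈ Z T 3 := by
  rw [← (orders H).2.2.2]
  exact ⟨⟨x, hx⟩ ^ 2, CfsgLib.StructC.pow_mem_frattini (H.pg.to_subgroup _) _, by simp [sq]⟩

theorem comm_mem {x y : T} (hx : x ∈ W T) (hy : y ∈ W T) : ⁅x, y⁆ ∈ Z T 3 := by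
  rw [← (orders H).2.2.2]
  exact ⟨_, CfsgLib.StructC.comm_mem_frattini (H.pg.to_subgroup _) (⟨x, hx⟩⁻¹ : ↥(W T)) ⟨y, hy⟩⁻¹,
    by simp [commutatorElement_def]⟩

theorem comm_mul_left {x y u : T} (hx : x ∈ W T) (hy : y ∈ W T) (hu : u ∈ W T) :
    ⁅x * y, u⁆ = ⁅x, u⁆ * ⁅y, u⁆ := by
  have hc := comm_mem H hy hu
  have h1 : x * ⁅y, u⁆ * x⁻¹ = ⁅y, u⁆ := by rw [← comm_Z_W hc hx, mul_inv_cancel_right]
  have h2 : ⁅y, u⁆ * ⁅x, u⁆ = ⁅x, u⁆ * ⁅y, u⁆ :=
    comm_Z_W hc (Z_three_le_W H (comm_mem H hx hu))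
  rw [← h2, ← h1]
  simp only [commutatorElement_def]
  group

theorem map_commutator_eq : (commutator ↥(W T)).map (W T).subtype = Z T 3 := by
  classical
  set D := (commutator ↥(W T)).map (W T).subtype
  have hle : D ≤ Z T 3 := by
    rw [← (orders H).2.2.2]
    refine Subgroup.map_mono ?_
    rw [commutator_eq_closure, Subgroup.closure_le]
    rintro c ⟨a, b, rfl⟩
    have h := CfsgLib.StructC.comm_mem_frattini (H.pg.to_subgroup (W T)) a⁻¹ b⁻¹
    simpa [commutatorElement_def] using h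
  refine le_antisymm hle fun z hz => ?_
  by_contra hzD
  have hzW := Z_three_le_W H hz
  have hne : Abelianization.of (⟨z, hzW⟩ : ↥(W T)) ≠ 1 := fun e => hzD
    ⟨⟨z, hzW⟩, (QuotientGroup.eq_one_iff _).1 e, rfl⟩
  obtain ⟨χ, hχ⟩ := CommGroup.exists_apply_ne_one_of_hasEnoughRootsOfUnity
    (Abelianization ↥(W T)) ℂ hne
  set f : ↥(W T) →* ℂˣ := χ.comp Abelianization.of
  have hU : f.ker.index ≤ 16 := by
    rw [Subgroup.index_ker]
    have hsub : f.range ≤ rootsOfUnity 16 ℂ := by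
      rintro _ ⟨x, rfl⟩
      rw [mem_rootsOfUnity, ← map_pow]
      have h8 : ((x : T) * x) ^ 8 = 1 := by
        have h := pow_card_eq_one' (x := (⟨_, sq_mem H x.2⟩ : ↥(Z T 3)))
        rw [(card_Z H).2.2.2] at h
        exact congrArg Subtype.val h
      have : x ^ 16 = 1 := Subtype.ext (by
        rw [Subgroup.coe_pow, show (16 : ℕ) = 2 * 8 from rfl, pow_mul, sq, h8]
        rfl)
      rw [this, map_one]
    refine (Subgroup.card_le_of_le hsub).trans (le_of_eq ?_)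
    exact HasEnoughRootsOfUnity.natCard_rootsOfUnity ℂ 16
  obtain ⟨w, hw, hwe⟩ : z ∈ (frattini ↥(W T)).map (W T).subtype := by rwa [(orders H).2.2.2]
  obtain rfl : w = ⟨z, hzW⟩ := Subtype.ext hwe
  exact hχ (MonoidHom.mem_ker.1 (H.deep _ hU hw))

theorem sq_Z_three {z : T} (hz : z ∈ Z T 3) : z * z = 1 := by
  rw [← map_commutator_eq H] at hz
  obtain ⟨c, hc, rfl⟩ := hz
  rw [SetLike.mem_coe, commutator_eq_closure] at hc
  change (c : T) * c = 1
  suffices key : (c : T) ∈ Z T 3 ∧ (c : T) * c = 1 from key.2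
  refine Subgroup.closure_induction (k := commutatorSet ↥(W T))
    (p := fun c _ => (c : T) ∈ Z T 3 ∧ (c : T) * c = 1) ?_ ⟨one_mem _, by simp⟩ ?_ ?_ hc
  · rintro c ⟨a, b, rfl⟩
    have he : ((⁅a, b⁆ : ↥(W T)) : T) = ⁅(a : T), (b : T)⁆ := by simp [commutatorElement_def]
    refine ⟨he ▸ comm_mem H a.2 b.2, ?_⟩
    rw [he, ← comm_mul_left H a.2 a.2 b.2]
    exact commutatorElement_eq_one_iff_mul_comm.2 (comm_Z_W (sq_mem H a.2) b.2)
  · rintro a b - - ⟨ha, ha'⟩ ⟨hb, hb'⟩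
    refine ⟨mul_mem ha hb, ?_⟩
    have hcab := comm_Z_W ha (Z_three_le_W H hb)
    rw [Subgroup.coe_mul]
    calc (a : T) * b * (a * b) = a * (b * a) * b := by group
      _ = a * (a * b) * b := by rw [hcab]
      _ = (a * a) * (b * b) := by group
      _ = 1 := by rw [ha', hb', one_mul]
  · rintro a - ⟨ha, ha'⟩
    refine ⟨inv_mem ha, ?_⟩
    rw [Subgroup.coe_inv, ← mul_inv_rev, ha', inv_one]

theorem inv_Z_three {z : T} (hz : z ∈ Z T 3) : z⁻¹ = z :=
  inv_eq_of_mul_eq_one_right (sq_Z_three H hz)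

theorem card_abelianization : Nat.card (↥(W T) ⧸ commutator ↥(W T)) = 2 ^ 8 ∧
    ∀ x : ↥(W T) ⧸ commutator ↥(W T), x ^ 2 = 1 := by
  refine ⟨?_, fun x => ?_⟩
  · have h := Subgroup.card_eq_card_quotient_mul_card_subgroup (commutator ↥(W T))
    have h1 : Nat.card ↥(commutator ↥(W T)) = 8 := by
      rw [← Subgroup.card_map_of_injective (K := commutator ↥(W T)) (Subgroup.subtype_injective (W T)),
        map_commutator_eq H, (card_Z H).2.2.2]
    rw [(orders H).2.1, h1] at h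
    omega
  · obtain ⟨y, rfl⟩ := QuotientGroup.mk_surjective x
    rw [← QuotientGroup.mk_pow, QuotientGroup.eq_one_iff]
    have h := sq_mem H y.2
    rw [← map_commutator_eq H] at h
    obtain ⟨c, hc, hce⟩ := h
    rwa [show y ^ 2 = c from Subtype.ext (by rw [Subgroup.coe_pow, sq]; exact hce.symm)]

/-- Chosen generators and the surjectivity of the coordinates on `T/W`. -/
structure Frame where
  z₁ : T
  e₂ : T
  e₃ : T
  hz₁ : z₁ ∈ Z T 1
  hz₁' : z₁ ≠ 1
  he₂ : e₂ ∈ Z T 2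
  he₂' : e₂ ∉ Z T 1
  he₃ : e₃ ∈ Z T 3
  he₃' : e₃ ∉ Z T 2
  surj : ∀ a ∈ Z T 1, ∀ b ∈ Z T 2, ∃ t : T, ⁅t, e₂⁆ = a ∧ ⁅t, e₃⁆ = b

theorem exists_frame : Nonempty (Frame (T := T)) := by
  obtain ⟨z, a, b, hz, hz', ha, ha', hb, hb'⟩ := exists_gens H
  refine ⟨⟨z, a, b, hz, hz', ha, ha', hb, hb', fun c hc d hd => ?_⟩⟩
  have hbij := (Nat.bijective_iff_injective_and_card _).2 ⟨coord_injective H ha ha' hb hb', by
    rw [(orders H).1, Nat.card_prod, (card_Z H).2.1, (card_Z H).2.2.1]⟩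
  obtain ⟨p, hp⟩ := hbij.2 (⟨c, hc⟩, ⟨d, hd⟩)
  simp only [Prod.mk.injEq, Subtype.mk.injEq] at hp
  exact ⟨p.out, hp.1, hp.2⟩

theorem eq_one_or_eq (F : Frame (T := T)) {x : T} (hx : x ∈ Z T 1) : x = 1 ∨ x = F.z₁ := by
  by_contra h
  push Not at h
  have h0 : ∀ {y : T}, y ≠ 1 → y ∉ Z T 0 := fun hy e =>
    hy (Subgroup.mem_bot.1 (by rwa [show Z T 0 = ⊥ from Subgroup.upperCentralSeries_zero T] at e))
  have h1 := inv_mul_mem_Z H (show 0 ≤ 3 by omega) F.hz₁ (h0 F.hz₁') hx (h0 h.1)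
  rw [show Z T 0 = ⊥ from Subgroup.upperCentralSeries_zero T, Subgroup.mem_bot, inv_mul_eq_one] at h1
  exact h.2 h1.symm

theorem quot_dihedral : Nonempty (T ⧸ W T ≃* DihedralGroup 4) := by
  obtain ⟨F⟩ := exists_frame H
  obtain ⟨s, hs2, hs3⟩ := F.surj F.z₁ F.hz₁ 1 (one_mem _)
  obtain ⟨t, ht2, ht3⟩ := F.surj 1 (one_mem _) F.e₂ F.he₂
  have hzc : ∀ y : T, y * F.z₁ = F.z₁ * y := mem_Z_one.1 F.hz₁
  have hz2 := sq_Z_three H ((Z_le_succ 1).trans (Z_le_succ 2) F.hz₁)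
  have cs2 : s * F.e₂ * s⁻¹ = F.z₁ * F.e₂ := by rw [← hs2, commutatorElement_def]; group
  have cs3 : s * F.e₃ * s⁻¹ = F.e₃ := mul_inv_eq_one.1 (by simpa [commutatorElement_def] using hs3)
  have ct2 : t * F.e₂ * t⁻¹ = F.e₂ := mul_inv_eq_one.1 (by simpa [commutatorElement_def] using ht2)
  have ct3 : t * F.e₃ * t⁻¹ = F.e₂ * F.e₃ := by rw [← ht3, commutatorElement_def]; group
  refine CfsgLib.Classical.nonempty_equiv_dihedral_four (orders H).1 (s := (QuotientGroup.mk s : T ⧸ W T)) ?_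
    ⟨QuotientGroup.mk t, fun e => ?_⟩
  · rw [← QuotientGroup.mk_mul, QuotientGroup.eq_one_iff]
    have h := inv_mul_mem_W H F.he₂ F.he₂' F.he₃ F.he₃' (t := s * s) (u := 1) ?_ ?_
    · simpa using h
    · rw [commutatorElement_one_left, commutatorElement_eq_one_iff_mul_comm]
      calc s * s * F.e₂ = s * (s * F.e₂ * s⁻¹) * s⁻¹ * (s * s) := by group
        _ = (s * F.z₁) * F.e₂ * s⁻¹ * (s * s) := by rw [cs2]; group
        _ = F.z₁ * (s * F.e₂ * s⁻¹) * (s * s) := by rw [hzc s]; group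
        _ = (F.z₁ * F.z₁) * F.e₂ * (s * s) := by rw [cs2]; group
        _ = F.e₂ * (s * s) := by rw [hz2, one_mul]
    · rw [commutatorElement_one_left, commutatorElement_eq_one_iff_mul_comm]
      calc s * s * F.e₃ = s * (s * F.e₃ * s⁻¹) * s⁻¹ * (s * s) := by group
        _ = F.e₃ * (s * s) := by rw [cs3, cs3]
  · rw [← QuotientGroup.mk_mul, ← QuotientGroup.mk_mul, QuotientGroup.eq] at e
    have h := Subgroup.mem_centralizer_iff.1 e F.e₃ F.he₃
    have h1 : (s * t) * F.e₃ * (s * t)⁻¹ = (t * s) * F.e₃ * (t * s)⁻¹ := by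
      calc (s * t) * F.e₃ * (s * t)⁻¹
          = (t * s) * (((t * s)⁻¹ * (s * t)) * F.e₃) * ((t * s)⁻¹ * (s * t))⁻¹ * (t * s)⁻¹ := by group
        _ = (t * s) * F.e₃ * (t * s)⁻¹ := by rw [← h]; group
    have l : (s * t) * F.e₃ * (s * t)⁻¹ = F.z₁ * F.e₂ * F.e₃ := by
      calc (s * t) * F.e₃ * (s * t)⁻¹ = s * (t * F.e₃ * t⁻¹) * s⁻¹ := by group
        _ = (s * F.e₂ * s⁻¹) * (s * F.e₃ * s⁻¹) := by rw [ct3]; group
        _ = _ := by rw [cs2, cs3]
    have r : (t * s) * F.e₃ * (t * s)⁻¹ = F.e₂ * F.e₃ := by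
      calc (t * s) * F.e₃ * (t * s)⁻¹ = t * (s * F.e₃ * s⁻¹) * t⁻¹ := by group
        _ = _ := by rw [cs3, ct3]
    rw [l, r, mul_assoc] at h1
    exact F.hz₁' (mul_eq_right.1 h1)

/-- A large subgroup of `W` pairing into a subgroup of index two of the third term. -/
theorem radical_small (Hs : Subgroup T) (hHs : Hs ≤ Z T 3) (hHcard : Nat.card ↥Hs = 4) (C : Subgroup T)
    (hCW : C ≤ W T) (hC : ∀ x ∈ C, ∀ y ∈ W T, ⁅x, y⁆ ∈ Hs) (hZC : Z T 3 ≤ C) :
    Nat.card ↥C < 2 ^ 7 := by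
  classical
  by_contra hlt
  set Hw := Hs.subgroupOf (W T)
  haveI : Hw.Normal := ⟨fun x hx g => by
    have hc := comm_Z_W (hHs (Subgroup.mem_subgroupOf.1 hx)) g.2
    rw [Subgroup.mem_subgroupOf, Subgroup.coe_mul, Subgroup.coe_mul, Subgroup.coe_inv, ← hc,
      mul_inv_cancel_right]
    exact Subgroup.mem_subgroupOf.1 hx⟩
  have hrel : Hs.relIndex (Z T 3) = 2 := by
    have h := Subgroup.relIndex_mul_relIndex ⊥ Hs (Z T 3) bot_le hHs
    rw [Subgroup.relIndex_bot_left, Subgroup.relIndex_bot_left, hHcard, (card_Z H).2.2.2] at h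
    omega
  obtain ⟨z, hz, hzH⟩ : ∃ z ∈ Z T 3, z ∉ Hs := SetLike.not_le_iff_exists.1 fun hle => by
    have := Subgroup.card_le_of_le hle
    have := (card_Z H).2.2.2
    omega
  have two : ∀ c ∈ Z T 3, c ∈ Hs ∨ z⁻¹ * c ∈ Hs := fun c hc => by
    by_cases h : c ∈ Hs
    · exact Or.inl h
    · refine Or.inr ?_
      rw [Subgroup.relIndex] at hrel
      simpa [Subgroup.mem_subgroupOf] using (Subgroup.mul_mem_iff_of_index_two hrel
        (a := (⟨z, hz⟩ : ↥(Z T 3))⁻¹) (b := ⟨c, hc⟩)).2 (by simp [Subgroup.mem_subgroupOf, h, hzH])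
  let π := QuotientGroup.mk' Hw
  have hzW := Z_three_le_W H hz
  have hπ : ∀ x : ↥(W T), π x = 1 ↔ (x : T) ∈ Hs := fun x =>
    (QuotientGroup.eq_one_iff x).trans Subgroup.mem_subgroupOf
  have val : ∀ x : ↥(W T), (x : T) ∈ Z T 3 → π x = 1 ∨ π x = π ⟨z, hzW⟩ := fun x hx => by
    rcases two x hx with h | h
    · exact Or.inl ((hπ x).2 h)
    · refine Or.inr (inv_mul_eq_one.1 ?_).symm
      rw [← map_inv, ← map_mul]
      exact (hπ _).2 (by simpa using h)
  have hker : π.ker = Hw := QuotientGroup.ker_mk' _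
  have hHwc : Nat.card ↥Hw = 4 := by
    rw [← hHcard]
    exact Nat.card_congr (Subgroup.subgroupOfEquivOfLe (hHs.trans (Z_three_le_W H))).toEquiv
  have hXcard : Nat.card (↥(W T) ⧸ Hw) = 2 ^ 9 := by
    have h := Subgroup.card_eq_card_quotient_mul_card_subgroup Hw
    rw [(orders H).2.1, hHwc] at h
    omega
  have hCcard : 2 ^ 5 ≤ Nat.card ↥((C.subgroupOf (W T)).map π) := by
    have hle : Hw ≤ C.subgroupOf (W T) := fun x hx => hZC (hHs hx)
    have h := (π.comp (C.subgroupOf (W T)).subtype).ker.card_mul_index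
    rw [Subgroup.index_ker, MonoidHom.range_comp, Subgroup.range_subtype, ← MonoidHom.comap_ker, hker,
      ← Subgroup.subgroupOf,
      Nat.card_congr (Subgroup.subgroupOfEquivOfLe hle).toEquiv, hHwc,
      Nat.card_congr (Subgroup.subgroupOfEquivOfLe hCW).toEquiv] at h
    omega
  obtain ⟨U, hzU, hU⟩ := CfsgLib.AvoidCentral.exists_avoiding (π ⟨z, hzW⟩)
    (fun e => hzH ((hπ _).1 e)) (by rw [← map_mul, hπ]; simpa [sq_Z_three H hz] using Hs.one_mem)
    (fun q => by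
      obtain ⟨x, rfl⟩ := QuotientGroup.mk'_surjective Hw q
      change π x * π _ = π _ * π x
      rw [← map_mul, ← map_mul]
      exact congrArg π (Subtype.ext (comm_Z_W hz x.2).symm))
    (fun q => by
      obtain ⟨x, rfl⟩ := QuotientGroup.mk'_surjective Hw q
      change π x * π x = 1 ∨ π x * π x = _
      rw [← map_mul]
      exact val _ (sq_mem H x.2))
    (fun q r => by
      obtain ⟨x, rfl⟩ := QuotientGroup.mk'_surjective Hw q
      obtain ⟨y, rfl⟩ := QuotientGroup.mk'_surjective Hw r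
      change ⁅π x, π y⁆ = 1 ∨ ⁅π x, π y⁆ = _
      rw [← map_commutatorElement]
      refine val _ ?_
      simpa [commutatorElement_def] using comm_mem H x.2 y.2)
    ((C.subgroupOf (W T)).map π) (Subgroup.mem_map_of_mem _ (hZC hz : (⟨z, hzW⟩ : ↥(W T)) ∈ C.subgroupOf (W T)))
    (fun c hc q => by
      obtain ⟨a, ha, rfl⟩ := hc
      obtain ⟨x, rfl⟩ := QuotientGroup.mk'_surjective Hw q
      change π x * π a = π a * π x
      symm
      rw [← commutatorElement_eq_one_iff_mul_comm, ← map_commutatorElement, hπ]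
      simpa [commutatorElement_def] using hC a (Subgroup.mem_subgroupOf.1 ha) x x.2)
    hCcard hXcard.ge
  have hidx : (U.comap π).index ≤ 16 := by
    rw [Subgroup.index_comap_of_surjective _ (QuotientGroup.mk'_surjective Hw)]
    have h := U.card_mul_index
    rw [hXcard] at h
    by_contra hh
    have h' : 2 ^ 5 * 17 ≤ Nat.card ↥U * U.index := Nat.mul_le_mul hU (by omega)
    omega
  obtain ⟨w, hw, hwe⟩ : z ∈ (frattini ↥(W T)).map (W T).subtype := by rwa [(orders H).2.2.2]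
  obtain rfl : w = ⟨z, hzW⟩ := Subtype.ext hwe
  exact hzU (H.deep _ hidx hw)

end CfsgLib.RuType
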