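import Cfsg.Agent.Lib.ClassK.SubgroupCount
import Mathlib

/-!
# Normal Sylow subgroups of minimal non-nilpotent groups

Abstractly: a `p`-group with an automorphism of prime order `q ≠ p` fixing every proper invariant subgroup
pointwise.
-/

set_option autoImplicit false

namespace CfsgLib.Invol.SchmidtSylow

open Subgroup
open scoped commutatorElement

variable {P : Type*} [Group P] [Finite P] {p q : ℕ}

/-- The hypotheses on the automorphism. -/
structure Data (p q : ℕ) (σ : MulAut P) : Prop where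
  pg : IsPGroup p P
  hq : q.Prime
  ne : q ≠ p
  pow : σ ^ q = 1
  ntriv : σ ≠ 1
  fixed : ∀ K : Subgroup P, K.map σ.toMonoidHom = K → K ≠ ⊤ → ∀ k ∈ K, σ k = k

theorem map_eq_of_mem {σ : MulAut P} {K : Subgroup P} (h : ∀ x ∈ K, σ x ∈ K) :
    K.map σ.toMonoidHom = K :=
  eq_of_le_of_card_ge (by rintro _ ⟨x, hx, rfl⟩; exact h x hx)
    (card_map_of_injective σ.injective).ge

omit [Finite P] in
theorem char_mem {σ : MulAut P} (K : Subgroup P) [K.Characteristic] : ∀ x ∈ K, σ x ∈ K :=
  fun x hx => (characteristic_iff_map_le.1 inferInstance σ) ⟨x, hx, rfl⟩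

omit [Finite P] in
theorem normal_of_commutator_le {K : Subgroup P} (h : commutator P ≤ K) : K.Normal :=
  ⟨fun k hk g => by
    have h1 : ⁅g, k⁆ ∈ K := h (commutator_mem_commutator (mem_top g) (mem_top k))
    have h2 := K.mul_mem h1 hk
    rwa [commutatorElement_def, inv_mul_cancel_right] at h2⟩

section Basic

variable [hp : Fact p.Prime] {σ : MulAut P} (D : Data p q σ)
include D

theorem eq_top_of_moves {M : Subgroup P} (hM : ∀ x ∈ M, σ x ∈ M) (h : ∀ w, w⁻¹ * σ w ∈ M) :
    M = ⊤ := by
  by_contra hne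
  have hfix := D.fixed M (map_eq_of_mem hM) hne
  refine D.ntriv (MulEquiv.ext fun w => ?_)
  set c := w⁻¹ * σ w with hc
  have hσc : σ c = c := hfix c (h w)
  have hw : σ w = w * c := by rw [hc]; group
  have hn : ∀ n : ℕ, (σ ^ n) w = w * c ^ n := by
    intro n
    induction n with
    | zero => simp
    | succ n ih => rw [pow_succ', MulAut.mul_apply, ih, map_mul, map_pow, hσc, hw, mul_assoc, ← pow_succ']
  have h1 := hn q
  rw [D.pow, MulAut.one_apply, left_eq_mul] at h1
  obtain ⟨k, hk⟩ := D.pg c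
  have h2 : c = 1 := by
    rw [← orderOf_eq_one_iff]
    exact Nat.eq_one_of_dvd_coprimes (Nat.Coprime.pow_left k
      ((Nat.coprime_primes hp.out D.hq).2 D.ne.symm))
      (orderOf_dvd_of_pow_eq_one hk) (orderOf_dvd_of_pow_eq_one h1)
  rw [hw, h2, mul_one]
  rfl

theorem le_center_of_invariant {K : Subgroup P} [hK : K.Normal] (hinv : ∀ x ∈ K, σ x ∈ K)
    (hne : K ≠ ⊤) : K ≤ center P := by
  have hfix := D.fixed K (map_eq_of_mem hinv) hne
  have htop : centralizer (K : Set P) = ⊤ := by
    refine eq_top_of_moves D (fun x hx => ?_) (fun w => ?_)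
    · rw [mem_centralizer_iff] at hx ⊢
      intro k hk
      rw [← hfix k hk, ← map_mul, ← map_mul, hx k hk]
    · rw [mem_centralizer_iff]
      intro k hk
      have h1 : σ (w * k * w⁻¹) = w * k * w⁻¹ := hfix _ (hK.conj_mem k hk w)
      rw [map_mul, map_mul, map_inv, hfix k hk] at h1
      calc k * (w⁻¹ * σ w) = w⁻¹ * (w * k * w⁻¹) * σ w := by group
        _ = w⁻¹ * (σ w * k * (σ w)⁻¹) * σ w := by rw [h1]
        _ = w⁻¹ * σ w * k := by group
  intro k hk
  rw [mem_center_iff]
  intro g
  exact (mem_centralizer_iff.1 (htop.ge (mem_top g)) k hk).symm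

theorem nontrivial : Nontrivial P := by
  by_contra h
  rw [not_nontrivial_iff_subsingleton] at h
  exact D.ntriv (MulEquiv.ext fun x => Subsingleton.elim _ _)

theorem commutator_le_center : commutator P ≤ center P := by
  haveI := nontrivial D
  haveI : Group.IsNilpotent P := D.pg.isNilpotent
  haveI : (commutator P).Characteristic := inferInstance
  exact le_center_of_invariant D (char_mem _)
    (Group.IsSolvable.commutator_lt_top_of_nontrivial P).ne

theorem pow_mem_center (x : P) : x ^ p ∈ center P := by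
  haveI := nontrivial D
  haveI : Group.IsNilpotent P := D.pg.isNilpotent
  obtain ⟨M, hM, -⟩ := (eq_top_or_exists_le_coatom (⊥ : Subgroup P)).resolve_left bot_ne_top
  have hne : frattini P ≠ ⊤ := fun e => hM.1 (top_le_iff.1 (e ▸ frattini_le_coatom hM))
  refine le_center_of_invariant D (char_mem _) hne ?_
  refine (Subgroup.mem_iInf).2 fun M => (Subgroup.mem_iInf).2 fun hM => ?_
  have hi := CfsgLib.ClassK.SubCount.index_of_isCoatom D.pg hM
  haveI : M.Normal := Subgroup.NormalizerCondition.normal_of_coatom M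
    Group.normalizerCondition_of_isNilpotent hM
  exact hi ▸ pow_index_mem M x

theorem center_ne_top_invariant {K : Subgroup P} (hK : center P ≤ K) (hinv : ∀ x ∈ K, σ x ∈ K)
    (hne : K ≠ ⊤) : K = center P := by
  haveI := normal_of_commutator_le ((commutator_le_center D).trans hK)
  exact le_antisymm (le_center_of_invariant D hinv hne) hK

theorem fixed_center (hna : center P ≠ ⊤) : ∀ z ∈ center P, σ z = z :=
  D.fixed _ (map_eq_of_mem (char_mem _)) hna

theorem center_le_commutator (hna : center P ≠ ⊤) : center P ≤ commutator P := by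
  classical
  let N : P →* Abelianization P :=
    ∏ i ∈ Finset.range q, Abelianization.of.comp ((σ ^ i : MulAut P).toMonoidHom)
  have hN : ∀ w, N w = ∏ i ∈ Finset.range q, Abelianization.of ((σ ^ i) w) := fun w => by
    simp [N, MonoidHom.finsetProd_apply]
  have hNσ : ∀ w, N (σ w) = N w := by
    intro w
    have h1 := Finset.prod_range_succ' (fun i => Abelianization.of ((σ ^ i) w)) q
    have h2 := Finset.prod_range_succ (fun i => Abelianization.of ((σ ^ i) w)) q
    rw [h2] at h1
    simp only [D.pow, pow_zero] at h1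
    rw [hN, hN]
    refine Eq.trans (Finset.prod_congr rfl fun i _ => ?_) (mul_right_cancel h1.symm)
    rw [pow_succ, MulAut.mul_apply]
  have htop : N.ker = ⊤ := eq_top_of_moves D
    (fun x hx => by rw [MonoidHom.mem_ker, hNσ]; exact hx)
    (fun w => by rw [MonoidHom.mem_ker, map_mul, map_inv, hNσ, inv_mul_cancel])
  intro z hz
  have hfix : ∀ i : ℕ, (σ ^ i) z = z := fun i => by
    induction i with
    | zero => rfl
    | succ i ih => rw [pow_succ', MulAut.mul_apply, ih, fixed_center D hna z hz]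
  have h1 : N z = 1 := MonoidHom.mem_ker.1 (htop.ge (mem_top z))
  rw [hN] at h1
  simp only [hfix, Finset.prod_const, Finset.card_range] at h1
  rw [← map_pow] at h1
  have h2 : z ^ q ∈ commutator P := by
    have h3 : z ^ q ∈ (Abelianization.of : P →* Abelianization P).ker := MonoidHom.mem_ker.2 h1
    rwa [Abelianization.ker_of] at h3
  obtain ⟨k, hk⟩ := D.pg z
  have hcop : Nat.Coprime (orderOf z) q := Nat.Coprime.coprime_dvd_left
    (orderOf_dvd_of_pow_eq_one hk)
    (Nat.Coprime.pow_left k ((Nat.coprime_primes hp.out D.hq).2 D.ne.symm))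
  obtain ⟨m, hm⟩ := exists_pow_eq_self_of_coprime hcop.symm
  rw [← hm]
  exact pow_mem h2 m

/-- The commutator map of an element, a homomorphism as commutators are central. -/
def comMap (x : P) : P →* P where
  toFun y := ⁅x, y⁆
  map_one' := commutatorElement_one_right x
  map_mul' y z := by
    have hc := mem_center_iff.1 (commutator_le_center D
      (commutator_mem_commutator (mem_top x) (mem_top z))) y
    calc ⁅x, y * z⁆ = ⁅x, y⁆ * (y * ⁅x, z⁆ * y⁻¹) := by simp only [commutatorElement_def]; group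
      _ = ⁅x, y⁆ * ⁅x, z⁆ := by rw [hc, mul_inv_cancel_right]

theorem comm_mul_left (a b z : P) : ⁅a * b, z⁆ = ⁅a, z⁆ * ⁅b, z⁆ := by
  have hc := mem_center_iff.1 (commutator_le_center D
    (commutator_mem_commutator (mem_top b) (mem_top z))) a
  have hc' := mem_center_iff.1 (commutator_le_center D
    (commutator_mem_commutator (mem_top b) (mem_top z))) ⁅a, z⁆
  calc ⁅a * b, z⁆ = a * ⁅b, z⁆ * a⁻¹ * ⁅a, z⁆ := by simp only [commutatorElement_def]; group
    _ = ⁅a, z⁆ * ⁅b, z⁆ := by rw [hc, mul_inv_cancel_right, ← hc']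

theorem comm_zpow_left (a z : P) (i : ℤ) : ⁅a ^ i, z⁆ = ⁅a, z⁆ ^ i :=
  map_zpow ({ toFun := fun a => ⁅a, z⁆, map_one' := commutatorElement_one_left z,
              map_mul' := fun a b => comm_mul_left D a b z } : P →* P) a i

theorem comm_zpow_right (a z : P) (i : ℤ) : ⁅a, z ^ i⁆ = ⁅a, z⁆ ^ i :=
  map_zpow (comMap D a) z i

/-- For a noncentral element, commutators with it fill the commutator subgroup. -/
theorem commutator_le_of_comm_mem (hna : center P ≠ ⊤) {x : P} (hx : x ∉ center P) {Z0 : Subgroup P}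
    (hZ0 : Z0 ≤ center P) (h : ∀ y, ⁅x, y⁆ ∈ Z0) : commutator P ≤ Z0 := by
  let R : Subgroup P :=
    { carrier := {w | ∀ z, ⁅w, z⁆ ∈ Z0}
      one_mem' := fun z => by rw [commutatorElement_one_left]; exact one_mem _
      mul_mem' := fun {a b} ha hb z => by rw [comm_mul_left D]; exact mul_mem (ha z) (hb z)
      inv_mem' := fun {a} ha z => by
        have h1 := comm_zpow_left D a z (-1)
        rw [zpow_neg_one, zpow_neg_one] at h1
        rw [h1]
        exact inv_mem (ha z) }
  have hR : center P ≤ R := fun c hc z => by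
    rw [commutatorElement_eq_one_iff_mul_comm.2 (mem_center_iff.1 hc z).symm]
    exact one_mem _
  have hRtop : R = ⊤ := by
    by_contra hne
    refine hx ((center_ne_top_invariant D hR (fun w hw z => ?_) hne).le h)
    have h1 := hw (σ.symm z)
    have h2 : σ ⁅w, σ.symm z⁆ = ⁅σ w, z⁆ := by
      rw [map_commutatorElement, MulEquiv.apply_symm_apply]
    rw [← h2, fixed_center D hna _ (hZ0 h1)]
    exact h1
  rw [commutator_def, commutator_le]
  exact fun a _ b _ => hRtop.ge (mem_top a) b

omit D in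
theorem card_eq_mul_prime {K L : Subgroup P} [K.Normal] (hKL : K ≤ L) {x : P} (hx : x ∈ L)
    (hxK : x ∉ K) (hxp : x ^ p ∈ K) (hgen : ∀ y ∈ L, ∃ i : ℤ, y * (x ^ i)⁻¹ ∈ K) :
    Nat.card L = Nat.card K * p := by
  have hmap : L.map (QuotientGroup.mk' K) = zpowers (QuotientGroup.mk' K x) := by
    refine le_antisymm ?_ (zpowers_le.2 (mem_map_of_mem _ hx))
    rintro _ ⟨y, hy, rfl⟩
    obtain ⟨i, hi⟩ := hgen y hy
    refine ⟨i, ?_⟩
    show (QuotientGroup.mk' K x) ^ i = QuotientGroup.mk' K y
    have h1 : QuotientGroup.mk' K (y * (x ^ i)⁻¹) = 1 := (QuotientGroup.eq_one_iff _).2 hi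
    rw [map_mul, map_inv, mul_inv_eq_one, map_zpow] at h1
    exact h1.symm
  have hord : orderOf (QuotientGroup.mk' K x) = p := orderOf_eq_prime
    (by rw [← map_pow]; exact (QuotientGroup.eq_one_iff _).2 hxp)
    (fun e => hxK ((QuotientGroup.eq_one_iff _).1 e))
  have h2 : K.relIndex L = p := by
    rw [← hord, ← Nat.card_zpowers, ← hmap, ← relIndex_ker, QuotientGroup.ker_mk']
  have h3 := relIndex_mul_relIndex ⊥ K L bot_le hKL
  rw [relIndex_bot_left, relIndex_bot_left, h2] at h3
  exact h3.symm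

theorem exists_shape {V B Z0 : Subgroup P} (hna : center P ≠ ⊤) (hZV : center P ≤ V) (hV : V ≠ ⊤)
    (hCV : centralizer (V : Set P) ≤ V) (hVB : V ≤ B) (hB : B.index = p) (hZ0 : Z0 < commutator P)
    (hcom : ∀ v ∈ V, ∀ b ∈ B, ⁅v, b⁆ ∈ Z0) :
    Nat.card (center P) = p ∧ Nat.card V = p ^ 2 ∧ V.index = p := by
  have hDZ := commutator_le_center D
  haveI hBn : B.Normal := normal_of_commutator_le (hDZ.trans (hZV.trans hVB))
  haveI hVn : V.Normal := normal_of_commutator_le (hDZ.trans hZV)
  obtain ⟨v, hvV, hvZ⟩ : ∃ v ∈ V, v ∉ center P := by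
    by_contra h
    push Not at h
    refine hV (top_le_iff.1 (le_trans ?_ hCV))
    intro g _
    exact mem_centralizer_iff.2 fun x hx => (mem_center_iff.1 (h x hx) g).symm
  obtain ⟨a, ha⟩ : ∃ a, a ∉ B := by
    by_contra h
    push Not at h
    exact hp.out.ne_one (hB ▸ index_eq_one.2 (eq_top_iff.2 fun x _ => h x))
  have hPB : ∀ y, ∃ i : ℤ, y * (a ^ i)⁻¹ ∈ B := by
    intro y
    have hz := zpowers_eq_top_of_prime_card (G := P ⧸ B) (p := p) hB
      (g := QuotientGroup.mk' B a) (fun e => ha ((QuotientGroup.eq_one_iff _).1 e))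
    obtain ⟨i, hi⟩ := mem_zpowers_iff.1 (hz.ge (mem_top (QuotientGroup.mk' B y)))
    refine ⟨i, (QuotientGroup.eq_one_iff _).1 ?_⟩
    show QuotientGroup.mk' B (y * (a ^ i)⁻¹) = 1
    rw [map_mul, map_inv, map_zpow, hi, mul_inv_cancel]
  have hsplit : ∀ u ∈ V, ∀ y, ∀ i : ℤ, y * (a ^ i)⁻¹ ∈ B →
      ∃ z0 ∈ Z0, ⁅u, y⁆ = z0 * ⁅u, a⁆ ^ i := by
    intro u hu y i hi
    refine ⟨_, hcom u hu _ hi, ?_⟩
    rw [← comm_zpow_right D]
    exact (congrArg (fun t => ⁅u, t⁆) (inv_mul_cancel_right y (a ^ i))).symm.trans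
      ((comMap D u).map_mul _ _)
  have hZ0Z : Z0 ≤ center P := hZ0.le.trans hDZ
  -- `V` is generated by `v` over the centre
  have hVgen : ∀ u ∈ V, ∃ i : ℤ, u * (v ^ i)⁻¹ ∈ center P := by
    intro u hu
    have hrange : commutator P ≤ (comMap D v).range :=
      commutator_le_of_comm_mem D hna hvZ
        (fun c ⟨y, hy⟩ => hy ▸ hDZ (commutator_mem_commutator (mem_top v) (mem_top y)))
        (fun y => ⟨y, rfl⟩)
    obtain ⟨y, hy⟩ := hrange (commutator_mem_commutator (mem_top u) (mem_top a))
    obtain ⟨i, hi⟩ := hPB y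
    obtain ⟨z0, hz0, hz⟩ := hsplit v hvV y i hi
    refine ⟨i, ?_⟩
    by_contra hw
    have hwV : u * (v ^ i)⁻¹ ∈ V := mul_mem hu (inv_mem (zpow_mem hvV i))
    refine hZ0.not_ge (commutator_le_of_comm_mem D hna hw hZ0Z fun x => ?_)
    obtain ⟨j, hj⟩ := hPB x
    obtain ⟨z1, hz1, hz'⟩ := hsplit _ hwV x j hj
    rw [hz']
    refine mul_mem hz1 (zpow_mem ?_ j)
    have hval : ⁅u * (v ^ i)⁻¹, a⁆ = z0 := by
      rw [← zpow_neg, comm_mul_left D, comm_zpow_left D, zpow_neg]
      change ⁅v, y⁆ = ⁅u, a⁆ at hy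
      rw [← hy, hz, mul_inv_cancel_right]
    rw [hval]
    exact hz0
  have hCv : ∀ x, ⁅v, x⁆ = 1 → x ∈ V := by
    intro x hx
    refine hCV (mem_centralizer_iff.2 fun u hu => ?_)
    obtain ⟨i, hi⟩ := hVgen u hu
    have h1 : Commute (v ^ i) x :=
      (show Commute v x from commutatorElement_eq_one_iff_mul_comm.1 hx).zpow_left i
    have h2 : Commute (u * (v ^ i)⁻¹) x := (mem_center_iff.1 hi x).symm
    have h3 := h2.mul_left h1
    rw [inv_mul_cancel_right] at h3
    exact h3.eq
  -- the conjugates of `v` under `σ`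
  set w := σ v with hw
  have hu : w * σ.symm v ∈ V := by
    refine hCv _ ?_
    have h1 : ⁅v, σ.symm v⁆ = ⁅w, v⁆ := by
      rw [← fixed_center D hna _ (hDZ (commutator_mem_commutator (mem_top v) (mem_top (σ.symm v)))),
        map_commutatorElement, MulEquiv.apply_symm_apply]
    have h2 := (comMap D v).map_mul w (σ.symm v)
    change ⁅v, w * σ.symm v⁆ = ⁅v, w⁆ * ⁅v, σ.symm v⁆ at h2
    rw [h2, h1, ← commutatorElement_inv v w, mul_inv_cancel]
  have hWtop : V ⊔ zpowers w = ⊤ := by
    by_contra hne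
    refine hvZ ((center_ne_top_invariant D (hZV.trans le_sup_left) ?_ hne).le (mem_sup_left hvV))
    have hwmem : w ∈ V ⊔ zpowers w := mem_sup_right (mem_zpowers w)
    have hVmap : ∀ u ∈ V, σ u ∈ V ⊔ zpowers w := by
      intro u hu'
      obtain ⟨i, hi⟩ := hVgen u hu'
      have e : σ u = σ (u * (v ^ i)⁻¹) * w ^ i := by
        rw [hw, ← map_zpow, ← map_mul, inv_mul_cancel_right]
      rw [e, fixed_center D hna _ hi]
      exact mul_mem (mem_sup_left (hZV hi)) (zpow_mem hwmem i)
    have hww : σ w ∈ V ⊔ zpowers w := by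
      have h1 := hVmap _ hu
      rw [map_mul, MulEquiv.apply_symm_apply] at h1
      have h2 := mul_mem h1 (inv_mem (mem_sup_left (T := zpowers w) hvV))
      rwa [mul_inv_cancel_right] at h2
    have hle : V ⊔ zpowers w ≤ (V ⊔ zpowers w).comap σ.toMonoidHom :=
      sup_le hVmap (zpowers_le.2 hww)
    exact fun x hx => hle hx
  have hPV : ∀ y, ∃ j : ℤ, y * (w ^ j)⁻¹ ∈ V := by
    intro y
    have hy : y ∈ V ⊔ zpowers w := hWtop.ge (mem_top y)
    obtain ⟨u, hu', _, ⟨j, rfl⟩, rfl⟩ := mem_sup_of_normal_left.1 hy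
    exact ⟨j, by simpa using hu'⟩
  have hwV : w ∉ V := fun h => hV (by rw [← hWtop, sup_eq_left.2 (zpowers_le.2 h)])
  have hVidx : V.index = p := by
    have h := card_eq_mul_prime (p := p) (K := V) (L := ⊤) le_top (mem_top w) hwV
      (hZV (pow_mem_center D w)) fun y _ => hPV y
    rw [card_top, ← card_mul_index V] at h
    exact Nat.eq_of_mul_eq_mul_left Nat.card_pos h
  -- the commutator subgroup has order `p`
  have hDcyc : commutator P ≤ zpowers ⁅v, w⁆ := by
    refine commutator_le_of_comm_mem D hna hvZ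
      (zpowers_le.2 (hDZ (commutator_mem_commutator (mem_top v) (mem_top w)))) fun y => ?_
    obtain ⟨j, hj⟩ := hPV y
    obtain ⟨i, hi⟩ := hVgen _ hj
    refine ⟨j, ?_⟩
    have hone : ⁅v, y * (w ^ j)⁻¹⁆ = 1 := by
      refine commutatorElement_eq_one_iff_mul_comm.2 ?_
      have h1 : Commute v (y * (w ^ j)⁻¹ * (v ^ i)⁻¹) := mem_center_iff.1 hi v
      have h2 := h1.mul_right ((Commute.refl v).zpow_right i)
      rw [inv_mul_cancel_right] at h2
      exact h2.eq
    show ⁅v, w⁆ ^ j = ⁅v, y⁆
    have h2 := (comMap D v).map_mul (y * (w ^ j)⁻¹) (w ^ j)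
    rw [inv_mul_cancel_right] at h2
    change ⁅v, y⁆ = ⁅v, y * (w ^ j)⁻¹⁆ * ⁅v, w ^ j⁆ at h2
    rw [h2, hone, one_mul, comm_zpow_right D]
  have hcp : ⁅v, w⁆ ^ p = 1 := by
    have h1 := comm_zpow_right D v w (p : ℤ)
    rw [zpow_natCast, zpow_natCast] at h1
    rw [← h1]
    exact commutatorElement_eq_one_iff_mul_comm.2 (mem_center_iff.1 (pow_mem_center D w) v)
  have hc1 : ⁅v, w⁆ ≠ 1 := fun h => hwV (hCv w h)
  have hZcard : Nat.card (center P) = p := by
    have e : center P = zpowers ⁅v, w⁆ := le_antisymm ((center_le_commutator D hna).trans hDcyc)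
      (zpowers_le.2 (hDZ (commutator_mem_commutator (mem_top v) (mem_top w))))
    rw [e, Nat.card_zpowers, orderOf_eq_prime hcp hc1]
  refine ⟨hZcard, ?_, hVidx⟩
  rw [card_eq_mul_prime (p := p) hZV hvV hvZ (pow_mem_center D v) hVgen, hZcard, sq]

theorem mem_center_of_moves_le {y : P} (hy : y⁻¹ * σ y ∈ center P) (hna : center P ≠ ⊤) :
    y ∈ center P := by
  have hne : center P ⊔ zpowers y ≠ ⊤ := by
    intro e
    refine hna (eq_top_iff.2 ?_)
    have hle : center P ⊔ zpowers y ≤ centralizer ({y} : Set P) :=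
      sup_le (fun z hz => mem_centralizer_singleton_iff.2 (mem_center_iff.1 hz y).symm)
        (zpowers_le.2 (mem_centralizer_singleton_iff.2 rfl))
    have hyc : y ∈ center P := mem_center_iff.2 fun g =>
      mem_centralizer_singleton_iff.1 (hle (e.ge (mem_top g)))
    rw [← e]
    exact sup_le le_rfl (zpowers_le.2 hyc)
  refine (center_ne_top_invariant D le_sup_left ?_ hne).le (mem_sup_right (mem_zpowers y))
  have h1 : center P ⊔ zpowers y ≤ (center P ⊔ zpowers y).comap σ.toMonoidHom := by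
    refine sup_le (fun z hz => mem_sup_left (char_mem _ z hz)) (zpowers_le.2 ?_)
    show σ y ∈ center P ⊔ zpowers y
    rw [show σ y = y * (y⁻¹ * σ y) from (mul_inv_cancel_left y (σ y)).symm]
    exact mul_mem (mem_sup_right (mem_zpowers y)) (mem_sup_left hy)
  exact fun x hx => h1 hx

theorem five_le {V : Subgroup P} (hna : center P ≠ ⊤) (hZV : center P ≤ V) (hV : V ≠ ⊤)
    (hZne : V ≠ center P) (hZ : Nat.card (center P) = p) (hVc : Nat.card V = p ^ 2)
    (hVi : V.index = p) (hexp : ∀ v ∈ V, v ^ p = 1) : 5 ≤ p := by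
  classical
  have hDZ := commutator_le_center D
  have hP : Nat.card P = p ^ 3 := by rw [← card_mul_index V, hVc, hVi, ← pow_succ]
  have hVinv : ¬ ∀ x ∈ V, σ x ∈ V := fun h => hZne (center_ne_top_invariant D hZV h hV)
  haveI hVn : V.Normal := normal_of_commutator_le (hDZ.trans hZV)
  obtain ⟨v, hvV, hvZ⟩ : ∃ v ∈ V, v ∉ center P := by
    by_contra h
    push Not at h
    exact hZne (le_antisymm h hZV)
  have hVgen : V = center P ⊔ zpowers v := by
    refine (eq_of_le_of_card_ge (sup_le hZV (zpowers_le.2 hvV)) ?_).symm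
    have hlt : Nat.card (center P) < Nat.card (center P ⊔ zpowers v : Subgroup P) :=
      lt_of_le_of_ne (card_le_of_le le_sup_left) fun e =>
        hvZ ((eq_of_le_of_card_ge le_sup_left e.ge).ge (mem_sup_right (mem_zpowers v)))
    obtain ⟨n, hn⟩ := IsPGroup.iff_card.1 (D.pg.to_subgroup (center P ⊔ zpowers v))
    rw [hn, hVc]
    rw [hn, hZ] at hlt
    refine Nat.pow_le_pow_right hp.out.pos ?_
    by_contra hn2
    have h1 : p ^ n ≤ p ^ 1 := Nat.pow_le_pow_right hp.out.pos (by omega)
    rw [pow_one] at h1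
    omega
  have hσv : σ v ∉ V := fun h => hVinv (by
    have h1 : V ≤ V.comap σ.toMonoidHom := by
      conv_lhs => rw [hVgen]
      exact sup_le (fun z hz => hZV (char_mem _ z hz)) (zpowers_le.2 h)
    exact fun x hx => h1 hx)
  -- the order of `σ` divides the number of noncentral elements
  have hdvd : q ∣ p ^ 3 - p := by
    let S : SubMulAction (zpowers σ) P :=
      { carrier := (center P : Set P)ᶜ
        smul_mem' := fun g x hx h => hx (by
          have := char_mem (σ := (g : MulAut P)⁻¹) (center P) _ h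
          simpa [Subgroup.smul_def] using this) }
    have hS : Nat.card S = p ^ 3 - p := by
      show Nat.card ((center P : Set P)ᶜ : Set P) = _
      rw [Nat.card_coe_set_eq, Set.ncard_compl, ← Nat.card_coe_set_eq, hP]
      exact congrArg (fun t => p ^ 3 - t) hZ
    haveI : Fact q.Prime := ⟨D.hq⟩
    have hQ : IsPGroup q (zpowers σ) := IsPGroup.of_card (n := 1) (by
      rw [pow_one, Nat.card_zpowers]; exact orderOf_eq_prime D.pow D.ntriv)
    have h := hQ.card_modEq_card_fixedPoints S
    haveI : IsEmpty (MulAction.fixedPoints (zpowers σ) S) := ⟨fun ⟨x, hx⟩ => x.2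
      (mem_center_of_moves_le D (by
        have h1 : σ (x : P) = x := congrArg Subtype.val (hx ⟨σ, mem_zpowers σ⟩)
        rw [h1, inv_mul_cancel]; exact one_mem _) hna)⟩
    rw [Nat.card_of_isEmpty (α := MulAction.fixedPoints (zpowers σ) S), hS] at h
    exact Nat.modEq_zero_iff_dvd.1 h
  by_contra hlt
  have h2 := hp.out.two_le
  have hswap : ∀ a b : P, (a * b)⁻¹ * (b * a) ∈ center P := fun a b => by
    have e : (a * b)⁻¹ * (b * a) = ⁅b⁻¹, a⁻¹⁆ := by rw [commutatorElement_def]; group
    rw [e]; exact hDZ (commutator_mem_commutator (mem_top _) (mem_top _))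
  have hp23 : p = 2 ∨ p = 3 := by
    rcases (show p = 2 ∨ p = 3 ∨ p = 4 by omega) with h | h | h
    · exact Or.inl h
    · exact Or.inr h
    · exact absurd (h ▸ hp.out) (by norm_num)
  have hpow : σ ^ q = 1 := D.pow
  rcases hp23 with rfl | rfl
  · -- `q = 3`, and every element is an involution
    have hq3 : q = 3 := by
      have : q ∣ 6 := by simpa using hdvd
      rcases D.hq.dvd_mul.1 (show q ∣ 2 * 3 from this) with h | h
      · exact absurd ((Nat.prime_dvd_prime_iff_eq D.hq Nat.prime_two).1 h) D.ne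
      · exact (Nat.prime_dvd_prime_iff_eq D.hq Nat.prime_three).1 h
    subst hq3
    set w := σ v
    set y := v * w * σ w with hy
    have hyZ : y ∈ center P := by
      refine mem_center_of_moves_le D ?_ hna
      have h3 : σ (σ w) = v := by
        have := congrArg (fun f : MulAut P => f v) hpow
        simpa [pow_succ, MulAut.mul_apply, w] using this
      have e : y⁻¹ * σ y = (v * (w * σ w))⁻¹ * (w * σ w * v) := by
        rw [hy, map_mul, map_mul, h3, show σ v = w from rfl, mul_assoc v]
      rw [e]; exact hswap v (w * σ w)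
    have hsqv : ∀ u ∈ V, u ^ 2 = 1 := hexp
    have hy2 : y ^ 2 = 1 := hexp y (hZV hyZ)
    have hvw : (v * w) ^ 2 = 1 := by
      have e : v * w = y * (σ w)⁻¹ := by rw [hy, mul_inv_cancel_right]
      have hc : Commute y (σ w)⁻¹ := (mem_center_iff.1 hyZ _).symm
      rw [e, hc.mul_pow, hy2, one_mul, inv_pow, ← map_pow, show w ^ 2 = 1 by
        rw [← map_pow, hexp v hvV, map_one], map_one, inv_one]
    have hw2 : w ^ 2 = 1 := by rw [← map_pow, hexp v hvV, map_one]
    have hPV : ∀ x : P, x ∈ V ∨ x * w ∈ V := by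
      intro x
      by_cases hx : x ∈ V
      · exact Or.inl hx
      · exact Or.inr ((mul_mem_iff_of_index_two hVi).2 (iff_of_false hx hσv))
    have hall : ∀ x : P, x ^ 2 = 1 := by
      intro x
      rcases hPV x with hx | hx
      · exact hexp x hx
      · have hx' := hx
        rw [hVgen, mem_sup_of_normal_left] at hx'
        obtain ⟨z, hz, _, ⟨i, rfl⟩, he⟩ := hx'
        have hxe : x = z * (v ^ i * w) := by
          rw [← mul_assoc, show z * v ^ i = x * w from he, mul_assoc, ← sq, hw2, mul_one]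
        have hvi : v ^ i = 1 ∨ v ^ i = v := by
          have hv2 : v ^ (2 : ℤ) = 1 := by exact_mod_cast hexp v hvV
          rcases Int.even_or_odd' i with ⟨k, rfl | rfl⟩
          · exact Or.inl (by rw [zpow_mul, hv2, one_zpow])
          · exact Or.inr (by rw [zpow_add, zpow_mul, hv2, one_zpow, one_mul, zpow_one])
        rw [hxe, (show Commute z (v ^ i * w) from (mem_center_iff.1 hz _).symm).mul_pow,
          hexp z (hZV hz), one_mul]
        rcases hvi with e | e
        · rw [e, one_mul, hw2]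
        · rw [e, hvw]
    refine hna (eq_top_iff.2 fun x _ => mem_center_iff.2 fun g => ?_)
    have h1 := hall (g * x); have h2 := hall g; have h3 := hall x
    rw [sq] at h1 h2 h3
    calc g * x = g * (g * x * (g * x)) * x := by rw [h1, mul_one]
      _ = (g * g) * (x * g) * (x * x) := by group
      _ = x * g := by rw [h2, h3, one_mul, mul_one]
  · have hq2 : q = 2 := by
      have : q ∣ 24 := by simpa using hdvd
      rcases D.hq.dvd_mul.1 (show q ∣ 2 ^ 3 * 3 from this) with h | h
      · exact (Nat.prime_dvd_prime_iff_eq D.hq Nat.prime_two).1 (D.hq.dvd_of_dvd_pow h)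
      · exact absurd ((Nat.prime_dvd_prime_iff_eq D.hq Nat.prime_three).1 h) D.ne
    subst hq2
    have h2' : σ (σ v) = v := by
      have := congrArg (fun f : MulAut P => f v) hpow
      simpa [pow_succ, MulAut.mul_apply] using this
    have hyZ : v * σ v ∈ center P := by
      refine mem_center_of_moves_le D ?_ hna
      rw [map_mul, h2']; exact hswap v (σ v)
    refine hσv ?_
    rw [show σ v = v⁻¹ * (v * σ v) from (inv_mul_cancel_left v (σ v)).symm]
    exact mul_mem (inv_mem hvV) (hZV hyZ)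

end Basic

end CfsgLib.Invol.SchmidtSylow
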