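import Cfsg.Agent.Lib.Invol.SchmidtSylow
import Cfsg.Agent.Lib.Solvable.MinimalNonNilpotent
import Cfsg.Agent.Lib.PLength.Constrained
import Cfsg.Agent.Lib.PLength.Series
import Cfsg.Agent.Lib.OddLocal.PLength
import Cfsg.Agent.Lib.BlockB.PSolvableCentralizer
import Cfsg.Agent.Lib.Comp.Signalizer
import Mathlib

/-!
# `p`-length one for `p`-solvable groups with a Schmidt-type Sylow subgroup
-/

set_option autoImplicit false

namespace CfsgLib.Invol.SchmidtSylow

open Subgroup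
open scoped commutatorElement

variable {p : ℕ} [hp : Fact p.Prime]

theorem Data.transport {P P' : Type*} [Group P] [Group P'] {q : ℕ} {σ : MulAut P} (D : Data p q σ)
    (e : P ≃* P') : Data p q (MulAut.congr e σ) := by
  refine ⟨D.pg.of_equiv e, D.hq, D.ne, by rw [← map_pow, D.pow, map_one], fun h => D.ntriv ?_,
    fun K hK hne k hk => ?_⟩
  · exact (MulAut.congr e).injective (by rw [h, map_one])
  · have h1 : (K.comap e.toMonoidHom).map σ.toMonoidHom = K.comap e.toMonoidHom := by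
      ext x
      constructor
      · rintro ⟨y, hy, rfl⟩
        have h2 : MulAut.congr e σ (e y) ∈ K := hK.le ⟨e y, hy, rfl⟩
        simpa using h2
      · intro hx
        obtain ⟨y, hy, he⟩ := hK.ge (show e x ∈ K from hx)
        refine ⟨e.symm y, show e (e.symm y) ∈ K by rw [e.apply_symm_apply]; exact hy, ?_⟩
        apply e.injective
        simpa using he
    have h2 := D.fixed _ h1 (fun h => hne (by
      rw [← map_comap_eq_self_of_surjective (f := e.toMonoidHom) e.surjective K, h,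
        map_top_of_surjective _ e.surjective]))
      (e.symm k) (show e (e.symm k) ∈ K by rw [e.apply_symm_apply]; exact hk)
    simpa using congrArg e h2

/-- A minimal non-nilpotent group gives the automorphism of its normal Sylow subgroup. -/
theorem exists_data {X : Type*} [Group X] [Finite X] (hX : Cfsg.IsMinimalNonNilpotent X)
    (P : Sylow p X) (hPn : (P : Subgroup X).Normal) (hP1 : (P : Subgroup X) ≠ ⊥) :
    ∃ (q : ℕ) (σ : MulAut (P : Subgroup X)), Data p q σ := by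
  obtain ⟨c, r, hc, hr, hcr, C, R, hCc, hRn, hCR⟩ := CfsgLib.Solvable.schmidt_structure hX
  haveI : Fact c.Prime := ⟨hc⟩
  haveI : Fact r.Prime := ⟨hr⟩
  have hnil : ¬ (C : Subgroup X).Normal := fun hCn => hX.1 (by
    have h := CfsgLib.Solvable.isNilpotent_sup (A := (C : Subgroup X)) (B := (R : Subgroup X))
      C.2.isNilpotent R.2.isNilpotent
    rw [hCR] at h
    exact (Group.isNilpotent_congr Subgroup.topEquiv).1 h)
  have hcard : Nat.card X = Nat.card (C : Subgroup X) * Nat.card (R : Subgroup X) :=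
    (isComplement'_of_disjoint_and_mul_eq_univ (IsPGroup.disjoint_of_ne c r hcr _ _ C.2 R.2)
      (by rw [← mul_normal, hCR, coe_top])).card_mul_card.symm
  have hpdvd : p ∣ Nat.card X := by
    obtain ⟨n, hn, hn'⟩ := P.2.nontrivial_iff_card.1 ((nontrivial_iff_ne_bot _).2 hP1)
    exact (hn' ▸ dvd_pow_self p hn.ne').trans (card_subgroup_dvd_card _)
  have hpr : p = r := by
    rw [hcard, C.card_eq_multiplicity, R.card_eq_multiplicity] at hpdvd
    rcases hp.out.dvd_mul.1 hpdvd with h | h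
    · exfalso
      have hpc := (Nat.prime_dvd_prime_iff_eq hp.out hc).1 (hp.out.dvd_of_dvd_pow h)
      subst hpc
      obtain ⟨g, hg⟩ := MulAction.exists_smul_eq X P C
      exact hnil (by rw [← hg, Sylow.coe_subgroup_smul, Subgroup.Normal.conj_smul_eq_self]; exact hPn)
    · exact (Nat.prime_dvd_prime_iff_eq hp.out hr).1 (hp.out.dvd_of_dvd_pow h)
  subst hpr
  obtain ⟨g, hg⟩ := MulAction.exists_smul_eq X P R
  have hPR : (R : Subgroup X) = P := by
    rw [← hg, Sylow.coe_subgroup_smul, Subgroup.Normal.conj_smul_eq_self]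
  rw [hPR] at hCR
  obtain ⟨⟨y, hyC⟩, hy⟩ := isCyclic_iff_exists_zpowers_eq_top.1 hCc
  have hC : (C : Subgroup X) = zpowers y := by
    refine le_antisymm (fun x hx => ?_) (zpowers_le.2 hyC)
    obtain ⟨i, hi⟩ := mem_zpowers_iff.1 (hy.ge (mem_top (⟨x, hx⟩ : (C : Subgroup X))))
    exact ⟨i, congrArg Subtype.val hi⟩
  have hd : Disjoint (P : Subgroup X) (C : Subgroup X) :=
    IsPGroup.disjoint_of_ne p c (Ne.symm hcr) _ _ P.2 C.2
  let σ : MulAut (P : Subgroup X) := MulAut.conjNormal y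
  have hσ : ∀ x : (P : Subgroup X), ((σ x : (P : Subgroup X)) : X) = y * x * y⁻¹ :=
    fun x => MulAut.conjNormal_apply y x
  -- a power of `y` normalising a part of `P` acts trivially on it in a proper join
  have hcomm : ∀ K : Subgroup X, K ≤ (P : Subgroup X) → ∀ i : ℕ,
      K ⊔ zpowers (y ^ i) ≠ ⊤ → ∀ x ∈ K, y ^ i * x = x * y ^ i := fun K hK i hne x hx =>
    (CfsgLib.Solvable.commute_of_isNilpotent_of_ne (hX.2 _ hne) (Ne.symm hcr) (P.2.to_le hK)
      (C.2.to_le (hC ▸ zpowers_le.2 (pow_mem (mem_zpowers y) i))) le_sup_left le_sup_right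
      x hx (y ^ i) (mem_zpowers _)).symm
  have hntriv : σ ≠ 1 := by
    intro h
    refine hnil ?_
    rw [← normalizer_eq_top_iff, eq_top_iff, ← hCR]
    refine sup_le le_normalizer fun x hx => centralizer_le_normalizer _ (mem_centralizer_iff.2 fun z hz => ?_)
    have h1 : y * x * y⁻¹ = x := by
      have := hσ ⟨x, hx⟩
      rw [h] at this
      exact this.symm
    have h2 : Commute y x := mul_inv_eq_iff_eq_mul.1 h1
    obtain ⟨i, rfl⟩ := mem_zpowers_iff.1 (hC.le hz)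
    exact (h2.zpow_left i).eq
  have hy1 : y ≠ 1 := fun h => hntriv (by
    refine MulEquiv.ext fun x => Subtype.ext ?_
    rw [hσ, h]; simp)
  refine ⟨c, σ, P.2, hc, hcr, ?_, hntriv, fun K hK hne k hk => ?_⟩
  · have hne : (P : Subgroup X) ⊔ zpowers (y ^ c) ≠ ⊤ := by
      intro e
      have hmem : y ∈ (P : Subgroup X) ⊔ zpowers (y ^ c) := e.ge (mem_top y)
      obtain ⟨u, hu, _, ⟨i, rfl⟩, he⟩ := mem_sup_of_normal_left.1 hmem
      change u * (y ^ c) ^ i = y at he
      have hu1 : u = 1 := Subgroup.disjoint_def.1 hd hu (by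
        rw [eq_mul_inv_of_mul_eq he, hC]
        exact mul_mem (mem_zpowers y) (inv_mem (zpow_mem (pow_mem (mem_zpowers y) c) i)))
      rw [hu1, one_mul, ← zpow_natCast y c, ← zpow_mul] at he
      have h1 : y ^ ((c : ℤ) * i - 1) = 1 := by rw [zpow_sub_one, he, mul_inv_cancel]
      have h2 := orderOf_dvd_iff_zpow_eq_one.2 h1
      obtain ⟨n, hn⟩ := (IsPGroup.iff_orderOf.1 C.2) ⟨y, hyC⟩
      rw [orderOf_mk] at hn
      have hn0 : n ≠ 0 := fun h0 => hy1 (orderOf_eq_one_iff.1 (by rw [hn, h0, pow_zero]))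
      have h3 : (c : ℤ) ∣ (c : ℤ) * i - 1 := (Int.natCast_dvd_natCast.2 (dvd_pow_self c hn0)).trans (hn ▸ h2)
      have h4 : (c : ℤ) ∣ 1 := by simpa using (dvd_mul_right (c : ℤ) i).sub h3
      exact hc.ne_one (Nat.dvd_one.1 (by exact_mod_cast h4))
    refine MulEquiv.ext fun x => Subtype.ext ?_
    have h1 := hcomm _ le_rfl c hne x x.2
    rw [show σ ^ c = MulAut.conjNormal (y ^ c) from (map_pow _ _ _).symm, MulAut.conjNormal_apply, h1,
      mul_inv_cancel_right]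
    rfl
  · have hKle : K.map (P : Subgroup X).subtype ≤ (P : Subgroup X) := map_subtype_le K
    have hnorm : zpowers y ≤ normalizer ((K.map (P : Subgroup X).subtype : Subgroup X) : Set X) := by
      refine zpowers_le.2 (mem_normalizer_iff_map_conj_eq.2 ?_)
      conv_rhs => rw [← hK]
      ext z
      simp only [mem_map, MulEquiv.coe_toMonoidHom, MonoidHom.coe_coe, Subgroup.coe_subtype,
        MulAut.conj_apply]
      constructor
      · rintro ⟨_, ⟨x, hx, rfl⟩, rfl⟩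
        exact ⟨σ x, ⟨x, hx, rfl⟩, hσ x⟩
      · rintro ⟨_, ⟨x, hx, rfl⟩, rfl⟩
        exact ⟨x, ⟨x, hx, rfl⟩, (hσ x).symm⟩
    have hne' : K.map (P : Subgroup X).subtype ⊔ zpowers (y ^ 1) ≠ ⊤ := by
      rw [pow_one]
      intro e
      refine hne (eq_top_iff.2 fun x _ => ?_)
      have hx : (x : X) ∈ K.map (P : Subgroup X).subtype ⊔ zpowers y := e.ge (mem_top _)
      obtain ⟨a, ha, b, hb, hab⟩ := (CfsgLib.Coprime.mem_sup_of_le_normalizer' hnorm).1 hx
      have ha1 : a = 1 := Subgroup.disjoint_def.1 hd (by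
        rw [eq_mul_inv_of_mul_eq hab]
        exact mul_mem x.2 (inv_mem (hKle hb))) (hC.ge ha)
      rw [ha1, one_mul] at hab
      obtain ⟨x', hx', hxe⟩ := hb
      exact (Subtype.ext (hxe.trans hab) : x' = x) ▸ hx'
    have h1 := hcomm _ hKle 1 hne' k (mem_map_of_mem _ hk)
    rw [pow_one] at h1
    exact Subtype.ext (by rw [hσ, h1, mul_inv_cancel_right])

/-- Coordinates in an elementary abelian group of order `p ^ 2`. -/
theorem zpow_pair_congr {G : Type*} [Group G] {e1 e2 : G} (h1 : e1 ^ p = 1) (h2 : e2 ^ p = 1)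
    {a b c d : ℤ} (hac : ((a : ZMod p)) = c) (hbd : ((b : ZMod p)) = d) :
    e1 ^ a * e2 ^ b = e1 ^ c * e2 ^ d := by
  have key : ∀ (e : G), e ^ p = 1 → ∀ x y : ℤ, ((x : ZMod p)) = y → e ^ x = e ^ y := by
    intro e he x y hxy
    rw [ZMod.intCast_eq_intCast_iff_dvd_sub] at hxy
    obtain ⟨k, hk⟩ := hxy
    rw [show y = x + (p : ℤ) * k by omega, zpow_add, zpow_mul, zpow_natCast, he, one_zpow, mul_one]
  rw [key e1 h1 a c hac, key e2 h2 b d hbd]

/-- A shear: the powers of an element fixing `z` and mapping `w` to `z * w`. -/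
theorem shear_zpow {G : Type*} [Group G] {g z w : G} (hz : g * z * g⁻¹ = z)
    (hw : g * w * g⁻¹ = z * w) (t : ℤ) :
    g ^ t * z * (g ^ t)⁻¹ = z ∧ g ^ t * w * (g ^ t)⁻¹ = z ^ t * w := by
  induction t using Int.induction_on with
  | zero => simp
  | succ t ih =>
    refine ⟨?_, ?_⟩
    · calc g ^ ((t : ℤ) + 1) * z * (g ^ ((t : ℤ) + 1))⁻¹
            = g ^ (t : ℤ) * (g * z * g⁻¹) * (g ^ (t : ℤ))⁻¹ := by group
        _ = z := by rw [hz, ih.1]
    · calc g ^ ((t : ℤ) + 1) * w * (g ^ ((t : ℤ) + 1))⁻¹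
            = g ^ (t : ℤ) * (g * w * g⁻¹) * (g ^ (t : ℤ))⁻¹ := by group
        _ = (g ^ (t : ℤ) * z * (g ^ (t : ℤ))⁻¹) * (g ^ (t : ℤ) * w * (g ^ (t : ℤ))⁻¹) := by
            rw [hw]; group
        _ = z ^ ((t : ℤ) + 1) * w := by rw [ih.1, ih.2]; group
  | pred t ih =>
    have hz' : g⁻¹ * z * g = z := by
      calc g⁻¹ * z * g = g⁻¹ * (g * z * g⁻¹) * g := by rw [hz]
        _ = z := by group
    have hw' : g⁻¹ * w * g = z⁻¹ * w := by
      calc g⁻¹ * w * g = g⁻¹ * (z⁻¹ * (g * w * g⁻¹)) * g := by rw [hw, inv_mul_cancel_left]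
        _ = (g⁻¹ * z * g)⁻¹ * w := by group
        _ = z⁻¹ * w := by rw [hz']
    refine ⟨?_, ?_⟩
    · calc g ^ (-(t : ℤ) - 1) * z * (g ^ (-(t : ℤ) - 1))⁻¹
            = g ^ (-(t : ℤ)) * (g⁻¹ * z * g) * (g ^ (-(t : ℤ)))⁻¹ := by group
        _ = z := by rw [hz', ih.1]
    · calc g ^ (-(t : ℤ) - 1) * w * (g ^ (-(t : ℤ) - 1))⁻¹
            = g ^ (-(t : ℤ)) * (g⁻¹ * w * g) * (g ^ (-(t : ℤ)))⁻¹ := by group
        _ = (g ^ (-(t : ℤ)) * z * (g ^ (-(t : ℤ)))⁻¹)⁻¹ * (g ^ (-(t : ℤ)) * w * (g ^ (-(t : ℤ)))⁻¹) := by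
            rw [hw']; group
        _ = z ^ (-(t : ℤ) - 1) * w := by rw [ih.1, ih.2]; group

/-- Two shears in opposite directions on `Zp × Zp`, modulo a normal subgroup where they agree up to powers. -/
theorem shear_contra {G : Type*} [Group G] {N : Subgroup G} [N.Normal] {e1 e2 a b : G} (hp5 : 5 ≤ p)
    (h1 : e1 ^ p = 1) (h2 : e2 ^ p = 1) (h12 : Commute e1 e2)
    (ha1 : a * e1 * a⁻¹ = e1) (ha2 : a * e2 * a⁻¹ = e1 * e2)
    (hb2 : b * e2 * b⁻¹ = e2) (hb1 : b * e1 * b⁻¹ = e2 * e1)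
    (hbN : ∃ m : ℤ, b⁻¹ * a ^ m ∈ N)
    (hcent : ∀ g : G, g * e1 * g⁻¹ = e1 → g * e2 * g⁻¹ = e2 → g ∈ N) :
    a ^ 3 ∈ N := by
  obtain ⟨s, hs⟩ : ∃ s : ℤ, 2 * ((s : ZMod p)) = 1 := by
    have hodd : p % 2 = 1 := Nat.odd_iff.1 (hp.out.odd_of_ne_two (by omega))
    refine ⟨((p + 1) / 2 : ℕ), ?_⟩
    rw [Int.cast_natCast, ← Nat.cast_ofNat, ← Nat.cast_mul, show 2 * ((p + 1) / 2) = p + 1 by omega]
    simp
  let f : ℤ → ℤ → G := fun i j => e1 ^ i * e2 ^ j
  have hA : ∀ t i j : ℤ, a ^ t * f i j * (a ^ t)⁻¹ = f (i + t * j) j := by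
    intro t i j
    obtain ⟨hz, hw⟩ := shear_zpow ha1 ha2 t
    calc a ^ t * (e1 ^ i * e2 ^ j) * (a ^ t)⁻¹
          = (a ^ t * e1 * (a ^ t)⁻¹) ^ i * (a ^ t * e2 * (a ^ t)⁻¹) ^ j := by
            rw [conj_zpow, conj_zpow]; group
      _ = e1 ^ (i + t * j) * e2 ^ j := by
            rw [hz, hw, (h12.zpow_left t).mul_zpow, ← zpow_mul, zpow_add, mul_assoc]
  have hB : ∀ t i j : ℤ, b ^ t * f i j * (b ^ t)⁻¹ = f i (j + t * i) := by
    intro t i j
    obtain ⟨hz, hw⟩ := shear_zpow hb2 hb1 t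
    calc b ^ t * (e1 ^ i * e2 ^ j) * (b ^ t)⁻¹
          = (b ^ t * e1 * (b ^ t)⁻¹) ^ i * (b ^ t * e2 * (b ^ t)⁻¹) ^ j := by
            rw [conj_zpow, conj_zpow]; group
      _ = e1 ^ i * e2 ^ (j + t * i) := by
            rw [hz, hw, (h12.zpow_right t).symm.mul_zpow, ← zpow_mul, zpow_add,
              ((h12.zpow_zpow i (t * i)).symm).eq, mul_assoc]
            rw [← zpow_add, ← zpow_add, add_comm (t * i) j]
  let h : G := a ^ (2 : ℤ) * b ^ (-s) * a ^ (2 : ℤ) * (a ^ (-1 : ℤ) * b ^ (1 : ℤ) * a ^ (-1 : ℤ))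
  have hH : ∀ i j : ℤ, h * f i j * h⁻¹ =
      f (i + -1 * j + -1 * (j + 1 * (i + -1 * j)) + 2 * (j + 1 * (i + -1 * j)) +
          2 * (j + 1 * (i + -1 * j) + -s * (i + -1 * j + -1 * (j + 1 * (i + -1 * j)) + 2 * (j + 1 * (i + -1 * j)))))
        (j + 1 * (i + -1 * j) + -s * (i + -1 * j + -1 * (j + 1 * (i + -1 * j)) + 2 * (j + 1 * (i + -1 * j)))) := by
    intro i j
    rw [← hA 2, ← hB (-s), ← hA 2, ← hA (-1), ← hB 1, ← hA (-1)]
    simp only [h, mul_inv_rev, mul_assoc]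
  have heq : ∀ i j : ℤ, (h * a) * f i j * (h * a)⁻¹ = (a ^ (4 : ℤ) * h) * f i j * (a ^ (4 : ℤ) * h)⁻¹ := by
    intro i j
    have e1' : (h * a) * f i j * (h * a)⁻¹ = h * (a ^ (1 : ℤ) * f i j * (a ^ (1 : ℤ))⁻¹) * h⁻¹ := by group
    have e2' : (a ^ (4 : ℤ) * h) * f i j * (a ^ (4 : ℤ) * h)⁻¹ =
        a ^ (4 : ℤ) * (h * f i j * h⁻¹) * (a ^ (4 : ℤ))⁻¹ := by group
    rw [e1', e2', hA, hH, hH, hA]
    refine zpow_pair_congr h1 h2 ?_ ?_
    · push_cast
      linear_combination (-4 * ((j : ZMod p) - i)) * hs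
    · push_cast
      linear_combination (-(j : ZMod p)) * hs
  have hmem : (h * a)⁻¹ * (a ^ (4 : ℤ) * h) ∈ N := by
    have key : ∀ i j : ℤ, (h * a)⁻¹ * (a ^ (4 : ℤ) * h) * f i j * ((h * a)⁻¹ * (a ^ (4 : ℤ) * h))⁻¹ = f i j := by
      intro i j
      calc (h * a)⁻¹ * (a ^ (4 : ℤ) * h) * f i j * ((h * a)⁻¹ * (a ^ (4 : ℤ) * h))⁻¹
            = (h * a)⁻¹ * ((a ^ (4 : ℤ) * h) * f i j * (a ^ (4 : ℤ) * h)⁻¹) * (h * a) := by group
        _ = f i j := by rw [← heq]; group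
    refine hcent _ ?_ ?_
    · simpa [f] using key 1 0
    · simpa [f] using key 0 1
  obtain ⟨m, hm⟩ := hbN
  let π := QuotientGroup.mk' N
  have hπb : π b = π a ^ m := by
    rw [← map_zpow]; exact (QuotientGroup.eq (s := N)).2 hm
  have hc : Commute (π h) (π a) := by
    simp only [h, map_mul, map_zpow, hπb]
    exact ((((Commute.refl (π a)).zpow_left 2).mul_left (((Commute.refl (π a)).zpow_left m).zpow_left (-s))).mul_left
      ((Commute.refl (π a)).zpow_left 2)).mul_left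
      ((((Commute.refl (π a)).zpow_left (-1)).mul_left (((Commute.refl (π a)).zpow_left m).zpow_left 1)).mul_left
        ((Commute.refl (π a)).zpow_left (-1)))
  have h3 : π ((h * a)⁻¹ * (a ^ (4 : ℤ) * h)) = 1 := (QuotientGroup.eq_one_iff _).2 hmem
  clear_value h
  rw [map_mul, map_inv, map_mul, map_mul, map_zpow, inv_mul_eq_one] at h3
  have h4 : π a * π h = π a ^ (4 : ℤ) * π h := by rw [← hc.eq]; exact h3
  have h5 := mul_right_cancel h4
  refine (QuotientGroup.eq_one_iff _).1 ?_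
  show π (a ^ 3) = 1
  rw [map_pow]
  have h6 : π a * (π a) ^ 3 = π a * 1 := by
    rw [mul_one, ← pow_succ']
    exact_mod_cast h5.symm
  exact mul_left_cancel h6

variable {G : Type*} [Group G] [Finite G]

theorem le_pCore_of_data (hG : Cfsg.IsPSolvable p G) (hO : Cfsg.pPrimeCore p G = ⊥) (S : Sylow p G)
    {q : ℕ} {σ : MulAut (S : Subgroup G)} (D : Data p q σ) :
    (S : Subgroup G) ≤ Cfsg.pCore p G := by
  classical
  by_contra hSV
  haveI hVn := CfsgLib.Solvable.pCore_normal p G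
  have hCV := CfsgLib.PLength.centralizer_pCore_le_of_isPSolvable hG hO
  set V := Cfsg.pCore p G with hVdef
  have hVS : V ≤ (S : Subgroup G) := CfsgLib.Solvable.pCore_le_sylow S
  set V' := V.subgroupOf (S : Subgroup G) with hV'
  have hV'top : V' ≠ ⊤ := fun e => hSV (subgroupOf_eq_top.1 e)
  have hCV' : centralizer (V' : Set (S : Subgroup G)) ≤ V' := by
    intro x hx
    refine mem_subgroupOf.2 (hCV (mem_centralizer_iff.2 fun v hv => ?_))
    exact congrArg Subtype.val (mem_centralizer_iff.1 hx ⟨v, hVS hv⟩ (mem_subgroupOf.2 hv))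
  have hZV : center (S : Subgroup G) ≤ V' := (center_le_centralizer _).trans hCV'
  have hna : center (S : Subgroup G) ≠ ⊤ := fun e => hV'top (top_le_iff.1 (e ▸ hZV))
  -- the derived subgroup of `S`, in `G`
  set Dg := (commutator (S : Subgroup G)).map (S : Subgroup G).subtype with hDg
  have hDgS : Dg = ⁅(S : Subgroup G), (S : Subgroup G)⁆ := map_subtype_commutator _
  have hDc : ∀ d ∈ Dg, ∀ x ∈ (S : Subgroup G), x * d * x⁻¹ = d := by
    rintro _ ⟨d, hd, rfl⟩ x hx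
    have h := congrArg Subtype.val (mem_center_iff.1 (commutator_le_center D hd) ⟨x, hx⟩)
    exact mul_inv_eq_iff_eq_mul.2 h
  have hDV : Dg ≤ V := by
    rintro _ ⟨d, hd, rfl⟩
    exact mem_subgroupOf.1 (hZV (commutator_le_center D hd))
  have hcomS : ∀ x ∈ (S : Subgroup G), ∀ v ∈ V, x * v * x⁻¹ * v⁻¹ ∈ Dg := fun x hx v hv =>
    hDgS.ge (commutator_mem_commutator hx (hVS hv))
  -- an element normalising `Dg` commutes with `S` modulo `V`
  let π := QuotientGroup.mk' V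
  have hπ : Function.Surjective π := QuotientGroup.mk'_surjective V
  haveI hKn := CfsgLib.Solvable.pPrimeCore_normal p (G ⧸ V)
  set K := Cfsg.pPrimeCore p (G ⧸ V) with hK
  have hKp : ¬ p ∣ Nat.card K :=
    hp.out.coprime_iff_not_dvd.1 (CfsgLib.Solvable.pPrimeCore_coprime p).symm
  have honeK : ∀ k ∈ K, ∀ n : ℕ, k ^ p ^ n = 1 → k = 1 := fun k hk n hn => by
    rw [← orderOf_eq_one_iff]
    exact Nat.eq_one_of_dvd_coprimes (Nat.Coprime.pow_left n (hp.out.coprime_iff_not_dvd.2 hKp))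
      (orderOf_dvd_of_pow_eq_one hn) (orderOf_dvd_natCard K hk)
  have hstab : ∀ l : G, π l ∈ K → (∀ d ∈ Dg, l * d * l⁻¹ ∈ Dg) → ∀ a ∈ (S : Subgroup G),
      Commute (π l) (π a) := by
    intro l hl hlD a ha
    set c := l * a * l⁻¹ * a⁻¹ with hc
    have hlD' : ∀ d ∈ Dg, l⁻¹ * d * l ∈ Dg := by
      intro d hd
      have e : Dg.map (MulAut.conj l).toMonoidHom = Dg := eq_of_le_of_card_ge
        (by rintro _ ⟨x, hx, rfl⟩; exact hlD x hx)
        (card_map_of_injective (MulAut.conj l).injective).ge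
      obtain ⟨x, hx, hxd⟩ := e.ge hd
      have : l⁻¹ * d * l = x := by rw [← hxd]; simp [mul_assoc]
      rw [this]; exact hx
    have hfix : ∀ d ∈ Dg, c * d * c⁻¹ = d := by
      intro d hd
      calc c * d * c⁻¹ = l * (a * (l⁻¹ * (a⁻¹ * d * a⁻¹⁻¹) * l) * a⁻¹) * l⁻¹ := by rw [hc]; group
        _ = d := by rw [hDc d hd a⁻¹ (inv_mem ha), hDc _ (hlD' d hd) a ha]; group
    have hcv : ∀ v ∈ V, c * v * c⁻¹ * v⁻¹ ∈ Dg := by
      intro v hv
      have h1 := hcomS a⁻¹ (inv_mem ha) v hv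
      set v1 := a⁻¹ * v * a with hv1
      have hv1V : v1 ∈ V := by
        rw [hv1]; simpa using hVn.conj_mem v hv a⁻¹
      have hv2 : l⁻¹ * v1 * l ∈ V := by simpa using hVn.conj_mem v1 hv1V l⁻¹
      have h2 := hlD _ (hcomS a ha _ hv2)
      have e : c * v * c⁻¹ * v⁻¹ =
          (l * (a * (l⁻¹ * v1 * l) * a⁻¹ * (l⁻¹ * v1 * l)⁻¹) * l⁻¹) * (a⁻¹ * v * a⁻¹⁻¹ * v⁻¹) := by
        rw [hc, hv1]; group
      rw [e]
      exact mul_mem h2 h1
    obtain ⟨n, hn⟩ := IsPGroup.iff_card.1 (S.2.to_le (map_subtype_le _ : Dg ≤ (S : Subgroup G)))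
    have hcpow : c ^ p ^ n ∈ V := by
      refine hCV (mem_centralizer_iff.2 fun v hv => ?_)
      obtain ⟨d, hd, hde⟩ : ∃ d ∈ Dg, c * v * c⁻¹ = d * v :=
        ⟨_, hcv v hv, by rw [inv_mul_cancel_right]⟩
      have h := (shear_zpow (hfix d hd) hde ((p ^ n : ℕ) : ℤ)).2
      rw [zpow_natCast, zpow_natCast] at h
      have hd1 : d ^ p ^ n = 1 := by
        rw [← hn]
        exact congrArg Subtype.val (pow_card_eq_one' (G := Dg) (x := ⟨d, hd⟩))
      rw [hd1, one_mul] at h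
      exact (mul_inv_eq_iff_eq_mul.1 h).symm
    have hck : π c ∈ K := by
      have e : π c = π l * (π a * (π l)⁻¹ * (π a)⁻¹) := by simp [hc, mul_assoc]
      rw [e]
      exact mul_mem hl (hKn.conj_mem _ (inv_mem hl) _)
    have h1 := honeK _ hck n (by rw [← map_pow]; exact (QuotientGroup.eq_one_iff _).2 hcpow)
    simp only [hc, map_mul, map_inv] at h1
    exact mul_inv_eq_iff_eq_mul.1 (mul_inv_eq_one.1 h1)
  -- the image of `S` is elementary abelian and acts faithfully on `K`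
  set A := (S : Subgroup G).map π with hA
  have hAe : Cfsg.IsElementaryAbelian p A := by
    refine ⟨⟨⟨fun ⟨x, hx⟩ ⟨y, hy⟩ => Subtype.ext ?_⟩⟩, ?_⟩
    · obtain ⟨x', hx', rfl⟩ := hx
      obtain ⟨y', hy', rfl⟩ := hy
      show π x' * π y' = π y' * π x'
      rw [← commutatorElement_eq_one_iff_mul_comm, ← map_commutatorElement]
      exact (QuotientGroup.eq_one_iff _).2 (hDV (hDgS.ge (commutator_mem_commutator hx' hy')))
    · rintro _ ⟨x, hx, rfl⟩
      rw [← map_pow]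
      exact (QuotientGroup.eq_one_iff _).2
        (mem_subgroupOf.1 (hZV (pow_mem_center D (⟨x, hx⟩ : (S : Subgroup G)))))
  have hAne : A ≠ ⊥ := fun e => hSV fun x hx => (QuotientGroup.eq_one_iff x).1 (by
    exact mem_bot.1 (e ▸ mem_map_of_mem π hx))
  have hAK : A ≤ normalizer (K : Set (G ⧸ V)) := by
    rw [normalizer_eq_top_iff.2 hKn]; exact le_top
  have hCK : centralizer (K : Set (G ⧸ V)) ≤ K := by
    obtain ⟨k, hk⟩ := CfsgLib.PLength.exists_pSeriesLE_of_isPSolvable hG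
    exact CfsgLib.BlockB.centralizer_pPrimeCore_le_of_isPSolvable (hk.quotient V).isPSolvable
      (CfsgLib.Solvable.pCore_quotient_eq_bot p)
  -- a hyperplane whose centraliser in `K` moves `A`
  obtain ⟨⟨B, hBA, hBi⟩, k, ⟨hkK, hkB⟩, a0, ha0, hne0⟩ : ∃ B : {B : Subgroup (G ⧸ V) // B ≤ A ∧ B.relIndex A = p},
      ∃ k ∈ K ⊓ centralizer ((B : Subgroup (G ⧸ V)) : Set (G ⧸ V)),
        ∃ a ∈ (S : Subgroup G), ¬ Commute k (π a) := by
    by_contra hcon
    push Not at hcon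
    have h1 : K ≤ centralizer (A : Set (G ⧸ V)) := by
      rw [CfsgLib.Comp.eq_iSup_centralizer_hyperplane hAe hAne hKp hAK]
      refine iSup_le fun B k hk => mem_centralizer_iff.2 ?_
      rintro _ ⟨a, ha, rfl⟩
      exact (hcon B k hk a ha).symm
    refine hAne ((Subgroup.eq_bot_iff_forall _).2 fun x hx => ?_)
    exact honeK x (hCK (mem_centralizer_iff.2 fun y hy => (mem_centralizer_iff.1 (h1 hy) x hx).symm)) 1
      (by rw [pow_one]; exact hAe.2 x hx)
  obtain ⟨l, rfl⟩ := hπ k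
  have hnD : ¬ ∀ d ∈ Dg, l * d * l⁻¹ ∈ Dg := fun h => hne0 (hstab l hkK h a0 ha0)
  -- the preimage of `B`
  set Bh := (S : Subgroup G) ⊓ B.comap π with hBh
  have hVBh : V ≤ Bh := le_inf hVS fun v hv => by
    show π v ∈ B
    rw [show π v = 1 from (QuotientGroup.eq_one_iff v).2 hv]; exact one_mem B
  have hBh' : (Bh.subgroupOf (S : Subgroup G)).index = p := by
    show Bh.relIndex (S : Subgroup G) = p
    rw [hBh, inf_relIndex_left, relIndex_comap]
    exact hBi
  have hBhinv : ∀ b ∈ Bh, l * b * l⁻¹ ∈ Bh := by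
    intro b hb
    have h1 : π (l * b * l⁻¹) = π b := by
      rw [map_mul, map_mul, map_inv, mul_inv_eq_iff_eq_mul]
      exact (mem_centralizer_iff.1 hkB _ hb.2).symm
    refine ⟨?_, ?_⟩
    · have h2 : (l * b * l⁻¹) * b⁻¹ ∈ V :=
        (QuotientGroup.eq_one_iff _).1 (show π (l * b * l⁻¹ * b⁻¹) = 1 by
          rw [map_mul, map_inv, h1, mul_inv_cancel])
      have h3 := mul_mem (hVS h2) hb.1
      rwa [inv_mul_cancel_right] at h3
    · show π (l * b * l⁻¹) ∈ B
      rw [h1]; exact hb.2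
  set Z0 := ⁅V, Bh⁆ with hZ0
  have hZ0D : Z0 ≤ Dg := hDgS ▸ commutator_mono hVS inf_le_left
  have hZ0ne : Z0 ≠ Dg := by
    intro e
    refine hnD fun d hd => e ▸ ?_
    have h1 : Z0.map (MulAut.conj l).toMonoidHom ≤ Z0 := by
      rw [hZ0, map_commutator]
      refine commutator_mono ?_ ?_
      · rintro _ ⟨x, hx, rfl⟩; exact hVn.conj_mem x hx l
      · rintro _ ⟨x, hx, rfl⟩; exact hBhinv x hx
    exact h1 ⟨d, e.ge hd, rfl⟩
  have hmapD : Z0.subgroupOf (S : Subgroup G) < commutator (S : Subgroup G) := by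
    refine lt_of_le_of_ne (fun x hx => ?_) fun e => hZ0ne ?_
    · obtain ⟨y, hy, hyx⟩ := hZ0D (mem_subgroupOf.1 hx)
      exact Subtype.ext hyx ▸ hy
    · rw [hDg, ← e, map_subgroupOf_eq_of_le (hZ0D.trans (map_subtype_le _))]
  obtain ⟨hZcard, hVcard, hVidx⟩ := exists_shape D hna hZV hV'top hCV'
    (B := Bh.subgroupOf (S : Subgroup G)) (fun x hx => hVBh hx) hBh' hmapD
    (fun v hv b hb => mem_subgroupOf.2 (commutator_mem_commutator (mem_subgroupOf.1 hv) (mem_subgroupOf.1 hb)))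
  have hVc : Nat.card V = p ^ 2 := by
    rw [← hVcard, hV', Nat.card_congr (subgroupOfEquivOfLe hVS).toEquiv]
  have hDcard : Nat.card Dg = p := by
    rw [hDg, card_map_of_injective (S : Subgroup G).subtype_injective,
      le_antisymm (commutator_le_center D) (center_le_commutator D hna), hZcard]
  have hexp : ∀ v ∈ V, v ^ p = 1 := by
    intro v hv
    by_contra hvp
    have hord : orderOf v = p ^ 2 := by
      obtain ⟨i, hi, he⟩ := (Nat.dvd_prime_pow hp.out).1 (hVc ▸ orderOf_dvd_natCard V hv)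
      rcases (show i = 0 ∨ i = 1 ∨ i = 2 by omega) with rfl | rfl | rfl
      · exact absurd (by rw [show v = 1 from orderOf_eq_one_iff.1 (by simpa using he), one_pow]) hvp
      · exact absurd (orderOf_dvd_iff_pow_eq_one.1 (by rw [he, pow_one])) hvp
      · exact he
    have hgen : zpowers v = V := eq_of_le_of_card_ge (zpowers_le.2 hv)
      (by rw [Nat.card_zpowers, hord, hVc])
    have hab : ∀ g h : G, π g * π h = π h * π g := by
      intro g h
      rw [← commutatorElement_eq_one_iff_mul_comm, ← map_commutatorElement]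
      refine (QuotientGroup.eq_one_iff _).2 (hCV (mem_centralizer_iff.2 fun x hx => ?_))
      obtain ⟨i, hi⟩ := mem_zpowers_iff.1 (hgen.ge (hVn.conj_mem v hv g))
      obtain ⟨j, hj⟩ := mem_zpowers_iff.1 (hgen.ge (hVn.conj_mem v hv h))
      have key : (MulAut.conj g) ((MulAut.conj h) v) = (MulAut.conj h) ((MulAut.conj g) v) := by
        simp only [MulAut.conj_apply, ← hi, ← hj]
        rw [← conj_zpow, ← conj_zpow, ← hi, ← hj, ← zpow_mul, ← zpow_mul, mul_comm]
      have h3 : MulAut.conj ⁅g, h⁆ v = v := by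
        rw [map_commutatorElement, commutatorElement_def, MulAut.mul_apply, MulAut.mul_apply,
          MulAut.mul_apply, MulAut.inv_apply, MulAut.inv_apply]
        have h4 : (MulAut.conj h).symm v ∈ V := by
          simpa using hVn.conj_mem v hv h⁻¹
        obtain ⟨n, hn⟩ := mem_zpowers_iff.1 (hgen.ge h4)
        have h5 : (MulAut.conj g).symm ((MulAut.conj h).symm v) =
            (MulAut.conj h).symm ((MulAut.conj g).symm v) := by
          apply (MulAut.conj h).injective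
          rw [MulEquiv.apply_symm_apply]
          apply (MulAut.conj g).injective
          rw [MulEquiv.apply_symm_apply]
          have h6 : ∀ w, w ∈ V → (MulAut.conj g) ((MulAut.conj h) w) = (MulAut.conj h) ((MulAut.conj g) w) := by
            intro w hw
            obtain ⟨m, rfl⟩ := mem_zpowers_iff.1 (hgen.ge hw)
            rw [map_zpow, map_zpow, map_zpow, map_zpow, key]
          rw [h6 _ (by simpa using hVn.conj_mem _ (by simpa using hVn.conj_mem v hv h⁻¹) g⁻¹),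
            MulEquiv.apply_symm_apply, MulEquiv.apply_symm_apply]
        rw [h5, MulEquiv.apply_symm_apply, MulEquiv.apply_symm_apply]
      obtain ⟨m, rfl⟩ := mem_zpowers_iff.1 (hgen.ge hx)
      exact ((show Commute ⁅g, h⁆ v from mul_inv_eq_iff_eq_mul.1 h3).zpow_right m).symm.eq
    have hAn : A.Normal := ⟨fun x hx g => by
      obtain ⟨g', rfl⟩ := hπ g
      obtain ⟨x', hx', rfl⟩ := hx
      rw [hab g' x', mul_inv_cancel_right]
      exact mem_map_of_mem π hx'⟩
    exact hAne (le_bot_iff.1 ((CfsgLib.Solvable.le_pCore hAn (S.2.map π)).trans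
      (CfsgLib.Solvable.pCore_quotient_eq_bot p).le))
  have hp5 : 5 ≤ p := five_le D hna hZV hV'top (by
    intro e
    have h := hVcard
    rw [e, hZcard] at h
    have := hp.out.two_le
    nlinarith) hZcard hVcard hVidx fun v hv => Subtype.ext (hexp v (mem_subgroupOf.1 hv))
  -- the two shears
  obtain ⟨e1, he1, he1ne⟩ := (Dg.bot_or_exists_ne_one).resolve_left fun e => by
    rw [e, card_bot] at hDcard
    exact hp.out.ne_one hDcard.symm
  have hDgen : zpowers e1 = Dg := eq_of_le_of_card_ge (zpowers_le.2 he1) (by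
    rw [Nat.card_zpowers, hDcard, orderOf_eq_prime (hexp e1 (hDV he1)) he1ne])
  set e2 := l * e1 * l⁻¹ with he2
  have he2V : e2 ∈ V := hVn.conj_mem _ (hDV he1) l
  have he2D : e2 ∉ Dg := fun h => hnD fun d hd => by
    obtain ⟨i, rfl⟩ := mem_zpowers_iff.1 (hDgen.ge hd)
    rw [← conj_zpow, ← he2]
    exact zpow_mem h i
  have hVgen : zpowers e1 ⊔ zpowers e2 = V := by
    refine eq_of_le_of_card_ge (sup_le (zpowers_le.2 (hDV he1)) (zpowers_le.2 he2V)) ?_
    rw [hDgen]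
    have hle : Dg ⊔ zpowers e2 ≤ V := sup_le hDV (zpowers_le.2 he2V)
    obtain ⟨i, hi, he⟩ := (Nat.dvd_prime_pow hp.out).1 (hVc ▸ card_dvd_of_le hle)
    have hlt : Nat.card Dg < Nat.card (Dg ⊔ zpowers e2 : Subgroup G) :=
      lt_of_le_of_ne (card_le_of_le le_sup_left) fun e =>
        he2D ((eq_of_le_of_card_ge le_sup_left e.ge).ge (mem_sup_right (mem_zpowers e2)))
    rw [he, hDcard] at hlt
    rw [he, hVc]
    refine Nat.pow_le_pow_right hp.out.pos ?_
    by_contra hi2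
    have h1 : p ^ i ≤ p ^ 1 := Nat.pow_le_pow_right hp.out.pos (by omega)
    rw [pow_one] at h1
    omega
  have h12 : Commute e1 e2 := (mul_inv_eq_iff_eq_mul.1 (hDc e1 he1 e2 (hVS he2V))).symm
  have hcent : ∀ g : G, g * e1 * g⁻¹ = e1 → g * e2 * g⁻¹ = e2 → g ∈ V := by
    intro g h1 h2
    refine hCV ?_
    rw [← hVgen, mem_centralizer_iff]
    have hle : zpowers e1 ⊔ zpowers e2 ≤ centralizer ({g} : Set G) := sup_le
      (zpowers_le.2 (mem_centralizer_singleton_iff.2 (mul_inv_eq_iff_eq_mul.1 h1).symm))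
      (zpowers_le.2 (mem_centralizer_singleton_iff.2 (mul_inv_eq_iff_eq_mul.1 h2).symm))
    exact fun x hx => mem_centralizer_singleton_iff.1 (hle hx)
  obtain ⟨a, ha, haV⟩ := SetLike.not_le_iff_exists.1 hSV
  have hsolve : ∀ i : ℤ, ¬ (p : ℤ) ∣ i → ∃ n : ℤ, ((i * n : ℤ) : ZMod p) = 1 := by
    intro i hi
    obtain ⟨u, n, hun⟩ := (Nat.prime_iff_prime_int.1 hp.out).coprime_iff_not_dvd.2 hi
    refine ⟨n, ?_⟩
    have := congrArg (fun t : ℤ => (t : ZMod p)) hun
    push_cast at this ⊢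
    rw [ZMod.natCast_self, mul_zero, zero_add] at this
    rw [mul_comm]; exact this
  have hzp : ∀ e : G, e ^ p = 1 → ∀ i : ℤ, (p : ℤ) ∣ i → e ^ i = 1 := by
    rintro e he i ⟨j, rfl⟩
    rw [zpow_mul, zpow_natCast, he, one_zpow]
  -- the shear in `S`
  obtain ⟨i, hi⟩ := mem_zpowers_iff.1 (hDgen.ge (hcomS a ha e2 he2V))
  have hae2 : a * e2 * a⁻¹ = e1 ^ i * e2 := by rw [hi, inv_mul_cancel_right]
  have hidvd : ¬ (p : ℤ) ∣ i := fun h => haV (hcent a (hDc e1 he1 a ha) (by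
    rw [hae2, hzp e1 (hexp e1 (hDV he1)) i h, one_mul]))
  obtain ⟨n, hn⟩ := hsolve i hidvd
  set a1 := a ^ n with ha1def
  have ha1S : a1 ∈ (S : Subgroup G) := zpow_mem ha n
  have ha1e2 : a1 * e2 * a1⁻¹ = e1 * e2 := by
    rw [(shear_zpow (hDc _ (zpow_mem he1 i) a ha) hae2 n).2, ← zpow_mul]
    have := zpow_pair_congr (e1 := e1) (e2 := e2) (hexp e1 (hDV he1)) (hexp e2 he2V)
      (a := i * n) (b := 1) (c := 1) (d := 1) (by rw [hn, Int.cast_one]) rfl
    simpa using this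
  -- its conjugate
  set b0 := l * a1 * l⁻¹ with hb0
  have hb0e2 : b0 * e2 * b0⁻¹ = e2 := by
    calc b0 * e2 * b0⁻¹ = l * (a1 * e1 * a1⁻¹) * l⁻¹ := by rw [hb0, he2]; group
      _ = e2 := by rw [hDc e1 he1 a1 ha1S]
  obtain ⟨d, hd⟩ : ∃ d : ℤ, b0 * e1 * b0⁻¹ = e2 ^ d * e1 := by
    have hx : l⁻¹ * e1 * l ∈ V := by simpa using hVn.conj_mem e1 (hDV he1) l⁻¹
    obtain ⟨d, hd⟩ := mem_zpowers_iff.1 (hDgen.ge (hcomS a1 ha1S _ hx))
    refine ⟨d, ?_⟩
    rw [he2, conj_zpow, hd, hb0]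
    group
  have hddvd : ¬ (p : ℤ) ∣ d := by
    intro h
    rw [hzp e2 (hexp e2 he2V) d h, one_mul] at hd
    have hbV := hcent b0 hd hb0e2
    have ha1V : a1 ∈ V := by
      have := hVn.conj_mem b0 hbV l⁻¹
      rwa [hb0, show l⁻¹ * (l * a1 * l⁻¹) * l⁻¹⁻¹ = a1 by group] at this
    have h1 : a1 * e2 * a1⁻¹ = e2 := by
      have hle : zpowers e1 ⊔ zpowers e2 ≤ centralizer ({e2} : Set G) := sup_le
        (zpowers_le.2 (mem_centralizer_singleton_iff.2 h12.eq))
        (zpowers_le.2 (mem_centralizer_singleton_iff.2 rfl))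
      rw [mul_inv_eq_iff_eq_mul]
      exact mem_centralizer_singleton_iff.1 (hle (hVgen.ge ha1V))
    rw [ha1e2, mul_eq_right] at h1
    exact he1ne h1
  obtain ⟨m, hm⟩ := hsolve d hddvd
  set b1 := b0 ^ m with hb1def
  have hb1fix : b0 * e2 ^ d * b0⁻¹ = e2 ^ d := by rw [← conj_zpow, hb0e2]
  have hb1e1 : b1 * e1 * b1⁻¹ = e2 * e1 := by
    rw [(shear_zpow hb1fix hd m).2, ← zpow_mul]
    have := zpow_pair_congr (e1 := e2) (e2 := e1) (hexp e2 he2V) (hexp e1 (hDV he1))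
      (a := d * m) (b := 1) (c := 1) (d := 1) (by rw [hm, Int.cast_one]) rfl
    simpa using this
  have hb1e2 : b1 * e2 * b1⁻¹ = e2 := by
    have h1 : Commute b0 e2 := mul_inv_eq_iff_eq_mul.1 hb0e2
    rw [hb1def, (h1.zpow_left m).eq, mul_inv_cancel_right]
  -- modulo the preimage of `K`
  have hmem := shear_contra (N := K.comap π) hp5 (hexp e1 (hDV he1)) (hexp e2 he2V) h12
    (hDc e1 he1 a1 ha1S) ha1e2 hb1e2 hb1e1 ⟨m, by
      have hcong : QuotientGroup.mk' (K.comap π) b0 = QuotientGroup.mk' (K.comap π) a1 := by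
        refine (QuotientGroup.eq (s := K.comap π)).2 ?_
        have e : b0⁻¹ * a1 = l * (a1⁻¹ * l⁻¹ * a1⁻¹⁻¹) := by rw [hb0]; group
        rw [e]
        exact mul_mem hkK ((inferInstance : (K.comap π).Normal).conj_mem _ (inv_mem hkK) _)
      refine (QuotientGroup.eq (s := K.comap π)).1 ?_
      show QuotientGroup.mk' (K.comap π) b1 = QuotientGroup.mk' (K.comap π) (a1 ^ m)
      rw [hb1def, map_zpow, map_zpow, hcong]⟩
    (fun g h1 h2 => show π g ∈ K by
      rw [show π g = 1 from (QuotientGroup.eq_one_iff g).2 (hcent g h1 h2)]; exact one_mem K)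
  have h3 : π (a1 ^ 3) = 1 := honeK _ hmem 1 (by
    rw [pow_one]; exact hAe.2 _ (mem_map_of_mem π (pow_mem ha1S 3)))
  have h3V : a1 ^ 3 ∈ V := (QuotientGroup.eq_one_iff _).1 h3
  have h4 := (shear_zpow (hDc e1 he1 a1 ha1S) ha1e2 3).2
  have h5 : a1 ^ 3 * e2 * (a1 ^ 3)⁻¹ = e2 := by
    have hle : zpowers e1 ⊔ zpowers e2 ≤ centralizer ({e2} : Set G) := sup_le
      (zpowers_le.2 (mem_centralizer_singleton_iff.2 h12.eq))
      (zpowers_le.2 (mem_centralizer_singleton_iff.2 rfl))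
    rw [mul_inv_eq_iff_eq_mul]
    exact mem_centralizer_singleton_iff.1 (hle (hVgen.ge h3V))
  rw [zpow_ofNat, h5, right_eq_mul, zpow_ofNat] at h4
  have h6 := orderOf_dvd_of_pow_eq_one h4
  rw [orderOf_eq_prime (hexp e1 (hDV he1)) he1ne] at h6
  have := Nat.le_of_dvd (by norm_num) h6
  omega

theorem pLengthLE_one {X : Type*} [Group X] [Finite X] (hX : Cfsg.IsMinimalNonNilpotent X)
    (P : Sylow p X) (hPn : (P : Subgroup X).Normal) (hP1 : (P : Subgroup X) ≠ ⊥)
    (hG : Cfsg.IsPSolvable p G) (Q : Sylow p G)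
    (hQ : Nonempty ((Q : Subgroup G) ≃* (P : Subgroup X))) : Cfsg.PLengthLE p 1 G := by
  obtain ⟨q, σ, D⟩ := exists_data hX P hPn hP1
  obtain ⟨e⟩ := hQ
  haveI hNn := CfsgLib.Solvable.pPrimeCore_normal p G
  set N := Cfsg.pPrimeCore p G with hN
  have hNc := CfsgLib.Solvable.pPrimeCore_coprime (G := G) p
  let S : Sylow p (G ⧸ N) := Q.mapSurjective (QuotientGroup.mk'_surjective N)
  have hinj : Function.Injective ((QuotientGroup.mk' N).comp (Q : Subgroup G).subtype) := by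
    rw [injective_iff_map_eq_one]
    intro x hx
    have hxN : (x : G) ∈ N := (QuotientGroup.eq_one_iff _).1 hx
    exact Subtype.ext (CfsgLib.OddLocal.eq_one_of_mem_pPrimeCore_of_mem_pgroup Q.2 hxN x.2)
  let e' : (Q : Subgroup G) ≃* (S : Subgroup (G ⧸ N)) :=
    (MonoidHom.ofInjective hinj).trans (MulEquiv.subgroupCongr (by
      rw [MonoidHom.range_comp, Subgroup.range_subtype]; rfl))
  have D' := D.transport (e.symm.trans e')
  obtain ⟨k, hk⟩ := CfsgLib.PLength.exists_pSeriesLE_of_isPSolvable hG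
  have hsol := (hk.quotient N).isPSolvable
  have hO : Cfsg.pPrimeCore p (G ⧸ N) = ⊥ := CfsgLib.Solvable.pPrimeCore_quotient_eq_bot p
  have hS := le_pCore_of_data hsol hO S D'
  haveI := CfsgLib.Solvable.pCore_normal p (G ⧸ N)
  rw [CfsgLib.PLength.pLengthLE_iff]
  refine CfsgLib.PLength.PSeriesLE.of_quotient_pPrime N hNc ?_
  refine CfsgLib.PLength.PSeriesLE.of_quotient_pgroup _ (CfsgLib.Solvable.pCore_isPGroup p)
    (CfsgLib.PLength.pSeriesLE_zero.2 ?_)
  rw [← index_eq_card]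
  exact ((hp.out.coprime_iff_not_dvd.2 fun h => S.not_dvd_index
    (h.trans (index_dvd_of_le hS))).symm)

end CfsgLib.Invol.SchmidtSylow
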