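import Mathlib
import Cfsg.Agent.Lib.Coprime.Action
import Cfsg.Agent.Lib.Solvable.Frattini2

/-!
# Class sizes of singular elements: basic lemmas
-/

set_option autoImplicit false

namespace CfsgLib.Invol.SingularClass

open Subgroup
open scoped commutatorElement

variable {G : Type*} [Group G]

/-- The centralizer of an element. -/
abbrev ct (x : G) : Subgroup G := Subgroup.centralizer ({x} : Set G)

/-- The class size of an element. -/
noncomputable abbrev cs (x : G) : ℕ := (Subgroup.centralizer ({x} : Set G)).index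

theorem mem_ct {x g : G} : g ∈ ct x ↔ g * x = x * g := mem_centralizer_singleton_iff

theorem cs_pos [Finite G] (x : G) : 0 < cs x := Nat.pos_of_ne_zero Subgroup.index_ne_zero_of_finite

theorem ct_inv (x : G) : ct x⁻¹ = ct x := by
  ext g
  simp only [mem_ct]
  exact ⟨fun h => by simpa using (Commute.inv_right (show Commute g x⁻¹ from h)).eq,
    fun h => (Commute.inv_right (show Commute g x from h)).eq⟩

theorem cs_inv (x : G) : cs x⁻¹ = cs x := congrArg Subgroup.index (ct_inv x)

theorem cs_conj (g x : G) : cs (g * x * g⁻¹) = cs x := by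
  have h : (ct x).map (MulAut.conj g).toMonoidHom = ct (g * x * g⁻¹) := by
    ext a
    simp only [Subgroup.mem_map, mem_ct]
    constructor
    · rintro ⟨b, hb, rfl⟩
      show g * b * g⁻¹ * (g * x * g⁻¹) = g * x * g⁻¹ * (g * b * g⁻¹)
      calc g * b * g⁻¹ * (g * x * g⁻¹) = g * (b * x) * g⁻¹ := by group
        _ = g * (x * b) * g⁻¹ := by rw [hb]
        _ = _ := by group
    · intro ha
      refine ⟨g⁻¹ * a * g, ?_, ?_⟩
      · calc g⁻¹ * a * g * x = g⁻¹ * (a * (g * x * g⁻¹)) * g := by group
          _ = g⁻¹ * (g * x * g⁻¹ * a) * g := by rw [ha]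
          _ = x * (g⁻¹ * a * g) := by group
      · show g * (g⁻¹ * a * g) * g⁻¹ = a
        group
  show (ct (g * x * g⁻¹)).index = (ct x).index
  rw [← h]
  exact Subgroup.index_map_equiv _ (MulAut.conj g)

theorem mem_center_of_cs_eq_one {x : G} (h : cs x = 1) : x ∈ Subgroup.center G := by
  rw [Subgroup.mem_center_iff]
  intro g
  exact mem_ct.1 (show g ∈ ct x from ((Subgroup.index_eq_one.1 h : ct x = ⊤)) ▸ Subgroup.mem_top g)

theorem cs_dvd_of_le {x y : G} (h : ct x ≤ ct y) : cs y ∣ cs x := Subgroup.index_dvd_of_le h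

theorem ct_le_pow (x : G) (k : ℕ) : ct x ≤ ct (x ^ k) := fun _ hg =>
  mem_ct.2 ((Commute.pow_right (show Commute _ x from mem_ct.1 hg) k).eq)

/-- `|H : K| ` coprime indices give a factorization. -/
theorem exists_mul_of_coprime_index [Finite G] {H K : Subgroup G}
    (h : H.index.Coprime K.index) (g : G) : ∃ a ∈ K, ∃ b ∈ H, a * b = g := by
  have h1 : H.index * K.index ∣ (H ⊓ K).index :=
    h.mul_dvd_of_dvd_of_dvd (Subgroup.index_dvd_of_le inf_le_left) (Subgroup.index_dvd_of_le inf_le_right)
  have h2 : (H ⊓ K).index = H.index * K.index :=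
    le_antisymm Subgroup.index_inf_le (Nat.le_of_dvd
      (Nat.pos_of_ne_zero Subgroup.index_ne_zero_of_finite) h1)
  have h3 : H.relIndex K = H.index := by
    have := Subgroup.relIndex_mul_index (inf_le_right : H ⊓ K ≤ K)
    rw [h2, Subgroup.inf_relIndex_right] at this
    exact Nat.eq_of_mul_eq_mul_right (Nat.pos_of_ne_zero Subgroup.index_ne_zero_of_finite) this
  let f : K ⧸ H.subgroupOf K → G ⧸ H := Quotient.map' Subtype.val (fun a b hab => by
    rw [QuotientGroup.leftRel_apply] at hab ⊢
    exact hab)
  have hf : Function.Injective f := by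
    intro a b hab
    induction a using QuotientGroup.induction_on with
    | H a =>
      induction b using QuotientGroup.induction_on with
      | H b => exact QuotientGroup.eq.2 (QuotientGroup.eq.1 hab : (a : G)⁻¹ * b ∈ H)
  have hb : Function.Bijective f :=
    hf.bijective_of_nat_card_le (le_of_eq h3.symm)
  obtain ⟨q, hq⟩ := hb.2 (QuotientGroup.mk g)
  induction q using QuotientGroup.induction_on with
  | H a => exact ⟨a, a.2, (a : G)⁻¹ * g, QuotientGroup.eq.1 hq, by group⟩

/-- The number of conjugates of `y` is the index of its centralizer. -/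
theorem card_isConj [Finite G] (y : G) : Nat.card {g : G | IsConj y g} = cs y := by
  have h := MulAction.index_stabilizer (G := ConjAct G) (X := G) (x := y)
  rw [ConjAct.stabilizer_eq_centralizer, ← Nat.card_coe_set_eq] at h
  have e : MulAction.orbit (ConjAct G) y = {g : G | IsConj y g} := by
    ext g
    rw [ConjAct.mem_orbit_conjAct, Set.mem_setOf_eq, isConj_comm]
  rw [e] at h
  exact h.symm

/-- A nilpotent normal subgroup centralized modulo its derived subgroup by a coprime group. -/
theorem le_centralizer_of_trivial_mod [Finite G] (N : Subgroup G) [N.Normal] [Group.IsNilpotent N]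
    (A : Subgroup G) (hcop : (Nat.card A).Coprime (Nat.card N))
    (h : ∀ n ∈ N, ∀ a ∈ A, ⁅n, a⁆ ∈ ⁅N, N⁆) : A ≤ Subgroup.centralizer (N : Set G) := by
  have hA : A ≤ Subgroup.normalizer (N : Set G) := by
    rw [Subgroup.normalizer_eq_top_iff.2 (inferInstance : N.Normal)]; exact le_top
  have h1 := Coprime.commutator_sup_centralizer hA hcop (Or.inr inferInstance)
  set C := N ⊓ Subgroup.centralizer (A : Set G)
  have hNA : ⁅N, A⁆ ≤ ⁅N, N⁆ := Subgroup.commutator_le.2 h
  have htop : C.subgroupOf N ⊔ frattini N = ⊤ := by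
    refine eq_top_iff.2 (le_trans ?_ (sup_le_sup_left Solvable.commutator_le_frattini _))
    refine (Subgroup.map_le_map_iff_of_injective N.subtype_injective).1 ?_
    rw [Subgroup.map_sup, Subgroup.map_subgroupOf_eq_of_le inf_le_left, ← MonoidHom.range_eq_map,
      Subgroup.range_subtype, Subgroup.map_subtype_commutator]
    exact h1.ge.trans (sup_le (hNA.trans le_sup_right) le_sup_left)
  have h2 : N ≤ C := Subgroup.subgroupOf_eq_top.1 (frattini_nongenerating htop)
  exact Subgroup.le_centralizer_iff.1 (h2.trans inf_le_right)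

variable {p : ℕ} [hp : Fact p.Prime]

omit hp in
/-- An element of `p`-power order centralizing a Sylow subgroup lies in it. -/
theorem mem_sylow_of_le_ct (P : Sylow p G) {x : G} (hx : (P : Subgroup G) ≤ ct x) {k : ℕ}
    (hk : x ^ p ^ k = 1) : x ∈ (P : Subgroup G) := by
  have hz : IsPGroup p (Subgroup.zpowers x) := by
    rintro ⟨a, ha⟩
    obtain ⟨i, rfl⟩ := Subgroup.mem_zpowers_iff.1 ha
    refine ⟨k, Subtype.ext ?_⟩
    show (x ^ i) ^ p ^ k = 1
    rw [← zpow_natCast, ← zpow_mul, mul_comm, zpow_mul, zpow_natCast, hk, one_zpow]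
  have hxN : x ∈ Subgroup.normalizer ((P : Subgroup G) : Set G) := by
    rw [Subgroup.mem_normalizer_iff]
    intro h
    constructor
    · intro hh
      rwa [← mem_ct.1 (hx hh), mul_inv_cancel_right]
    · intro hh
      have e : x * h * x⁻¹ * x = x * (x * h * x⁻¹) := mem_ct.1 (hx hh)
      rw [inv_mul_cancel_right, mul_assoc x] at e
      have e' : h = x * h * x⁻¹ := by
        have := mul_left_cancel e
        rw [← mul_assoc] at this
        exact this
      rwa [e']
  exact ((hz.inf_normalizer_sylow P).le ⟨Subgroup.mem_zpowers x, hxN⟩).2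

/-- If `p` does not divide the class size then a Sylow subgroup centralizes the element. -/
theorem exists_sylow_le_ct [Finite G] {x : G} (h : ¬ p ∣ cs x) :
    ∃ P : Sylow p G, (P : Subgroup G) ≤ ct x := by
  obtain ⟨Q⟩ := (inferInstance : Nonempty (Sylow p (ct x)))
  have hQ : IsPGroup p ((Q : Subgroup (ct x)).map (ct x).subtype) := Q.2.map _
  obtain ⟨P, hP⟩ := hQ.exists_le_sylow
  refine ⟨P, ?_⟩
  have hcard : Nat.card ((Q : Subgroup (ct x)).map (ct x).subtype) = Nat.card P := by
    rw [Subgroup.card_map_of_injective (ct x).subtype_injective,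
      Q.card_eq_multiplicity, P.card_eq_multiplicity, ← Subgroup.card_mul_index (ct x),
      Nat.factorization_mul Nat.card_pos.ne' Subgroup.index_ne_zero_of_finite]
    simp [Nat.factorization_eq_zero_of_not_dvd h]
  rw [← Subgroup.eq_of_le_of_card_ge hP hcard.ge]
  exact Subgroup.map_subtype_le _

theorem not_dvd_cs_of_sylow_le [Finite G] (P : Sylow p G) {x : G} (h : (P : Subgroup G) ≤ ct x) :
    ¬ p ∣ cs x := fun hd => P.not_dvd_index (hd.trans (Subgroup.index_dvd_of_le h))

end CfsgLib.Invol.SingularClass
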