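import Cfsg.Agent.Lib.Invol.SingularClassKey
import Cfsg.Agent.Lib.StructB.Misc

/-!
# Class sizes of singular elements: the graph
-/

set_option autoImplicit false

namespace CfsgLib.Invol.SingularClass

open Subgroup
open scoped commutatorElement Pointwise

variable {G : Type*} [Group G] [Finite G] {p : ℕ} [hp : Fact p.Prime]

/-- A number dividing the class size of a `p`-singular element. -/
def Vx (G : Type*) [Group G] (p t : ℕ) : Prop :=
  t.Prime ∧ ∃ x : G, p ∣ orderOf x ∧ t ∣ cs x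

/-- Adjacency. -/
def Adj (G : Type*) [Group G] (p a b : ℕ) : Prop := ∃ x : G, p ∣ orderOf x ∧ a * b ∣ cs x

omit hp [Finite G] in
/-- Every `p`-element and `p'`-element power of `g` in a subgroup puts `g` there. -/
theorem mem_of_pow_mem {H : Subgroup G} {g : G} {q r : ℕ} (hqr : q.Coprime r) (hq : g ^ q ∈ H)
    (hr : g ^ r ∈ H) : g ∈ H := by
  have h := Nat.gcd_eq_gcd_ab q r
  rw [hqr.gcd_eq_one] at h
  rw [← zpow_one g, ← Nat.cast_one, h, zpow_add, zpow_mul, zpow_mul, zpow_natCast, zpow_natCast]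
  exact mul_mem (zpow_mem hq _) (zpow_mem hr _)

/-- The split of the order of an element. -/
theorem exists_split (g : G) : ∃ k r : ℕ, (p ^ k).Coprime r ∧ (g ^ r) ^ p ^ k = 1 ∧
    (orderOf (g ^ p ^ k)).Coprime p := by
  obtain ⟨k, r, hr, he⟩ := Nat.exists_eq_pow_mul_and_not_dvd (orderOf_pos g).ne' p hp.out.ne_one
  have hc : r.Coprime p := (hp.out.coprime_iff_not_dvd.2 hr).symm
  refine ⟨k, r, (hc.pow_right k).symm, ?_, ?_⟩
  · rw [← pow_mul, mul_comm, ← he, pow_orderOf_eq_one]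
  · refine hc.coprime_dvd_left (orderOf_dvd_of_pow_eq_one ?_)
    rw [← pow_mul, ← he, pow_orderOf_eq_one]

omit hp in
/-- An element of prime order below a singular element. -/
theorem exists_order_p {v : G} (h : p ∣ orderOf v) :
    ∃ x : G, orderOf x = p ∧ cs x ∣ cs v := by
  refine ⟨v ^ (orderOf v / p), ?_, cs_dvd_of_le (ct_le_pow _ _)⟩
  exact orderOf_pow_orderOf_div (orderOf_pos v).ne' h

omit hp [Finite G] in
theorem dvd_center {x : G} (hx : orderOf x = p) (h : x ∈ Subgroup.center G) :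
    p ∣ Nat.card (Subgroup.center G) := hx ▸ Subgroup.orderOf_dvd_natCard _ h

omit [Finite G] in
theorem singular_of_mem {P : Sylow p G} {u : G} (hu : u ∈ (P : Subgroup G)) (h : p ∣ cs u) :
    p ∣ orderOf u := by
  obtain ⟨k, hk⟩ := P.2 ⟨u, hu⟩
  obtain ⟨j, -, hj⟩ := (Nat.dvd_prime_pow hp.out).1
    (orderOf_dvd_of_pow_eq_one (n := p ^ k) (x := u) (congrArg Subtype.val hk))
  rcases Nat.eq_zero_or_pos j with hj0 | hj0
  · rw [hj0, pow_zero, orderOf_eq_one_iff] at hj
    have h1 : cs u = 1 := by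
      rw [hj]
      exact Subgroup.index_eq_one.2 (eq_top_iff.2 fun g _ => mem_ct.2 (by simp))
    exact absurd (h1 ▸ h) hp.out.not_dvd_one
  · exact hj ▸ dvd_pow_self p hj0.ne'

omit hp in
/-- Conjugating an element centralized by one Sylow subgroup to one centralized by another. -/
theorem exists_conj_le_ct [Fact p.Prime] (P Q : Sylow p G) {x : G} (h : (Q : Subgroup G) ≤ ct x) :
    ∃ g : G, (P : Subgroup G) ≤ ct (g * x * g⁻¹) := by
  obtain ⟨g, hg⟩ := MulAction.exists_smul_eq G Q P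
  refine ⟨g, fun a ha => ?_⟩
  rw [← hg] at ha
  obtain ⟨b, hb, rfl⟩ := (ha : a ∈ (MulAut.conj g) • (Q : Subgroup G))
  rw [mem_ct]
  show g * b * g⁻¹ * (g * x * g⁻¹) = g * x * g⁻¹ * (g * b * g⁻¹)
  calc g * b * g⁻¹ * (g * x * g⁻¹) = g * (b * x) * g⁻¹ := by group
    _ = g * (x * b) * g⁻¹ := by rw [mem_ct.1 (h hb)]
    _ = _ := by group

/-- The centralizer of an element `x` centralized by `P` is `P C(P)`. -/
theorem ct_le_sup {x : G} (hxo : orderOf x = p) (hx1 : cs x ≠ 1) (P : Sylow p G)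
    (hP : (P : Subgroup G) ≤ ct x)
    (hyp : ∀ u : G, p ∣ orderOf u → p ∣ cs u → (cs u).Coprime (cs x)) :
    ct x ≤ (P : Subgroup G) ⊔ Subgroup.centralizer ((P : Subgroup G) : Set G) := by
  have hxP : x ∈ (P : Subgroup G) := mem_sylow_of_le_ct P hP (k := 1)
    (by rw [pow_one, ← hxo, pow_orderOf_eq_one])
  set M := (P : Subgroup G) ⊔ Subgroup.centralizer ((P : Subgroup G) : Set G) with hM
  have key : ∀ g : ct x, ∃ c : ct x, c * g * c⁻¹ ∈ M.subgroupOf (ct x) := by
    rintro ⟨g, hg⟩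
    obtain ⟨k, r, hcop, hr, hb⟩ := exists_split (p := p) g
    set b := g ^ p ^ k with hbd
    have hgx : Commute g x := mem_ct.1 hg
    have hbx : Commute b x := hgx.pow_left _
    set n := orderOf b with hn
    obtain ⟨m, hm⟩ := exists_pow_eq_self_of_coprime (x := x) (n := n) (hxo.symm ▸ hb)
    have hvn : (x * b) ^ n = x ^ n := by
      rw [hbx.symm.mul_pow, hn, pow_orderOf_eq_one, mul_one]
    have hvx : ((x * b) ^ n) ^ m = x := by rw [hvn, hm]
    have hsing : p ∣ orderOf (x * b) := by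
      rw [← hxo]
      conv_lhs => rw [← hvx]
      exact (orderOf_pow_dvd m).trans (orderOf_pow_dvd n)
    have hle : ct (x * b) ≤ ct x := by
      have := (ct_le_pow (x * b) n).trans (ct_le_pow _ m)
      rwa [hvx] at this
    obtain ⟨Q, hQ⟩ := exists_sylow_le_ct (p := p) (x := x * b) fun h => hx1 (by
      have := hyp _ hsing h
      exact (Nat.coprime_self _).1 (this.coprime_dvd_left (cs_dvd_of_le hle)))
    have hQx : (Q : Subgroup G) ≤ ct x := hQ.trans hle
    have hQb : (Q : Subgroup G) ≤ ct b := fun a ha => mem_ct.2 <| by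
      have h1 : Commute a (x * b) := mem_ct.1 (hQ ha)
      have h2 : Commute a x := mem_ct.1 (hQx ha)
      have := (h2.inv_right.mul_right h1).eq
      rwa [inv_mul_cancel_left] at this
    -- move the `p`-part into `Q`
    set a := g ^ r with had
    set K := ct b ⊓ ct x with hK
    have haK : a ∈ K := ⟨mem_ct.2 (Commute.pow_pow_self g r (p ^ k)).eq,
      mem_ct.2 (hgx.pow_left r).eq⟩
    let QK : Sylow p K := Q.subtype (le_inf hQb hQx)
    have hz : IsPGroup p (Subgroup.zpowers (⟨a, haK⟩ : K)) := by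
      rintro ⟨z, hz⟩
      obtain ⟨i, rfl⟩ := Subgroup.mem_zpowers_iff.1 hz
      refine ⟨k, Subtype.ext (Subtype.ext ?_)⟩
      show (a ^ i) ^ p ^ k = 1
      rw [← zpow_natCast, ← zpow_mul, mul_comm, zpow_mul, zpow_natCast, hr, one_zpow]
    obtain ⟨R, hR⟩ := hz.exists_le_sylow
    obtain ⟨c, hc⟩ := MulAction.exists_smul_eq K R QK
    have hca : (c : G) * a * (c : G)⁻¹ ∈ (Q : Subgroup G) := by
      have : c * ⟨a, haK⟩ * c⁻¹ ∈ (QK : Subgroup K) := by
        rw [← hc]
        exact ⟨_, hR (Subgroup.mem_zpowers _), rfl⟩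
      exact this
    have hcb : (c : G) * b * (c : G)⁻¹ = b := by
      rw [(mem_ct.1 c.2.1 : (c : G) * b = b * c), mul_inv_cancel_right]
    -- move `Q` onto `P` inside the centralizer of `x`
    obtain ⟨d, hd⟩ := MulAction.exists_smul_eq (ct x) (Q.subtype hQx) (P.subtype hP)
    have hdP : ∀ z ∈ (Q : Subgroup G), (d : G) * z * (d : G)⁻¹ ∈ (P : Subgroup G) := by
      intro z hz
      have : d * ⟨z, hQx hz⟩ * d⁻¹ ∈ (P.subtype hP : Subgroup (ct x)) := by
        rw [← hd]
        exact ⟨_, (show (⟨z, hQx hz⟩ : ct x) ∈ (Q.subtype hQx : Subgroup (ct x)) from hz), rfl⟩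
      exact this
    have hdP' : ∀ z ∈ (P : Subgroup G), (d : G)⁻¹ * z * (d : G) ∈ (Q : Subgroup G) := by
      intro z hz
      have : (⟨z, hP hz⟩ : ct x) ∈ (P.subtype hP : Subgroup (ct x)) := hz
      rw [← hd] at this
      obtain ⟨w, hw, hwe⟩ := this
      have e : (d : G) * (w : G) * (d : G)⁻¹ = z := congrArg Subtype.val hwe
      rw [show (d : G)⁻¹ * z * (d : G) = w by rw [← e]; group]
      exact hw
    refine ⟨d * ⟨c, c.2.2⟩, ?_⟩
    show (d : G) * c * g * ((d : G) * c)⁻¹ ∈ M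
    refine mem_of_pow_mem hcop ?_ ?_
    · refine Subgroup.mem_sup_right ?_
      rw [conj_pow, ← hbd, show (d : G) * c * b * ((d : G) * c)⁻¹ = d * (c * b * (c : G)⁻¹) * (d : G)⁻¹
        by group, hcb, Subgroup.mem_centralizer_iff]
      intro z hz
      have h1 := mem_ct.1 (hQb (hdP' z hz))
      calc z * (d * b * (d : G)⁻¹) = d * ((d : G)⁻¹ * z * d * b) * (d : G)⁻¹ := by group
        _ = d * (b * ((d : G)⁻¹ * z * d)) * (d : G)⁻¹ := by rw [h1]
        _ = _ := by group
    · refine Subgroup.mem_sup_left ?_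
      rw [conj_pow, ← had, show (d : G) * c * a * ((d : G) * c)⁻¹ = d * (c * a * (c : G)⁻¹) * (d : G)⁻¹
        by group]
      exact hdP _ hca
  exact Subgroup.subgroupOf_eq_top.1 (CfsgLib.StructB.eq_top_of_conj_cover _ key)

/-- The mixed case. -/
theorem exists_link (hZ : ¬ p ∣ Nat.card (Subgroup.center G)) {x y : G} (hxo : orderOf x = p)
    (hyo : orderOf y = p) (hxA : ¬ p ∣ cs x) (hyB : p ∣ cs y) :
    ∃ u : G, p ∣ orderOf u ∧ p ∣ cs u ∧ ¬ (cs u).Coprime (cs x) := by
  by_contra hcon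
  push Not at hcon
  have hxc : x ∉ Subgroup.center G := fun h => hZ (dvd_center hxo h)
  have hx1 : cs x ≠ 1 := fun h => hxc (mem_center_of_cs_eq_one h)
  obtain ⟨P, hP⟩ := exists_sylow_le_ct hxA
  have hxP : x ∈ (P : Subgroup G) := mem_sylow_of_le_ct P hP (k := 1)
    (by rw [pow_one, ← hxo, pow_orderOf_eq_one])
  have hC := ct_le_sup hxo hx1 P hP hcon
  have hCN : ct x ≤ Subgroup.normalizer ((P : Subgroup G) : Set G) :=
    hC.trans (sup_le Subgroup.le_normalizer (Subgroup.centralizer_le_normalizer _))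
  -- a conjugate of `y` in `P`
  obtain ⟨y', hy'P, hy'⟩ : ∃ y' ∈ (P : Subgroup G), p ∣ cs y' := by
    have hz : IsPGroup p (Subgroup.zpowers y) :=
      IsPGroup.of_card (n := 1) (by rw [Nat.card_zpowers, hyo, pow_one])
    obtain ⟨Q, hQ⟩ := hz.exists_le_sylow
    obtain ⟨g, hg⟩ := MulAction.exists_smul_eq G Q P
    refine ⟨g * y * g⁻¹, ?_, by rwa [cs_conj]⟩
    rw [← hg]
    exact ⟨y, hQ (Subgroup.mem_zpowers y), rfl⟩
  -- conjugates of elements of `P` with class size divisible by `p`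
  have hconj : ∀ u ∈ (P : Subgroup G), p ∣ cs u → ∀ g : G,
      ∃ a ∈ ct x, g * u * g⁻¹ = a * u * a⁻¹ := by
    intro u hu hpu g
    obtain ⟨a, ha, b, hb, rfl⟩ :=
      exists_mul_of_coprime_index (hcon u (singular_of_mem hu hpu) hpu) g
    refine ⟨a, ha, ?_⟩
    rw [mem_ct] at hb
    calc a * b * u * (a * b)⁻¹ = a * (b * u) * b⁻¹ * a⁻¹ := by group
      _ = a * (u * b) * b⁻¹ * a⁻¹ := by rw [hb]
      _ = _ := by group
  set W := Subgroup.normalClosure {u : G | u ∈ (P : Subgroup G) ∧ p ∣ cs u} with hW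
  have hWP : W ≤ (P : Subgroup G) := by
    rw [hW, Subgroup.normalClosure, Subgroup.closure_le]
    intro z hz
    obtain ⟨u, ⟨hu, hpu⟩, huz⟩ := Group.mem_conjugatesOfSet_iff.1 hz
    obtain ⟨g, rfl⟩ := isConj_iff.1 huz
    obtain ⟨a, ha, e⟩ := hconj u hu hpu g
    rw [e]
    exact (Subgroup.mem_normalizer_iff.1 (hCN ha) u).1 hu
  have hWn : W.Normal := Subgroup.normalClosure_normal
  have hsplit : ∀ u ∈ (P : Subgroup G), u ∈ W ∨ u ∈ Subgroup.centralizer (W : Set G) := by
    intro u hu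
    by_cases hpu : p ∣ cs u
    · exact Or.inl (Subgroup.subset_normalClosure ⟨hu, hpu⟩)
    · right
      obtain ⟨Q, hQ⟩ := exists_sylow_le_ct hpu
      obtain ⟨g, hg⟩ := MulAction.exists_smul_eq G P Q
      rw [Subgroup.mem_centralizer_iff]
      intro w hw
      refine mem_ct.1 (hQ ?_)
      rw [← hg]
      refine ⟨g⁻¹ * w * g, hWP ?_, by show g * (g⁻¹ * w * g) * g⁻¹ = w; group⟩
      simpa using hWn.conj_mem w hw g⁻¹
  have hPW : (P : Subgroup G) ≤ W := by
    by_contra hn
    obtain ⟨u, hu, huW⟩ := SetLike.not_le_iff_exists.1 hn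
    have huC := (hsplit u hu).resolve_left huW
    have hPC : (P : Subgroup G) ≤ ct y' := by
      intro v hv
      have hy'W : y' ∈ W := Subgroup.subset_normalClosure ⟨hy'P, hy'⟩
      rcases hsplit v hv with h | h
      · have h2 := (hsplit (u * v) (mul_mem hu hv)).resolve_left fun h3 => huW (by
          simpa using mul_mem h3 (inv_mem h))
        have h4 := mul_mem (inv_mem huC) h2
        rw [inv_mul_cancel_left] at h4
        exact mem_ct.2 ((Subgroup.mem_centralizer_iff.1 h4) y' hy'W).symm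
      · exact mem_ct.2 ((Subgroup.mem_centralizer_iff.1 h) y' hy'W).symm
    exact not_dvd_cs_of_sylow_le P hPC hy'
  have hPn : (P : Subgroup G).Normal := le_antisymm hPW hWP ▸ hWn
  have huniq : ∀ Q : Sylow p G, Q = P := fun Q => by
    obtain ⟨g, rfl⟩ := MulAction.exists_smul_eq G P Q
    rw [Sylow.smul_eq_iff_mem_normalizer]
    show g ∈ Subgroup.normalizer ((P : Subgroup G) : Set G)
    rw [Subgroup.normalizer_eq_top_iff.2 hPn]
    exact Subgroup.mem_top g
  -- the kernel of the action on `P / P'`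
  set D' := ⁅(P : Subgroup G), (P : Subgroup G)⁆ with hD'
  have hD'n : D'.Normal := Subgroup.commutator_normal _ _
  let D : Subgroup G :=
    { carrier := {c | ∀ u ∈ (P : Subgroup G), c * u * c⁻¹ * u⁻¹ ∈ D'}
      one_mem' := fun u _ => by simp [one_mem]
      mul_mem' := fun {a b} ha hb u hu => by
        have := mul_mem (ha _ (hPn.conj_mem u hu b)) (hb u hu)
        convert this using 1
        group
      inv_mem' := fun {a} ha u hu => by
        have := inv_mem (ha _ (by simpa using hPn.conj_mem u hu a⁻¹ : a⁻¹ * u * a ∈ (P : Subgroup G)))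
        convert this using 1
        group }
  have hxD : ct x ≤ D := by
    refine hC.trans (sup_le (fun c hc u hu => ?_) fun c hc u hu => ?_)
    · exact Subgroup.commutator_mem_commutator hc hu
    · rw [← Subgroup.mem_centralizer_iff.1 hc u hu, mul_inv_cancel_right, mul_inv_cancel]
      exact one_mem _
  have hB : ∀ u ∈ (P : Subgroup G), p ∣ cs u → ∀ g : G, g * u * g⁻¹ * u⁻¹ ∈ D' := by
    intro u hu hpu g
    obtain ⟨a, ha, e⟩ := hconj u hu hpu g
    rw [e]
    exact hxD ha u hu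
  have hall : ∀ g : G, ∀ u ∈ (P : Subgroup G), g * u * g⁻¹ * u⁻¹ ∈ D' := by
    intro g u hu
    by_cases hpu : p ∣ cs u
    · exact hB u hu hpu g
    · obtain ⟨Q, hQ⟩ := exists_sylow_le_ct hpu
      rw [huniq Q] at hQ
      have huy : p ∣ cs (u * y') := by
        by_contra h
        obtain ⟨R, hR⟩ := exists_sylow_le_ct h
        rw [huniq R] at hR
        refine not_dvd_cs_of_sylow_le P (fun v hv => mem_ct.2 ?_) hy'
        have h1 : Commute v u := mem_ct.1 (hQ hv)
        have h2 : Commute v (u * y') := mem_ct.1 (hR hv)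
        have := (h1.inv_right.mul_right h2).eq
        rwa [inv_mul_cancel_left] at this
      have h1 := hB _ (mul_mem hu hy'P) huy g
      have h2 := hD'n.conj_mem _ (inv_mem (hB y' hy'P hy' g)) (u : G)
      have h3 := hD'n.conj_mem _ (mul_mem h1 (inv_mem h2)) 1
      have h4 := hD'n.conj_mem _ (inv_mem (hB y' hy'P hy' g)) (g * u * g⁻¹)
      have h5 := mul_mem h4 h1
      convert h5 using 1
      group
  -- conclusion
  apply hxc
  rw [Subgroup.mem_center_iff]
  intro g
  suffices g ∈ ct x from mem_ct.1 this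
  obtain ⟨k, r, hcop, hr, hb⟩ := exists_split (p := p) g
  refine mem_of_pow_mem hcop ?_ (hP ?_)
  · have := hPn
    have : Group.IsNilpotent (P : Subgroup G) := P.2.isNilpotent
    have hco : (Nat.card (Subgroup.zpowers (g ^ p ^ k))).Coprime (Nat.card (P : Subgroup G)) := by
      rw [Nat.card_zpowers]
      obtain ⟨i, hi⟩ := IsPGroup.iff_card.1 P.2
      rw [hi]
      exact hb.pow_right i
    have := le_centralizer_of_trivial_mod (P : Subgroup G) _ hco (fun n hn a _ => by
      have := inv_mem (hall a n hn)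
      convert this using 1
      rw [commutatorElement_def]; group) (Subgroup.mem_zpowers (g ^ p ^ k))
    exact mem_ct.2 (Subgroup.mem_centralizer_iff.1 this x hxP).symm
  · have hz : IsPGroup p (Subgroup.zpowers (g ^ r)) := by
      rintro ⟨z, hz⟩
      obtain ⟨i, rfl⟩ := Subgroup.mem_zpowers_iff.1 hz
      refine ⟨k, Subtype.ext ?_⟩
      show ((g ^ r) ^ i) ^ p ^ k = 1
      rw [← zpow_natCast, ← zpow_mul, mul_comm, zpow_mul, zpow_natCast, hr, one_zpow]
    obtain ⟨R, hR⟩ := hz.exists_le_sylow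
    exact huniq R ▸ hR (Subgroup.mem_zpowers _)

/-- Adjacent or equal. -/
def Near (G : Type*) [Group G] (p a b : ℕ) : Prop := a = b ∨ Adj G p a b

omit hp [Finite G] in
theorem near_of_dvd {a b : ℕ} (ha : a.Prime) (hb : b.Prime) {x : G} (hx : p ∣ orderOf x)
    (hax : a ∣ cs x) (hbx : b ∣ cs x) : Near G p a b := by
  by_cases h : a = b
  · exact Or.inl h
  · exact Or.inr ⟨x, hx, ((Nat.coprime_primes ha hb).2 h).mul_dvd_of_dvd_of_dvd hax hbx⟩

/-- Three steps in the graph between two primes dividing class sizes. -/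
theorem exists_walk (hZ : ¬ p ∣ Nat.card (Subgroup.center G)) {r s : ℕ} (hr : Vx G p r)
    (hs : Vx G p s) : ∃ a b : ℕ, Vx G p a ∧ Vx G p b ∧ Near G p r a ∧ Near G p a b ∧ Near G p b s := by
  obtain ⟨hr, v, hv, hrv⟩ := hr
  obtain ⟨hs, w, hw, hsw⟩ := hs
  obtain ⟨x, hxo, hxv⟩ := exists_order_p hv
  obtain ⟨y, hyo, hyw⟩ := exists_order_p hw
  have hxs : p ∣ orderOf x := hxo.symm.dvd
  have hys : p ∣ orderOf y := hyo.symm.dvd
  have hne : ∀ z : G, orderOf z = p → cs z ≠ 1 := fun z hz h =>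
    hZ (dvd_center hz (mem_center_of_cs_eq_one h))
  by_cases hx : p ∣ cs x
  · by_cases hy : p ∣ cs y
    · exact ⟨p, p, ⟨hp.out, x, hxs, hx⟩, ⟨hp.out, x, hxs, hx⟩,
        near_of_dvd hr hp.out hv hrv (hx.trans hxv), Or.inl rfl,
        near_of_dvd hp.out hs hw (hy.trans hyw) hsw⟩
    · obtain ⟨u, hu, hpu, hnc⟩ := exists_link hZ hyo hxo hy hx
      obtain ⟨a, ha, hau, hay⟩ := Nat.Prime.not_coprime_iff_dvd.1 hnc
      exact ⟨p, a, ⟨hp.out, x, hxs, hx⟩, ⟨ha, u, hu, hau⟩,
        near_of_dvd hr hp.out hv hrv (hx.trans hxv), near_of_dvd hp.out ha hu hpu hau,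
        near_of_dvd ha hs hw (hay.trans hyw) hsw⟩
  · by_cases hy : p ∣ cs y
    · obtain ⟨u, hu, hpu, hnc⟩ := exists_link hZ hxo hyo hx hy
      obtain ⟨a, ha, hau, hax⟩ := Nat.Prime.not_coprime_iff_dvd.1 hnc
      exact ⟨a, p, ⟨ha, u, hu, hau⟩, ⟨hp.out, u, hu, hpu⟩,
        near_of_dvd hr ha hv hrv (hax.trans hxv), near_of_dvd ha hp.out hu hau hpu,
        near_of_dvd hp.out hs hw (hy.trans hyw) hsw⟩
    · obtain ⟨P, hP⟩ := exists_sylow_le_ct hx
      obtain ⟨Q, hQ⟩ := exists_sylow_le_ct hy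
      obtain ⟨g, hg⟩ := exists_conj_le_ct P Q hQ
      set z := g * y * g⁻¹ with hz
      have hzs : cs z = cs y := cs_conj g y
      have hyp : y ^ p = 1 := hyo ▸ pow_orderOf_eq_one y
      have hxp : x ^ p = 1 := hxo ▸ pow_orderOf_eq_one x
      have hzp : z ^ p = 1 := by rw [hz, conj_pow, hyp, mul_one, mul_inv_cancel]
      have hzo : orderOf z = p := by rw [hz, ← hyo]; exact MulEquiv.orderOf_eq (MulAut.conj g) y
      have hzw : cs z ∣ cs w := hzs ▸ hyw
      have hzA : ¬ p ∣ cs z := hzs ▸ hy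
      by_cases hc : (cs x).Coprime (cs z)
      · have hxz : Commute x z := (mem_ct.1 (hg (mem_sylow_of_le_ct P hP (k := 1) (by rwa [pow_one]))))
        have hwo : orderOf (x * z) = p := by
          refine orderOf_eq_prime (by rw [hxz.mul_pow, hxp, hzp, one_mul]) fun h => ?_
          rw [← mul_eq_one_iff_inv_eq.1 h, cs_inv] at hc
          exact hne x hxo ((Nat.coprime_self _).1 hc)
        have h1 : ¬ (cs (x * z)).Coprime (cs x) := fun h =>
          hZ (dvd_center hxo (mem_center_of_coprime hxz hxp hzA hc h))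
        have h2 : ¬ (cs (x * z)).Coprime (cs z) := fun h =>
          hZ (dvd_center hzo (mem_center_of_coprime hxz.symm hzp hx hc.symm (hxz.eq ▸ h)))
        obtain ⟨a, ha, haw, hax⟩ := Nat.Prime.not_coprime_iff_dvd.1 h1
        obtain ⟨b, hb, hbw, hbz⟩ := Nat.Prime.not_coprime_iff_dvd.1 h2
        exact ⟨a, b, ⟨ha, x, hxs, hax⟩, ⟨hb, w, hw, hbz.trans hzw⟩,
          near_of_dvd hr ha hv hrv (hax.trans hxv), near_of_dvd ha hb hwo.symm.dvd haw hbw,
          near_of_dvd hb hs hw (hbz.trans hzw) hsw⟩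
      · obtain ⟨a, ha, hax, haz⟩ := Nat.Prime.not_coprime_iff_dvd.1 hc
        exact ⟨a, a, ⟨ha, x, hxs, hax⟩, ⟨ha, x, hxs, hax⟩,
          near_of_dvd hr ha hv hrv (hax.trans hxv), Or.inl rfl,
          near_of_dvd ha hs hw (haz.trans hzw) hsw⟩

end CfsgLib.Invol.SingularClass
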