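import Cfsg.Agent.Lib.Invol.SingularClassBasic

/-!
# Class sizes of commuting elements: the key lemma
-/

set_option autoImplicit false

namespace CfsgLib.Invol.SingularClass

open Subgroup
open scoped commutatorElement

variable {G : Type*} [Group G] [Finite G] {p : ℕ} [hp : Fact p.Prime]

omit hp in
theorem relIndex_dvd_index (H N : Subgroup G) [N.Normal] : H.relIndex N ∣ H.index := by
  have h1 := Subgroup.relIndex_mul_relIndex (H ⊓ N) N (H ⊔ N) inf_le_right le_sup_right
  have h2 := Subgroup.relIndex_mul_relIndex (H ⊓ N) H (H ⊔ N) inf_le_left le_sup_left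
  rw [Subgroup.inf_relIndex_right, Subgroup.relIndex_sup_right] at h1
  rw [Subgroup.inf_relIndex_left, ← h1, mul_comm (H.relIndex N)] at h2
  have h3 : H.relIndex (H ⊔ N) = H.relIndex N :=
    Nat.eq_of_mul_eq_mul_left (Nat.pos_of_ne_zero (fun h => Nat.card_pos.ne'
      (Nat.eq_zero_of_zero_dvd (h ▸ Subgroup.relIndex_dvd_card N H)))) h2
  exact h3 ▸ Subgroup.relIndex_dvd_index_of_le le_sup_left

/-- Two commuting elements with coprime class sizes: if the class sizes of `x * y` and `x` are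
coprime, `x ^ p = 1` and `p` does not divide the class size of `y`, then `x` is central. -/
theorem mem_center_of_coprime {x y : G} (hxy : Commute x y) (hx : x ^ p = 1) (hy : ¬ p ∣ cs y)
    (h1 : (cs x).Coprime (cs y)) (h2 : (cs (x * y)).Coprime (cs x)) : x ∈ Subgroup.center G := by
  set Y : Set G := {z : G | IsConj y z} with hY
  -- the translation property
  have hA : ∀ g : G, y * (g * x * g⁻¹ * x⁻¹) ∈ Y := by
    intro g
    obtain ⟨a, ha, b, hb, rfl⟩ := exists_mul_of_coprime_index h1 g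
    obtain ⟨c, hc, d, hd, rfl⟩ := exists_mul_of_coprime_index h2 a
    rw [mem_ct] at hb hd ha hc
    have e1 : c * d * b * x * (c * d * b)⁻¹ = c * d * x * (c * d)⁻¹ := by
      calc c * d * b * x * (c * d * b)⁻¹ = c * d * (b * x) * b⁻¹ * (c * d)⁻¹ := by group
        _ = c * d * (x * b) * b⁻¹ * (c * d)⁻¹ := by rw [hb]
        _ = _ := by group
    have e2 : y * (c * d * x * (c * d)⁻¹) = x * (c * y * c⁻¹) := by
      calc y * (c * d * x * (c * d)⁻¹) = (c * d * y) * (c * d)⁻¹ * (c * d * x * (c * d)⁻¹) := by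
            rw [ha]; group
        _ = c * d * (y * x) * (c * d)⁻¹ := by group
        _ = c * (d * (x * y)) * (c * d)⁻¹ := by rw [hxy.eq]; group
        _ = c * ((x * y) * d) * (c * d)⁻¹ := by rw [hd]
        _ = (c * x) * y * c⁻¹ := by group
        _ = (x * c) * y * c⁻¹ := by rw [hc]
        _ = _ := by group
    refine isConj_iff.2 ⟨x * c, ?_⟩
    rw [e1, ← mul_assoc y, e2]
    group
  have hB : ∀ z ∈ Y, ∀ g₁ g₂ : G, z * (g₁ * x * g₁⁻¹ * (g₂ * x * g₂⁻¹)⁻¹) ∈ Y := by
    intro z hz g₁ g₂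
    obtain ⟨d, rfl⟩ := isConj_iff.1 hz
    obtain ⟨a, ha, b, hb, hab⟩ := exists_mul_of_coprime_index h1 (d⁻¹ * g₂)
    rw [mem_ct] at ha hb
    have hg2 : g₂ = d * a * b := by rw [mul_assoc, hab]; group
    have e1 : d * a * y * (d * a)⁻¹ = d * y * d⁻¹ := by
      calc d * a * y * (d * a)⁻¹ = d * (a * y) * a⁻¹ * d⁻¹ := by group
        _ = d * (y * a) * a⁻¹ * d⁻¹ := by rw [ha]
        _ = _ := by group
    have e2 : g₂ * x * g₂⁻¹ = d * a * x * (d * a)⁻¹ := by
      calc g₂ * x * g₂⁻¹ = d * a * (b * x) * b⁻¹ * (d * a)⁻¹ := by rw [hg2]; group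
        _ = d * a * (x * b) * b⁻¹ * (d * a)⁻¹ := by rw [hb]
        _ = _ := by group
    obtain ⟨e, he⟩ := isConj_iff.1 (hA ((d * a)⁻¹ * g₁))
    refine isConj_iff.2 ⟨d * a * e, ?_⟩
    rw [← e1, e2]
    calc d * a * e * y * (d * a * e)⁻¹ = d * a * (e * y * e⁻¹) * (d * a)⁻¹ := by group
      _ = _ := by rw [he]; group
  -- the subgroup of translations
  set N := Subgroup.normalClosure (Set.range fun g : G => g * x * g⁻¹ * x⁻¹) with hN
  have hNY : ∀ n ∈ N, ∀ z ∈ Y, z * n ∈ Y ∧ z * n⁻¹ ∈ Y := by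
    intro n hn
    refine Subgroup.closure_induction (fun u hu z hz => ?_) (fun z hz => ⟨by rwa [mul_one], by rwa [inv_one, mul_one]⟩)
      (fun u v _ _ hu hv z hz => ⟨?_, ?_⟩) (fun u _ hu z hz => ?_) hn
    · obtain ⟨_, ⟨g, rfl⟩, huc⟩ := Group.mem_conjugatesOfSet_iff.1 hu
      obtain ⟨k, rfl⟩ := isConj_iff.1 huc
      constructor
      · convert hB z hz (k * g) k using 2
        group
      · convert hB z hz k (k * g) using 2
        group
    · rw [← mul_assoc]
      exact (hv _ (hu z hz).1).1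
    · rw [mul_inv_rev, ← mul_assoc]
      exact (hu _ (hv z hz).2).2
    · exact ⟨(hu z hz).2, by rw [inv_inv]; exact (hu z hz).1⟩
  have hcard : Nat.card N ∣ cs y := by
    have e : (QuotientGroup.mk ⁻¹' (QuotientGroup.mk '' Y : Set (G ⧸ N)) : Set G) = Y := by
      refine Set.Subset.antisymm (fun z hz => ?_) (Set.subset_preimage_image _ _)
      obtain ⟨w, hw, hwz⟩ := hz
      simpa using (hNY _ (QuotientGroup.eq.1 hwz) w hw).1
    rw [← card_isConj y, ← hY, ← e,
      Nat.card_congr (QuotientGroup.preimageMkEquivSubgroupProdSet N _), Nat.card_prod]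
    exact dvd_mul_right _ _
  have hNp : ¬ p ∣ Nat.card N := fun h => hy (h.trans hcard)
  have hNx : N ≤ ct x := by
    rw [← Subgroup.relIndex_eq_one]
    exact Nat.eq_one_of_dvd_coprimes h1 (relIndex_dvd_index _ _)
      ((Subgroup.relIndex_dvd_card _ _).trans hcard)
  rw [Subgroup.mem_center_iff]
  intro g
  have hn : g * x * g⁻¹ * x⁻¹ ∈ N := Subgroup.subset_normalClosure ⟨g, rfl⟩
  set n := g * x * g⁻¹ * x⁻¹ with hnd
  have hnp : n ^ p = 1 := by
    have hc : Commute n x := mem_ct.1 (hNx hn)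
    have h3 : (n * x) ^ p = 1 := by
      rw [show n * x = g * x * g⁻¹ by rw [hnd]; group, conj_pow, hx, mul_one, mul_inv_cancel]
    rwa [hc.mul_pow, hx, mul_one] at h3
  have hn1 : n = 1 := by
    rw [← orderOf_eq_one_iff]
    exact ((Nat.dvd_prime hp.out).1 (orderOf_dvd_of_pow_eq_one hnp)).resolve_right fun h =>
      hNp (h ▸ Subgroup.orderOf_dvd_natCard N hn)
  rw [hnd, mul_inv_eq_one, mul_inv_eq_iff_eq_mul] at hn1
  exact hn1

end CfsgLib.Invol.SingularClass
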