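import Mathlib
import Cfsg.Prelude.Def_Classical

/-!
`SL_2 × SL_2` and the swap inside `Sp_4`, with the block calculus for them.
-/

set_option autoImplicit false
set_option linter.unusedSectionVars false

namespace CfsgLib.Invol.SpFour

open Matrix

/-- Matrices on `F^4`, indexed as in `Matrix.symplecticGroup (Fin 2) F`. -/
abbrev M4 (F : Type*) := Matrix (Fin 2 ⊕ Fin 2) (Fin 2 ⊕ Fin 2) F

/-- Matrices on `F^2`. -/
abbrev M2 (F : Type*) := Matrix (Fin 2) (Fin 2) F

variable {F : Type*} [Field F]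

/-- The block diagonal sum of two `2 × 2` matrices along the two hyperbolic planes. -/
def D (A B : M2 F) : M4 F :=
  Matrix.fromBlocks (Matrix.diagonal ![A 0 0, B 0 0]) (Matrix.diagonal ![A 0 1, B 0 1])
    (Matrix.diagonal ![A 1 0, B 1 0]) (Matrix.diagonal ![A 1 1, B 1 1])

/-- The exchange of the two planes. -/
def W (F : Type*) [Field F] : M4 F :=
  Matrix.fromBlocks !![0, 1; 1, 0] 0 0 !![0, 1; 1, 0]

theorem D_mul (A B C E : M2 F) : D A B * D C E = D (A * C) (B * E) := by
  ext i j
  rcases i with i | i <;> rcases j with j | j <;> fin_cases i <;> fin_cases j <;>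
    simp [D, Matrix.mul_apply, Fin.sum_univ_two]

theorem D_one : D (1 : M2 F) 1 = 1 := by
  ext i j
  rcases i with i | i <;> rcases j with j | j <;> fin_cases i <;> fin_cases j <;> simp [D]

theorem D_add (A B C E : M2 F) : D A B + D C E = D (A + C) (B + E) := by
  ext i j
  rcases i with i | i <;> rcases j with j | j <;> fin_cases i <;> fin_cases j <;> simp [D]

theorem D_neg (A B : M2 F) : -D A B = D (-A) (-B) := by
  ext i j
  rcases i with i | i <;> rcases j with j | j <;> fin_cases i <;> fin_cases j <;> simp [D]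

theorem D_smul (c : F) (A B : M2 F) : c • D A B = D (c • A) (c • B) := by
  ext i j
  rcases i with i | i <;> rcases j with j | j <;> fin_cases i <;> fin_cases j <;> simp [D]

theorem D_inj {A B C E : M2 F} (h : D A B = D C E) : A = C ∧ B = E := by
  refine ⟨?_, ?_⟩ <;> ext i j <;> fin_cases i <;> fin_cases j
  · simpa [D] using congrFun (congrFun h (Sum.inl 0)) (Sum.inl 0)
  · simpa [D] using congrFun (congrFun h (Sum.inl 0)) (Sum.inr 0)
  · simpa [D] using congrFun (congrFun h (Sum.inr 0)) (Sum.inl 0)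
  · simpa [D] using congrFun (congrFun h (Sum.inr 0)) (Sum.inr 0)
  · simpa [D] using congrFun (congrFun h (Sum.inl 1)) (Sum.inl 1)
  · simpa [D] using congrFun (congrFun h (Sum.inl 1)) (Sum.inr 1)
  · simpa [D] using congrFun (congrFun h (Sum.inr 1)) (Sum.inl 1)
  · simpa [D] using congrFun (congrFun h (Sum.inr 1)) (Sum.inr 1)

theorem W_mul_W : W F * W F = 1 := by
  ext i j
  rcases i with i | i <;> rcases j with j | j <;> fin_cases i <;> fin_cases j <;>
    simp [W, Matrix.mul_apply, Fin.sum_univ_two]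

theorem W_mul_D (A B : M2 F) : W F * D A B = D B A * W F := by
  ext i j
  rcases i with i | i <;> rcases j with j | j <;> fin_cases i <;> fin_cases j <;>
    simp [D, W, Matrix.mul_apply, Fin.sum_univ_two]

theorem eq_zero_of_D_eq {A B C E : M2 F} (h : D A B = D C E * W F) : A = 0 ∧ C = 0 := by
  refine ⟨?_, ?_⟩ <;> ext i j <;> fin_cases i <;> fin_cases j
  · simpa [D, W, Matrix.mul_apply, Fin.sum_univ_two] using congrFun (congrFun h (Sum.inl 0)) (Sum.inl 0)
  · simpa [D, W, Matrix.mul_apply, Fin.sum_univ_two] using congrFun (congrFun h (Sum.inl 0)) (Sum.inr 0)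
  · simpa [D, W, Matrix.mul_apply, Fin.sum_univ_two] using congrFun (congrFun h (Sum.inr 0)) (Sum.inl 0)
  · simpa [D, W, Matrix.mul_apply, Fin.sum_univ_two] using congrFun (congrFun h (Sum.inr 0)) (Sum.inr 0)
  · simpa [D, W, Matrix.mul_apply, Fin.sum_univ_two] using (congrFun (congrFun h (Sum.inl 0)) (Sum.inl 1)).symm
  · simpa [D, W, Matrix.mul_apply, Fin.sum_univ_two] using (congrFun (congrFun h (Sum.inl 0)) (Sum.inr 1)).symm
  · simpa [D, W, Matrix.mul_apply, Fin.sum_univ_two] using (congrFun (congrFun h (Sum.inr 0)) (Sum.inl 1)).symm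
  · simpa [D, W, Matrix.mul_apply, Fin.sum_univ_two] using (congrFun (congrFun h (Sum.inr 0)) (Sum.inr 1)).symm

/-- A matrix commuting with `D 1 (-1)` is block diagonal. -/
theorem exists_D_of_commute (h2 : (2 : F) ≠ 0) {M : M4 F}
    (h : M * D 1 (-1) = D 1 (-1) * M) : ∃ A B : M2 F, M = D A B := by
  refine ⟨!![M (.inl 0) (.inl 0), M (.inl 0) (.inr 0); M (.inr 0) (.inl 0), M (.inr 0) (.inr 0)],
    !![M (.inl 1) (.inl 1), M (.inl 1) (.inr 1); M (.inr 1) (.inl 1), M (.inr 1) (.inr 1)], ?_⟩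
  ext i j
  have hij := congrFun (congrFun h i) j
  have e1 : ∀ x : F, -x = x → x = 0 := fun x hx => by
    have h0 : (2 : F) * x = 0 := by linear_combination -hx
    exact (mul_eq_zero.1 h0).resolve_left h2
  have e2 : ∀ x : F, x = -x → x = 0 := fun x hx => e1 x hx.symm
  rcases i with i | i <;> rcases j with j | j <;> fin_cases i <;> fin_cases j <;>
    simp [D, Matrix.mul_apply, Fin.sum_univ_two] at hij ⊢ <;>
    first | exact e1 _ hij | exact e2 _ hij

theorem D_sim {A B : M2 F} {c : F} (hA : A.det = c) (hB : B.det = c) :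
    D A B * Matrix.J (Fin 2) F * (D A B)ᵀ = c • Matrix.J (Fin 2) F := by
  rw [Matrix.det_fin_two] at hA hB
  ext i j
  rcases i with i | i <;> rcases j with j | j <;> fin_cases i <;> fin_cases j <;>
    simp [D, Matrix.J, Matrix.mul_apply, Fin.sum_univ_two] <;>
    (first | linear_combination hA | linear_combination -hA | linear_combination hB | linear_combination -hB | ring)

theorem det_of_D_sim {A B : M2 F} {c : F}
    (h : D A B * Matrix.J (Fin 2) F * (D A B)ᵀ = c • Matrix.J (Fin 2) F) : A.det = c ∧ B.det = c := by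
  have h0 := congrFun (congrFun h (Sum.inr 0)) (Sum.inl 0)
  have h1 := congrFun (congrFun h (Sum.inr 1)) (Sum.inl 1)
  simp [D, Matrix.J, Matrix.mul_apply, Fin.sum_univ_two] at h0 h1
  rw [Matrix.det_fin_two, Matrix.det_fin_two]
  exact ⟨by linear_combination h0, by linear_combination h1⟩

theorem W_sim : W F * Matrix.J (Fin 2) F * (W F)ᵀ = (1 : F) • Matrix.J (Fin 2) F := by
  ext i j
  rcases i with i | i <;> rcases j with j | j <;> fin_cases i <;> fin_cases j <;>
    simp [W, Matrix.J, Matrix.mul_apply, Fin.sum_univ_two]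

theorem P_sim : (D (1 : M2 F) (-1) - W F) * Matrix.J (Fin 2) F * (D (1 : M2 F) (-1) - W F)ᵀ =
    (2 : F) • Matrix.J (Fin 2) F := by
  ext i j
  rcases i with i | i <;> rcases j with j | j <;> fin_cases i <;> fin_cases j <;>
    simp [D, W, Matrix.J, Matrix.mul_apply, Fin.sum_univ_two] <;> ring

theorem sim_mul {M N : M4 F} {a b : F} (hM : M * Matrix.J (Fin 2) F * Mᵀ = a • Matrix.J (Fin 2) F)
    (hN : N * Matrix.J (Fin 2) F * Nᵀ = b • Matrix.J (Fin 2) F) :
    (M * N) * Matrix.J (Fin 2) F * (M * N)ᵀ = (a * b) • Matrix.J (Fin 2) F := by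
  rw [Matrix.transpose_mul, show M * N * Matrix.J (Fin 2) F * (Nᵀ * Mᵀ) =
    M * (N * Matrix.J (Fin 2) F * Nᵀ) * Mᵀ by simp only [mul_assoc], hN, Matrix.mul_smul,
    Matrix.smul_mul, hM, smul_smul, mul_comm]

theorem sim_smul {M : M4 F} {a : F} (hM : M * Matrix.J (Fin 2) F * Mᵀ = a • Matrix.J (Fin 2) F)
    (r : F) : (r • M) * Matrix.J (Fin 2) F * (r • M)ᵀ = (r * r * a) • Matrix.J (Fin 2) F := by
  rw [Matrix.transpose_smul, Matrix.smul_mul, Matrix.smul_mul, Matrix.mul_smul, hM, smul_smul,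
    smul_smul]

end CfsgLib.Invol.SpFour
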