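import Cfsg.Agent.Lib.Invol.SpFourFusion

/-!
`N(S)` is generated by 2-elements of the normalizer of an elementary abelian subgroup of order 16.
-/

set_option autoImplicit false
set_option linter.unusedSectionVars false

namespace CfsgLib.Invol.SpFour

open Matrix
open scoped MatrixGroups

variable {F : Type*} [Field F]

local notation "Sp4" => Matrix.symplecticGroup (Fin 2) F
local notation "Gp" => Cfsg.PSp 2 F
local notation "Z4" => D (1 : M2 F) (-1)

theorem trace_zero_of_sq {X : M2 F} (hd : X.det = 1) (h : X * X = -1) : X 0 0 + X 1 1 = 0 := by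
  have h00 := congrFun (congrFun h 0) 0
  have h11 := congrFun (congrFun h 1) 1
  simp [Matrix.mul_apply, Fin.sum_univ_two] at h00 h11
  rw [Matrix.det_fin_two] at hd
  have e0 : X 0 0 * (X 0 0 + X 1 1) = 0 := by linear_combination h00 + hd
  have e1 : X 1 1 * (X 0 0 + X 1 1) = 0 := by linear_combination h11 + hd
  by_contra hne
  rcases mul_eq_zero.1 e0 with h0 | h0
  · rcases mul_eq_zero.1 e1 with h1 | h1
    · exact hne (by rw [h0, h1, add_zero])
    · exact hne h1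
  · exact hne h0

theorem det_two_of_sq {X : M2 F} (ht : X 0 0 + X 1 1 = 0) (h : X * X = (-2 : F) • 1) :
    X.det = 2 := by
  have h00 := congrFun (congrFun h 0) 0
  simp [Matrix.mul_apply, Fin.sum_univ_two] at h00
  rw [Matrix.det_fin_two]
  linear_combination X 0 0 * ht - h00

theorem flip_left {R : Type*} [Ring R] {p q : R} (h : p * p = q * q) (ha : q * p = -(p * q)) :
    (p - q) * p = -(q * (p - q)) ∧ (p - q) * q = -(p * (p - q)) := by
  constructor
  · rw [sub_mul, mul_sub, ← h]; abel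
  · rw [sub_mul, mul_sub, ← h, sub_eq_add_neg, neg_sub, sub_eq_add_neg]

theorem flip_other {R : Type*} [Ring R] {p q r : R} (hp : p * r = -(r * p)) (hq : q * r = -(r * q)) :
    (p - q) * r = -(r * (p - q)) := by
  rw [sub_mul, mul_sub, hp, hq]; abel

/-- `D N (-N) * W`. -/
def Gam (N : M2 F) : M4 F := D N (-N) * W F

theorem W_Z : W F * Z4 = -(Z4 * W F) := by
  rw [W_mul_D, ← neg_mul, D_neg, neg_neg]

theorem Z_Z : (Z4 : M4 F) * Z4 = 1 := by rw [D_mul, one_mul, neg_mul_neg, one_mul, D_one]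

theorem Gam_Z (N : M2 F) : Gam N * Z4 = -(Z4 * Gam N) := by
  rw [Gam, mul_assoc, W_Z, mul_neg, ← mul_assoc, ← mul_assoc, D_mul, D_mul]
  simp

theorem Gam_W (N : M2 F) : Gam N * W F = -(W F * Gam N) := by
  rw [Gam, mul_assoc, W_mul_W, mul_one, ← mul_assoc, W_mul_D, mul_assoc, W_mul_W, mul_one, D_neg,
    neg_neg]

theorem Gam_mul (M N : M2 F) : Gam M * Gam N = D (-(M * N)) (-(M * N)) := by
  rw [Gam, Gam, mul_assoc, ← mul_assoc (W F), W_mul_D, mul_assoc (D (-N) N), W_mul_W, mul_one,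
    D_mul, mul_neg, neg_mul]

/-- The element `U_N`. -/
noncomputable def Umat (N : M2 F) : M4 F := ((2 : F)⁻¹) • ((Z4 - W F) * Gam N)

theorem P_Gam (N : M2 F) : (Z4 - W F) * Gam N = -(Gam N * (Z4 - W F)) := by
  rw [sub_mul, mul_sub, Gam_Z, Gam_W]; abel

theorem P_sq : (Z4 - W F) * (Z4 - W F) = (2 : F) • (1 : M4 F) := by
  rw [sub_mul, mul_sub, mul_sub, Z_Z, W_mul_W, W_Z, two_smul]; abel

theorem Umat_Z (N : M2 F) : Umat N * Z4 = W F * Umat N := by
  have h := (flip_left (R := M4 F) (p := Z4) (q := W F) (by rw [Z_Z, W_mul_W]) W_Z).1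
  simp only [Umat, Matrix.smul_mul, Matrix.mul_smul]
  rw [mul_assoc, Gam_Z, mul_neg, ← mul_assoc, h, neg_mul, neg_neg, mul_assoc]

theorem Umat_W (N : M2 F) : Umat N * W F = Z4 * Umat N := by
  have h := (flip_left (R := M4 F) (p := Z4) (q := W F) (by rw [Z_Z, W_mul_W]) W_Z).2
  simp only [Umat, Matrix.smul_mul, Matrix.mul_smul]
  rw [mul_assoc, Gam_W, mul_neg, ← mul_assoc, h, neg_mul, neg_neg, mul_assoc]

theorem Umat_Gam {N q q' : M2 F} (h : N * q = -(q' * N)) :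
    Umat N * Gam q = Gam q' * Umat N := by
  have hG : Gam N * Gam q = -(Gam q' * Gam N) := by
    rw [Gam_mul, Gam_mul, h, neg_neg, D_neg, neg_neg]
  simp only [Umat, Matrix.smul_mul, Matrix.mul_smul]
  rw [mul_assoc, hG, mul_neg, ← mul_assoc, P_Gam, neg_mul, neg_neg, mul_assoc]

theorem Umat_mul (N M : M2 F) (h2 : (2 : F) ≠ 0) :
    Umat N * Umat M = D ((2 : F)⁻¹ • (N * M)) ((2 : F)⁻¹ • (N * M)) := by
  have h : ((Z4 - W F) * Gam N) * ((Z4 - W F) * Gam M) = (2 : F) • D (N * M) (N * M) := by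
    rw [mul_assoc, ← mul_assoc (Gam N), ← neg_neg (Gam N * (Z4 - W F)), ← P_Gam, neg_mul, mul_neg,
      mul_assoc, Gam_mul, ← mul_assoc, P_sq, Matrix.smul_mul, one_mul, ← smul_neg, D_neg, neg_neg]
  simp only [Umat, Matrix.smul_mul, Matrix.mul_smul, h, smul_smul, D_smul]
  rw [inv_mul_cancel₀ h2, mul_one]

theorem Umat_sim {N : M2 F} (h2 : (2 : F) ≠ 0) (hN : N.det = 2) :
    Umat N * Matrix.J (Fin 2) F * (Umat N)ᵀ = (1 : F) • Matrix.J (Fin 2) F := by
  have hneg : (-N).det = 2 := by rw [Matrix.det_fin_two] at hN ⊢; simpa using hN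
  rw [Umat, Gam, sim_smul (sim_mul P_sim (sim_mul (D_sim hN hneg) W_sim))]
  congr 1
  field_simp

variable [Fintype F] (hodd : Odd (Fintype.card F)) (Q : Sylow 2 SL(2, F))

/-- Generators of the elementary abelian group of order 16. -/
def genR : Set Gp :=
  {prj (zS F), prj (wS F)} ∪
    {x | ∃ q ∈ (Q : Subgroup SL(2, F)), q * q = -1 ∧ x = prj (d2 q (-q) * wS F)}

/-- The elementary abelian group of order 16. -/
def E16 : Subgroup Gp := Subgroup.closure (genR Q)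

theorem zS_mem_E16 : prj (zS F) ∈ E16 Q := Subgroup.subset_closure (Or.inl (Or.inl rfl))

theorem wS_mem_E16 : prj (wS F) ∈ E16 Q := Subgroup.subset_closure (Or.inl (Or.inr rfl))

theorem gam_mem_E16 {q : SL(2, F)} (hq : q ∈ (Q : Subgroup SL(2, F))) (h : q * q = -1) :
    prj (d2 q (-q) * wS F) ∈ E16 Q := Subgroup.subset_closure (Or.inr ⟨q, hq, h, rfl⟩)

include hodd

theorem E16_le : E16 Q ≤ SP Q := by
  refine (Subgroup.closure_le _).2 ?_
  rintro x ((rfl | rfl) | ⟨q, hq, -, rfl⟩)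
  · exact Subgroup.mem_map_of_mem _ (zS_mem_S0 hodd Q)
  · exact Subgroup.mem_map_of_mem _ (wS_mem_S0 Q)
  · refine Subgroup.mem_map_of_mem _ ((d2_w_mem_S0_iff Q).2 ⟨hq, ?_⟩)
    rw [← neg_one_mul q]
    exact mul_mem (neg_one_mem hodd Q) hq

section Eight

variable {i j : SL(2, F)} (hi : i ∈ (Q : Subgroup SL(2, F))) (hj : j ∈ (Q : Subgroup SL(2, F)))
  (hi2 : i * i = -1) (hj2 : j * j = -1) (hji : j * i = -(i * j))
  (hlist : ∀ q ∈ (Q : Subgroup SL(2, F)), q = 1 ∨ q = -1 ∨ q = i ∨ q = -i ∨ q = j ∨ q = -j ∨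
        q = i * j ∨ q = -(i * j))
  (hconj : ∀ a ∈ (Q : Subgroup SL(2, F)), ∀ q ∈ (Q : Subgroup SL(2, F)),
        a * q * a⁻¹ = q ∨ a * q * a⁻¹ = -q)
  (hinv : ∀ q ∈ (Q : Subgroup SL(2, F)), q⁻¹ = q ∨ q⁻¹ = -q)
include hi hj hi2 hj2 hji hlist hconj hinv

theorem sq_cases {q : SL(2, F)} (hq : q ∈ (Q : Subgroup SL(2, F))) :
    q = 1 ∨ q = -1 ∨ q * q = -1 := by
  rcases hinv q hq with h | h
  · have h1 : q * q = 1 := by
      calc q * q = q⁻¹ * q := by rw [h]
        _ = 1 := inv_mul_cancel q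
    rcases mul_self_one hodd h1 with h2 | h2
    · exact Or.inl h2
    · exact Or.inr (Or.inl h2)
  · refine Or.inr (Or.inr ?_)
    have h1 : -(q * q) = 1 := by rw [← neg_mul, ← h, inv_mul_cancel]
    exact neg_eq_iff_eq_neg.1 h1

theorem diag_mem_E16 {q : SL(2, F)} (hq : q ∈ (Q : Subgroup SL(2, F))) :
    prj (d2 q q) ∈ E16 Q := by
  rcases sq_cases hodd Q hi hj hi2 hj2 hji hlist hconj hinv hq with rfl | rfl | h
  · rw [d2_one, map_one]; exact one_mem _
  · rw [← spNeg_eq, ← mul_one (CfsgLib.Geom.spNeg 2 F), prj_neg, map_one]; exact one_mem _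
  · have e : d2 q q = (d2 q (-q) * wS F) * (wS F * zS F) := by
      rw [← mul_assoc, mul_assoc (d2 q (-q)), wS_sq, mul_one, zS, d2_mul]
      simp
    rw [e, map_mul, map_mul prj (wS F)]
    exact mul_mem (gam_mem_E16 Q hq h) (mul_mem (wS_mem_E16 Q) (zS_mem_E16 Q))

theorem diag_sign_mem_E16 {q q' : SL(2, F)} (hq : q ∈ (Q : Subgroup SL(2, F)))
    (h : q' = q ∨ q' = -q) : prj (d2 q q') ∈ E16 Q := by
  have h1 := diag_mem_E16 hodd Q hi hj hi2 hj2 hji hlist hconj hinv hq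
  rcases h with rfl | rfl
  · exact h1
  · have e : d2 q (-q) = d2 q q * zS F := by rw [zS, d2_mul]; simp
    rw [e, map_mul]
    exact mul_mem h1 (zS_mem_E16 Q)

theorem E16_normal : SP Q ≤ Subgroup.normalizer (E16 Q : Set Gp) := by
  intro s hs
  haveI : Finite ((E16 Q : Subgroup Gp) : Set Gp) := Set.toFinite _
  refine Subgroup.mem_normalizer_fintype fun x hx => ?_
  suffices h : E16 Q ≤ (E16 Q).comap (MulAut.conj s).toMonoidHom from h hx
  refine (Subgroup.closure_le _).2 fun y hy => ?_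
  show s * y * s⁻¹ ∈ E16 Q
  obtain ⟨g, ⟨a, ha, b, hb, hg⟩, rfl⟩ := hs
  have hxw : ∀ x : SL(2, F), x ∈ (Q : Subgroup SL(2, F)) → prj (d2 x x⁻¹ * wS F) ∈ E16 Q :=
    fun x hx => by
      rw [map_mul]
      exact mul_mem (diag_sign_mem_E16 hodd Q hi hj hi2 hj2 hji hlist hconj hinv hx (hinv x hx))
        (wS_mem_E16 Q)
  have hd : ∀ y ∈ genR Q, prj (d2 a b) * y * (prj (d2 a b))⁻¹ ∈ E16 Q := by
    rintro y ((rfl | rfl) | ⟨q, hq, hq2, rfl⟩) <;> rw [← map_inv, ← map_mul, ← map_mul]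
    · rw [← zS_d2, mul_inv_cancel_right]; exact zS_mem_E16 Q
    · have : d2 a b * wS F * (d2 a b)⁻¹ = d2 (a * b⁻¹) (a * b⁻¹)⁻¹ * wS F := by
        have h := d2_conj_w a b 1 1
        rwa [d2_one, one_mul, mul_one, mul_one, show b * a⁻¹ = (a * b⁻¹)⁻¹ by group] at h
      rw [this]
      exact hxw _ (mul_mem ha (inv_mem hb))
    · have hqi : -q = q⁻¹ := (inv_eq_of_mul_eq_one_right (by rw [mul_neg, hq2, neg_neg])).symm
      rw [d2_conj_w, hqi, show b * q⁻¹ * a⁻¹ = (a * q * b⁻¹)⁻¹ by group]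
      exact hxw _ (mul_mem (mul_mem ha hq) (inv_mem hb))
  have hw : ∀ y ∈ genR Q, prj (wS F) * y * (prj (wS F))⁻¹ ∈ E16 Q := by
    rintro y ((rfl | rfl) | ⟨q, hq, hq2, rfl⟩) <;> rw [← map_inv, ← map_mul, ← map_mul]
    · rw [zS_w, prj_neg]; exact zS_mem_E16 Q
    · rw [mul_inv_cancel_right]; exact wS_mem_E16 Q
    · have e : wS F * (d2 q (-q) * wS F) * (wS F)⁻¹ = d2 (-q) (- -q) * wS F := by
        rw [← mul_assoc, mul_inv_cancel_right, wS_d2, neg_neg]
      rw [e]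
      refine gam_mem_E16 Q ?_ (by rw [neg_mul_neg, hq2])
      rw [← neg_one_mul q]
      exact mul_mem (neg_one_mem hodd Q) hq
  rcases hg with rfl | rfl
  · exact hd y hy
  · rw [map_mul, _root_.mul_inv_rev, show prj (d2 a b) * prj (wS F) * y *
      ((prj (wS F))⁻¹ * (prj (d2 a b))⁻¹) = prj (d2 a b) * (prj (wS F) * y * (prj (wS F))⁻¹) *
        (prj (d2 a b))⁻¹ by group]
    have hle : E16 Q ≤ (E16 Q).comap (MulAut.conj (prj (d2 a b))).toMonoidHom :=
      (Subgroup.closure_le _).2 fun z hz => hd z hz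
    exact hle (hw y hy)

theorem E16_centralizer : SP Q ⊓ Subgroup.centralizer (E16 Q : Set Gp) ≤ E16 Q := by
  rintro x ⟨⟨g, ⟨a, ha, b, hb, hg⟩, rfl⟩, hc⟩
  have h1 : prj (g * wS F) = prj (wS F * g) := by
    rw [map_mul, map_mul]
    exact (hc _ (wS_mem_E16 Q)).symm
  have hab : b = a ∨ b = -a := by
    rcases hg with rfl | rfl
    · rw [wS_d2, prj_eq_iff, ← mul_assoc, neg_d2] at h1
      rcases h1 with h1 | h1
      · exact Or.inl (d2_inj (mul_right_cancel h1)).2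
      · exact Or.inr (d2_inj (mul_right_cancel h1)).2
    · rw [← mul_assoc, wS_d2, prj_eq_iff, ← mul_assoc, ← mul_assoc, neg_d2] at h1
      rcases h1 with h1 | h1
      · exact Or.inl (d2_inj (mul_right_cancel (mul_right_cancel h1))).2
      · exact Or.inr (d2_inj (mul_right_cancel (mul_right_cancel h1))).2
  have h2 := diag_sign_mem_E16 hodd Q hi hj hi2 hj2 hji hlist hconj hinv ha hab
  rcases hg with rfl | rfl
  · exact h2
  · rw [map_mul]; exact mul_mem h2 (wS_mem_E16 Q)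

theorem sigma_spec : ∃ σ ∈ Subgroup.normalizer ((Q : Subgroup SL(2, F)) : Set SL(2, F)),
    σ ∉ (Q : Subgroup SL(2, F)) ∧
    prj (d2 σ σ) ∈ Subgroup.closure
      {x : Gp | x ∈ Subgroup.normalizer (E16 Q : Set Gp) ∧ ∃ k, orderOf x = 2 ^ k} := by
  have h2 := two_ne_zero' hodd
  set I : M2 F := (i : M2 F) with hIdef
  set J : M2 F := (j : M2 F) with hJdef
  have hII : I * I = -1 := by
    have := congrArg (fun g : SL(2, F) => (g : M2 F)) hi2
    simpa [hIdef] using this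
  have hJJ : J * J = -1 := by
    have := congrArg (fun g : SL(2, F) => (g : M2 F)) hj2
    simpa [hJdef] using this
  have hJI : J * I = -(I * J) := by
    have := congrArg (fun g : SL(2, F) => (g : M2 F)) hji
    simpa [hIdef, hJdef] using this
  set K : M2 F := I * J with hKdef
  have hIK : I * K = -J := by rw [hKdef, ← mul_assoc, hII, neg_one_mul]
  have hKI : K * I = J := by rw [hKdef, mul_assoc, hJI, mul_neg, ← mul_assoc, hII, neg_one_mul, neg_neg]
  have hKJ : K * J = -I := by rw [hKdef, mul_assoc, hJJ, mul_neg_one]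
  have hJK : J * K = I := by rw [hKdef, ← mul_assoc, hJI, neg_mul, mul_assoc, hJJ, mul_neg_one, neg_neg]
  have hKK : K * K = -1 := by
    nth_rewrite 1 [hKdef]
    rw [mul_assoc, hJK, hII]
  have hK' : K = ((i * j : SL(2, F)) : M2 F) := rfl
  have hdK : K.det = 1 := (i * j : SL(2, F)).2
  have tI := trace_zero_of_sq (show I.det = 1 from i.2) hII
  have tJ := trace_zero_of_sq (show J.det = 1 from j.2) hJJ
  have tK := trace_zero_of_sq hdK hKK
  set N1 := I - J with hN1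
  set N2 := J - K with hN2
  have d1 : N1.det = 2 := det_two_of_sq
    (by rw [hN1, Matrix.sub_apply, Matrix.sub_apply]; linear_combination tI - tJ)
    (by rw [hN1, sub_mul, mul_sub, mul_sub, hII, hJJ, hJI, ← hKdef, neg_smul, two_smul]; abel)
  have d2' : N2.det = 2 := det_two_of_sq
    (by rw [hN2, Matrix.sub_apply, Matrix.sub_apply]; linear_combination tJ - tK)
    (by rw [hN2, sub_mul, mul_sub, mul_sub, hJJ, hKK, hKJ, hJK, neg_smul, two_smul]; abel)
  -- permutations of the square roots of `-1`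
  have hmk : ∀ q : M2 F, (q = I ∨ q = J ∨ q = K) →
      ∃ q' : SL(2, F), q' ∈ (Q : Subgroup SL(2, F)) ∧ q' * q' = -1 ∧ (q' : M2 F) = q := by
    intro q hq
    rcases hq with rfl | rfl | rfl
    · exact ⟨i, hi, hi2, rfl⟩
    · exact ⟨j, hj, hj2, rfl⟩
    · exact ⟨i * j, mul_mem hi hj, Subtype.ext (by simpa [hK'] using hKK), rfl⟩
  have perm : ∀ N : M2 F,
      (∀ q : M2 F, (q = I ∨ q = J ∨ q = K) → ∃ q', (q' = I ∨ q' = J ∨ q' = K) ∧ N * q = -(q' * N)) →
      ∀ q ∈ (Q : Subgroup SL(2, F)), q * q = -1 →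
        ∃ q' ∈ (Q : Subgroup SL(2, F)), q' * q' = -1 ∧ N * (q : M2 F) = -((q' : M2 F) * N) := by
    intro N hN q hq hq2
    have pos : ∀ c : M2 F, (c = I ∨ c = J ∨ c = K) → (q : M2 F) = c →
        ∃ q' ∈ (Q : Subgroup SL(2, F)), q' * q' = -1 ∧ N * (q : M2 F) = -((q' : M2 F) * N) := by
      intro c hc e
      obtain ⟨c', hc', h⟩ := hN c hc
      obtain ⟨q', h1, h3, h4⟩ := hmk c' hc'
      exact ⟨q', h1, h3, by rw [e, h4, h]⟩
    have neg : ∀ c : M2 F, (c = I ∨ c = J ∨ c = K) → (q : M2 F) = -c →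
        ∃ q' ∈ (Q : Subgroup SL(2, F)), q' * q' = -1 ∧ N * (q : M2 F) = -((q' : M2 F) * N) := by
      intro c hc e
      obtain ⟨c', hc', h⟩ := hN c hc
      obtain ⟨q', h1, h3, h4⟩ := hmk c' hc'
      refine ⟨-q', ?_, by rw [neg_mul_neg, h3], ?_⟩
      · rw [← neg_one_mul q']; exact mul_mem (neg_one_mem hodd Q) h1
      · rw [e, mul_neg, h, Matrix.SpecialLinearGroup.coe_neg, h4, neg_mul]
    rcases hlist q hq with rfl | rfl | rfl | rfl | rfl | rfl | rfl | rfl
    · exact absurd (by simpa using hq2) (one_ne_neg_one hodd)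
    · exact absurd (by simpa using hq2) (one_ne_neg_one hodd)
    · exact pos I (Or.inl rfl) rfl
    · exact neg I (Or.inl rfl) (by simp [hIdef])
    · exact pos J (Or.inr (Or.inl rfl)) rfl
    · exact neg J (Or.inr (Or.inl rfl)) (by simp [hJdef])
    · exact pos K (Or.inr (Or.inr rfl)) rfl
    · exact neg K (Or.inr (Or.inr rfl)) (by simp [hK'])
  have perm1 : ∀ q ∈ (Q : Subgroup SL(2, F)), q * q = -1 →
      ∃ q' ∈ (Q : Subgroup SL(2, F)), q' * q' = -1 ∧ N1 * (q : M2 F) = -((q' : M2 F) * N1) := by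
    refine perm N1 ?_
    obtain ⟨e1, e2⟩ := flip_left (p := I) (q := J) (hII.trans hJJ.symm) hJI
    have e3 : N1 * K = -(K * N1) := flip_other (by rw [hIK, hKI]) (by rw [hJK, hKJ, neg_neg])
    rintro q (rfl | rfl | rfl)
    · exact ⟨J, Or.inr (Or.inl rfl), e1⟩
    · exact ⟨I, Or.inl rfl, e2⟩
    · exact ⟨K, Or.inr (Or.inr rfl), e3⟩
  have perm2 : ∀ q ∈ (Q : Subgroup SL(2, F)), q * q = -1 →
      ∃ q' ∈ (Q : Subgroup SL(2, F)), q' * q' = -1 ∧ N2 * (q : M2 F) = -((q' : M2 F) * N2) := by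
    refine perm N2 ?_
    obtain ⟨e1, e2⟩ := flip_left (p := J) (q := K) (hJJ.trans hKK.symm) (by rw [hKJ, hJK])
    have e3 : N2 * I = -(I * N2) := flip_other (by rw [hJI, ← hKdef]) (by rw [hKI, hIK, neg_neg])
    rintro q (rfl | rfl | rfl)
    · exact ⟨I, Or.inl rfl, e3⟩
    · exact ⟨K, Or.inr (Or.inr rfl), e1⟩
    · exact ⟨J, Or.inr (Or.inl rfl), e2⟩
  -- the two 2-elements
  have hU : ∀ N : M2 F, N.det = 2 → N * N = (-2 : F) • 1 →
      (∀ q ∈ (Q : Subgroup SL(2, F)), q * q = -1 →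
        ∃ q' ∈ (Q : Subgroup SL(2, F)), q' * q' = -1 ∧ N * (q : M2 F) = -((q' : M2 F) * N)) →
      ∃ u : Sp4, (u : M4 F) = Umat N ∧ prj u ∈ Subgroup.closure
        {x : Gp | x ∈ Subgroup.normalizer (E16 Q : Set Gp) ∧ ∃ k, orderOf x = 2 ^ k} := by
    intro N hd hsq hperm
    refine ⟨⟨Umat N, mem_sp_of_sim (Umat_sim h2 hd)⟩, rfl, Subgroup.subset_closure ⟨?_, ?_⟩⟩
    · set u : Sp4 := ⟨Umat N, mem_sp_of_sim (Umat_sim h2 hd)⟩
      have hcg : ∀ g g' : Sp4, (u : M4 F) * (g : M4 F) = (g' : M4 F) * (u : M4 F) →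
          prj g' ∈ E16 Q → prj u * prj g * (prj u)⁻¹ ∈ E16 Q := by
        intro g g' hgg hg'
        have e : u * g = g' * u := Subtype.ext hgg
        rwa [← map_mul, e, map_mul, mul_inv_cancel_right]
      haveI : Finite ((E16 Q : Subgroup Gp) : Set Gp) := Set.toFinite _
      refine Subgroup.mem_normalizer_fintype fun x hx => ?_
      suffices h : E16 Q ≤ (E16 Q).comap (MulAut.conj (prj u)).toMonoidHom from h hx
      refine (Subgroup.closure_le _).2 ?_
      rintro y ((rfl | rfl) | ⟨q, hq, hq2, rfl⟩) <;> show prj u * _ * (prj u)⁻¹ ∈ E16 Q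
      · exact hcg _ (wS F) (by rw [zS_coe]; exact Umat_Z N) (wS_mem_E16 Q)
      · exact hcg _ (zS F) (by rw [zS_coe]; exact Umat_W N) (zS_mem_E16 Q)
      · obtain ⟨q', hq', hq'2, he⟩ := hperm q hq hq2
        refine hcg _ (d2 q' (-q') * wS F) ?_ (gam_mem_E16 Q hq' hq'2)
        show Umat N * (D (q : M2 F) ((-q : SL(2, F)) : M2 F) * W F) =
          (D (q' : M2 F) ((-q' : SL(2, F)) : M2 F) * W F) * Umat N
        rw [Matrix.SpecialLinearGroup.coe_neg, Matrix.SpecialLinearGroup.coe_neg]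
        exact Umat_Gam he
    · set u : Sp4 := ⟨Umat N, mem_sp_of_sim (Umat_sim h2 hd)⟩
      have huu : u * u = CfsgLib.Geom.spNeg 2 F := Subtype.ext (by
        show Umat N * Umat N = (-1 : M4 F)
        rw [Umat_mul N N h2, hsq, smul_smul, mul_neg, inv_mul_cancel₀ h2, neg_smul, one_smul,
          ← D_neg, D_one])
      have h4 : (prj u : Gp) ^ 2 ^ 1 = 1 := by
        rw [pow_one, pow_two, ← map_mul, huu, ← mul_one (CfsgLib.Geom.spNeg 2 F), prj_neg, map_one]
      obtain ⟨m, -, hm⟩ := (Nat.dvd_prime_pow Nat.prime_two).1 (orderOf_dvd_of_pow_eq_one h4)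
      exact ⟨m, hm⟩
  have s1 : N1 * N1 = (-2 : F) • 1 := by
    rw [hN1, sub_mul, mul_sub, mul_sub, hII, hJJ, hJI, ← hKdef, neg_smul, two_smul]; abel
  have s2 : N2 * N2 = (-2 : F) • 1 := by
    rw [hN2, sub_mul, mul_sub, mul_sub, hJJ, hKK, hKJ, hJK, neg_smul, two_smul]; abel
  obtain ⟨u1, hu1, hu1c⟩ := hU N1 d1 s1 perm1
  obtain ⟨u2, hu2, hu2c⟩ := hU N2 d2' s2 perm2
  have hdσ : ((2 : F)⁻¹ • (N1 * N2)).det = 1 := by
    rw [Matrix.det_smul, Matrix.det_mul, d1, d2', Fintype.card_fin]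
    field_simp
  let σ : SL(2, F) := ⟨(2 : F)⁻¹ • (N1 * N2), hdσ⟩
  have hσq : ∀ q ∈ (Q : Subgroup SL(2, F)), q * q = -1 →
      ∃ q' ∈ (Q : Subgroup SL(2, F)), σ * q = q' * σ ∧
        ∃ q'' ∈ (Q : Subgroup SL(2, F)), N2 * (q : M2 F) = -((q'' : M2 F) * N2) ∧
          N1 * (q'' : M2 F) = -((q' : M2 F) * N1) := by
    intro q hq hq2
    obtain ⟨q'', h1, h3, h4⟩ := perm2 q hq hq2
    obtain ⟨q', h5, -, h7⟩ := perm1 q'' h1 h3
    refine ⟨q', h5, Subtype.ext ?_, q'', h1, h4, h7⟩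
    show ((2 : F)⁻¹ • (N1 * N2)) * (q : M2 F) = (q' : M2 F) * ((2 : F)⁻¹ • (N1 * N2))
    rw [Matrix.smul_mul, Matrix.mul_smul, mul_assoc, h4, mul_neg, ← mul_assoc, h7, neg_mul, neg_neg,
      mul_assoc]
  have hσN : σ ∈ Subgroup.normalizer ((Q : Subgroup SL(2, F)) : Set SL(2, F)) := by
    haveI : Finite ((Q : Subgroup SL(2, F)) : Set SL(2, F)) := Set.toFinite _
    refine Subgroup.mem_normalizer_fintype fun q hq => ?_
    rcases sq_cases hodd Q hi hj hi2 hj2 hji hlist hconj hinv hq with rfl | rfl | h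
    · simp
    · rw [mul_neg, mul_one, neg_mul, mul_inv_cancel]
      exact neg_one_mem hodd Q
    · obtain ⟨q', hq', e, -⟩ := hσq q hq h
      rw [e, mul_inv_cancel_right]
      exact hq'
  refine ⟨σ, hσN, fun hσ => ?_, ?_⟩
  · have e : σ * i = j * σ := Subtype.ext (by
      show ((2 : F)⁻¹ • (N1 * N2)) * I = J * ((2 : F)⁻¹ • (N1 * N2))
      obtain ⟨e1, -⟩ := flip_left (p := I) (q := J) (hII.trans hJJ.symm) hJI
      have e3 : N2 * I = -(I * N2) := flip_other (by rw [hJI, ← hKdef]) (by rw [hKI, hIK, neg_neg])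
      rw [Matrix.smul_mul, Matrix.mul_smul, mul_assoc, e3, mul_neg, ← mul_assoc, e1, neg_mul,
        neg_neg, mul_assoc])
    have e' : σ * i * σ⁻¹ = j := by rw [e, mul_inv_cancel_right]
    have hne : j * i ≠ i * j := fun hc => by
      rw [hji] at hc
      refine one_ne_neg_one hodd (mul_right_cancel (b := i * j) ?_)
      rw [one_mul, neg_one_mul]
      exact hc.symm
    rcases hconj σ hσ i hi with h | h <;> rw [e'] at h
    · exact hne (by rw [h])
    · exact hne (by rw [h, mul_neg, neg_mul])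
  · have e : u1 * u2 = d2 σ σ := Subtype.ext (by
      show (u1 : M4 F) * (u2 : M4 F) = _
      rw [hu1, hu2, Umat_mul N1 N2 h2]
      rfl)
    rw [← e, map_mul]
    exact mul_mem hu1c hu2c

end Eight

theorem normalizerGenerated : CfsgLib.Fusion.NormalizerGenerated 2 (SP Q) := by
  haveI : Fact (Nat.Prime 2) := ⟨Nat.prime_two⟩
  intro x hx
  obtain ⟨c, hc, s, hs, rfl⟩ := normalizer_cases hodd Q hx
  refine mul_mem ?_ (Subgroup.subset_closure (Or.inl (Or.inr hs)))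
  have hQH : ∀ q ∈ (Q : Subgroup SL(2, F)), prj (d2 q q) ∈ Subgroup.closure
      ((Subgroup.centralizer (SP Q : Set Gp) : Set Gp) ∪ (SP Q : Set Gp) ∪
        CfsgLib.Fusion.normalGenSet 2 (SP Q)) := fun q hq =>
    Subgroup.subset_closure (Or.inl (Or.inr (Subgroup.mem_map_of_mem _ (d2_mem_S0 Q hq hq))))
  obtain ⟨-, h17, h35⟩ := CfsgLib.KnownB.SL2.sylow_two_facts hodd Q
  rcases (show (Fintype.card F % 8 = 1 ∨ Fintype.card F % 8 = 7) ∨
      (Fintype.card F % 8 = 3 ∨ Fintype.card F % 8 = 5) by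
    rw [Nat.odd_iff] at hodd; omega) with hq | hq
  · rw [h17 hq] at hc
    exact hQH c hc
  · obtain ⟨i, j, hi, hj, hi2, hj2, hji, hlist, hconj, hinv⟩ := eight hodd Q hq
    obtain ⟨σ, hσ, hσQ, hσc⟩ := sigma_spec hodd Q hi hj hi2 hj2 hji hlist hconj hinv
    set H := Subgroup.closure
      ((Subgroup.centralizer (SP Q : Set Gp) : Set Gp) ∪ (SP Q : Set Gp) ∪
        CfsgLib.Fusion.normalGenSet 2 (SP Q))
    have hσH : prj (d2 σ σ) ∈ H := by
      refine Subgroup.subset_closure (Or.inr ⟨dd_mem_normalizer hodd Q hσ, E16 Q, E16_le hodd Q,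
        E16_normal hodd Q hi hj hi2 hj2 hji hlist hconj hinv,
        E16_centralizer hodd Q hi hj hi2 hj2 hji hlist hconj hinv, hσc⟩)
    set N := Subgroup.normalizer ((Q : Subgroup SL(2, F)) : Set SL(2, F)) with hN
    set L := (Q : Subgroup SL(2, F)) ⊔ Subgroup.zpowers σ with hL
    have hLN : L ≤ N := sup_le Subgroup.le_normalizer (Subgroup.zpowers_le.2 hσ)
    have hLeq : L = N := by
      refine Subgroup.eq_of_le_of_card_ge hLN ?_
      obtain ⟨m, hm⟩ := Subgroup.card_dvd_of_le (le_sup_left : (Q : Subgroup SL(2, F)) ≤ L)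
      have hdvd := Subgroup.card_dvd_of_le hLN
      rw [hm, h35 hq, mul_comm 3] at hdvd
      have hm3 : m ∣ 3 := Nat.dvd_of_mul_dvd_mul_left Nat.card_pos hdvd
      rcases (Nat.dvd_prime Nat.prime_three).1 hm3 with rfl | rfl
      · exfalso
        rw [mul_one] at hm
        refine hσQ ?_
        rw [Subgroup.eq_of_le_of_card_ge (le_sup_left : (Q : Subgroup SL(2, F)) ≤ L) hm.le]
        exact Subgroup.mem_sup_right (Subgroup.mem_zpowers σ)
      · rw [h35 hq, hm, mul_comm]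
    have hle : L ≤ H.comap (dd (F := F)) :=
      sup_le (fun q hq => hQH q hq) (Subgroup.zpowers_le.2 hσH)
    exact hle (hLeq ▸ hc)

theorem psp_four_isSimple (S : Sylow 2 Gp) :
    (Cfsg.groupFusionSystem (S : Subgroup Gp)).IsSimple 2 := by
  haveI : Fact (Nat.Prime 2) := ⟨Nat.prime_two⟩
  obtain ⟨Q⟩ := (inferInstance : Nonempty (Sylow 2 SL(2, F)))
  exact CfsgLib.Fusion.group_isSimple (SP Q) (isPGroup_SP hodd Q) (not_two_dvd_index hodd Q)
    (SP_ne_bot hodd Q) (noStronglyClosed hodd Q) (normalizerGenerated hodd Q) S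

end CfsgLib.Invol.SpFour
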