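import Mathlib
import Cfsg.Agent.Lib.Classical.SLTwoSylowTwo
import Cfsg.Agent.Lib.KnownB.SL2Sylow

/-!
The quaternion Sylow 2-subgroup of `SL_2(q)`: square roots of `-1` generate, and the order eight case.
-/

set_option autoImplicit false
set_option linter.unusedSectionVars false

namespace CfsgLib.Invol.SpFour

open Matrix
open scoped MatrixGroups

variable {F : Type*} [Field F] [Fintype F]

theorem two_ne_zero' (hodd : Odd (Fintype.card F)) : (2 : F) ≠ 0 :=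
  CfsgLib.KnownB.SL2.two_ne hodd

theorem one_ne_neg_one (hodd : Odd (Fintype.card F)) : (1 : SL(2, F)) ≠ -1 := fun h => by
  have h1 := congrArg (fun g : SL(2, F) => (g : Matrix (Fin 2) (Fin 2) F) 0 0) h
  simp at h1
  exact two_ne_zero' hodd (by linear_combination h1)

theorem mul_self_one (hodd : Odd (Fintype.card F)) {q : SL(2, F)} (h : q * q = 1) :
    q = 1 ∨ q = -1 := by
  rcases (CfsgLib.KnownB.SL2.mul_self_eq_one_iff_center (two_ne_zero' hodd)).1 h with e | e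
  · exact Or.inl (Subtype.ext e)
  · exact Or.inr (Subtype.ext (e.trans (by simp)))

theorem sq_eq_neg (hodd : Odd (Fintype.card F)) {q : SL(2, F)} (h : (q * q) * (q * q) = 1)
    (h1 : q * q ≠ 1) : q * q = -1 := (mul_self_one hodd h).resolve_left h1

variable (hodd : Odd (Fintype.card F)) (Q : Sylow 2 SL(2, F))
include hodd

theorem exists_quat : ∃ k : ℕ, 1 ≤ k ∧ (Nat.card SL(2, F)).factorization 2 = k + 2 ∧
    Nonempty ((Q : Subgroup SL(2, F)) ≃* QuaternionGroup (2 ^ k)) := by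
  obtain ⟨k, hk, hc, h⟩ := CfsgLib.Classical.sylow_two_sl_two hodd
  exact ⟨k, hk, hc, h Q⟩

theorem quat_sq {k : ℕ} (hk : 1 ≤ k) (e : (Q : Subgroup SL(2, F)) ≃* QuaternionGroup (2 ^ k))
    (t : QuaternionGroup (2 ^ k))
    (ht : t * t = QuaternionGroup.a ((2 ^ k : ℕ) : ZMod (2 * 2 ^ k))) :
    ((e.symm t : (Q : Subgroup SL(2, F))) : SL(2, F)) * (e.symm t : (Q : Subgroup SL(2, F))) = -1 := by
  haveI : NeZero (2 ^ k) := ⟨pow_ne_zero _ two_ne_zero⟩
  haveI : NeZero (2 * 2 ^ k) := ⟨mul_ne_zero two_ne_zero (pow_ne_zero _ two_ne_zero)⟩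
  rw [← Subgroup.coe_mul, ← map_mul, ht]
  refine (mul_self_one hodd ?_).resolve_left fun h => ?_
  · rw [← Subgroup.coe_mul, ← map_mul, QuaternionGroup.a_mul_a, ← Nat.cast_add, ← two_mul,
      ZMod.natCast_self]
    simp [QuaternionGroup.a_zero]
  · have h1 := congrArg e (Subtype.ext h : e.symm (QuaternionGroup.a ((2 ^ k : ℕ) : ZMod (2 * 2 ^ k))) = 1)
    rw [e.apply_symm_apply, map_one, QuaternionGroup.one_def] at h1
    have h2 : ((2 ^ k : ℕ) : ZMod (2 * 2 ^ k)) = 0 := QuaternionGroup.a.inj h1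
    rw [ZMod.natCast_eq_zero_iff] at h2
    have := Nat.le_of_dvd (by positivity) h2
    have : 0 < 2 ^ k := by positivity
    omega

theorem neg_one_mem : (-1 : SL(2, F)) ∈ (Q : Subgroup SL(2, F)) := by
  obtain ⟨k, hk, -, ⟨e⟩⟩ := exists_quat hodd Q
  rw [← quat_sq hodd Q hk e (QuaternionGroup.xa 0) (by simp [QuaternionGroup.xa_mul_xa])]
  exact mul_mem (SetLike.coe_mem _) (SetLike.coe_mem _)

theorem exists_sq_neg : ∃ i ∈ (Q : Subgroup SL(2, F)), i * i = -1 := by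
  obtain ⟨k, hk, -, ⟨e⟩⟩ := exists_quat hodd Q
  exact ⟨_, SetLike.coe_mem _,
    quat_sq hodd Q hk e (QuaternionGroup.xa 0) (by simp [QuaternionGroup.xa_mul_xa])⟩

/-- Products of two square roots of `-1` generate the Sylow subgroup. -/
theorem le_of_products (K : Subgroup SL(2, F))
    (hK : ∀ i ∈ (Q : Subgroup SL(2, F)), ∀ i' ∈ (Q : Subgroup SL(2, F)), i * i = -1 → i' * i' = -1 →
      i * i' ∈ K) : (Q : Subgroup SL(2, F)) ≤ K := by
  obtain ⟨k, hk, -, ⟨e⟩⟩ := exists_quat hodd Q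
  haveI : NeZero (2 ^ k) := ⟨pow_ne_zero _ two_ne_zero⟩
  haveI : NeZero (2 * 2 ^ k) := ⟨mul_ne_zero two_ne_zero (pow_ne_zero _ two_ne_zero)⟩
  set L := K.comap ((Q : Subgroup SL(2, F)).subtype.comp e.symm.toMonoidHom)
  have hmul : ∀ s t, s * s = QuaternionGroup.a ((2 ^ k : ℕ) : ZMod (2 * 2 ^ k)) →
      t * t = QuaternionGroup.a ((2 ^ k : ℕ) : ZMod (2 * 2 ^ k)) → s * t ∈ L := by
    intro s t hs ht
    show ((e.symm (s * t) : (Q : Subgroup SL(2, F))) : SL(2, F)) ∈ K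
    rw [map_mul, Subgroup.coe_mul]
    exact hK _ (SetLike.coe_mem _) _ (SetLike.coe_mem _) (quat_sq hodd Q hk e s hs)
      (quat_sq hodd Q hk e t ht)
  have hxa : ∀ j : ZMod (2 * 2 ^ k), QuaternionGroup.xa j * QuaternionGroup.xa j =
      QuaternionGroup.a ((2 ^ k : ℕ) : ZMod (2 * 2 ^ k)) := fun j => by
    simp [QuaternionGroup.xa_mul_xa]
  have h0 : QuaternionGroup.a ((2 ^ k : ℕ) : ZMod (2 * 2 ^ k)) ∈ L := by
    rw [← hxa 0]
    exact hmul _ _ (hxa 0) (hxa 0)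
  have h1 : QuaternionGroup.a (1 : ZMod (2 * 2 ^ k)) ∈ L := by
    have h := mul_mem (inv_mem h0) (hmul _ _ (hxa 0) (hxa 1))
    rwa [QuaternionGroup.xa_mul_xa, show ((2 ^ k : ℕ) : ZMod (2 * 2 ^ k)) + 1 - 0 =
      ((2 ^ k : ℕ) : ZMod (2 * 2 ^ k)) + 1 by ring, ← QuaternionGroup.a_mul_a, inv_mul_cancel_left] at h
  have ha : ∀ j : ZMod (2 * 2 ^ k), QuaternionGroup.a j ∈ L := fun j => by
    have := pow_mem h1 j.val
    rwa [QuaternionGroup.a_one_pow, ZMod.natCast_zmod_val] at this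
  have hh : QuaternionGroup.a ((2 ^ (k - 1) : ℕ) : ZMod (2 * 2 ^ k)) *
      QuaternionGroup.a ((2 ^ (k - 1) : ℕ) : ZMod (2 * 2 ^ k)) =
      QuaternionGroup.a ((2 ^ k : ℕ) : ZMod (2 * 2 ^ k)) := by
    have h2 : 2 ^ (k - 1) + 2 ^ (k - 1) = 2 ^ k := by
      obtain ⟨c, rfl⟩ : ∃ c, k = c + 1 := ⟨k - 1, by omega⟩
      rw [Nat.add_sub_cancel, pow_succ]; ring
    rw [QuaternionGroup.a_mul_a, ← Nat.cast_add]
    exact congrArg (fun x : ℕ => (QuaternionGroup.a (x : ZMod (2 * 2 ^ k)) : QuaternionGroup (2 ^ k))) h2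
  have htop : L = ⊤ := by
    rw [eq_top_iff]
    rintro (j | j) -
    · exact ha j
    · have h := mul_mem (ha (-((2 ^ (k - 1) : ℕ) : ZMod (2 * 2 ^ k)) - j)) (hmul _ _ hh (hxa 0))
      rwa [QuaternionGroup.a_mul_xa, QuaternionGroup.a_mul_xa, show
        (0 : ZMod (2 * 2 ^ k)) - ((2 ^ (k - 1) : ℕ) : ZMod (2 * 2 ^ k)) -
          (-((2 ^ (k - 1) : ℕ) : ZMod (2 * 2 ^ k)) - j) = j by ring] at h
  intro q hq
  have h : e ⟨q, hq⟩ ∈ L := htop ▸ Subgroup.mem_top _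
  simpa [L] using h

/-- The Sylow subgroup of order eight. -/
theorem eight (hq : Fintype.card F % 8 = 3 ∨ Fintype.card F % 8 = 5) :
    ∃ i j : SL(2, F), i ∈ (Q : Subgroup SL(2, F)) ∧ j ∈ (Q : Subgroup SL(2, F)) ∧
      i * i = -1 ∧ j * j = -1 ∧ j * i = -(i * j) ∧
      (∀ q ∈ (Q : Subgroup SL(2, F)), q = 1 ∨ q = -1 ∨ q = i ∨ q = -i ∨ q = j ∨ q = -j ∨
        q = i * j ∨ q = -(i * j)) ∧
      (∀ a ∈ (Q : Subgroup SL(2, F)), ∀ q ∈ (Q : Subgroup SL(2, F)),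
        a * q * a⁻¹ = q ∨ a * q * a⁻¹ = -q) ∧
      ∀ q ∈ (Q : Subgroup SL(2, F)), q⁻¹ = q ∨ q⁻¹ = -q := by
  obtain ⟨k, hk, hc, ⟨e⟩⟩ := exists_quat hodd Q
  obtain ⟨T, n, a, -, -, -, -, hG, -, h35⟩ := CfsgLib.KnownB.SL2.exists_torus_sylow_two hodd Q
  obtain rfl : k = 1 := by have := h35 hq; omega
  have e' : (Q : Subgroup SL(2, F)) ≃* QuaternionGroup 2 := e
  let v : QuaternionGroup 2 → SL(2, F) := fun t => ((e'.symm t : (Q : Subgroup SL(2, F))) : SL(2, F))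
  have vmul : ∀ s t, v (s * t) = v s * v t := fun s t => by simp [v]
  have v1 : v 1 = 1 := by simp [v]
  have vinv : ∀ s, v s⁻¹ = (v s)⁻¹ := fun s => by simp [v]
  have vsurj : ∀ q ∈ (Q : Subgroup SL(2, F)), ∃ t, v t = q := fun q hq =>
    ⟨e' ⟨q, hq⟩, by simp [v]⟩
  have vinj : Function.Injective v := fun s t h => e'.symm.injective (Subtype.ext h)
  have vneg : v (QuaternionGroup.a 2) = -1 := by
    refine (mul_self_one hodd ?_).resolve_left fun h => ?_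
    · rw [← vmul, ← v1]; exact congrArg v (by decide)
    · exact absurd (vinj (h.trans v1.symm)) (by decide)
  have vneg' : ∀ t, v (QuaternionGroup.a 2 * t) = -v t := fun t => by rw [vmul, vneg, neg_one_mul]
  refine ⟨v (QuaternionGroup.a 1), v (QuaternionGroup.xa 0), SetLike.coe_mem _, SetLike.coe_mem _,
    ?_, ?_, ?_, ?_, ?_, ?_⟩
  · rw [← vmul, ← vneg]; exact congrArg v (by decide)
  · rw [← vmul, ← vneg]; exact congrArg v (by decide)
  · rw [← vmul, ← vmul, ← vneg']; exact congrArg v (by decide)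
  · intro q hq
    obtain ⟨t, rfl⟩ := vsurj q hq
    rw [← vmul, ← vneg, ← v1, ← vneg', ← vneg', ← vneg']
    have key : ∀ t : QuaternionGroup 2, t = 1 ∨ t = QuaternionGroup.a 2 ∨ t = QuaternionGroup.a 1 ∨
        t = QuaternionGroup.a 2 * QuaternionGroup.a 1 ∨ t = QuaternionGroup.xa 0 ∨
        t = QuaternionGroup.a 2 * QuaternionGroup.xa 0 ∨
        t = QuaternionGroup.a 1 * QuaternionGroup.xa 0 ∨
        t = QuaternionGroup.a 2 * (QuaternionGroup.a 1 * QuaternionGroup.xa 0) := by decide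
    rcases key t with h | h | h | h | h | h | h | h <;> simp only [h, true_or, or_true]
  · intro a ha q hq
    obtain ⟨s, rfl⟩ := vsurj a ha
    obtain ⟨t, rfl⟩ := vsurj q hq
    have key : ∀ s t : QuaternionGroup 2, s * t * s⁻¹ = t ∨
        s * t * s⁻¹ = QuaternionGroup.a 2 * t := by decide
    rw [← vinv, ← vmul, ← vmul, ← vneg']
    rcases key s t with h | h <;> simp only [h, true_or, or_true]
  · intro q hq
    obtain ⟨t, rfl⟩ := vsurj q hq
    have key : ∀ t : QuaternionGroup 2, t⁻¹ = t ∨ t⁻¹ = QuaternionGroup.a 2 * t := by decide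
    rw [← vinv, ← vneg']
    rcases key t with h | h <;> simp only [h, true_or, or_true]

end CfsgLib.Invol.SpFour
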