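import Cfsg.Agent.Lib.Fusion.SimpleGroupQuotient
import Cfsg.Agent.Lib.Geom.PSpInvol
import Cfsg.Agent.Lib.Invol.SpFourBlocks
import Cfsg.Agent.Lib.Invol.SpFourQuat

/-!
The 2-fusion system of `PSp_4(q)`, `q` odd, is simple.
-/

set_option autoImplicit false
set_option linter.unusedSectionVars false

namespace CfsgLib.Invol.SpFour

open Matrix
open scoped MatrixGroups

variable {F : Type*} [Field F]

local notation "Sp4" => Matrix.symplecticGroup (Fin 2) F
local notation "Gp" => Cfsg.PSp 2 F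
local notation "Z4" => D (1 : M2 F) (-1)

theorem mem_sp_of_sim {M : M4 F}
    (h : M * Matrix.J (Fin 2) F * Mᵀ = (1 : F) • Matrix.J (Fin 2) F) : M ∈ Sp4 :=
  SymplecticGroup.mem_iff.2 (by rw [h, one_smul])

/-- `(a, b) ∈ SL_2 × SL_2` inside `Sp_4`. -/
def d2 (a b : SL(2, F)) : Sp4 := ⟨D (a : M2 F) (b : M2 F), mem_sp_of_sim (D_sim a.2 b.2)⟩

/-- The swap in `Sp_4`. -/
def wS (F : Type*) [Field F] : Matrix.symplecticGroup (Fin 2) F := ⟨W F, mem_sp_of_sim W_sim⟩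

/-- `(1, -1)` in `Sp_4`. -/
def zS (F : Type*) [Field F] : Matrix.symplecticGroup (Fin 2) F := d2 1 (-1)

/-- The projection to `PSp_4`. -/
def prj : Sp4 →* Gp := QuotientGroup.mk' (Subgroup.center Sp4)

theorem d2_coe (a b : SL(2, F)) : ((d2 a b : Sp4) : M4 F) = D (a : M2 F) (b : M2 F) := rfl

theorem zS_coe : ((zS F : Sp4) : M4 F) = Z4 := by
  show D _ _ = _
  simp

theorem d2_mul (a b c e : SL(2, F)) : d2 a b * d2 c e = d2 (a * c) (b * e) :=
  Subtype.ext (by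
    show D (a : M2 F) b * D (c : M2 F) e = _
    rw [D_mul]; rfl)

theorem d2_one : d2 (1 : SL(2, F)) 1 = 1 := Subtype.ext (by
  show D _ _ = (1 : M4 F)
  simp [D_one])

theorem d2_inv (a b : SL(2, F)) : (d2 a b)⁻¹ = d2 a⁻¹ b⁻¹ :=
  inv_eq_of_mul_eq_one_right (by rw [d2_mul, mul_inv_cancel, mul_inv_cancel, d2_one])

theorem wS_sq : wS F * wS F = 1 := Subtype.ext W_mul_W

theorem wS_inv : (wS F)⁻¹ = wS F := inv_eq_of_mul_eq_one_right wS_sq

theorem wS_d2 (a b : SL(2, F)) : wS F * d2 a b = d2 b a * wS F := Subtype.ext (W_mul_D _ _)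

theorem d2_inj {a b c e : SL(2, F)} (h : d2 a b = d2 c e) : a = c ∧ b = e := by
  obtain ⟨h1, h2⟩ := D_inj (congrArg Subtype.val h)
  exact ⟨Subtype.ext h1, Subtype.ext h2⟩

theorem d2_ne_d2_w (a b c e : SL(2, F)) : d2 a b ≠ d2 c e * wS F := fun h => by
  obtain ⟨h1, -⟩ := eq_zero_of_D_eq (show D (a : M2 F) b = D (c : M2 F) e * W F from congrArg Subtype.val h)
  have h2 : (a : M2 F).det = 1 := a.2
  rw [h1, Matrix.det_zero] at h2
  exact zero_ne_one h2

theorem spNeg_eq : CfsgLib.Geom.spNeg 2 F = d2 (-1) (-1) := Subtype.ext (by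
  show (-1 : M4 F) = D _ _
  simp [← D_neg, D_one])

theorem neg_d2 (a b : SL(2, F)) : CfsgLib.Geom.spNeg 2 F * d2 a b = d2 (-a) (-b) := by
  rw [spNeg_eq, d2_mul, neg_one_mul, neg_one_mul]

theorem prj_neg (A : Sp4) : prj (CfsgLib.Geom.spNeg 2 F * A) = prj A := by
  rw [map_mul, show prj (CfsgLib.Geom.spNeg 2 F) = 1 from
    (QuotientGroup.eq_one_iff _).2 CfsgLib.Geom.spNeg_mem_center, one_mul]

theorem prj_eq_iff {A B : Sp4} : prj A = prj B ↔ A = B ∨ A = CfsgLib.Geom.spNeg 2 F * B := by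
  constructor
  · intro h
    have h1 : A⁻¹ * B ∈ Subgroup.center Sp4 := QuotientGroup.eq.1 h
    rcases CfsgLib.Geom.spLin_center (by norm_num) h1 with e | e
    · left
      have : A⁻¹ * B = 1 := CfsgLib.Geom.spLin_ext fun v => by rw [e v, CfsgLib.Geom.spLin_one]
      exact inv_mul_eq_one.1 this
    · right
      have h2 : A⁻¹ * B = CfsgLib.Geom.spNeg 2 F :=
        CfsgLib.Geom.spLin_ext fun v => by rw [e v, CfsgLib.Geom.spLin_spNeg]
      have h3 : B = CfsgLib.Geom.spNeg 2 F * A := by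
        rw [← h2, ← Subgroup.mem_center_iff.1 h1 A, mul_inv_cancel_left]
      have hn : CfsgLib.Geom.spNeg 2 F * CfsgLib.Geom.spNeg 2 F = (1 : Sp4) := by
        rw [spNeg_eq, d2_mul, neg_mul_neg, one_mul, d2_one]
      rw [h3, ← mul_assoc, hn, one_mul]
  · rintro (rfl | rfl)
    · rfl
    · exact prj_neg B

theorem wS_conj (a b : SL(2, F)) : wS F * d2 a b * (wS F)⁻¹ = d2 b a := by
  rw [wS_d2, mul_inv_cancel_right]

theorem d2_conj (a b c e : SL(2, F)) :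
    d2 a b * d2 c e * (d2 a b)⁻¹ = d2 (a * c * a⁻¹) (b * e * b⁻¹) := by
  rw [d2_inv, d2_mul, d2_mul]

theorem d2_conj_w (a b c e : SL(2, F)) :
    d2 a b * (d2 c e * wS F) * (d2 a b)⁻¹ = d2 (a * c * b⁻¹) (b * e * a⁻¹) * wS F := by
  rw [d2_inv, mul_assoc (d2 a b), mul_assoc (d2 c e), wS_d2, ← mul_assoc (d2 c e), ← mul_assoc,
    d2_mul, d2_mul, mul_assoc, mul_assoc]

theorem zS_d2 (a b : SL(2, F)) : zS F * d2 a b = d2 a b * zS F := by
  rw [zS, d2_mul, d2_mul]; simp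

theorem zS_w : wS F * zS F * (wS F)⁻¹ = CfsgLib.Geom.spNeg 2 F * zS F := by
  rw [zS, wS_conj, neg_d2, neg_neg]

variable [Fintype F]

theorem exists_d2_of_commute (hodd : Odd (Fintype.card F)) {A : Sp4} (h : A * zS F = zS F * A) :
    ∃ a b : SL(2, F), A = d2 a b := by
  have h' : (A : M4 F) * Z4 = Z4 * (A : M4 F) := by
    have := congrArg Subtype.val h
    simpa only [Submonoid.coe_mul, Subgroup.coe_mul, zS_coe] using this
  obtain ⟨a, b, hab⟩ := exists_D_of_commute (two_ne_zero' hodd) h'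
  have hs : (A : M4 F) * Matrix.J (Fin 2) F * (A : M4 F)ᵀ = (1 : F) • Matrix.J (Fin 2) F := by
    rw [one_smul]; exact SymplecticGroup.mem_iff.1 A.2
  rw [hab] at hs
  obtain ⟨ha, hb⟩ := det_of_D_sim hs
  exact ⟨⟨a, ha⟩, ⟨b, hb⟩, Subtype.ext hab⟩

/-- Involutions of `PSp_4` have a lift conjugate to `(1,-1)`, or every lift has square `-1`. -/
theorem conj_zS_of_sq (hodd : Odd (Fintype.card F)) {A : Sp4} (h : A * A = 1) (h1 : prj A ≠ 1) :
    IsConj A (zS F) := by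
  have h2 := two_ne_zero' hodd
  have key : ∀ B : Sp4, B * B = 1 → prj B ≠ 1 →
      Module.finrank F (CfsgLib.Geom.spEigen B (-1)) = 2 := by
    intro B hB hB1
    have hB' : ∀ v, CfsgLib.Geom.spLin B (CfsgLib.Geom.spLin B v) = v := fun v => by
      rw [← CfsgLib.Geom.spLin_mul, hB, CfsgLib.Geom.spLin_one]
    have hsum := CfsgLib.Geom.spEigen_finrank_add h2 hB'
    obtain ⟨c, hc⟩ := CfsgLib.Geom.spEigen_even h2 hB'
    have hall : ∀ (ε : F), Module.finrank F (CfsgLib.Geom.spEigen B ε) = 4 →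
        ∀ v, CfsgLib.Geom.spLin B v = ε • v := by
      intro ε he v
      have : CfsgLib.Geom.spEigen B ε = ⊤ := Submodule.eq_top_of_finrank_eq (by rw [he]; simp)
      exact CfsgLib.Geom.mem_spEigen.1 (this ▸ Submodule.mem_top)
    have hne4 : Module.finrank F (CfsgLib.Geom.spEigen B (-1)) ≠ 4 := fun h4 => by
      refine hB1 ?_
      rw [show B = CfsgLib.Geom.spNeg 2 F * 1 from CfsgLib.Geom.spLin_ext fun v => by
        rw [hall _ h4, mul_one, CfsgLib.Geom.spLin_spNeg, neg_one_smul], prj_neg, map_one]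
    have hne0 : Module.finrank F (CfsgLib.Geom.spEigen B 1) ≠ 4 := fun h4 => by
      refine hB1 ?_
      rw [show B = 1 from CfsgLib.Geom.spLin_ext fun v => by
        rw [hall _ h4, CfsgLib.Geom.spLin_one, one_smul], map_one]
    omega
  have hz : zS F * zS F = (1 : Sp4) := by rw [zS, d2_mul, neg_mul_neg, one_mul, d2_one]
  have hz1 : prj (zS F) ≠ (1 : Gp) := fun e => by
    rw [← map_one prj, prj_eq_iff, mul_one, spNeg_eq] at e
    rcases e with e | e
    · exact one_ne_neg_one hodd ((d2_inj (e.trans d2_one.symm)).2).symm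
    · exact one_ne_neg_one hodd (d2_inj e).1
  refine CfsgLib.Geom.isConj_of_sq_one h2 (fun v => ?_) (fun v => ?_)
    ((key A h h1).trans (key _ hz hz1).symm)
  · rw [← CfsgLib.Geom.spLin_mul, h, CfsgLib.Geom.spLin_one]
  · rw [← CfsgLib.Geom.spLin_mul, hz, CfsgLib.Geom.spLin_one]

theorem conj_of_sq_neg (hodd : Odd (Fintype.card F)) {A B : Sp4}
    (hA : A * A = CfsgLib.Geom.spNeg 2 F) (hB : B * B = CfsgLib.Geom.spNeg 2 F) : IsConj A B :=
  CfsgLib.Geom.isConj_of_sq_neg (two_ne_zero' hodd)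
    (fun v => by rw [← CfsgLib.Geom.spLin_mul, hA, CfsgLib.Geom.spLin_spNeg])
    (fun v => by rw [← CfsgLib.Geom.spLin_mul, hB, CfsgLib.Geom.spLin_spNeg])

variable (hodd : Odd (Fintype.card F)) (Q : Sylow 2 SL(2, F))

/-- The Sylow 2-subgroup `(Q × Q)⟨w⟩` of `Sp_4`. -/
def S0 : Subgroup Sp4 where
  carrier := {g | ∃ a ∈ (Q : Subgroup SL(2, F)), ∃ b ∈ (Q : Subgroup SL(2, F)),
    g = d2 a b ∨ g = d2 a b * wS F}
  one_mem' := ⟨1, one_mem _, 1, one_mem _, Or.inl d2_one.symm⟩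
  mul_mem' := by
    rintro g g' ⟨a, ha, b, hb, rfl | rfl⟩ ⟨c, hc, e, he, rfl | rfl⟩
    · exact ⟨_, mul_mem ha hc, _, mul_mem hb he, Or.inl (d2_mul a b c e)⟩
    · exact ⟨_, mul_mem ha hc, _, mul_mem hb he, Or.inr (by rw [← mul_assoc, d2_mul])⟩
    · exact ⟨_, mul_mem ha he, _, mul_mem hb hc, Or.inr (by
        rw [mul_assoc, wS_d2, ← mul_assoc, d2_mul])⟩
    · exact ⟨_, mul_mem ha he, _, mul_mem hb hc, Or.inl (by
        rw [mul_assoc, ← mul_assoc (wS F), wS_d2, mul_assoc (d2 e c), wS_sq, mul_one, d2_mul])⟩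
  inv_mem' := by
    rintro g ⟨a, ha, b, hb, rfl | rfl⟩
    · exact ⟨_, inv_mem ha, _, inv_mem hb, Or.inl (d2_inv a b)⟩
    · exact ⟨_, inv_mem hb, _, inv_mem ha, Or.inr (by rw [_root_.mul_inv_rev, d2_inv, wS_inv, wS_d2])⟩

theorem d2_mem_S0 {a b : SL(2, F)} (ha : a ∈ (Q : Subgroup SL(2, F)))
    (hb : b ∈ (Q : Subgroup SL(2, F))) : d2 a b ∈ S0 Q := ⟨a, ha, b, hb, Or.inl rfl⟩

theorem wS_mem_S0 : wS F ∈ S0 Q :=
  ⟨1, one_mem _, 1, one_mem _, Or.inr (by rw [d2_one, one_mul])⟩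

theorem d2_mem_S0_iff {a b : SL(2, F)} :
    d2 a b ∈ S0 Q ↔ a ∈ (Q : Subgroup SL(2, F)) ∧ b ∈ (Q : Subgroup SL(2, F)) := by
  refine ⟨?_, fun h => d2_mem_S0 Q h.1 h.2⟩
  rintro ⟨c, hc, e, he, h | h⟩
  · obtain ⟨rfl, rfl⟩ := d2_inj h
    exact ⟨hc, he⟩
  · exact absurd h (d2_ne_d2_w _ _ _ _)

theorem d2_w_mem_S0_iff {a b : SL(2, F)} :
    d2 a b * wS F ∈ S0 Q ↔ a ∈ (Q : Subgroup SL(2, F)) ∧ b ∈ (Q : Subgroup SL(2, F)) := by
  rw [← d2_mem_S0_iff (F := F) Q]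
  exact Subgroup.mul_mem_cancel_right _ (wS_mem_S0 Q)

/-- The Sylow 2-subgroup of `PSp_4`. -/
def SP : Subgroup Gp := (S0 Q).map prj

include hodd

theorem zS_mem_S0 : zS F ∈ S0 Q := d2_mem_S0 Q (one_mem _) (neg_one_mem hodd Q)

theorem mem_S0_of_prj {g : Sp4} (h : prj g ∈ SP Q) : g ∈ S0 Q := by
  obtain ⟨g', hg', he⟩ := h
  rcases prj_eq_iff.1 he.symm with rfl | rfl
  · exact hg'
  · exact mul_mem (spNeg_eq (F := F) ▸ d2_mem_S0 Q (neg_one_mem hodd Q) (neg_one_mem hodd Q)) hg'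

theorem isPGroup_SP : IsPGroup 2 (SP Q) := by
  refine IsPGroup.map ?_ _
  rintro ⟨g, a, ha, b, hb, rfl | rfl⟩
  · obtain ⟨k, hk⟩ := Q.isPGroup' ⟨a, ha⟩
    obtain ⟨l, hl⟩ := Q.isPGroup' ⟨b, hb⟩
    refine ⟨k + l, Subtype.ext ?_⟩
    have hk' : a ^ 2 ^ k = 1 := congrArg Subtype.val hk
    have hl' : b ^ 2 ^ l = 1 := congrArg Subtype.val hl
    have hpow : ∀ n : ℕ, d2 a b ^ n = d2 (a ^ n) (b ^ n) := fun n => by
      induction n with
      | zero => simp [d2_one]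
      | succ n ih => rw [pow_succ, ih, d2_mul, ← pow_succ, ← pow_succ]
    rw [SubgroupClass.coe_pow, hpow, pow_add, pow_mul, hk', one_pow, mul_comm, pow_mul, hl',
      one_pow, d2_one]
    rfl
  · have h2 : (d2 a b * wS F) * (d2 a b * wS F) = d2 (a * b) (b * a) := by
      rw [mul_assoc, ← mul_assoc (wS F), wS_d2, mul_assoc (d2 b a), wS_sq, mul_one, d2_mul]
    obtain ⟨k, hk⟩ := Q.isPGroup' ⟨a * b, mul_mem ha hb⟩
    obtain ⟨l, hl⟩ := Q.isPGroup' ⟨b * a, mul_mem hb ha⟩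
    refine ⟨k + l + 1, Subtype.ext ?_⟩
    have hk' : (a * b) ^ 2 ^ k = 1 := congrArg Subtype.val hk
    have hl' : (b * a) ^ 2 ^ l = 1 := congrArg Subtype.val hl
    have hpow : ∀ n : ℕ, d2 (a * b) (b * a) ^ n = d2 ((a * b) ^ n) ((b * a) ^ n) := fun n => by
      induction n with
      | zero => simp [d2_one]
      | succ n ih => rw [pow_succ, ih, d2_mul, ← pow_succ, ← pow_succ]
    rw [SubgroupClass.coe_pow, pow_succ', pow_mul, pow_two, h2, hpow, pow_add, pow_mul, hk',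
      one_pow, mul_comm, pow_mul, hl', one_pow, d2_one]
    rfl

theorem SP_ne_bot : SP Q ≠ ⊥ := by
  intro h
  have h1 : prj (zS F) ∈ SP Q := Subgroup.mem_map_of_mem _ (zS_mem_S0 hodd Q)
  rw [h, Subgroup.mem_bot, ← map_one prj, prj_eq_iff, mul_one, spNeg_eq] at h1
  rcases h1 with e | e
  · exact one_ne_neg_one hodd ((d2_inj (e.trans d2_one.symm)).2).symm
  · exact one_ne_neg_one hodd (d2_inj e).1

theorem noStronglyClosed : CfsgLib.Fusion.NoStronglyClosed (SP Q) := by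
  haveI : Fact (Nat.Prime 2) := ⟨Nat.prime_two⟩
  intro T hT hTc
  refine or_iff_not_imp_left.2 fun hT0 => le_antisymm hT ?_
  obtain ⟨x, hxT, hx⟩ : ∃ x ∈ T, orderOf x = 2 := by
    obtain ⟨y, hy⟩ := (Subgroup.ne_bot_iff_exists_ne_one).1 hT0
    haveI : Nontrivial T := ⟨⟨y, 1, hy⟩⟩
    obtain ⟨n, hn, hcard⟩ := ((isPGroup_SP hodd Q).to_le hT).nontrivial_iff_card.1 inferInstance
    obtain ⟨x, hx⟩ := exists_prime_orderOf_dvd_card' (G := T) 2 (hcard ▸ dvd_pow_self 2 hn.ne')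
    exact ⟨x, x.2, by rw [Subgroup.orderOf_coe, hx]⟩
  set K := T.comap (prj (F := F)) with hK
  have hneg : CfsgLib.Geom.spNeg 2 F ∈ K := by
    show prj _ ∈ T
    rw [← mul_one (CfsgLib.Geom.spNeg 2 F), prj_neg, map_one]
    exact one_mem T
  have hconj : ∀ {A B : Sp4}, IsConj A B → B ∈ S0 Q → A ∈ K → B ∈ K := fun h hB hA => by
    obtain ⟨g, rfl⟩ := isConj_iff.1 h
    show prj _ ∈ T
    rw [map_mul, map_mul, map_inv]
    refine hTc _ hA (prj g) ?_
    rw [← map_inv, ← map_mul, ← map_mul]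
    exact Subgroup.mem_map_of_mem _ hB
  obtain ⟨A, rfl⟩ := QuotientGroup.mk'_surjective _ x
  have hA1 : prj A ≠ 1 := fun e => by
    have : orderOf (prj A) = 2 := hx
    rw [e, orderOf_one] at this
    omega
  have hAA : prj (A * A) = prj 1 := by
    rw [map_mul, map_one, ← pow_two, (orderOf_dvd_iff_pow_eq_one.1 (dvd_of_eq hx) : (prj A : Gp) ^ 2 = 1)]
  obtain ⟨i, hi, hi2⟩ := exists_sq_neg hodd Q
  have hJ0 : d2 i i * d2 i i = CfsgLib.Geom.spNeg 2 F := by rw [d2_mul, hi2, spNeg_eq]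
  -- some element with square `-1` lies in `K`
  have hJ : ∃ J ∈ K, J * J = CfsgLib.Geom.spNeg 2 F := by
    rcases prj_eq_iff.1 hAA with h | h
    · have hinv : i⁻¹ ∈ (Q : Subgroup SL(2, F)) := inv_mem hi
      have hz : zS F ∈ K := hconj (conj_zS_of_sq hodd h hA1) (zS_mem_S0 hodd Q) hxT
      have hconjz : ∀ B : Sp4, B ∈ S0 Q → B * B = 1 → prj B ≠ 1 → B ∈ K := fun B hB hBB hB1 =>
        hconj (conj_zS_of_sq hodd hBB hB1).symm hB hz
      have hw1 : ∀ a b : SL(2, F), prj (d2 a b * wS F) ≠ 1 := fun a b e => by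
        rw [← map_one prj, prj_eq_iff, mul_one] at e
        rcases e with e | e
        · exact d2_ne_d2_w 1 1 a b (d2_one.trans e.symm)
        · exact d2_ne_d2_w (-1) (-1) a b ((spNeg_eq.symm).trans e.symm)
      have h1 : wS F ∈ K := by
        refine hconjz _ (wS_mem_S0 Q) wS_sq ?_
        have := hw1 1 1
        rwa [d2_one, one_mul] at this
      have h2 : d2 i i⁻¹ * wS F ∈ K := by
        refine hconjz _ ((d2_w_mem_S0_iff Q).2 ⟨hi, hinv⟩) ?_ (hw1 _ _)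
        rw [mul_assoc, ← mul_assoc (wS F), wS_d2, mul_assoc (d2 i⁻¹ i), wS_sq, mul_one, d2_mul,
          mul_inv_cancel, inv_mul_cancel, d2_one]
      refine ⟨d2 i i⁻¹, by simpa [mul_assoc, wS_sq] using mul_mem h2 h1, ?_⟩
      rw [d2_mul, hi2, ← _root_.mul_inv_rev, hi2, spNeg_eq, inv_eq_of_mul_eq_one_right
        (show (-1 : SL(2, F)) * -1 = 1 by simp)]
    · exact ⟨A, hxT, by rw [h, mul_one]⟩
  obtain ⟨J, hJK, hJJ⟩ := hJ
  have hall : ∀ B : Sp4, B ∈ S0 Q → B * B = CfsgLib.Geom.spNeg 2 F → B ∈ K := fun B hB hBB =>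
    hconj (conj_of_sq_neg hodd hJJ hBB) hB hJK
  have hd : ∀ a b : SL(2, F), a ∈ (Q : Subgroup SL(2, F)) → b ∈ (Q : Subgroup SL(2, F)) →
      a * a = -1 → b * b = -1 → d2 a b ∈ K := fun a b ha hb ha2 hb2 =>
    hall _ (d2_mem_S0 Q ha hb) (by rw [d2_mul, ha2, hb2, spNeg_eq])
  have hinv2 : ∀ a : SL(2, F), a * a = -1 → a⁻¹ = -a := fun a ha =>
    inv_eq_of_mul_eq_one_right (by rw [mul_neg, ha, neg_neg])
  have hinvmem : ∀ a : SL(2, F), a ∈ (Q : Subgroup SL(2, F)) → a * a = -1 → a⁻¹ * a⁻¹ = -1 := by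
    intro a _ ha
    rw [hinv2 a ha, neg_mul_neg, ha]
  let L : Subgroup SL(2, F) :=
    { carrier := {a | d2 a 1 ∈ K ∧ d2 1 a ∈ K}
      one_mem' := ⟨d2_one (F := F) ▸ one_mem K, d2_one (F := F) ▸ one_mem K⟩
      mul_mem' := by
        rintro a b ⟨h1, h2⟩ ⟨h3, h4⟩
        exact ⟨by simpa [d2_mul] using mul_mem h1 h3, by simpa [d2_mul] using mul_mem h2 h4⟩
      inv_mem' := by
        rintro a ⟨h1, h2⟩
        exact ⟨by simpa [d2_inv] using inv_mem h1, by simpa [d2_inv] using inv_mem h2⟩ }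
  have hQL : (Q : Subgroup SL(2, F)) ≤ L := by
    refine le_of_products hodd Q L fun a ha b hb ha2 hb2 => ⟨?_, ?_⟩
    · have h3 := mul_mem (hd a i ha hi ha2 hi2) (hd b i⁻¹ hb (inv_mem hi) hb2 (hinvmem i hi hi2))
      rwa [d2_mul, mul_inv_cancel] at h3
    · have h3 := mul_mem (hd i a hi ha hi2 ha2) (hd i⁻¹ b (inv_mem hi) hb (hinvmem i hi hi2) hb2)
      rwa [d2_mul, mul_inv_cancel] at h3
  have hdd : ∀ a b : SL(2, F), a ∈ (Q : Subgroup SL(2, F)) → b ∈ (Q : Subgroup SL(2, F)) →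
      d2 a b ∈ K := fun a b ha hb => by simpa [d2_mul] using mul_mem (hQL ha).1 (hQL hb).2
  have hwK : wS F ∈ K := by
    have h1 : d2 i i * wS F ∈ K := by
      refine hall _ ((d2_w_mem_S0_iff Q).2 ⟨hi, hi⟩) ?_
      rw [mul_assoc, ← mul_assoc (wS F), wS_d2, mul_assoc (d2 i i), wS_sq, mul_one, hJ0]
    simpa [← mul_assoc] using mul_mem (inv_mem (hdd i i hi hi)) h1
  rintro _ ⟨g, ⟨a, ha, b, hb, rfl | rfl⟩, rfl⟩
  · exact hdd a b ha hb
  · exact mul_mem (hdd a b ha hb) hwK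

/-- Elements normalizing the Sylow subgroup are `(c, c)` times an element of it. -/
theorem normalizer_cases {x : Gp} (hx : x ∈ Subgroup.normalizer (SP Q : Set Gp)) :
    ∃ c ∈ Subgroup.normalizer ((Q : Subgroup SL(2, F)) : Set SL(2, F)),
      ∃ s ∈ SP Q, x = prj (d2 c c) * s := by
  obtain ⟨A, rfl⟩ := QuotientGroup.mk'_surjective _ x
  have hA : ∀ g ∈ S0 Q, A * g * A⁻¹ ∈ S0 Q := fun g hg => by
    refine mem_S0_of_prj hodd Q ?_
    rw [map_mul, map_mul, map_inv]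
    exact (hx _).1 (Subgroup.mem_map_of_mem _ hg)
  have hA' : ∀ g ∈ S0 Q, A⁻¹ * g * A ∈ S0 Q := fun g hg => by
    refine mem_S0_of_prj hodd Q ?_
    rw [map_mul, map_mul, map_inv]
    exact (Subgroup.mem_normalizer_iff''.1 hx _).1 (Subgroup.mem_map_of_mem _ hg)
  -- the image of `z` is `± z`
  have hzc : ∀ g ∈ S0 Q, prj (zS F * g) = prj (g * zS F) := by
    rintro g ⟨a, -, b, -, rfl | rfl⟩
    · rw [zS_d2]
    · rw [← mul_assoc, zS_d2, mul_assoc, mul_assoc]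
      have h1 : wS F * zS F = CfsgLib.Geom.spNeg 2 F * (zS F * wS F) := by
        rw [← mul_assoc, ← zS_w, inv_mul_cancel_right]
      have h2 : prj (wS F * zS F) = prj (zS F * wS F) := by rw [h1, prj_neg]
      rw [map_mul (prj (F := F)) (d2 a b), map_mul (prj (F := F)) (d2 a b), h2]
  set s := A * zS F * A⁻¹ with hs
  have hsc : ∀ g ∈ S0 Q, prj (s * g) = prj (g * s) := fun g hg => by
    have h1 := hzc _ (hA' g hg)
    have e1 : s * g = A * (zS F * (A⁻¹ * g * A)) * A⁻¹ := by rw [hs]; group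
    have e2 : g * s = A * ((A⁻¹ * g * A) * zS F) * A⁻¹ := by rw [hs]; group
    rw [e1, e2, map_mul, map_mul prj A, h1, ← map_mul, ← map_mul]
  obtain ⟨i, hi, hi2⟩ := exists_sq_neg hodd Q
  obtain ⟨a, ha, b, hb, hse | hse⟩ := hA _ (zS_mem_S0 hodd Q)
  swap
  · exfalso
    have h1 := hsc _ (d2_mem_S0 Q hi (one_mem _))
    rw [← hs] at hse
    rw [hse, mul_assoc, wS_d2, ← mul_assoc, d2_mul, ← mul_assoc, d2_mul, prj_eq_iff] at h1
    rcases h1 with h1 | h1
    · obtain ⟨h3, -⟩ := d2_inj (mul_right_cancel h1)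
      rw [mul_one, eq_comm, mul_eq_right] at h3
      rw [h3, one_mul] at hi2
      exact one_ne_neg_one hodd hi2
    · rw [← mul_assoc, neg_d2] at h1
      obtain ⟨h3, -⟩ := d2_inj (mul_right_cancel h1)
      rw [mul_one, ← neg_mul, eq_comm, mul_eq_right] at h3
      rw [neg_eq_iff_eq_neg] at h3
      rw [h3, neg_mul_neg, one_mul] at hi2
      exact one_ne_neg_one hodd hi2
  rw [← hs] at hse
  have hcom : ∀ q ∈ (Q : Subgroup SL(2, F)), a * q = q * a ∧ b * q = q * b := by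
    intro q hq
    constructor
    · have h1 := hsc _ (d2_mem_S0 Q hq (one_mem _))
      rw [hse, d2_mul, d2_mul, prj_eq_iff, neg_d2] at h1
      rcases h1 with h1 | h1
      · exact (d2_inj h1).1
      · have h3 := (d2_inj h1).2
        rw [mul_one, one_mul] at h3
        exfalso
        refine one_ne_neg_one hodd (mul_right_cancel (b := b) ?_)
        rw [one_mul, neg_one_mul]
        exact h3
    · have h1 := hsc _ (d2_mem_S0 Q (one_mem _) hq)
      rw [hse, d2_mul, d2_mul, prj_eq_iff, neg_d2] at h1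
      rcases h1 with h1 | h1
      · exact (d2_inj h1).2
      · have h3 := (d2_inj h1).1
        rw [mul_one, one_mul] at h3
        exfalso
        refine one_ne_neg_one hodd (mul_right_cancel (b := a) ?_)
        rw [one_mul, neg_one_mul]
        exact h3
  have hsign : ∀ c : SL(2, F), (∀ q ∈ (Q : Subgroup SL(2, F)), c * q = q * c) → c = 1 ∨ c = -1 := by
    intro c hc
    have h1 : c ∈ Subgroup.center SL(2, F) := by
      rw [← (CfsgLib.KnownB.SL2.sylow_two_facts hodd Q).1]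
      exact fun q hq => (hc q hq).symm
    refine mul_self_one hodd ?_
    obtain ⟨r, hr, hrc⟩ := Matrix.SpecialLinearGroup.mem_center_iff.1 h1
    apply Subtype.ext
    show (c : M2 F) * (c : M2 F) = 1
    rw [← hrc, ← map_mul, ← pow_two]
    rw [Fintype.card_fin] at hr
    rw [hr, map_one]
  have hnc : prj s ≠ 1 := fun e => by
    have h1 : prj (zS F) = (1 : Gp) := by
      have : prj s = prj A * prj (zS F) * (prj A)⁻¹ := by rw [hs, map_mul, map_mul, map_inv]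
      rw [this] at e
      exact conj_eq_one_iff.1 e
    rw [← map_one prj, prj_eq_iff, mul_one, spNeg_eq] at h1
    rcases h1 with e' | e'
    · exact one_ne_neg_one hodd ((d2_inj (e'.trans d2_one.symm)).2).symm
    · exact one_ne_neg_one hodd (d2_inj e').1
  have hs' : s = zS F ∨ s = CfsgLib.Geom.spNeg 2 F * zS F := by
    rcases hsign a fun q hq => (hcom q hq).1 with rfl | rfl <;>
      rcases hsign b fun q hq => (hcom q hq).2 with rfl | rfl
    · exact absurd (by rw [hse, d2_one, map_one]) hnc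
    · exact Or.inl hse
    · exact Or.inr (by rw [hse, zS, neg_d2, neg_neg])
    · exact absurd (by rw [hse, ← spNeg_eq, ← mul_one (CfsgLib.Geom.spNeg 2 F), prj_neg, map_one]) hnc
  -- reduce to the centralizer of `z`
  have main : ∀ B : Sp4, (∀ g ∈ S0 Q, B * g * B⁻¹ ∈ S0 Q) → B * zS F = zS F * B →
      ∃ c ∈ Subgroup.normalizer ((Q : Subgroup SL(2, F)) : Set SL(2, F)),
        ∃ t ∈ SP Q, prj B = prj (d2 c c) * t := by
    intro B hB hBz
    obtain ⟨a, b, rfl⟩ := exists_d2_of_commute hodd hBz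
    haveI : Finite ((Q : Subgroup SL(2, F)) : Set SL(2, F)) := Set.toFinite _
    have han : a ∈ Subgroup.normalizer ((Q : Subgroup SL(2, F)) : Set SL(2, F)) :=
      Subgroup.mem_normalizer_fintype fun q hq => by
        have h1 := hB _ (d2_mem_S0 Q hq (one_mem _))
        rw [d2_conj] at h1
        exact ((d2_mem_S0_iff Q).1 h1).1
    have h1 : d2 (a * 1 * b⁻¹) (b * 1 * a⁻¹) * wS F ∈ S0 Q := by
      rw [← d2_conj_w, d2_one, one_mul]
      exact hB _ (wS_mem_S0 Q)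
    have h2 : b * a⁻¹ ∈ (Q : Subgroup SL(2, F)) := by simpa using ((d2_w_mem_S0_iff Q).1 h1).2
    have h3 : a⁻¹ * b ∈ (Q : Subgroup SL(2, F)) := by
      have := (Subgroup.mem_normalizer_iff''.1 han _).1 h2
      simpa [mul_assoc] using this
    refine ⟨a, han, prj (d2 1 (a⁻¹ * b)), Subgroup.mem_map_of_mem _ (d2_mem_S0 Q (one_mem _) h3), ?_⟩
    rw [← map_mul, d2_mul, mul_one, mul_inv_cancel_left]
  rcases hs' with h | h
  · exact main A hA (mul_inv_eq_iff_eq_mul.1 h)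
  · obtain ⟨c, hc, t, ht, he⟩ := main (A * wS F) (fun g hg => by
      have : A * wS F * g * (A * wS F)⁻¹ = A * (wS F * g * (wS F)⁻¹) * A⁻¹ := by group
      rw [this]
      exact hA _ (mul_mem (mul_mem (wS_mem_S0 Q) hg) (inv_mem (wS_mem_S0 Q)))) (by
      refine mul_inv_eq_iff_eq_mul.1 ?_
      calc A * wS F * zS F * (A * wS F)⁻¹ = A * (wS F * zS F * (wS F)⁻¹) * A⁻¹ := by group
        _ = CfsgLib.Geom.spNeg 2 F * s := by
          rw [zS_w, hs, ← mul_assoc A, Subgroup.mem_center_iff.1 CfsgLib.Geom.spNeg_mem_center A]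
          simp only [mul_assoc]
        _ = zS F := by
          rw [h, ← mul_assoc, spNeg_eq, d2_mul, neg_mul_neg, one_mul, d2_one, one_mul])
    refine ⟨c, hc, t * prj (wS F), mul_mem ht (Subgroup.mem_map_of_mem _ (wS_mem_S0 Q)), ?_⟩
    rw [← mul_assoc, ← he, map_mul, mul_assoc, ← map_mul, wS_sq, map_one, mul_one]
    rfl

/-- `c ↦ (c, c)` into `PSp_4`. -/
def dd : SL(2, F) →* Gp where
  toFun c := prj (d2 c c)
  map_one' := by rw [d2_one, map_one]
  map_mul' a b := by rw [← map_mul, d2_mul]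

theorem dd_mem_normalizer {c : SL(2, F)}
    (hc : c ∈ Subgroup.normalizer ((Q : Subgroup SL(2, F)) : Set SL(2, F))) :
    prj (d2 c c) ∈ Subgroup.normalizer (SP Q : Set Gp) := by
  haveI : Finite ((SP Q : Subgroup Gp) : Set Gp) := Set.toFinite _
  refine Subgroup.mem_normalizer_fintype fun x hx => ?_
  obtain ⟨g, ⟨a, ha, b, hb, rfl | rfl⟩, rfl⟩ := hx <;>
    (rw [← map_inv, ← map_mul, ← map_mul]; refine Subgroup.mem_map_of_mem _ ?_)
  · rw [d2_conj]
    exact d2_mem_S0 Q ((hc a).1 ha) ((hc b).1 hb)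
  · rw [d2_conj_w]
    exact (d2_w_mem_S0_iff Q).2 ⟨(hc a).1 ha, (hc b).1 hb⟩

theorem not_two_dvd_index : ¬ 2 ∣ (SP Q).index := by
  haveI : Fact (Nat.Prime 2) := ⟨Nat.prime_two⟩
  refine CfsgLib.Fusion.not_dvd_index_of_pElements (isPGroup_SP hodd Q) fun x hx k hk => ?_
  obtain ⟨c, hc, s, hs, rfl⟩ := normalizer_cases hodd Q hx
  have hy := dd_mem_normalizer hodd Q hc
  set y := prj (d2 c c) with hydef
  have hpow : ∀ n : ℕ, ∃ t ∈ SP Q, (y * s) ^ n = y ^ n * t := by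
    intro n
    induction n with
    | zero => exact ⟨1, one_mem _, by simp⟩
    | succ n ih =>
      obtain ⟨t, ht, e⟩ := ih
      refine ⟨y⁻¹ * t * y * s,
        mul_mem ((Subgroup.mem_normalizer_iff''.1 hy t).1 ht) hs, ?_⟩
      rw [pow_succ, e, pow_succ]
      group
  obtain ⟨t, ht, e⟩ := hpow (2 ^ k)
  rw [hk] at e
  have h1 : y ^ 2 ^ k ∈ SP Q := by rw [eq_inv_of_mul_eq_one_left e.symm]; exact inv_mem ht
  rw [hydef, show prj (d2 c c) = dd c from rfl, ← map_pow] at h1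
  obtain ⟨h2, -⟩ := (d2_mem_S0_iff Q).1 (mem_S0_of_prj hodd Q h1)
  obtain ⟨l, hl⟩ := Q.isPGroup' ⟨_, h2⟩
  have hc2 : c ^ 2 ^ (k + l) = 1 := by
    rw [pow_add, pow_mul]; exact congrArg Subtype.val hl
  have hcQ : c ∈ (Q : Subgroup SL(2, F)) := by
    refine (IsPGroup.inf_normalizer_sylow (G := SL(2, F)) (p := 2) (P := Subgroup.zpowers c) ?_ Q).le
      ⟨Subgroup.mem_zpowers _, hc⟩ |>.2
    obtain ⟨m, -, hm⟩ := (Nat.dvd_prime_pow Nat.prime_two).1 (orderOf_dvd_of_pow_eq_one hc2)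
    exact IsPGroup.of_card (n := m) (by rw [Nat.card_zpowers, hm])
  exact mul_mem (Subgroup.mem_map_of_mem _ (d2_mem_S0 Q hcQ hcQ)) hs

end CfsgLib.Invol.SpFour
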