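import Cfsg.Agent.Lib.StructB.FrobSubgroupCount
import Cfsg.Agent.Lib.ClassK.Kulakov
import Mathlib

/-!
# Subgroups of prime power order, counted modulo `p²`

The count in a group agrees modulo `p²` with the count in a Sylow `p`-subgroup.
-/

set_option autoImplicit false

namespace CfsgLib.Invol.SubgroupCountSq

open MulAction Subgroup
open CfsgLib.ClassK

variable {G : Type*} [Group G] [Finite G] {p : ℕ} [hp : Fact p.Prime]

omit hp in
/-- An invariant function on a set with no fixed points has sum divisible by `p`. -/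
theorem dvd_sum_of_invariant (hp : p.Prime) {A Y : Type*} [Group A] [Finite A] (hA : IsPGroup p A)
    [MulAction A Y] [Fintype Y] (hfix : ∀ y : Y, ∃ a : A, a • y ≠ y) (f : Y → ℕ)
    (hf : ∀ (a : A) (y : Y), f (a • y) = f y) : p ∣ ∑ y, f y := by
  classical
  haveI : Fact p.Prime := ⟨hp⟩
  have h := Finset.sum_comp (s := (Finset.univ : Finset Y)) (fun v : ℕ => v) f
  rw [h]
  refine Finset.dvd_sum fun v _ => ?_
  rw [smul_eq_mul]
  refine dvd_mul_of_dvd_left ?_ v
  let S : SubMulAction A Y :=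
    { carrier := {y | f y = v}
      smul_mem' := fun a y (hy : f y = v) => show f (a • y) = v by rw [hf, hy] }
  have h1 := hA.card_modEq_card_fixedPoints S
  have h2 : Nat.card (fixedPoints A S) = 0 := by
    haveI : IsEmpty (fixedPoints A S) := ⟨fun ⟨y, hy⟩ => by
      obtain ⟨a, ha⟩ := hfix (y : Y)
      exact ha (congrArg Subtype.val (hy a))⟩
    exact Nat.card_of_isEmpty
  have h3 : Nat.card S = (Finset.univ.filter fun y => f y = v).card := by
    rw [← Fintype.card_subtype, ← Nat.card_eq_fintype_card]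
    rfl
  rw [h2] at h1
  rw [← h3]
  exact Nat.modEq_zero_iff_dvd.1 h1

omit hp in
/-- If a `p`-group has no fixed point, only orbits of size `p` count modulo `p²`. -/
theorem sq_dvd_card_of_orbits (hp : p.Prime) {A X : Type*} [Group A] [Finite A] (hA : IsPGroup p A)
    [MulAction A X] [Finite X] (hfix : ∀ x : X, ∃ a : A, a • x ≠ x)
    (hp1 : ∀ M : Subgroup A, M.index = p → p ^ 2 ∣ Nat.card {x : X // stabilizer A x = M}) :
    p ^ 2 ∣ Nat.card X := by
  classical
  haveI : Fact p.Prime := ⟨hp⟩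
  let B : SubMulAction A X :=
    { carrier := {x | (stabilizer A x).index ≠ p}
      smul_mem' := fun a x (hx : (stabilizer A x).index ≠ p) =>
        show (stabilizer A (a • x)).index ≠ p by
          rw [index_stabilizer, orbit_smul, ← index_stabilizer]; exact hx }
  have hB : p ^ 2 ∣ Nat.card B := by
    rw [Nat.card_congr (MulAction.selfEquivSigmaOrbitsQuotientStabilizer A B)]
    have := Fintype.ofFinite (Quotient (MulAction.orbitRel A B))
    rw [Nat.card_sigma]
    refine Finset.dvd_sum fun ω _ => ?_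
    have hK' : stabilizer A ω.out = stabilizer A (ω.out : X) := SubMulAction.stabilizer_of_subMul ω.out
    rw [hK']
    obtain ⟨j, hj⟩ := hA.index (stabilizer A (ω.out : X))
    have hj1 : j ≠ 1 := fun e => ω.out.2 (by rw [hj, e, pow_one])
    have hj0 : j ≠ 0 := fun e => by
      rw [e, pow_zero, index_eq_one] at hj
      obtain ⟨a, ha⟩ := hfix (ω.out : X)
      exact ha (mem_stabilizer_iff.1 (hj ▸ mem_top a))
    show p ^ 2 ∣ (stabilizer A (ω.out : X)).index
    rw [hj]
    exact pow_dvd_pow p (by omega)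
  have hsplit : Nat.card X = Nat.card {x : X // (stabilizer A x).index = p} + Nat.card B := by
    rw [← Nat.card_congr (Equiv.sumCompl (fun x : X => (stabilizer A x).index = p)), Nat.card_sum]
    rfl
  have hA1 : p ^ 2 ∣ Nat.card {x : X // (stabilizer A x).index = p} := by
    haveI := Fintype.ofFinite {M : Subgroup A // M.index = p}
    let e : {x : X // (stabilizer A x).index = p} ≃
        Σ M : {M : Subgroup A // M.index = p}, {x : X // stabilizer A x = M.1} :=
      { toFun := fun x => ⟨⟨_, x.2⟩, x.1, rfl⟩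
        invFun := fun v => ⟨v.2.1, by rw [v.2.2]; exact v.1.2⟩
        left_inv := fun x => rfl
        right_inv := by
          rintro ⟨⟨M, hM⟩, x, hx⟩
          dsimp only at hx
          subst hx
          rfl }
    rw [Nat.card_congr e, Nat.card_sigma]
    exact Finset.dvd_sum fun M _ => hp1 M.1 M.2
  rw [hsplit]
  exact dvd_add hA1 hB

/-- Conjugate of a subgroup. -/
def cj (g : G) (H : Subgroup G) : Subgroup G := H.map (MulAut.conj g).toMonoidHom

omit [Finite G] in
theorem mem_cj {g x : G} {H : Subgroup G} : x ∈ cj g H ↔ g⁻¹ * x * g ∈ H := by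
  constructor
  · rintro ⟨y, hy, rfl⟩
    simpa [mul_assoc] using hy
  · intro h
    exact ⟨_, h, by simp [mul_assoc]⟩

omit [Finite G] in
theorem cj_one (H : Subgroup G) : cj 1 H = H := by
  ext x; simp [mem_cj]

omit [Finite G] in
theorem cj_mul (a b : G) (H : Subgroup G) : cj (a * b) H = cj a (cj b H) := by
  ext x; simp [mem_cj, mul_assoc]

omit [Finite G] in
theorem cj_inv_cj (g : G) (H : Subgroup G) : cj g⁻¹ (cj g H) = H := by
  rw [← cj_mul, inv_mul_cancel, cj_one]

omit [Finite G] in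
theorem cj_cj_inv (g : G) (H : Subgroup G) : cj g (cj g⁻¹ H) = H := by
  rw [← cj_mul, mul_inv_cancel, cj_one]

omit [Finite G] in
theorem card_cj (g : G) (H : Subgroup G) : Nat.card (cj g H) = Nat.card H :=
  card_map_of_injective (MulAut.conj g).injective

omit [Finite G] in
theorem cj_le_cj {g : G} {H K : Subgroup G} : cj g H ≤ cj g K ↔ H ≤ K := by
  refine ⟨fun h x hx => ?_, fun h => map_mono h⟩
  have := h (mem_cj.2 (show g⁻¹ * (g * x * g⁻¹) * g ∈ H by simpa [mul_assoc] using hx))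
  simpa [mem_cj, mul_assoc] using this

omit [Finite G] in
theorem cj_eq_self_of_mem {g : G} {H : Subgroup G} (hg : g ∈ H) : cj g H = H := by
  ext x
  rw [mem_cj]
  refine ⟨fun h => ?_, fun h => H.mul_mem (H.mul_mem (H.inv_mem hg) h) hg⟩
  simpa [mul_assoc] using H.mul_mem (H.mul_mem hg h) (H.inv_mem hg)

/-- Subgroups of order `p ^ a` inside `K` normalised by `R`. -/
abbrev Stable (p a : ℕ) (R K : Subgroup G) : Type _ :=
  {H : Subgroup G // Nat.card H = p ^ a ∧ H ≤ K ∧ ∀ r ∈ R, cj r H = H}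

/-- In a larger `p`-group the stable subgroups number one modulo `p`. -/
theorem card_stable_modEq_one {a : ℕ} {R K : Subgroup G} (hR : IsPGroup p R) (hRK : R ≤ K)
    (hdvd : p ^ a ∣ Nat.card K) : Nat.card (Stable p a R K) ≡ 1 [MOD p] := by
  classical
  let X := {H : Subgroup G // Nat.card H = p ^ a ∧ H ≤ K}
  letI act : MulAction R X :=
    { smul := fun r H => ⟨cj (r : G) H.1, by rw [card_cj]; exact H.2.1,
        (cj_le_cj.2 H.2.2).trans (cj_eq_self_of_mem (hRK r.2)).le⟩
      one_smul := fun H => Subtype.ext (cj_one _)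
      mul_smul := fun a b H => Subtype.ext (cj_mul _ _ _) }
  have h := hR.card_modEq_card_fixedPoints X
  have hfix : Nat.card (fixedPoints R X) = Nat.card (Stable p a R K) := Nat.card_congr
    { toFun := fun H => ⟨H.1.1, H.1.2.1, H.1.2.2, fun r hr => congrArg Subtype.val (H.2 ⟨r, hr⟩)⟩
      invFun := fun H => ⟨⟨H.1, H.2.1, H.2.2.1⟩, fun r => Subtype.ext (H.2.2.2 r r.2)⟩
      left_inv := fun H => rfl
      right_inv := fun H => rfl }
  have hX : Nat.card X ≡ 1 [MOD p] := by
    show Nat.card {H : Subgroup G // Nat.card H = p ^ a ∧ H ≤ K} ≡ 1 [MOD p]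
    rw [SubCount.num_subgroup]
    exact CfsgLib.StructB.card_subgroups_primePow_modEq_one p a hp.out hdvd
  rw [hfix] at h
  exact h.symm.trans hX

/-- The subgroups of order `p ^ a` outside a Sylow subgroup `P`, of orbit length `p`. -/
theorem sq_dvd_card_stable_outside {a N : ℕ} {P R : Subgroup G} (hP : Nat.card P = p ^ N)
    (hmax : ∀ K : Subgroup G, IsPGroup p K → Nat.card K ≤ p ^ N) (hRP : R ≤ P)
    (hRcard : Nat.card R * p = p ^ N) (hRn : ∀ x ∈ P, cj x R = R) (ha : a < N) :
    p ^ 2 ∣ Nat.card {H : Subgroup G // Nat.card H = p ^ a ∧ ¬ H ≤ P ∧ ∀ r ∈ R, cj r H = H} := by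
  classical
  haveI : Finite (Subgroup G) := inferInstance
  have hPp : IsPGroup p P := IsPGroup.of_card hP
  have hRp : IsPGroup p R := hPp.to_le hRP
  have hRc : Nat.card R = p ^ (N - 1) := by
    refine Nat.eq_of_mul_eq_mul_right hp.out.pos ?_
    rw [hRcard, ← pow_succ]; congr 1; omega
  let Y := {Q : Subgroup G // Nat.card Q = p ^ N ∧ R ≤ Q ∧ Q ≠ P}
  haveI : Fintype Y := Fintype.ofFinite Y
  let T := {H : Subgroup G // Nat.card H = p ^ a ∧ ¬ H ≤ P ∧ ∀ r ∈ R, cj r H = H}
  let C : Y → Type _ := fun Q =>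
    {H : Subgroup G // Nat.card H = p ^ a ∧ (H ≤ Q.1 ∧ ¬ H ≤ R) ∧ ∀ r ∈ R, cj r H = H}
  -- `R` is the intersection of `P` with any other member of `Y`
  have hinf : ∀ Q : Y, ∀ H : Subgroup G, H ≤ Q.1 → H ≤ P → H ≤ R := by
    intro Q H h1 h2
    have hle : R ≤ P ⊓ Q.1 := le_inf hRP Q.2.2.1
    have hlt : Nat.card (P ⊓ Q.1 : Subgroup G) ≠ p ^ N := fun e => Q.2.2.2 (by
      have e1 := eq_of_le_of_card_ge (inf_le_left : P ⊓ Q.1 ≤ P) (by rw [e, hP])
      have e2 := eq_of_le_of_card_ge (inf_le_right : P ⊓ Q.1 ≤ Q.1) (by rw [e, Q.2.1])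
      exact e2.symm.trans e1)
    obtain ⟨j, hj, hjc⟩ := (Nat.dvd_prime_pow hp.out).1
      (hP ▸ card_dvd_of_le (inf_le_left : P ⊓ Q.1 ≤ P))
    have hjN : j ≠ N := fun e => hlt (e ▸ hjc)
    have heq : R = P ⊓ Q.1 := eq_of_le_of_card_ge hle (by
      rw [hjc, hRc]; exact Nat.pow_le_pow_right hp.out.pos (by omega))
    exact heq ▸ le_inf h2 h1
  -- the group generated by `H` and `R`
  have hsup : ∀ H : T, Nat.card (H.1 ⊔ R : Subgroup G) = p ^ N ∧ (H.1 ⊔ R) ≠ P := by
    rintro ⟨H, hc, hn, hs⟩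
    have hle : R ≤ normalizer (H : Set G) := fun r hr => mem_normalizer_iff_map_conj_eq.2 (hs r hr)
    have hpg : IsPGroup p (H ⊔ R : Subgroup G) :=
      (IsPGroup.of_card hc).to_sup_of_normal_left' hRp hle
    refine ⟨le_antisymm (hmax _ hpg) ?_, fun e => hn (e ▸ le_sup_left)⟩
    obtain ⟨j, hj⟩ := IsPGroup.iff_card.1 hpg
    have hlt : Nat.card R < Nat.card (H ⊔ R : Subgroup G) := by
      refine lt_of_le_of_ne (card_le_of_le le_sup_right) fun e => hn ?_
      exact (le_sup_left.trans (eq_of_le_of_card_ge le_sup_right e.ge).ge).trans hRP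
    rw [hj, hRc, Nat.pow_lt_pow_iff_right hp.out.one_lt] at hlt
    rw [hj]
    exact Nat.pow_le_pow_right hp.out.pos (by omega)
  let e : T ≃ Σ Q : Y, C Q :=
    { toFun := fun H => ⟨⟨H.1 ⊔ R, (hsup H).1, le_sup_right, (hsup H).2⟩,
        H.1, H.2.1, ⟨le_sup_left, fun h => H.2.2.1 (h.trans hRP)⟩, H.2.2.2⟩
      invFun := fun v => ⟨v.2.1, v.2.2.1,
        fun h => v.2.2.2.1.2 (hinf v.1 _ v.2.2.2.1.1 h), v.2.2.2.2⟩
      left_inv := fun H => rfl
      right_inv := by
        rintro ⟨⟨Q, hQc, hQR, hQP⟩, H, hc, ⟨hle, hn⟩, hs⟩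
        have hn' : ¬ H ≤ P := fun h => hn (hinf ⟨Q, hQc, hQR, hQP⟩ _ hle h)
        have hQ : Q = H ⊔ R :=
          (eq_of_le_of_card_ge (sup_le hle hQR) (by rw [(hsup ⟨H, hc, hn', hs⟩).1, hQc])).symm
        subst hQ
        rfl }
  haveI : ∀ Q : Y, Finite (C Q) := fun Q => Subtype.finite
  show p ^ 2 ∣ Nat.card T
  rw [Nat.card_congr e, Nat.card_sigma]
  have hdvd : ∀ Q : Y, p ∣ Nat.card (C Q) := by
    intro Q
    have h1 := card_stable_modEq_one (a := a) hRp Q.2.2.1 (by rw [Q.2.1]; exact pow_dvd_pow p ha.le)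
    have h2 := card_stable_modEq_one (a := a) hRp (le_refl R)
      (by rw [hRc]; exact pow_dvd_pow p (by omega))
    have h3 : Nat.card (Stable p a R Q.1) = Nat.card (Stable p a R R) + Nat.card (C Q) := by
      rw [← Nat.card_congr (Equiv.sumCompl (fun H : Stable p a R Q.1 => H.1 ≤ R)), Nat.card_sum]
      congr 1
      · exact Nat.card_congr
          { toFun := fun H => ⟨H.1.1, H.1.2.1, H.2, H.1.2.2.2⟩
            invFun := fun H => ⟨⟨H.1, H.2.1, H.2.2.1.trans Q.2.2.1, H.2.2.2⟩, H.2.2.1⟩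
            left_inv := fun H => rfl
            right_inv := fun H => rfl }
      · exact Nat.card_congr
          { toFun := fun H => ⟨H.1.1, H.1.2.1, ⟨H.1.2.2.1, H.2⟩, H.1.2.2.2⟩
            invFun := fun H => ⟨⟨H.1, H.2.1, H.2.2.1.1, H.2.2.2⟩, H.2.2.1.2⟩
            left_inv := fun H => rfl
            right_inv := fun H => rfl }
    rw [h3] at h1
    have h4 : Nat.card (Stable p a R R) + Nat.card (C Q) ≡ Nat.card (Stable p a R R) + 0 [MOD p] :=
      h1.trans h2.symm
    exact Nat.modEq_zero_iff_dvd.1 (Nat.ModEq.add_left_cancel' _ h4)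
  rw [show ∑ Q : Y, Nat.card (C Q) = p * ∑ Q : Y, Nat.card (C Q) / p from by
    rw [Finset.mul_sum]; exact Finset.sum_congr rfl fun Q _ => (Nat.mul_div_cancel' (hdvd Q)).symm,
    sq]
  refine Nat.mul_dvd_mul_left p ?_
  letI act : MulAction P Y :=
    { smul := fun x Q => ⟨cj (x : G) Q.1, by rw [card_cj]; exact Q.2.1,
        (hRn x x.2).ge.trans (cj_le_cj.2 Q.2.2.1), fun h => Q.2.2.2 (by
          rw [← cj_inv_cj (x : G) Q.1, h]; exact cj_eq_self_of_mem (inv_mem x.2))⟩
      one_smul := fun Q => Subtype.ext (cj_one _)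
      mul_smul := fun a b Q => Subtype.ext (cj_mul _ _ _) }
  refine dvd_sum_of_invariant hp.out hPp (A := P) (Y := Y) (fun Q => ?_) _ (fun x Q => ?_)
  · by_contra hall
    push_neg at hall
    have hle : P ≤ normalizer (Q.1 : Set G) := fun x hx =>
      mem_normalizer_iff_map_conj_eq.2 (congrArg Subtype.val (hall ⟨x, hx⟩))
    have hpg : IsPGroup p (Q.1 ⊔ P : Subgroup G) :=
      (IsPGroup.of_card Q.2.1).to_sup_of_normal_left' hPp hle
    have e1 := eq_of_le_of_card_ge (le_sup_left : Q.1 ≤ Q.1 ⊔ P) (by rw [Q.2.1]; exact hmax _ hpg)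
    have e2 := eq_of_le_of_card_ge (le_sup_right : P ≤ Q.1 ⊔ P) (by rw [hP]; exact hmax _ hpg)
    exact Q.2.2.2 (e1.trans e2.symm)
  · congr 1
    have hcs : ∀ g ∈ P, ∀ H : Subgroup G, (∀ r ∈ R, cj r H = H) → ∀ r ∈ R, cj r (cj g H) = cj g H := by
      intro g hg H hH r hr
      have hr' : g⁻¹ * r * g ∈ R := mem_cj.1 ((hRn g hg).ge hr)
      rw [← cj_mul, show r * g = g * (g⁻¹ * r * g) by group, cj_mul, hH _ hr']
    refine (Nat.card_congr
      { toFun := fun H => ⟨cj (x : G) H.1, by rw [card_cj]; exact H.2.1,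
          ⟨cj_le_cj.2 H.2.2.1.1, fun h => H.2.2.1.2 (cj_le_cj.1 (h.trans (hRn x x.2).ge))⟩,
          hcs _ x.2 _ H.2.2.2⟩
        invFun := fun H => ⟨cj (x : G)⁻¹ H.1, by rw [card_cj]; exact H.2.1,
          ⟨(cj_le_cj.2 H.2.2.1.1).trans (cj_inv_cj _ _).le, fun h => H.2.2.1.2 (by
            have := (cj_le_cj (g := (x : G))).2 h
            rw [cj_cj_inv, hRn x x.2] at this
            exact this)⟩,
          hcs _ (inv_mem x.2) _ H.2.2.2⟩
        left_inv := fun H => Subtype.ext (cj_inv_cj _ _)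
        right_inv := fun H => Subtype.ext (cj_cj_inv _ _) }).symm

/-- The count of subgroups of order `p ^ a` agrees modulo `p²` with that of a Sylow subgroup. -/
theorem num_modEq_sylow {a : ℕ} (P : Sylow p G) {N : ℕ} (hN : Nat.card P = p ^ N) (ha : a < N) :
    Nat.card {H : Subgroup G // Nat.card H = p ^ a} ≡ SubCount.num p a P [MOD p ^ 2] := by
  classical
  have hmax : ∀ K : Subgroup G, IsPGroup p K → Nat.card K ≤ p ^ N := fun K hK => by
    obtain ⟨Q, hQ⟩ := hK.exists_le_sylow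
    rw [← hN, P.card_eq_multiplicity, ← Q.card_eq_multiplicity]
    exact card_le_of_le hQ
  let X := {H : Subgroup G // Nat.card H = p ^ a ∧ ¬ H ≤ (P : Subgroup G)}
  have hsplit : Nat.card {H : Subgroup G // Nat.card H = p ^ a} =
      SubCount.num p a P + Nat.card X := by
    rw [← SubCount.num_subgroup a (P : Subgroup G),
      ← Nat.card_congr (Equiv.sumCompl (fun H : {H : Subgroup G // Nat.card H = p ^ a} =>
        H.1 ≤ (P : Subgroup G))), Nat.card_sum]
    congr 1
    · exact Nat.card_congr (Equiv.subtypeSubtypeEquivSubtypeInter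
        (fun H : Subgroup G => Nat.card H = p ^ a) (fun H => H ≤ (P : Subgroup G)))
    · exact Nat.card_congr (Equiv.subtypeSubtypeEquivSubtypeInter
        (fun H : Subgroup G => Nat.card H = p ^ a) (fun H => ¬ H ≤ (P : Subgroup G)))
  rw [hsplit]
  suffices hX : p ^ 2 ∣ Nat.card X by
    calc SubCount.num p a P + Nat.card X ≡ SubCount.num p a P + 0 [MOD p ^ 2] :=
          (Nat.modEq_zero_iff_dvd.2 hX).add_left _
      _ = SubCount.num p a P := Nat.add_zero _
  letI act : MulAction P X :=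
    { smul := fun x H => ⟨cj (x : G) H.1, by rw [card_cj]; exact H.2.1, fun h => H.2.2 (by
        have := (cj_le_cj (g := (x : G)⁻¹)).2 h
        rw [cj_inv_cj, cj_eq_self_of_mem (inv_mem x.2)] at this
        exact this)⟩
      one_smul := fun H => Subtype.ext (cj_one _)
      mul_smul := fun a b H => Subtype.ext (cj_mul _ _ _) }
  have hnofix : ∀ H : X, ∃ x : P, x • H ≠ H := by
    intro H
    by_contra hall
    push_neg at hall
    have hle : (P : Subgroup G) ≤ normalizer (H.1 : Set G) := fun x hx =>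
      mem_normalizer_iff_map_conj_eq.2 (congrArg Subtype.val (hall ⟨x, hx⟩))
    have hpg : IsPGroup p (H.1 ⊔ P : Subgroup G) :=
      (IsPGroup.of_card H.2.1).to_sup_of_normal_left' P.isPGroup' hle
    exact H.2.2 (le_sup_left.trans
      (eq_of_le_of_card_ge (le_sup_right : (P : Subgroup G) ≤ H.1 ⊔ P)
        (by rw [show Nat.card (P : Subgroup G) = p ^ N from hN]; exact hmax _ hpg)).ge)
  refine sq_dvd_card_of_orbits hp.out P.isPGroup' hnofix fun M hM => ?_
  haveI : Group.IsNilpotent P := P.isPGroup'.isNilpotent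
  have hMn : M.Normal := Subgroup.NormalizerCondition.normal_of_coatom M
    Group.normalizerCondition_of_isNilpotent (SubCount.isCoatom_of_index hM)
  have hRcard : Nat.card (M.map (P : Subgroup G).subtype) * p = p ^ N := by
    rw [card_map_of_injective (P : Subgroup G).subtype_injective]
    have h1 := card_mul_index M
    rw [hM] at h1
    exact h1.trans hN
  have hRn : ∀ x ∈ (P : Subgroup G), cj x (M.map (P : Subgroup G).subtype) =
      M.map (P : Subgroup G).subtype := by
    intro x hx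
    ext y
    rw [mem_cj]
    constructor
    · rintro ⟨m, hm, e⟩
      refine ⟨⟨x, hx⟩ * m * ⟨x, hx⟩⁻¹, hMn.conj_mem m hm _, ?_⟩
      simp only [Subgroup.coe_subtype] at e
      simp [e, mul_assoc]
    · rintro ⟨m, hm, rfl⟩
      exact ⟨⟨x, hx⟩⁻¹ * m * ⟨x, hx⟩, hMn.conj_mem' m hm _, by simp [mul_assoc]⟩
  have hkey := sq_dvd_card_stable_outside (a := a) (R := M.map (P : Subgroup G).subtype) hN hmax
    (map_subtype_le M) hRcard hRn ha
  have hcard : Nat.card {H : X // stabilizer P H = M} = Nat.card {H : Subgroup G //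
      Nat.card H = p ^ a ∧ ¬ H ≤ (P : Subgroup G) ∧
        ∀ r ∈ M.map (P : Subgroup G).subtype, cj r H = H} := Nat.card_congr
    { toFun := fun H => ⟨H.1.1, H.1.2.1, H.1.2.2, by
        rintro r ⟨m, hm, rfl⟩
        exact congrArg Subtype.val (mem_stabilizer_iff.1 (H.2.ge hm))⟩
      invFun := fun H => ⟨⟨H.1, H.2.1, H.2.2.1⟩, by
        have hle : M ≤ stabilizer P (⟨H.1, H.2.1, H.2.2.1⟩ : X) := fun m hm =>
          mem_stabilizer_iff.2 (Subtype.ext (H.2.2.2 m ⟨m, hm, rfl⟩))
        have hco : IsCoatom M := SubCount.isCoatom_of_index hM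
        rcases eq_or_lt_of_le hle with h | h
        · exact h.symm
        · obtain ⟨x, hx⟩ := hnofix ⟨H.1, H.2.1, H.2.2.1⟩
          exact absurd (mem_stabilizer_iff.1 ((hco.2 _ h).ge (mem_top x))) hx⟩
      left_inv := fun H => rfl
      right_inv := fun H => rfl }
  rw [hcard]
  exact hkey

/-- The number of subgroups of order `p ^ a` is `1` or `1 + p` modulo `p²`, if `p ^ (a+1) ∣ |G|`. -/
theorem num_modEq (a : ℕ) (hdvd : p ^ (a + 1) ∣ Nat.card G) :
    Nat.card {H : Subgroup G // Nat.card H = p ^ a} ≡ 1 [MOD p ^ 2] ∨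
      Nat.card {H : Subgroup G // Nat.card H = p ^ a} ≡ 1 + p [MOD p ^ 2] := by
  classical
  obtain ⟨K, hK⟩ := Sylow.exists_subgroup_card_pow_prime p hdvd
  obtain ⟨P, hKP⟩ := (IsPGroup.of_card hK).exists_le_sylow
  obtain ⟨N, hN⟩ := IsPGroup.iff_card.1 P.isPGroup'
  have haN : a < N := by
    have := card_le_of_le hKP
    rw [hK, hN, Nat.pow_le_pow_iff_right hp.out.one_lt] at this
    omega
  have h := num_modEq_sylow P hN haN
  rcases Nat.eq_zero_or_pos a with rfl | ha1
  · refine Or.inl (SubCount.modEq_of_eq ?_)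
    refine Nat.card_eq_one_iff_exists.2 ⟨⟨⊥, by simp⟩, fun H => Subtype.ext ?_⟩
    exact eq_bot_of_card_eq H.1 (by simpa using H.2)
  by_cases hc : IsCyclic P
  · refine Or.inl (h.trans (SubCount.modEq_of_eq ?_))
    obtain ⟨L, hL⟩ := Sylow.exists_subgroup_card_pow_prime (G := P) p
      (hN ▸ pow_dvd_pow p haN.le : p ^ a ∣ Nat.card P)
    exact Nat.card_eq_one_iff_exists.2 ⟨⟨L, hL⟩, fun H => Subtype.ext
      (Kulakov.subgroup_eq_of_card (H.2.trans hL.symm))⟩
  · obtain ⟨k1, k2⟩ := Kulakov.num_modEq N hN hc a ha1 haN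
    by_cases hq : p = 2 ∧ (commutator P).index = 4 ∧ a + 2 ≤ N
    · exact Or.inl (h.trans (k1 hq))
    · exact Or.inr (h.trans (k2 hq))

end CfsgLib.Invol.SubgroupCountSq
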