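import Cfsg.Agent.Lib.Transfer.PPrimeAut
import Cfsg.Agent.Lib.StructC.QuatPair
import Mathlib

/-!
Transfer homomorphisms computed with arbitrary sections: transitivity and orbit decomposition.
-/

set_option autoImplicit false
set_option linter.style.haveILetI false

open Subgroup

namespace CfsgLib.Invol

variable {G : Type*} [Group G] [Finite G] {A : Type*} [CommGroup A]

omit [Finite G] in
/-- The factor `t(gq)⁻¹ g t(q)` of the transfer. -/
theorem sect_mem {R : Subgroup G} (t : G ⧸ R → G) (ht : ∀ q, (QuotientGroup.mk (t q) : G ⧸ R) = q)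
    (g : G) (q : G ⧸ R) : (t (g • q))⁻¹ * g * t q ∈ R := by
  rw [mul_assoc, ← QuotientGroup.eq, ht]
  conv_lhs => rw [← ht q]
  rfl

/-- The transfer computed with a section. -/
theorem transfer_eq_prod_sect {R : Subgroup G} (φ : R →* A) (t : G ⧸ R → G)
    (ht : ∀ q, (QuotientGroup.mk (t q) : G ⧸ R) = q) (g : G) [Fintype (G ⧸ R)] :
    MonoidHom.transfer φ g = ∏ q : G ⧸ R, φ ⟨(t (g • q))⁻¹ * g * t q, sect_mem t ht g q⟩ := by
  classical
  let T : R.LeftTransversal := ⟨Set.range t, isComplement_range_left ht⟩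
  have hT : ∀ q, ((T.2.leftQuotientEquiv q : T.1) : G) = t q :=
    fun q => IsComplement.leftQuotientEquiv_apply ht q
  rw [MonoidHom.transfer_def φ T g]
  unfold Subgroup.leftTransversals.diff
  dsimp only
  rw [Subsingleton.elim R.fintypeQuotientOfFiniteIndex (‹Fintype (G ⧸ R)› : Fintype (G ⧸ R))]
  refine Fintype.prod_equiv (MulAction.toPerm g : Equiv.Perm (G ⧸ R)).symm _ _ fun q => ?_
  congr 1
  refine Subtype.ext ?_
  simp only [smul_apply_eq_smul_apply_inv_smul, smul_eq_mul, hT, MulAction.toPerm_symm_apply,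
    smul_inv_smul, mul_assoc]

/-- A global homomorphism restricted to `R` transfers to its power. -/
theorem transfer_restrict {R : Subgroup G} (F : G →* A) (g : G) :
    MonoidHom.transfer (F.comp R.subtype) g = F g ^ R.index := by
  classical
  haveI := Fintype.ofFinite (G ⧸ R)
  rw [transfer_eq_prod_sect _ Quotient.out (fun q => q.out_eq') g]
  simp only [MonoidHom.comp_apply, Subgroup.coe_subtype, map_mul, map_inv]
  rw [Finset.prod_mul_distrib, Finset.prod_mul_distrib, Finset.prod_inv_distrib,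
    Fintype.prod_equiv (MulAction.toPerm g : Equiv.Perm (G ⧸ R)) (fun q => F (Quotient.out (g • q)))
      (fun q => F (Quotient.out q)) (fun q => rfl),
    Finset.prod_const, Finset.card_univ, ← Nat.card_eq_fintype_card, ← Subgroup.index_eq_card,
    inv_mul_eq_div, div_mul_eq_mul_div, mul_div_assoc]
  simp

theorem transfer_div {R : Subgroup G} (φ ψ : R →* A) (g : G) :
    MonoidHom.transfer (φ / ψ) g = MonoidHom.transfer φ g / MonoidHom.transfer ψ g := by
  classical
  haveI := Fintype.ofFinite (G ⧸ R)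
  simp only [transfer_eq_prod_sect _ Quotient.out (fun q => q.out_eq') g, MonoidHom.div_apply,
    Finset.prod_div_distrib]

theorem map_transfer {R : Subgroup G} {B : Type*} [CommGroup B] (lam : A →* B) (φ : R →* A) (g : G) :
    MonoidHom.transfer (lam.comp φ) g = lam (MonoidHom.transfer φ g) := by
  classical
  haveI := Fintype.ofFinite (G ⧸ R)
  simp only [transfer_eq_prod_sect _ Quotient.out (fun q => q.out_eq') g, map_prod,
    MonoidHom.comp_apply]

/-- `φ` seen on `R` inside `U`. -/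
def innerHom {R U : Subgroup G} (φ : R →* A) : R.subgroupOf U →* A :=
  φ.comp (MonoidHom.mk' (fun x => ⟨((x : U) : G), x.2⟩) (fun _ _ => rfl))

/-- Transitivity of the transfer. -/
theorem transfer_trans {R U : Subgroup G} (hRU : R ≤ U) (φ : R →* A) (g : G) :
    MonoidHom.transfer φ g =
      MonoidHom.transfer (MonoidHom.transfer (innerHom (U := U) φ)) g := by
  classical
  haveI := Fintype.ofFinite (G ⧸ R)
  haveI := Fintype.ofFinite (G ⧸ U)
  haveI := Fintype.ofFinite (U ⧸ R.subgroupOf U)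
  let t : G ⧸ U → G := Quotient.out
  let s : U ⧸ R.subgroupOf U → U := Quotient.out
  have ht : ∀ q, (QuotientGroup.mk (t q) : G ⧸ U) = q := fun q => q.out_eq'
  have hs : ∀ q, (QuotientGroup.mk (s q) : U ⧸ R.subgroupOf U) = q := fun q => q.out_eq'
  let e : (G ⧸ U) × (U ⧸ R.subgroupOf U) → G ⧸ R := fun ab =>
    QuotientGroup.mk (t ab.1 * (s ab.2 : G))
  have he : Function.Bijective e := by
    constructor
    · rintro ⟨a, b⟩ ⟨a', b'⟩ h
      have h1 := QuotientGroup.eq.1 h
      have haa : a = a' := by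
        rw [← ht a, ← ht a']
        refine QuotientGroup.eq.2 ?_
        have h2 := mul_mem (mul_mem (s b).2 (hRU h1)) (inv_mem (s b').2)
        simpa [mul_assoc] using h2
      subst haa
      have hbb : b = b' := by
        rw [← hs b, ← hs b']
        refine QuotientGroup.eq.2 ?_
        rw [mem_subgroupOf]
        simpa [mul_assoc] using h1
      rw [hbb]
    · intro q
      obtain ⟨x, rfl⟩ := QuotientGroup.mk_surjective q
      have hu : (t (QuotientGroup.mk x))⁻¹ * x ∈ U := QuotientGroup.eq.1 (ht _)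
      set u : U := ⟨_, hu⟩
      refine ⟨(QuotientGroup.mk x, QuotientGroup.mk u), ?_⟩
      refine QuotientGroup.eq.2 ?_
      have h1 : (s (QuotientGroup.mk u))⁻¹ * u ∈ R.subgroupOf U := QuotientGroup.eq.1 (hs _)
      rw [mem_subgroupOf] at h1
      simpa [u, mul_assoc] using h1
  let E := Equiv.ofBijective e he
  let T : G ⧸ R → G := fun q => t (E.symm q).1 * (s (E.symm q).2 : G)
  have hT : ∀ q, (QuotientGroup.mk (T q) : G ⧸ R) = q := fun q => E.apply_symm_apply q
  rw [transfer_eq_prod_sect φ T hT g, transfer_eq_prod_sect _ t ht g]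
  rw [← E.prod_comp, Fintype.prod_prod_type]
  refine Finset.prod_congr rfl fun a _ => ?_
  rw [transfer_eq_prod_sect _ s hs]
  refine Finset.prod_congr rfl fun b _ => ?_
  set u : U := ⟨(t (g • a))⁻¹ * g * t a, sect_mem t ht g a⟩ with hu
  have hgE : g • E (a, b) = E (g • a, u • b) := by
    have h2 : (s (u • b))⁻¹ * u * s b ∈ R.subgroupOf U := sect_mem s hs u b
    show (QuotientGroup.mk (g * (t a * (s b : G))) : G ⧸ R) =
      QuotientGroup.mk (t (g • a) * (s (u • b) : G))
    symm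
    rw [QuotientGroup.eq]
    rw [mem_subgroupOf] at h2
    simpa [hu, mul_assoc] using h2
  show φ _ = φ _
  congr 1
  refine Subtype.ext ?_
  show (T (g • E (a, b)))⁻¹ * g * T (E (a, b)) =
    (((s (u • b))⁻¹ * u * s b : U) : G)
  simp only [T, hgE, Equiv.symm_apply_apply, hu, Subgroup.coe_mul, Subgroup.coe_inv]
  group

/-- A nontrivial transfer value comes from a conjugate of a power. -/
theorem exists_of_transfer_ne_one {R : Subgroup G} (φ : R →* A) (g : G)
    (h : MonoidHom.transfer φ g ≠ 1) :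
    ∃ (m : ℕ) (g₀ : G) (hm : g₀⁻¹ * g ^ m * g₀ ∈ R), φ ⟨g₀⁻¹ * g ^ m * g₀, hm⟩ ≠ 1 := by
  classical
  haveI := Fintype.ofFinite (Quotient (MulAction.orbitRel (zpowers g) (G ⧸ R)))
  rw [MonoidHom.transfer_eq_prod_quotient_orbitRel_zpowers_quot] at h
  obtain ⟨q, -, hq⟩ := Finset.exists_ne_one_of_prod_ne_one h
  exact ⟨_, _, _, hq⟩

/-- The transfer on an element of a normal subgroup. -/
theorem transfer_normal {M : Subgroup G} [M.Normal] (χ : M →* A) (y : M) [Fintype (G ⧸ M)]
    (t : G ⧸ M → G) (ht : ∀ q, (QuotientGroup.mk (t q) : G ⧸ M) = q) :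
    MonoidHom.transfer χ (y : G) =
      ∏ q : G ⧸ M, χ ⟨(t q)⁻¹ * y * t q, by
        simpa using (inferInstance : M.Normal).conj_mem (y : G) y.2 (t q)⁻¹⟩ := by
  rw [transfer_eq_prod_sect χ t ht]
  refine Finset.prod_congr rfl fun q _ => ?_
  congr 1
  refine Subtype.ext ?_
  show (t ((y : G) • q))⁻¹ * y * t q = _
  have hfix : (y : G) • q = q := by
    conv_lhs => rw [← ht q]
    show (QuotientGroup.mk ((y : G) * t q) : G ⧸ M) = q
    conv_rhs => rw [← ht q]
    rw [QuotientGroup.eq]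
    have := (inferInstance : M.Normal).conj_mem _ (inv_mem y.2) (t q)⁻¹
    simpa [mul_assoc] using this
  rw [hfix]

/-- Conjugation into the stabiliser of a point of `G ⧸ H`. -/
def stabConj {H : Subgroup G} (θ : H →* A) (S : Subgroup G) (g₀ : G)
    (R : Subgroup S) (hR : ∀ σ ∈ R, g₀⁻¹ * (σ : G) * g₀ ∈ H) : R →* A :=
  θ.comp (MonoidHom.mk' (fun σ => ⟨g₀⁻¹ * ((σ : S) : G) * g₀, hR _ σ.2⟩) fun a b =>
    Subtype.ext (by simp [mul_assoc]))

omit [Finite G] in
theorem stab_conj_mem {H : Subgroup G} (S : Subgroup G) (q : G ⧸ H) :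
    ∀ σ ∈ MulAction.stabilizer S q, q.out⁻¹ * (σ : G) * q.out ∈ H := by
  intro σ hσ
  have h1 : (σ : G) • q = q := hσ
  have h2 : (QuotientGroup.mk ((σ : G) * q.out) : G ⧸ H) = QuotientGroup.mk q.out := by
    show (σ : G) • (QuotientGroup.mk q.out : G ⧸ H) = QuotientGroup.mk q.out
    rw [show (QuotientGroup.mk q.out : G ⧸ H) = q from q.out_eq']
    exact h1
  have := QuotientGroup.eq.1 h2.symm
  rwa [← mul_assoc] at this

/-- Decomposition along the orbits of a subgroup `S`. -/
theorem transfer_eq_prod_orbits {H : Subgroup G} (θ : H →* A) (S : Subgroup G) (x : S)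
    [Fintype (Quotient (MulAction.orbitRel S (G ⧸ H)))] :
    MonoidHom.transfer θ (x : G) =
      ∏ ω : Quotient (MulAction.orbitRel S (G ⧸ H)),
        MonoidHom.transfer (stabConj θ S ω.out.out (MulAction.stabilizer S ω.out)
          (stab_conj_mem S ω.out)) x := by
  classical
  haveI := Fintype.ofFinite (G ⧸ H)
  set Ω := Quotient (MulAction.orbitRel S (G ⧸ H))
  letI : ∀ ω : Ω, Fintype (S ⧸ MulAction.stabilizer S ω.out) := fun ω => Fintype.ofFinite _
  let s : ∀ ω : Ω, S ⧸ MulAction.stabilizer S ω.out → S := fun ω => Quotient.out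
  have hs : ∀ ω b, (QuotientGroup.mk (s ω b) : S ⧸ MulAction.stabilizer S ω.out) = b :=
    fun ω b => b.out_eq'
  let e : (Σ ω : Ω, S ⧸ MulAction.stabilizer S ω.out) → G ⧸ H :=
    fun p => (s p.1 p.2 : G) • p.1.out
  have he : Function.Bijective e := by
    constructor
    · rintro ⟨ω, b⟩ ⟨ω', b'⟩ h
      have h' : (s ω b) • ω.out = (s ω' b') • ω'.out := h
      have hω : ω = ω' := by
        rw [← ω.out_eq, ← ω'.out_eq]
        refine Quotient.sound ⟨(s ω b)⁻¹ * s ω' b', ?_⟩
        show ((s ω b)⁻¹ * s ω' b') • ω'.out = ω.out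
        rw [mul_smul, ← h', inv_smul_smul]
      subst hω
      have hb : b = b' := by
        rw [← hs ω b, ← hs ω b', QuotientGroup.eq, MulAction.mem_stabilizer_iff, mul_smul, ← h',
          inv_smul_smul]
      rw [hb]
    · intro q
      set ω : Ω := Quotient.mk'' q
      obtain ⟨σ, hσ⟩ : ∃ σ : S, σ • ω.out = q := by
        have h := Quotient.exact (ω.out_eq : Quotient.mk'' ω.out = Quotient.mk'' q)
        obtain ⟨σ, hσ⟩ := h
        exact ⟨σ⁻¹, by rw [show ω.out = σ • q from hσ.symm, inv_smul_smul]⟩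
      refine ⟨⟨ω, QuotientGroup.mk σ⟩, ?_⟩
      have h1 : (s ω (QuotientGroup.mk σ))⁻¹ * σ ∈ MulAction.stabilizer S ω.out :=
        QuotientGroup.eq.1 (hs _ _)
      rw [MulAction.mem_stabilizer_iff, mul_smul, hσ] at h1
      show s ω (QuotientGroup.mk σ) • ω.out = q
      calc s ω (QuotientGroup.mk σ) • ω.out
          = s ω (QuotientGroup.mk σ) • ((s ω (QuotientGroup.mk σ))⁻¹ • q) :=
            congrArg (fun w => s ω (QuotientGroup.mk σ) • w) h1.symm
        _ = q := smul_inv_smul _ _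
  let E := Equiv.ofBijective e he
  let T : G ⧸ H → G := fun q => (s (E.symm q).1 (E.symm q).2 : G) * (E.symm q).1.out.out
  have hT : ∀ q, (QuotientGroup.mk (T q) : G ⧸ H) = q := by
    intro q
    conv_rhs => rw [← E.apply_symm_apply q]
    have key : ∀ (g : G) (w : G ⧸ H), (QuotientGroup.mk (g * w.out) : G ⧸ H) = g • w := by
      intro g w
      show g • (QuotientGroup.mk w.out : G ⧸ H) = g • w
      rw [show (QuotientGroup.mk w.out : G ⧸ H) = w from w.out_eq']
    exact key _ _
  rw [transfer_eq_prod_sect θ T hT, ← E.prod_comp, Fintype.prod_sigma]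
  refine Finset.prod_congr (by ext; simp) fun ω _ => ?_
  rw [transfer_eq_prod_sect _ (s ω) (hs ω)]
  refine Finset.prod_congr (by ext; simp) fun b _ => ?_
  have hxE : (x : G) • E ⟨ω, b⟩ = E ⟨ω, x • b⟩ := by
    have h1 : (s ω (x • b))⁻¹ * x * s ω b ∈ MulAction.stabilizer S ω.out := sect_mem _ (hs ω) x b
    rw [MulAction.mem_stabilizer_iff, mul_smul, mul_smul, inv_smul_eq_iff] at h1
    exact h1
  show θ _ = θ _
  congr 1
  refine Subtype.ext ?_
  show (T ((x : G) • E ⟨ω, b⟩))⁻¹ * x * T (E ⟨ω, b⟩) =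
    ω.out.out⁻¹ * (((s ω (x • b))⁻¹ * x * s ω b : S) : G) * ω.out.out
  rw [hxE]
  have h1 : E.symm (E ⟨ω, x • b⟩) = ⟨ω, x • b⟩ := E.symm_apply_apply _
  have h2 : E.symm (E ⟨ω, b⟩) = ⟨ω, b⟩ := E.symm_apply_apply _
  show ((s (E.symm (E ⟨ω, x • b⟩)).1 (E.symm (E ⟨ω, x • b⟩)).2 : G) *
      (E.symm (E ⟨ω, x • b⟩)).1.out.out)⁻¹ * x *
      ((s (E.symm (E ⟨ω, b⟩)).1 (E.symm (E ⟨ω, b⟩)).2 : G) * (E.symm (E ⟨ω, b⟩)).1.out.out) = _
  rw [h1, h2]
  simp only [Subgroup.coe_mul, Subgroup.coe_inv]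
  group

end CfsgLib.Invol
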