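import Mathlib.GroupTheory.Complement
import Cfsg.Agent.Lib.Invol.Strong

/-!
# Groups in which every involution centraliser is an elementary abelian 2-group
-/

namespace CfsgLib.Invol

variable {G : Type*} [Group G] [Finite G] (T : Sylow 2 G)

theorem sylow_ne_bot_of_not_cyclic (hnc : ¬ IsCyclic (T : Subgroup G)) : (T : Subgroup G) ≠ ⊥ := by
  intro h
  apply hnc
  have : Subsingleton (T : Subgroup G) := by rw [h]; infer_instance
  infer_instance

theorem centralizer_eq_sylow
    (hC : ∀ t : G, orderOf t = 2 → IsMulCommutative (Subgroup.centralizer ({t} : Set G)) ∧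
      ∀ c ∈ Subgroup.centralizer ({t} : Set G), c ^ 2 = 1)
    {t : G} (ht : orderOf t = 2) (htT : t ∈ T) :
    Subgroup.centralizer ({t} : Set G) = (T : Subgroup G) := by
  have hC2 : IsPGroup 2 (Subgroup.centralizer ({t} : Set G)) := fun c =>
    ⟨1, Subtype.ext (by simpa using (hC t ht).2 c.1 c.2)⟩
  -- a central involution of `T` shows that `T` is commutative
  have hTab : ∀ a ∈ T, ∀ b ∈ T, a * b = b * a := by
    have : Nontrivial (T : Subgroup G) := ⟨⟨⟨t, htT⟩, 1, fun h =>
      invol_ne_one ht (congrArg Subtype.val h)⟩⟩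
    have := T.2.center_nontrivial
    obtain ⟨k, hk⟩ := (T.2.to_subgroup (Subgroup.center (T : Subgroup G))).exists_card_eq
    have hk0 : k ≠ 0 := by
      rintro rfl
      have := Finite.one_lt_card (α := Subgroup.center (T : Subgroup G))
      omega
    obtain ⟨⟨⟨z, hzT⟩, hzc⟩, hz⟩ := exists_prime_orderOf_dvd_card' (G := Subgroup.center (T : Subgroup G)) 2
      (hk ▸ dvd_pow_self 2 hk0)
    have hz2 : orderOf z = 2 := by simpa [Subgroup.orderOf_mk] using hz
    intro a ha b hb
    have hmem : ∀ w ∈ T, w ∈ Subgroup.centralizer ({z} : Set G) := fun w hw =>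
      Subgroup.mem_centralizer_singleton_iff.2
        (congrArg Subtype.val (Subgroup.mem_center_iff.1 hzc ⟨w, hw⟩))
    exact congrArg Subtype.val ((hC z hz2).1.is_comm.comm ⟨a, hmem a ha⟩ ⟨b, hmem b hb⟩)
  exact T.3 hC2 fun a ha => Subgroup.mem_centralizer_singleton_iff.2 (hTab a ha t htT)

theorem invol_mem_sylow_of_mem_normalizer {t : G} (ht : orderOf t = 2)
    (htN : t ∈ Subgroup.normalizer ((T : Subgroup G) : Set G)) : t ∈ T := by
  have hp : IsPGroup 2 ↥(Subgroup.zpowers t ⊔ (T : Subgroup G)) :=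
    (isPGroup_zpowers_of_invol ht).to_sup_of_normal_right' T.2 (Subgroup.zpowers_le.2 htN)
  have := T.3 hp le_sup_right
  show t ∈ (T : Subgroup G)
  rw [← this]
  exact Subgroup.mem_sup_left (Subgroup.mem_zpowers t)

variable (hnc : ¬ IsCyclic (T : Subgroup G)) (hnn : ¬ (T : Subgroup G).Normal)
  (hC : ∀ t : G, orderOf t = 2 → IsMulCommutative (Subgroup.centralizer ({t} : Set G)) ∧
    ∀ c ∈ Subgroup.centralizer ({t} : Set G), c ^ 2 = 1)

include hnc hnn hC

theorem strongly_embedded_normalizer :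
    Cfsg.IsStronglyEmbedded (Subgroup.normalizer ((T : Subgroup G) : Set G)) := by
  refine ⟨fun h => hnn (Subgroup.normalizer_eq_top_iff.1 h), ?_, fun g hg => ?_⟩
  · have : Nontrivial (T : Subgroup G) :=
      (Subgroup.nontrivial_iff_ne_bot _).2 (sylow_ne_bot_of_not_cyclic T hnc)
    obtain ⟨k, hk⟩ := T.2.exists_card_eq
    have hk0 : k ≠ 0 := by
      rintro rfl
      have := Finite.one_lt_card (α := (T : Subgroup G))
      omega
    rw [even_iff_two_dvd]
    exact (hk ▸ dvd_pow_self 2 hk0).trans (Subgroup.card_dvd_of_le Subgroup.le_normalizer)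
  · rw [← Nat.not_even_iff_odd]
    intro he
    apply hg
    obtain ⟨_, ⟨htN, s, hsN, rfl⟩, ht⟩ := exists_invol_mem he
    simp only [MulEquiv.coe_toMonoidHom, MulAut.conj_apply] at htN ht
    have hs : orderOf s = 2 := by rwa [orderOf_conj_eq] at ht
    have htT := invol_mem_sylow_of_mem_normalizer T ht htN
    have hsT := invol_mem_sylow_of_mem_normalizer T hs hsN
    rw [Subgroup.mem_normalizer_iff]
    intro w
    show w ∈ (T : Subgroup G) ↔ g * w * g⁻¹ ∈ (T : Subgroup G)
    rw [← centralizer_eq_sylow T hC hs hsT]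
    nth_rewrite 2 [centralizer_eq_sylow T hC hs hsT]
    rw [← centralizer_eq_sylow T hC ht htT, Subgroup.mem_centralizer_singleton_iff,
      Subgroup.mem_centralizer_singleton_iff]
    constructor
    · intro h
      calc g * w * g⁻¹ * (g * s * g⁻¹) = g * (w * s) * g⁻¹ := by group
        _ = _ := by rw [h]; group
    · intro h
      have h' := congrArg (fun v => g⁻¹ * v * g) h
      simpa [mul_assoc] using h'

variable {u : G} (hu : orderOf u = 2) (huH : u ∉ Subgroup.normalizer ((T : Subgroup G) : Set G))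

include hu huH

theorem stab_inter_sylow :
    Subgroup.normalizer ((T : Subgroup G) : Set G) ⊓
      (Subgroup.normalizer ((T : Subgroup G) : Set G)).map (MulAut.conj u).toMonoidHom ⊓
      (T : Subgroup G) = ⊥ := by
  rw [eq_bot_iff]
  rintro w ⟨hwD, hwT⟩
  rw [Subgroup.mem_bot]
  have hodd := (strongly_embedded_normalizer T hnc hnn hC).2.2 u huH
  obtain ⟨k, hk⟩ := T.2 ⟨w, hwT⟩
  have hk' : w ^ 2 ^ k = 1 := by simpa using congrArg Subtype.val hk
  exact orderOf_eq_one_iff.1 (Nat.eq_one_of_dvd_coprimes (Nat.Coprime.pow_right k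
    (Nat.coprime_two_right.2 hodd)) (Subgroup.orderOf_dvd_natCard _ hwD)
    (orderOf_dvd_of_pow_eq_one hk'))

theorem exists_sylow_invol : ∃ s : G, orderOf s = 2 ∧ s ∈ T := by
  obtain ⟨s, hsH, hs⟩ := se_exists_invol (strongly_embedded_normalizer T hnc hnn hC)
  exact ⟨s, hs, invol_mem_sylow_of_mem_normalizer T hs hsH⟩

theorem isComplement_stab :
    Subgroup.IsComplement' ((Subgroup.normalizer ((T : Subgroup G) : Set G) ⊓
      (Subgroup.normalizer ((T : Subgroup G) : Set G)).map (MulAut.conj u).toMonoidHom).subgroupOf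
        (Subgroup.normalizer ((T : Subgroup G) : Set G)))
      ((T : Subgroup G).subgroupOf (Subgroup.normalizer ((T : Subgroup G) : Set G))) := by
  have hSE := strongly_embedded_normalizer T hnc hnn hC
  obtain ⟨s, hs, hsT⟩ := exists_sylow_invol T hnc hnn hC hu huH
  have hbot := stab_inter_sylow T hnc hnn hC hu huH
  set N := Subgroup.normalizer ((T : Subgroup G) : Set G)
  refine Subgroup.isComplement'_of_disjoint_and_mul_eq_univ ?_ ?_
  · rw [disjoint_iff, eq_bot_iff]
    rintro ⟨w, hwN⟩ ⟨hwD, hwT⟩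
    rw [Subgroup.mem_bot]
    have : w ∈ (⊥ : Subgroup G) := hbot ▸ ⟨hwD, hwT⟩
    exact Subtype.ext (Subgroup.mem_bot.1 this)
  · rw [Set.eq_univ_iff_forall]
    rintro ⟨h, hh⟩
    have hne : ((1 : G) : G ⧸ N) ≠ (u : G ⧸ N) := by
      rw [Ne, QuotientGroup.eq, inv_one, one_mul]; exact huH
    have hsN : s ∈ N := Subgroup.le_normalizer hsT
    have hfix : ∀ r : G, r ∈ N → r • ((1 : G) : G ⧸ N) = ((1 : G) : G ⧸ N) := fun r hr =>
      (fix_coset_iff r 1).2 (by simpa using hr)
    obtain ⟨d, hd1, hd2, hd⟩ := se_stab_transitive hSE hne hs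
      (by rw [orderOf_conj_eq, hs] : orderOf (h * s * h⁻¹) = 2) (hfix s hsN)
      (hfix _ (mul_mem (mul_mem hh hsN) (inv_mem hh)))
    have hdD := mem_inter_conj_iff.2 ⟨hd1, hd2⟩
    have hc : d⁻¹ * h ∈ (T : Subgroup G) := by
      rw [← centralizer_eq_sylow T hC hs hsT, Subgroup.mem_centralizer_singleton_iff]
      calc d⁻¹ * h * s = d⁻¹ * (h * s * h⁻¹) * h := by group
        _ = d⁻¹ * (d * s * d⁻¹) * h := by rw [hd]
        _ = _ := by group
    exact ⟨⟨d, hdD.1⟩, hdD, ⟨d⁻¹ * h, Subgroup.le_normalizer hc⟩, hc, Subtype.ext (by simp)⟩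

theorem card_stab : Nat.card ↥(Subgroup.normalizer ((T : Subgroup G) : Set G) ⊓
      (Subgroup.normalizer ((T : Subgroup G) : Set G)).map (MulAut.conj u).toMonoidHom) =
    Nat.card {t : G // orderOf t = 2 ∧ t ∈ Subgroup.normalizer ((T : Subgroup G) : Set G)} := by
  have hSE := strongly_embedded_normalizer T hnc hnn hC
  obtain ⟨s, hs, hsT⟩ := exists_sylow_invol T hnc hnn hC hu huH
  have hbot := stab_inter_sylow T hnc hnn hC hu huH
  set N := Subgroup.normalizer ((T : Subgroup G) : Set G)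
  have hsN : s ∈ N := Subgroup.le_normalizer hsT
  let f : ↥(N ⊓ N.map (MulAut.conj u).toMonoidHom) → {t : G // orderOf t = 2 ∧ t ∈ N} := fun d =>
    ⟨d.1 * s * d.1⁻¹, by rw [orderOf_conj_eq, hs], mul_mem (mul_mem d.2.1 hsN) (inv_mem d.2.1)⟩
  refine Nat.card_eq_of_bijective f ⟨?_, ?_⟩
  · intro d e hde
    have h1 : d.1 * s * d.1⁻¹ = e.1 * s * e.1⁻¹ := congrArg Subtype.val hde
    have h2 : e.1⁻¹ * d.1 ∈ (T : Subgroup G) := by
      rw [← centralizer_eq_sylow T hC hs hsT, Subgroup.mem_centralizer_singleton_iff]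
      calc e.1⁻¹ * d.1 * s = e.1⁻¹ * (d.1 * s * d.1⁻¹) * d.1 := by group
        _ = _ := by rw [h1]; group
    have h3 : e.1⁻¹ * d.1 ∈ (⊥ : Subgroup G) :=
      hbot ▸ Subgroup.mem_inf.2 ⟨mul_mem (inv_mem e.2) d.2, h2⟩
    exact Subtype.ext (inv_mul_eq_one.1 (Subgroup.mem_bot.1 h3)).symm
  · rintro ⟨t, ht, htN⟩
    have hne : ((1 : G) : G ⧸ N) ≠ (u : G ⧸ N) := by
      rw [Ne, QuotientGroup.eq, inv_one, one_mul]; exact huH
    have hfix : ∀ r : G, r ∈ N → r • ((1 : G) : G ⧸ N) = ((1 : G) : G ⧸ N) := fun r hr =>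
      (fix_coset_iff r 1).2 (by simpa using hr)
    obtain ⟨d, hd1, hd2, hd⟩ := se_stab_transitive hSE hne hs ht (hfix s hsN) (hfix t htN)
    exact ⟨⟨d, mem_inter_conj_iff.2 ⟨hd1, hd2⟩⟩, Subtype.ext hd⟩

theorem inverts_stab : ∀ d ∈ Subgroup.normalizer ((T : Subgroup G) : Set G) ⊓
    (Subgroup.normalizer ((T : Subgroup G) : Set G)).map (MulAut.conj u).toMonoidHom,
      u * d * u⁻¹ = d⁻¹ := by
  have hSE := strongly_embedded_normalizer T hnc hnn hC
  have hcard := card_stab T hnc hnn hC hu huH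
  set N := Subgroup.normalizer ((T : Subgroup G) : Set G)
  set x : G ⧸ N := ((1 : G) : G ⧸ N)
  set y : G ⧸ N := (u : G ⧸ N)
  have hne : x ≠ y := by
    show ((1 : G) : G ⧸ N) ≠ (u : G ⧸ N)
    rw [Ne, QuotientGroup.eq, inv_one, one_mul]; exact huH
  have hux : u • x = y := by show u • ((1 : G) : G ⧸ N) = _; rw [MulAction.Quotient.smul_coe]; simp [y]
  let f : {i : G // orderOf i = 2 ∧ i • x = y} → ↥(N ⊓ N.map (MulAut.conj u).toMonoidHom) := fun i =>
    ⟨i.1 * u, mem_inter_conj_iff.2 ⟨by rw [mul_smul, hux, invol_smul_swap i.2.1 i.2.2],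
      by rw [mul_smul, invol_smul_swap hu hux, i.2.2]⟩⟩
  have hbij : Function.Bijective f := by
    refine Function.Injective.bijective_of_nat_card_le
      (fun i j h => Subtype.ext (mul_right_cancel (congrArg Subtype.val h))) ?_
    rw [hcard, se_card_swap hSE hne]
  intro d hd
  obtain ⟨⟨i, hi, hix⟩, h⟩ := hbij.2 ⟨d, hd⟩
  have h' : i * u = d := congrArg Subtype.val h
  rw [← h', mul_inv_rev, invol_inv hi, invol_inv hu]
  simp [mul_assoc, invol_mul_self hu]

theorem card_normalizer :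
    Nat.card (Subgroup.normalizer ((T : Subgroup G) : Set G)) = Nat.card T * (Nat.card T - 1) := by
  rw [← (isComplement_stab T hnc hnn hC hu huH).card_mul,
    Nat.card_congr (Subgroup.subgroupOfEquivOfLe inf_le_left).toEquiv,
    Nat.card_congr (Subgroup.subgroupOfEquivOfLe Subgroup.le_normalizer).toEquiv,
    card_stab T hnc hnn hC hu huH, mul_comm]
  congr 1
  have h1 : Nat.card {t : G // orderOf t = 2 ∧ t ∈ Subgroup.normalizer ((T : Subgroup G) : Set G)} + 1 =
      Nat.card (T : Subgroup G) := by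
    classical
    have hinv : ∀ w ∈ (T : Subgroup G), w ≠ 1 → orderOf w = 2 := by
      intro w hw hne
      obtain ⟨s, hs, hsT⟩ := exists_sylow_invol T hnc hnn hC hu huH
      exact invol_of_mul_self (by
        rw [← pow_two]
        exact (hC s hs).2 w (centralizer_eq_sylow T hC hs hsT ▸ hw)) hne
    rw [← Finite.card_option]
    refine Nat.card_congr ⟨fun o => o.elim 1 fun t => ⟨t.1, invol_mem_sylow_of_mem_normalizer T t.2.1 t.2.2⟩,
      fun t => if h : t = 1 then none else some ⟨t.1, hinv t.1 t.2 fun e => h (Subtype.ext e),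
        Subgroup.le_normalizer t.2⟩, ?_, ?_⟩
    · rintro (_ | t)
      · simp
      · simp only [Option.elim_some]
        exact dif_neg fun e => invol_ne_one t.2.1 (congrArg Subtype.val e)
    · intro t
      by_cases h : t = 1
      · simp [h]
      · simp [h]
  omega

end CfsgLib.Invol
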