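import Mathlib
import Cfsg.Agent.Lib.Invol.Basic

/-!
# An involution fixing a unique coset: dihedral arguments

`UPHyp z H`: the involution `z` lies in `g H g⁻¹` exactly when `g ∈ H`, and so does every product
`z t` with `t ≠ z` a conjugate of `z` commuting with `z`.
-/

namespace CfsgLib.Invol.UP

open CfsgLib.Invol

variable {G : Type*} [Group G]

/-- `z` and all products of `z` with a commuting conjugate fix only the trivial coset of `H`. -/
structure UPHyp (z : G) (H : Subgroup G) : Prop where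
  invol : orderOf z = 2
  fix : ∀ g : G, g⁻¹ * z * g ∈ H ↔ g ∈ H
  fixMul : ∀ t : G, IsConj z t → t ≠ z → t * z = z * t →
    ∀ g : G, g⁻¹ * (z * t) * g ∈ H ↔ g ∈ H

theorem mem_map_conj_iff {H : Subgroup G} {g x : G} :
    x ∈ H.map (MulAut.conj g).toMonoidHom ↔ g⁻¹ * x * g ∈ H := by
  rw [Subgroup.mem_map]
  constructor
  · rintro ⟨y, hy, rfl⟩
    simpa [mul_assoc] using hy
  · intro h
    exact ⟨_, h, by simp [mul_assoc]⟩

variable {z : G} {H : Subgroup G}

namespace UPHyp

theorem invol_of_conj (h : UPHyp z H) {a : G} (ha : IsConj z a) : orderOf a = 2 := by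
  rw [orderOf_eq_of_isConj ha, h.invol]

theorem fix' (h : UPHyp z H) {a : G} (ha : IsConj z a) (haH : a ∈ H) (g : G) :
    g⁻¹ * a * g ∈ H ↔ g ∈ H := by
  obtain ⟨k, rfl⟩ := isConj_iff.1 ha
  have hk : k ∈ H := by
    have := (h.fix k⁻¹).1 (by simpa using haH)
    simpa using this
  have e : g⁻¹ * (k * z * k⁻¹) * g = (k⁻¹ * g)⁻¹ * z * (k⁻¹ * g) := by group
  rw [e, h.fix, Subgroup.mul_mem_cancel_left _ (inv_mem hk)]

theorem conj_notMem (h : UPHyp z H) {a : G} (ha : IsConj z a) (haH : a ∈ H) {g : G}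
    (hg : g ∉ H) : g * a * g⁻¹ ∉ H := fun hm =>
  hg (by simpa using (h.fix' ha haH g⁻¹).1 (by simpa using hm))

theorem mem_of_commute (h : UPHyp z H) {a : G} (ha : IsConj z a) (haH : a ∈ H) {g : G}
    (hg : Commute g a) : g ∈ H := by
  refine (h.fix' ha haH g).1 ?_
  rw [mul_assoc, ← hg.eq, inv_mul_cancel_left]
  exact haH

theorem mem_of_conj_mem (h : UPHyp z H) {a : G} (ha : IsConj z a) (haH : a ∈ H) {g : G}
    (hg : g * a * g⁻¹ ∈ H) : g ∈ H :=
  of_not_not fun hn => h.conj_notMem ha haH hn hg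

/-- A product of two commuting conjugates of `z` fixes only the coset of the first one. -/
theorem mem_iff_mul (h : UPHyp z H) {a b : G} (ha : IsConj z a) (hb : IsConj z b) (hne : b ≠ a)
    (hc : Commute a b) (g : G) : g⁻¹ * (a * b) * g ∈ H ↔ g⁻¹ * a * g ∈ H := by
  obtain ⟨k, rfl⟩ := isConj_iff.1 ha
  obtain ⟨l, rfl⟩ := isConj_iff.1 hb
  have ht : IsConj z (k⁻¹ * (l * z * l⁻¹) * k) :=
    isConj_iff.2 ⟨k⁻¹ * l, by group⟩
  have hne' : k⁻¹ * (l * z * l⁻¹) * k ≠ z := fun e => hne (by
    calc l * z * l⁻¹ = k * (k⁻¹ * (l * z * l⁻¹) * k) * k⁻¹ := by group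
      _ = k * z * k⁻¹ := by rw [e])
  have hc' : k⁻¹ * (l * z * l⁻¹) * k * z = z * (k⁻¹ * (l * z * l⁻¹) * k) := by
    calc k⁻¹ * (l * z * l⁻¹) * k * z = k⁻¹ * ((l * z * l⁻¹) * (k * z * k⁻¹)) * k := by group
      _ = k⁻¹ * ((k * z * k⁻¹) * (l * z * l⁻¹)) * k := by rw [hc.eq]
      _ = z * (k⁻¹ * (l * z * l⁻¹) * k) := by group
  have e1 : g⁻¹ * (k * z * k⁻¹ * (l * z * l⁻¹)) * g
      = (k⁻¹ * g)⁻¹ * (z * (k⁻¹ * (l * z * l⁻¹) * k)) * (k⁻¹ * g) := by group
  have e2 : g⁻¹ * (k * z * k⁻¹) * g = (k⁻¹ * g)⁻¹ * z * (k⁻¹ * g) := by group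
  rw [e1, e2, h.fixMul _ ht hne' hc', h.fix]

theorem mem_of_commute_mul (h : UPHyp z H) {a b : G} (ha : IsConj z a) (haH : a ∈ H)
    (hb : IsConj z b) (hne : b ≠ a) (hc : Commute a b) {g : G} (hg : Commute g (a * b)) :
    g ∈ H := by
  refine (h.fix' ha haH g).1 ?_
  rw [← h.mem_iff_mul ha hb hne hc, mul_assoc, ← hg.eq, inv_mul_cancel_left]
  simpa using (h.mem_iff_mul ha hb hne hc 1).2 (by simpa using haH)

end UPHyp

/-- The two cases for the central involution of a dihedral group. -/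
theorem half_cases [Finite G] {a b : G} (hao : orderOf a = 2) (hbo : orderOf b = 2)
    (heven : Even (orderOf (a * b))) :
    (Even (orderOf (a * b) / 2) → IsConj a ((a * b) ^ (orderOf (a * b) / 2) * a)) ∧
      (Odd (orderOf (a * b) / 2) → IsConj b ((a * b) ^ (orderOf (a * b) / 2) * a)) := by
  set m := orderOf (a * b) / 2 with hm
  constructor
  · rintro ⟨k, hk⟩
    refine isConj_iff.2 ⟨(a * b) ^ (k : ℤ), ?_⟩
    rw [zpow_conj_left hao hbo, hk, ← zpow_natCast (a * b) (k + k)]
    congr 2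
    push_cast
    ring
  · rintro ⟨k, hk⟩
    refine isConj_iff.2 ⟨(a * b) ^ ((k : ℤ) + 1), ?_⟩
    conv_lhs => arg 1; arg 2; rw [← right_eq hao hbo]
    rw [← mul_assoc, ← zpow_add, ← zpow_neg, mul_assoc, left_mul_zpow hao hbo, neg_neg,
      ← mul_assoc, ← zpow_add, hk, ← zpow_natCast (a * b) (2 * k + 1)]
    congr 2
    push_cast
    ring

theorem half_swap [Finite G] {a b : G} (hao : orderOf a = 2) (hbo : orderOf b = 2)
    (heven : Even (orderOf (a * b))) :
    (b * a) ^ (orderOf (b * a) / 2) = (a * b) ^ (orderOf (a * b) / 2) := by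
  rw [orderOf_mul_symm hao hbo, show b * a = (a * b)⁻¹ by
    rw [mul_inv_rev, invol_inv hao, invol_inv hbo], inv_pow,
    invol_inv (orderOf_pow_half heven)]

theorem mul_right_invol_ne {c a : G} (hc : orderOf c = 2) : c * a ≠ a := fun e =>
  invol_ne_one hc (mul_eq_right.1 e)

namespace UPHyp

/-- A conjugate inside `H` and a conjugate outside `H` have a product of odd order. -/
theorem odd_mul [Finite G] (h : UPHyp z H) {a b : G} (ha : IsConj z a) (haH : a ∈ H)
    (hb : IsConj z b) (hbH : b ∉ H) : Odd (orderOf (a * b)) := by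
  rw [← Nat.not_even_iff_odd]
  intro heven
  have hao := h.invol_of_conj ha
  have hbo := h.invol_of_conj hb
  set c := (a * b) ^ (orderOf (a * b) / 2) with hcdef
  have hco : orderOf c = 2 := orderOf_pow_half heven
  have hca : Commute c a := commute_pow_half_left hao hbo heven
  have hcb : Commute c b := commute_pow_half_right hao hbo heven
  have hcH : c ∈ H := h.mem_of_commute ha haH hca
  have heven' : Even (orderOf (b * a)) := by rwa [orderOf_mul_symm hao hbo]
  have hbc : IsConj z (c * b) := by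
    rcases Nat.even_or_odd (orderOf (b * a) / 2) with hp | hp
    · have := (half_cases hbo hao heven').1 hp
      rw [half_swap hao hbo heven] at this
      exact hb.trans this
    · have := (half_cases hbo hao heven').2 hp
      rw [half_swap hao hbo heven] at this
      exact ha.trans this
  have hcomm : Commute b (c * b) := hcb.symm.mul_right (Commute.refl b)
  have e : b * (c * b) = c := by
    rw [← mul_assoc, ← hcb.eq, mul_assoc, invol_mul_self hbo, mul_one]
  have := (h.mem_iff_mul hb hbc (mul_right_invol_ne hco) hcomm 1).1 (by simpa [e] using hcH)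
  exact hbH (by simpa using this)

/-- The conjugates of `z` in a subgroup not contained in `H` are conjugate in that subgroup. -/
theorem exists_conj_in [Finite G] (h : UPHyp z H) {K : Subgroup G} (hK : ¬K ≤ H) {a b : G}
    (ha : IsConj z a) (haH : a ∈ H) (haK : a ∈ K) (hb : IsConj z b) (hbK : b ∈ K) :
    ∃ k ∈ K, k * a * k⁻¹ = b := by
  have key : ∀ x, IsConj z x → x ∈ K → x ∉ H → ∃ k ∈ K, k * a * k⁻¹ = x := by
    intro x hx hxK hxH
    obtain ⟨d, hd, hde⟩ := exists_conj_of_odd (h.invol_of_conj ha) (h.invol_of_conj hx)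
      (h.odd_mul ha haH hx hxH)
    exact ⟨d, Subgroup.zpowers_le.2 (mul_mem haK hxK) hd, hde⟩
  by_cases hbH : b ∈ H
  · obtain ⟨g, hgK, hgH⟩ := SetLike.not_le_iff_exists.1 hK
    have h1 : IsConj z (g * a * g⁻¹) := ha.trans (isConj_iff.2 ⟨g, rfl⟩)
    have h2 : g * a * g⁻¹ ∈ K := mul_mem (mul_mem hgK haK) (inv_mem hgK)
    have h3 := h.conj_notMem ha haH hgH
    obtain ⟨d, hd, hde⟩ := exists_conj_of_odd (h.invol_of_conj h1) (h.invol_of_conj hb)
      (by rw [orderOf_mul_symm (h.invol_of_conj hb) (h.invol_of_conj h1)]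
          exact h.odd_mul hb hbH h1 h3)
    refine ⟨d * g, mul_mem (Subgroup.zpowers_le.2 (mul_mem h2 hbK) hd) hgK, ?_⟩
    rw [← hde]
    group
  · exact key b hb hbK hbH

/-- The dihedral lemma: an involution `u` with centraliser in `H`, not conjugate to `z`, and a
conjugate `w` of `z` outside `H`. -/
theorem exists_central [Finite G] (h : UPHyp z H) {K : Subgroup G} {u w : G}
    (hu : orderOf u = 2) (huC : ∀ g, Commute g u → g ∈ H) (hun : ¬IsConj z u) (huK : u ∈ K)
    (hw : IsConj z w) (hwH : w ∉ H) (hwK : w ∈ K) :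
    ∃ c ∈ K, orderOf c = 2 ∧ Commute c u ∧ Commute c w ∧ IsConj z (c * u) := by
  have hwo := h.invol_of_conj hw
  have heven : Even (orderOf (u * w)) :=
    even_of_not_isConj hu hwo fun hc => hun (hw.trans hc.symm)
  set c := (u * w) ^ (orderOf (u * w) / 2) with hcdef
  have hco : orderOf c = 2 := orderOf_pow_half heven
  have hcu : Commute c u := commute_pow_half_left hu hwo heven
  have hcw : Commute c w := commute_pow_half_right hu hwo heven
  refine ⟨c, pow_mem (mul_mem huK hwK) _, hco, hcu, hcw, ?_⟩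
  rcases Nat.even_or_odd (orderOf (u * w) / 2) with hp | hp
  · exfalso
    have heven' : Even (orderOf (w * u)) := by rwa [orderOf_mul_symm hu hwo]
    have hwc := (half_cases hwo hu heven').1 (by rwa [orderOf_mul_symm hu hwo])
    rw [half_swap hu hwo heven, ← hcdef] at hwc
    have hcomm : Commute w (c * w) := hcw.symm.mul_right (Commute.refl w)
    have e : w * (c * w) = c := by
      rw [← mul_assoc, ← hcw.eq, mul_assoc, invol_mul_self hwo, mul_one]
    have hcH : c ∈ H := huC c hcu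
    have := (h.mem_iff_mul hw (hw.trans hwc) (mul_right_invol_ne hco) hcomm 1).1
      (by simpa [e] using hcH)
    exact hwH (by simpa using this)
  · exact hw.trans ((half_cases hu hwo heven).2 hp)

end UPHyp

end CfsgLib.Invol.UP
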