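import Mathlib
import Cfsg.Agent.Lib.Invol.Basic

/-!
# Sylow 2-subgroups of a subgroup, inside the ambient group; a product over an orbit
-/

namespace CfsgLib.Invol.UP

open CfsgLib.Invol

variable {G : Type*} [Group G]

/-- `R` is a 2-subgroup of `K` of largest order. -/
structure SylIn (R K : Subgroup G) : Prop where
  le : R ≤ K
  two : IsPGroup 2 R
  max : ∀ Q : Subgroup G, Q ≤ K → IsPGroup 2 Q → Nat.card Q ≤ Nat.card R

theorem card_map_subtype {K : Subgroup G} (P : Subgroup K) :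
    Nat.card (P.map K.subtype) = Nat.card P :=
  (Nat.card_congr (P.equivMapOfInjective _ K.subtype_injective).toEquiv).symm

theorem card_sylow_eq [Finite G] {K : Subgroup G} (P P' : Sylow 2 K) :
    Nat.card (P' : Subgroup K) = Nat.card (P : Subgroup K) := by
  rw [P'.card_eq_multiplicity, P.card_eq_multiplicity]

theorem sylIn_map [Finite G] {K : Subgroup G} (P : Sylow 2 K) :
    SylIn ((P : Subgroup K).map K.subtype) K := by
  refine ⟨Subgroup.map_subtype_le _, P.isPGroup'.map _, fun Q hQK hQ => ?_⟩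
  obtain ⟨P', hP'⟩ := (hQ.of_equiv (Subgroup.subgroupOfEquivOfLe hQK).symm).exists_le_sylow
  rw [card_map_subtype, ← Nat.card_congr (Subgroup.subgroupOfEquivOfLe hQK).toEquiv,
    ← card_sylow_eq P P']
  exact Subgroup.card_le_of_le hP'

theorem exists_sylIn [Finite G] {K Q : Subgroup G} (hQK : Q ≤ K) (hQ : IsPGroup 2 Q) :
    ∃ R, SylIn R K ∧ Q ≤ R := by
  obtain ⟨P, hP⟩ := (hQ.of_equiv (Subgroup.subgroupOfEquivOfLe hQK).symm).exists_le_sylow
  exact ⟨_, sylIn_map P, fun q hq => ⟨⟨q, hQK hq⟩, hP hq, rfl⟩⟩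

theorem exists_sylIn' [Finite G] (K : Subgroup G) : ∃ R, SylIn R K := by
  obtain ⟨R, hR, -⟩ := exists_sylIn (bot_le (a := K)) (IsPGroup.of_bot)
  exact ⟨R, hR⟩

theorem SylIn.exists_sylow [Finite G] {R K : Subgroup G} (h : SylIn R K) :
    ∃ P : Sylow 2 K, (P : Subgroup K).map K.subtype = R := by
  obtain ⟨P, hP⟩ := (h.two.of_equiv (Subgroup.subgroupOfEquivOfLe h.le).symm).exists_le_sylow
  have hle : R ≤ (P : Subgroup K).map K.subtype := fun q hq => ⟨⟨q, h.le hq⟩, hP hq, rfl⟩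
  refine ⟨P, (Subgroup.eq_of_le_of_card_ge hle ?_).symm⟩
  exact h.max _ (Subgroup.map_subtype_le _) (P.isPGroup'.map _)

theorem SylIn.mono [Finite G] {R K K' : Subgroup G} (h : SylIn R K) (hle : K' ≤ K)
    (hR : R ≤ K') : SylIn R K' :=
  ⟨hR, h.two, fun Q hQ h2 => h.max Q (hQ.trans hle) h2⟩

theorem le_normalizer_of_commute {R : Subgroup G} {a : G} (h : ∀ r ∈ R, Commute a r) :
    a ∈ Subgroup.normalizer (R : Set G) := by
  rw [Subgroup.mem_normalizer_iff]
  intro r
  refine ⟨fun hr => by rwa [(h r hr).eq, mul_inv_cancel_right], fun hr => ?_⟩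
  have := (h _ hr).eq
  rw [← mul_assoc] at this
  have e : a * r * a⁻¹ = r := by
    have e2 : a * (a * r * a⁻¹) = a * r := by
      rw [← mul_assoc, this, inv_mul_cancel_right]
    exact mul_left_cancel e2
  rwa [e] at hr

theorem isPGroup_sup_zpowers {S R : Subgroup G} (hS : IsPGroup 2 S) (hR : R ≤ S) {s : G}
    (hs : s ∈ S) : IsPGroup 2 (R ⊔ Subgroup.zpowers s : Subgroup G) :=
  hS.to_le (sup_le hR (Subgroup.zpowers_le.2 hs))

theorem lt_sup_zpowers {R : Subgroup G} {s : G} (hs : s ∉ R) : R < R ⊔ Subgroup.zpowers s :=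
  lt_of_le_of_ne le_sup_left fun e => hs (e ▸ (le_sup_right : Subgroup.zpowers s ≤ _)
    (Subgroup.mem_zpowers s))

theorem card_lt_of_lt [Finite G] {R S : Subgroup G} (h : R < S) : Nat.card R < Nat.card S := by
  by_contra hn
  exact h.ne (Subgroup.eq_of_le_of_card_ge h.le (not_lt.1 hn))

/-- A 2-element normalising a Sylow 2-subgroup of `K` lies in it. -/
theorem SylIn.mem [Finite G] {R K : Subgroup G} (h : SylIn R K) {a : G} (haK : a ∈ K)
    (ha : IsPGroup 2 (Subgroup.zpowers a)) (hn : a ∈ Subgroup.normalizer (R : Set G)) :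
    a ∈ R := by
  by_contra hna
  have hsup : IsPGroup 2 (Subgroup.zpowers a ⊔ R : Subgroup G) :=
    ha.to_sup_of_normal_right' h.two (Subgroup.zpowers_le.2 hn)
  rw [sup_comm] at hsup
  exact absurd (h.max _ (sup_le h.le (Subgroup.zpowers_le.2 haK)) hsup)
    (not_le.2 (card_lt_of_lt (lt_sup_zpowers hna)))

theorem SylIn.mem_invol [Finite G] {R K : Subgroup G} (h : SylIn R K) {a : G} (haK : a ∈ K)
    (ha : orderOf a = 2) (hc : ∀ r ∈ R, Commute a r) : a ∈ R :=
  h.mem haK (isPGroup_zpowers_of_invol ha) (le_normalizer_of_commute hc)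

theorem exists_normalizing [Finite G] {R S : Subgroup G} (hS : IsPGroup 2 S) (hlt : R < S) :
    ∃ n ∈ S, n ∉ R ∧ n ∈ Subgroup.normalizer (R : Set G) := by
  haveI : Fact (Nat.Prime 2) := ⟨Nat.prime_two⟩
  haveI : Group.IsNilpotent S := hS.isNilpotent
  have hne : R.subgroupOf S < ⊤ := by
    refine lt_of_le_of_ne le_top fun e => hlt.not_ge fun s hs => ?_
    have : (⟨s, hs⟩ : S) ∈ R.subgroupOf S := by rw [e]; trivial
    exact this
  obtain ⟨n, hn, hnR⟩ := SetLike.exists_of_lt (normalizerCondition_of_isNilpotent _ hne)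
  refine ⟨n, n.2, hnR, ?_⟩
  rw [Subgroup.mem_normalizer_iff] at hn ⊢
  intro r
  constructor
  · intro hr
    exact (hn ⟨r, hlt.le hr⟩).1 hr
  · intro hr
    have hrS : r ∈ S := by
      have := mul_mem (mul_mem (inv_mem n.2) (hlt.le hr)) n.2
      simpa [mul_assoc] using this
    exact (hn ⟨r, hrS⟩).2 hr

theorem conj_mem_of_normalizer {R : Subgroup G} {n r : G}
    (hn : n ∈ Subgroup.normalizer (R : Set G)) (hr : r ∈ R) : n * r * n⁻¹ ∈ R :=
  (Subgroup.mem_normalizer_iff.1 hn r).1 hr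

theorem conj_commute_of_normalizer {R : Subgroup G} {n a : G}
    (hn : n ∈ Subgroup.normalizer (R : Set G)) (ha : ∀ r ∈ R, Commute a r) :
    ∀ r ∈ R, Commute (n * a * n⁻¹) r := by
  intro r hr
  have h := ha _ (conj_mem_of_normalizer (inv_mem hn) hr)
  have h2 := h.map (MulAut.conj n).toMonoidHom
  simpa [mul_assoc] using h2

/-- Burnside: elements centralising a Sylow subgroup which are conjugate are conjugate in its
normaliser. -/
theorem SylIn.exists_normalizer_conj [Finite G] {R K : Subgroup G} (h : SylIn R K) {a b : G}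
    (haK : a ∈ K) (hac : ∀ r ∈ R, Commute a r) (hbc : ∀ r ∈ R, Commute b r) {k : G}
    (hk : k ∈ K) (hkb : k * a * k⁻¹ = b) :
    ∃ m ∈ K, m ∈ Subgroup.normalizer (R : Set G) ∧ m * a * m⁻¹ = b := by
  haveI : Fact (Nat.Prime 2) := ⟨Nat.prime_two⟩
  obtain ⟨P, hP⟩ := h.exists_sylow
  have key : ∀ x : G, (hx : x ∈ K) → (∀ r ∈ R, Commute x r) →
      (⟨x, hx⟩ : K) ∈ Subgroup.centralizer ((P : Subgroup K) : Set K) := by
    intro x hx hc
    rw [Subgroup.mem_centralizer_iff]
    intro r hr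
    exact Subtype.ext (hc r (hP ▸ ⟨r, hr, rfl⟩)).symm.eq
  have hbK : b ∈ K := hkb ▸ mul_mem (mul_mem hk haK) (inv_mem hk)
  have ek : (⟨k⁻¹, inv_mem hk⟩ : K)⁻¹ * ⟨a, haK⟩ * ⟨k⁻¹, inv_mem hk⟩ = ⟨b, hbK⟩ :=
    Subtype.ext (by simpa using hkb)
  obtain ⟨m, hm, hme⟩ := P.conj_eq_normalizer_conj_of_mem_centralizer ⟨a, haK⟩ ⟨k⁻¹, inv_mem hk⟩
    (key a haK hac) (ek ▸ key b hbK hbc)
  refine ⟨(m : G)⁻¹, inv_mem m.2, ?_, ?_⟩
  · refine inv_mem (Subgroup.mem_normalizer_iff.2 fun r => ?_)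
    rw [← hP]
    constructor
    · rintro ⟨r', hr', rfl⟩
      exact ⟨m * r' * m⁻¹, (Subgroup.mem_normalizer_iff.1 hm r').1 hr', by simp⟩
    · rintro ⟨r', hr', he⟩
      refine ⟨m⁻¹ * r' * m, ?_, ?_⟩
      · refine (Subgroup.mem_normalizer_iff.1 hm _).2 ?_
        rw [show m * (m⁻¹ * r' * m) * m⁻¹ = r' by group]
        exact hr'
      · simp only [Subgroup.subtype_apply] at he ⊢
        push_cast
        rw [he]
        group
  · have := congrArg Subtype.val hme
    push_cast at this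
    rw [inv_inv] at this ⊢
    rw [← this, hkb]

theorem odd_index_of_sylIn [Finite G] {R N : Subgroup G} (h : SylIn R N) :
    Odd (R.subgroupOf N).index := by
  haveI : Fact (Nat.Prime 2) := ⟨Nat.prime_two⟩
  obtain ⟨P, hP⟩ := h.exists_sylow
  have e : R.subgroupOf N = (P : Subgroup N) := by
    rw [← hP]
    exact Subgroup.comap_map_eq_self_of_injective N.subtype_injective _
  rw [e, Nat.odd_iff, ← Nat.two_dvd_ne_zero]
  exact P.not_dvd_index

theorem prod_eq_of_const_fibres {A Ω : Type*} [CommMonoid A] [DecidableEq A] [Fintype Ω]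
    (hodd : Odd (Fintype.card Ω)) (X : Finset A) (φ : Ω → A) (hmem : ∀ i, φ i ∈ X)
    (hconst : ∀ p ∈ X, ∀ q ∈ X, (Finset.univ.filter fun i => φ i = p).card
      = (Finset.univ.filter fun i => φ i = q).card)
    (hsq : ∀ q ∈ X, q * q = 1) : ∏ i, φ i = ∏ q ∈ X, q := by
  rw [← Finset.prod_fiberwise_of_maps_to (g := φ) (t := X) (fun i _ => hmem i)]
  refine Finset.prod_congr rfl fun q hq => ?_
  rw [Finset.prod_congr rfl (fun i hi => (Finset.mem_filter.1 hi).2), Finset.prod_const]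
  have hcard : Fintype.card Ω = X.card * (Finset.univ.filter fun i => φ i = q).card := by
    rw [← Finset.card_univ, Finset.card_eq_sum_card_fiberwise (f := φ) (t := X) (fun i _ => hmem i),
      Finset.sum_congr rfl (fun p hp => hconst p hp q hq), Finset.sum_const, smul_eq_mul]
  obtain ⟨k, hk⟩ : Odd (Finset.univ.filter fun i => φ i = q).card :=
    Nat.Odd.of_mul_right (hcard ▸ hodd)
  rw [hk, pow_succ, pow_mul, pow_two, hsq q hq, one_pow, one_mul]

end CfsgLib.Invol.UP
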