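import Mathlib
import Cfsg.Agent.Lib.Invol.UniquePointSylow

/-!
# A product of three conjugates centralised by a transitive group is canonical
-/

namespace CfsgLib.Invol.UP

variable {G : Type*} [Group G]

theorem conj_mem_center {R : Subgroup G} {n : G} (hn : n ∈ Subgroup.normalizer (R : Set G))
    (a : Subgroup.center R) :
    (⟨n * ((a : R) : G) * n⁻¹, conj_mem_of_normalizer hn (a : R).2⟩ : R) ∈ Subgroup.center R :=
  Subgroup.mem_center_iff.2 fun r => Subtype.ext
    (conj_commute_of_normalizer hn
      (fun s hs => (congrArg Subtype.val (Subgroup.mem_center_iff.1 a.2 ⟨s, hs⟩)).symm)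
      r.1 r.2).eq.symm

/-- Conjugation on the centre of `R` by an element of its normaliser. -/
noncomputable def centerConj {R : Subgroup G} {n : G}
    (hn : n ∈ Subgroup.normalizer (R : Set G)) : Subgroup.center R →* Subgroup.center R where
  toFun a := ⟨⟨n * ((a : R) : G) * n⁻¹, conj_mem_of_normalizer hn (a : R).2⟩, conj_mem_center hn a⟩
  map_one' := by ext; simp
  map_mul' a b := by ext; simp [mul_assoc]

theorem centerConj_val {R : Subgroup G} {n : G} (hn : n ∈ Subgroup.normalizer (R : Set G))
    (a : Subgroup.center R) :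
    ((centerConj hn a : R) : G) = n * ((a : R) : G) * n⁻¹ := rfl

theorem centerConj_injective {R : Subgroup G} {n : G}
    (hn : n ∈ Subgroup.normalizer (R : Set G)) : Function.Injective (centerConj hn) := by
  intro a b h
  have := congrArg (fun c : Subgroup.center R => ((c : R) : G)) h
  simpa [centerConj_val] using this

theorem orbit_product [Finite G] {R K : Subgroup G} (hR : SylIn R K) (P : G → Prop)
    (hP : ∀ q, P q → q ∈ R ∧ (∀ r ∈ R, Commute q r) ∧ q * q = 1)
    (hPn : ∀ q m, P q → m ∈ Subgroup.normalizer (R : Set G) → P (m * q * m⁻¹))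
    (htr : ∀ p q, P p → P q → ∃ m ∈ K, m ∈ Subgroup.normalizer (R : Set G) ∧ m * p * m⁻¹ = q)
    {a b c : G} (ha : P a) (hb : P b) (hc : P c) (hcen : ∀ g ∈ K, Commute g (a * b * c))
    {k : G} (hk : k ∈ Subgroup.normalizer (R : Set G)) :
    k * (a * b * c) * k⁻¹ = a * b * c := by
  classical
  letI : CommGroup (Subgroup.center R) :=
    { (inferInstance : Group (Subgroup.center R)) with
      mul_comm := fun x y => Subtype.ext ((Subgroup.mem_center_iff.1 y.2) x.1) }
  haveI : Fintype (Subgroup.center R) := Fintype.ofFinite _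
  set N : Subgroup G := K ⊓ Subgroup.normalizer (R : Set G) with hN
  have hRN : R ≤ N := le_inf hR.le Subgroup.le_normalizer
  haveI : Fintype (N ⧸ R.subgroupOf N) := Fintype.ofFinite _
  have hodd : Odd (Fintype.card (N ⧸ R.subgroupOf N)) := by
    rw [← Nat.card_eq_fintype_card, ← Subgroup.index_eq_card]
    exact odd_index_of_sylIn (hR.mono inf_le_left hRN)
  let X : Finset (Subgroup.center R) := Finset.univ.filter fun q => P ((q : R) : G)
  have memX : ∀ q : Subgroup.center R, q ∈ X ↔ P ((q : R) : G) := fun q => by simp [X]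
  let φ : Subgroup.center R → N ⧸ R.subgroupOf N → Subgroup.center R := fun q i =>
    centerConj (Subgroup.mem_inf.1 i.out.2).2 q
  have φ_mk : ∀ q (m : N), ((φ q (m : N ⧸ R.subgroupOf N) : R) : G)
      = (m : G) * ((q : R) : G) * (m : G)⁻¹ := by
    intro q m
    obtain ⟨r, hr⟩ := QuotientGroup.mk_out_eq_mul (R.subgroupOf N) m
    simp only [φ, centerConj_val, hr, Subgroup.coe_mul, mul_inv_rev]
    have hcomm : ((r : N) : G) * ((q : R) : G) = ((q : R) : G) * ((r : N) : G) :=
      congrArg Subtype.val (Subgroup.mem_center_iff.1 q.2 ⟨_, r.2⟩)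
    calc (m : G) * ((r : N) : G) * ((q : R) : G) * (((r : N) : G)⁻¹ * (m : G)⁻¹)
        = (m : G) * (((r : N) : G) * ((q : R) : G)) * ((r : N) : G)⁻¹ * (m : G)⁻¹ := by group
      _ = (m : G) * ((q : R) : G) * (m : G)⁻¹ := by rw [hcomm]; group
  have hsq : ∀ q ∈ X, q * q = 1 := fun q hq =>
    Subtype.ext (Subtype.ext (hP _ ((memX q).1 hq)).2.2)
  have main : ∀ q ∈ X, ∏ i, φ q i = ∏ x ∈ X, x := by
    intro q hq
    refine prod_eq_of_const_fibres hodd X (φ q) ?_ ?_ hsq
    · intro i
      rw [memX]
      exact hPn _ _ ((memX q).1 hq) (Subgroup.mem_inf.1 i.out.2).2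
    · intro p hp p' hp'
      obtain ⟨m, hmK, hmn, hme⟩ := htr _ _ ((memX p).1 hp) ((memX p').1 hp')
      have hmN : m ∈ N := Subgroup.mem_inf.2 ⟨hmK, hmn⟩
      refine Finset.card_equiv (MulAction.toPerm (⟨m, hmN⟩ : N)) fun i => ?_
      induction i using QuotientGroup.induction_on with
      | H w =>
        simp only [Finset.mem_filter, Finset.mem_univ, true_and, MulAction.toPerm_apply,
          MulAction.Quotient.smul_mk, smul_eq_mul, Subtype.ext_iff, φ_mk, Subgroup.coe_mul]
        rw [← hme]
        constructor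
        · intro h; rw [← h]; group
        · intro h
          have := congrArg (fun t => m⁻¹ * t * m) h
          simpa [mul_assoc] using this
  have hmk : ∀ {q}, P q → ∃ qA : Subgroup.center R, ((qA : R) : G) = q := fun {q} hq =>
    ⟨⟨⟨q, (hP q hq).1⟩, Subgroup.mem_center_iff.2 fun r =>
      Subtype.ext ((hP q hq).2.1 r.1 r.2).eq.symm⟩, rfl⟩
  obtain ⟨aA, haA⟩ := hmk ha
  obtain ⟨bA, hbA⟩ := hmk hb
  obtain ⟨cA, hcA⟩ := hmk hc
  have haX : aA ∈ X := (memX aA).2 (haA ▸ ha)
  have hbX : bA ∈ X := (memX bA).2 (hbA ▸ hb)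
  have hcX : cA ∈ X := (memX cA).2 (hcA ▸ hc)
  set gA := aA * bA * cA with hgA
  have hg : ((gA : R) : G) = a * b * c := by rw [hgA]; push_cast; rw [haA, hbA, hcA]
  have hfix : ∀ i, φ gA i = gA := by
    intro i
    refine Subtype.ext (Subtype.ext ?_)
    simp only [φ, centerConj_val, hg]
    rw [(hcen _ (Subgroup.mem_inf.1 i.out.2).1).eq, mul_inv_cancel_right]
  set p := ∏ x ∈ X, x with hpdef
  have hp2 : p * p = 1 := by
    rw [hpdef, ← Finset.prod_mul_distrib]
    exact Finset.prod_eq_one hsq
  have hg2 : gA * gA = 1 := by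
    rw [hgA, mul_mul_mul_comm (aA * bA), mul_mul_mul_comm aA, hsq _ haX, hsq _ hbX, hsq _ hcX, one_mul, one_mul]
  have heq : gA = p := by
    have h1 : ∏ i, φ gA i = p * p * p := by
      calc ∏ i, φ gA i = (∏ i, φ aA i) * (∏ i, φ bA i) * (∏ i, φ cA i) := by
            rw [← Finset.prod_mul_distrib, ← Finset.prod_mul_distrib]
            refine Finset.prod_congr rfl fun i _ => ?_
            simp only [φ, hgA, map_mul]
        _ = p * p * p := by rw [main _ haX, main _ hbX, main _ hcX]
    obtain ⟨j, hj⟩ := hodd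
    rw [Finset.prod_congr rfl (fun i _ => hfix i), Finset.prod_const, Finset.card_univ, hj, pow_succ,
      pow_mul, pow_two, hg2, one_pow, one_mul, hp2, one_mul] at h1
    exact h1
  have hinv : centerConj hk p = p := by
    have himg : X.image (centerConj hk) = X := by
      refine Finset.eq_of_subset_of_card_le (fun y hy => ?_)
        (Finset.card_image_of_injective _ (centerConj_injective hk)).ge
      obtain ⟨x, hx, rfl⟩ := Finset.mem_image.1 hy
      rw [memX]
      exact hPn _ _ ((memX x).1 hx) hk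
    rw [hpdef, map_prod]
    conv_rhs => rw [← himg, Finset.prod_image (centerConj_injective hk).injOn]
  have := congrArg (fun t : Subgroup.center R => ((t : R) : G)) hinv
  simpa [centerConj_val, ← heq, hg] using this

end CfsgLib.Invol.UP
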