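import Mathlib
import Cfsg.Agent.Lib.Invol.UniquePointBasic
import Cfsg.Agent.Lib.Invol.UniquePointSylow
import Cfsg.Agent.Lib.Invol.UniquePointOrbit

/-!
# An involution fixing a unique coset is 2-central

`UPHyp.two_central`: in every subgroup `K` not contained in `H`, a conjugate `a ∈ H` of `z` lying
in `K` centralises a Sylow 2-subgroup of `K`.
-/

namespace CfsgLib.Invol.UP

open CfsgLib.Invol

variable {G : Type*} [Group G] {z : G} {H : Subgroup G}

theorem mem_cent {g a : G} : g ∈ Subgroup.centralizer ({a} : Set G) ↔ Commute g a :=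
  Subgroup.mem_centralizer_singleton_iff

theorem commute_conj {g a b : G} (h : Commute a b) : Commute (g * a * g⁻¹) (g * b * g⁻¹) := by
  simpa using h.map (MulAut.conj g).toMonoidHom

theorem pow_two_pow_sq_mem {S T : Subgroup G} (hS : IsPGroup 2 S) {n : G} (hn : n ∈ S)
    (hnT : n ∉ T) : ∃ j : ℕ, n ^ 2 ^ j ∉ T ∧ n ^ 2 ^ j * n ^ 2 ^ j ∈ T := by
  classical
  obtain ⟨k, hk⟩ := hS ⟨n, hn⟩
  have hex : ∃ j, n ^ 2 ^ j ∈ T := ⟨k, by
    rw [show n ^ 2 ^ k = 1 from congrArg Subtype.val hk]; exact one_mem _⟩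
  have hne : Nat.find hex ≠ 0 := fun e => hnT (by simpa [e] using Nat.find_spec hex)
  obtain ⟨j, hj⟩ := Nat.exists_eq_succ_of_ne_zero hne
  refine ⟨j, Nat.find_min hex (by omega), ?_⟩
  rw [← pow_add, ← two_mul, ← pow_succ']
  have h2 := Nat.find_spec hex
  rw [hj] at h2
  exact h2

theorem UPHyp.two_central [Finite G] (h : UPHyp z H) : ∀ N : ℕ, ∀ K : Subgroup G,
    Nat.card K = N → ¬K ≤ H → ∀ a : G, IsConj z a → a ∈ H → a ∈ K →
    ∃ R, SylIn R K ∧ ∀ r ∈ R, Commute r a := by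
  intro N
  induction N using Nat.strong_induction_on with
  | _ N IH =>
  intro K hKN hK a ha haH haK
  haveI : Fact (Nat.Prime 2) := ⟨Nat.prime_two⟩
  by_contra hcon
  have hao := h.invol_of_conj ha
  obtain ⟨T, hT⟩ := exists_sylIn' (K ⊓ Subgroup.centralizer ({a} : Set G))
  obtain ⟨S, hS, hTS⟩ := exists_sylIn (hT.le.trans inf_le_left) hT.two
  have hTa : ∀ r ∈ T, Commute r a := fun r hr => mem_cent.1 (hT.le hr).2
  have haT : a ∈ T := hT.mem_invol ⟨haK, mem_cent.2 (Commute.refl a)⟩ hao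
    fun r hr => (hTa r hr).symm
  have hlt : T < S := lt_of_le_of_ne hTS fun e => hcon ⟨T, e ▸ hS, hTa⟩
  obtain ⟨n0, hn0S, hn0T, hn0N⟩ := exists_normalizing hS.two hlt
  obtain ⟨j0, hsT, hs2⟩ := pow_two_pow_sq_mem hS.two hn0S hn0T
  set s := n0 ^ 2 ^ j0 with hs
  have hsS : s ∈ S := pow_mem hn0S _
  have hsN : s ∈ Subgroup.normalizer (T : Set G) := pow_mem hn0N _
  have hsK : s ∈ K := hS.le hsS
  set t := s * a * s⁻¹ with htdef
  have ht : IsConj z t := ha.trans (isConj_iff.2 ⟨s, rfl⟩)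
  have htT : t ∈ T := conj_mem_of_normalizer hsN haT
  have hta : Commute a t := (hTa t htT).symm
  have htc : ∀ r ∈ T, Commute t r :=
    conj_commute_of_normalizer hsN fun r hr => (hTa r hr).symm
  have hne : t ≠ a := fun e => hsT (by
    have hsa : Commute s a := mul_inv_eq_iff_eq_mul.1 e
    exact hT.mem ⟨hsK, mem_cent.2 hsa⟩ (hS.two.to_le (Subgroup.zpowers_le.2 hsS)) hsN)
  have hst : s * t * s⁻¹ = a := by
    rw [htdef]
    calc s * (s * a * s⁻¹) * s⁻¹ = (s * s) * a * (s * s)⁻¹ := by group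
      _ = a := by rw [(hTa _ hs2).eq, mul_inv_cancel_right]
  set v := a * t with hv
  have hvC : ∀ g, Commute g v → g ∈ H := fun g hg => h.mem_of_commute_mul ha haH ht hne hta hg
  have hvK : v ∈ K := mul_mem haK (mul_mem (mul_mem hsK haK) (inv_mem hsK))
  have hto := h.invol_of_conj ht
  have hvo : orderOf v = 2 := invol_of_mul_self
    (by rw [hv, hta.symm.mul_mul_mul_comm, invol_mul_self hao, invol_mul_self hto, one_mul])
    (fun e => hne (by
      have := eq_inv_of_mul_eq_one_right e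
      rwa [invol_inv hao] at this))
  have hsv : Commute s v := by
    refine mul_inv_eq_iff_eq_mul.1 ?_
    calc s * v * s⁻¹ = (s * a * s⁻¹) * (s * t * s⁻¹) := by rw [hv]; group
      _ = v := by rw [← htdef, hst, hv, hta.eq]
  set T' := T ⊔ Subgroup.zpowers s with hT'
  have hT'2 : IsPGroup 2 T' := isPGroup_sup_zpowers hS.two hTS hsS
  have hT'card : Nat.card T < Nat.card T' := card_lt_of_lt (lt_sup_zpowers hsT)
  have hT'v : T' ≤ K ⊓ Subgroup.centralizer ({v} : Set G) := sup_le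
    (fun r hr => ⟨(hT.le hr).1, mem_cent.2 ((hTa r hr).mul_right (htc r hr).symm)⟩)
    (Subgroup.zpowers_le.2 ⟨hsK, mem_cent.2 hsv⟩)
  -- 2-subgroups centralising a conjugate of `a` in `K` are small
  have small : ∀ x, IsConj z x → x ∈ K → ∀ Q : Subgroup G, IsPGroup 2 Q →
      Q ≤ K ⊓ Subgroup.centralizer ({x} : Set G) → Nat.card Q ≤ Nat.card T := by
    intro x hx hxK Q hQ hQx
    obtain ⟨k, hk, hkx⟩ := h.exists_conj_in hK ha haH haK hx hxK
    refine le_trans (le_of_eq ?_)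
      (hT.max (Q.map (MulAut.conj k⁻¹).toMonoidHom) ?_ (hQ.map _))
    · exact Nat.card_congr (Q.equivMapOfInjective _ (MulAut.conj k⁻¹).injective).toEquiv
    · rintro _ ⟨q, hq, rfl⟩
      refine ⟨K.mul_mem (K.mul_mem (K.inv_mem hk) (hQx hq).1) (K.inv_mem (K.inv_mem hk)),
        mem_cent.2 ?_⟩
      have h1 : Commute q x := mem_cent.1 (hQx hq).2
      have h2 := h1.map (MulAut.conj k⁻¹).toMonoidHom
      simpa [← hkx, mul_assoc] using h2
  have hvn : ¬IsConj z v := fun hc =>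
    absurd (small v hc hvK T' hT'2 hT'v) (not_le.2 hT'card)
  obtain ⟨g, hgK, hgH⟩ := SetLike.not_le_iff_exists.1 hK
  set w := g * a * g⁻¹ with hw
  have hwz : IsConj z w := ha.trans (isConj_iff.2 ⟨g, rfl⟩)
  have hwH : w ∉ H := h.conj_notMem ha haH hgH
  have hwK : w ∈ K := mul_mem (mul_mem hgK haK) (inv_mem hgK)
  obtain ⟨c, hcK, hco, hcv, hcw, hx⟩ := h.exists_central hvo hvC hvn hvK hwz hwH hwK
  set x := c * v with hxdef
  have hxK : x ∈ K := mul_mem hcK hvK
  have hxc : Commute x c := (Commute.refl c).mul_left hcv.symm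
  have hxH : x ∈ H := mul_mem (hvC c hcv) (hvC v (Commute.refl v))
  have hcv' : c * x = v := by rw [hxdef, ← mul_assoc, invol_mul_self hco, one_mul]
  set M := K ⊓ Subgroup.centralizer ({c} : Set G) with hM
  have hxM : x ∈ M := ⟨hxK, mem_cent.2 hxc⟩
  have hwM : w ∈ M := ⟨hwK, mem_cent.2 hcw.symm⟩
  have hMH : ¬M ≤ H := fun e => hwH (e hwM)
  have hMlt : M < K := by
    refine lt_of_le_of_ne inf_le_left fun e => ?_
    refine absurd (small x hx hxK T' hT'2 fun q hq => ?_) (not_le.2 hT'card)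
    have hqK : q ∈ K := (hT'v hq).1
    have hqc : Commute q c := mem_cent.1 (show q ∈ M by rw [e]; exact hqK).2
    exact ⟨hqK, mem_cent.2 (hqc.mul_right (mem_cent.1 (hT'v hq).2))⟩
  have ltN : ∀ L : Subgroup G, L ≤ M → Nat.card L < N := fun L hL =>
    hKN ▸ lt_of_le_of_lt (Subgroup.card_le_of_le hL) (card_lt_of_lt hMlt)
  obtain ⟨R, hR, hRx⟩ := IH _ (ltN M le_rfl) M rfl hMH x hx hxH hxM
  have hRc : ∀ r ∈ R, Commute r c := fun r hr => mem_cent.1 (hR.le hr).2
  have hRv : ∀ r ∈ R, Commute r v := fun r hr => hcv' ▸ (hRc r hr).mul_right (hRx r hr)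
  obtain ⟨S1, hS1, hRS1⟩ := exists_sylIn
    (K := K ⊓ Subgroup.centralizer ({v} : Set G))
    (fun r hr => ⟨(hR.le hr).1, mem_cent.2 (hRv r hr)⟩) hR.two
  have hRlt : R < S1 := lt_of_le_of_ne hRS1 fun e => by
    have h1 := small x hx hxK R hR.two fun r hr => ⟨(hR.le hr).1, mem_cent.2 (hRx r hr)⟩
    have h2 := hS1.max T' hT'v hT'2
    rw [← e] at h2
    omega
  obtain ⟨n, hnS, hnR, hnN⟩ := exists_normalizing hS1.two hRlt
  have hnK : n ∈ K := (hS1.le hnS).1
  have hnv : Commute n v := mem_cent.1 (hS1.le hnS).2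
  have hnH : n ∈ H := hvC n hnv
  set y2 := n * x * n⁻¹ with hy2
  have hy2z : IsConj z y2 := hx.trans (isConj_iff.2 ⟨n, rfl⟩)
  have hy2H : y2 ∈ H := mul_mem (mul_mem hnH hxH) (inv_mem hnH)
  have hxR : x ∈ R := hR.mem_invol hxM (h.invol_of_conj hx) fun r hr => (hRx r hr).symm
  have hy2R : y2 ∈ R := conj_mem_of_normalizer hnN hxR
  have hy2c : ∀ r ∈ R, Commute y2 r :=
    conj_commute_of_normalizer hnN fun r hr => (hRx r hr).symm
  have hxy : Commute x y2 := (hRx y2 hy2R).symm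
  have hyne : y2 ≠ x := fun e => hnR (by
    have hnx : Commute n x := mul_inv_eq_iff_eq_mul.1 e
    have hnc : Commute n c := by
      have hcx : c = v * x := by
        rw [hxdef, ← mul_assoc, ← hcv.eq, mul_assoc, invol_mul_self hvo, mul_one]
      rw [hcx]
      exact hnv.mul_right hnx
    exact hR.mem ⟨hnK, mem_cent.2 hnc⟩ (hS1.two.to_le (Subgroup.zpowers_le.2 hnS)) hnN)
  set y := x * y2 with hy
  have hyC : ∀ g, Commute g y → g ∈ H := fun g hg =>
    h.mem_of_commute_mul hx hxH hy2z hyne hxy hg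
  have hyR : y ∈ R := mul_mem hxR hy2R
  have hyc : ∀ r ∈ R, Commute r y := fun r hr => (hRx r hr).mul_right (hy2c r hr).symm
  have hyM : y ∈ M := hR.le hyR
  have hyo : orderOf y = 2 := invol_of_mul_self
    (by rw [hy, hxy.symm.mul_mul_mul_comm, invol_mul_self (h.invol_of_conj hx),
      invol_mul_self (h.invol_of_conj hy2z), one_mul])
    (fun e => hyne (by
      have := eq_inv_of_mul_eq_one_right e
      rwa [invol_inv (h.invol_of_conj hx)] at this))
  obtain ⟨e, γ, w', hez, heR, hec, hγ, hw'M, hw'H, hw'γ, hnγ⟩ : ∃ e γ w', IsConj z e ∧ e ∈ R ∧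
      (∀ r ∈ R, Commute e r) ∧ e = y * γ ∧ w' ∈ M ∧ w' ∉ H ∧ Commute w' γ ∧
        n * γ * n⁻¹ = γ := by
    by_cases hyz : IsConj z y
    · exact ⟨y, 1, w, hyz, hyR, fun r hr => (hyc r hr).symm, (mul_one y).symm, hwM, hwH,
        Commute.one_right w, by group⟩
    obtain ⟨c2, hc2M, hc2o, hc2y, hc2w, he0⟩ := h.exists_central hyo hyC hyz hyM hwz hwH hwM
    set e0 := c2 * y with he0def
    set C := M ⊓ Subgroup.centralizer ({y} : Set G) ⊓ Subgroup.centralizer ({e0} : Set G) with hC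
    obtain ⟨Q, hQ⟩ := exists_sylIn' C
    have hRy : SylIn R (M ⊓ Subgroup.centralizer ({y} : Set G)) :=
      hR.mono inf_le_left fun r hr => ⟨hR.le hr, mem_cent.2 (hyc r hr)⟩
    obtain ⟨P, hP⟩ := hRy.exists_sylow
    have hQle : Q ≤ M ⊓ Subgroup.centralizer ({y} : Set G) := hQ.le.trans inf_le_left
    obtain ⟨⟨j, hjM⟩, hj⟩ := exists_conj_mem_sylow P
      (hQ.two.of_equiv (Subgroup.subgroupOfEquivOfLe hQle).symm)
    have hjQ : ∀ q ∈ Q, j * q * j⁻¹ ∈ R := fun q hq =>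
      hP ▸ ⟨_, hj ⟨q, hQle hq⟩ hq, rfl⟩
    have hjy : Commute j y := mem_cent.1 hjM.2
    have hjy' : j * y * j⁻¹ = y := by rw [hjy.eq, mul_inv_cancel_right]
    set e := j * e0 * j⁻¹ with hedef
    set γ := j * c2 * j⁻¹ with hγdef
    have hez : IsConj z e := he0.trans (isConj_iff.2 ⟨j, rfl⟩)
    have he0y : Commute e0 y := hc2y.mul_left (Commute.refl y)
    have he0M : e0 ∈ M := mul_mem hc2M hyM
    have he0Q : e0 ∈ Q := hQ.mem_invol ⟨⟨he0M, mem_cent.2 he0y⟩, mem_cent.2 (Commute.refl e0)⟩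
      (h.invol_of_conj he0) fun q hq => (mem_cent.1 (hQ.le hq).2).symm
    have heR : e ∈ R := hjQ e0 he0Q
    have hey : e = γ * y := by
      rw [hedef, hγdef, he0def]
      calc j * (c2 * y) * j⁻¹ = (j * c2 * j⁻¹) * (j * y * j⁻¹) := by group
        _ = _ := by rw [hjy']
    have hγy : Commute γ y := by simpa [hjy'] using commute_conj (g := j) hc2y
    have hγ : e = y * γ := hey.trans hγy.eq
    have hw' : j * w * j⁻¹ ∈ M := mul_mem (mul_mem hjM.1 hwM) (inv_mem hjM.1)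
    have hjH : j ∈ H := hyC j hjy
    have hw'H : j * w * j⁻¹ ∉ H := fun hm => hwH (by
      have := mul_mem (mul_mem (inv_mem hjH) hm) hjH
      simpa [mul_assoc] using this)
    have hw'γ : Commute (j * w * j⁻¹) γ := commute_conj hc2w.symm
    have hγM : γ ∈ M := mul_mem (mul_mem hjM.1 hc2M) (inv_mem hjM.1)
    set L := M ⊓ Subgroup.centralizer ({γ} : Set G) with hL
    set R2 := R ⊓ Subgroup.centralizer ({e} : Set G) with hR2
    have heH : e ∈ H := hyC e (by rw [hey]; exact hγy.mul_left (Commute.refl y))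
    have heγ : Commute e γ := by rw [hey]; exact (Commute.refl γ).mul_left hγy.symm
    have heL : e ∈ L := ⟨hR.le heR, mem_cent.2 heγ⟩
    have hRe : ∀ r ∈ R2, Commute r e := fun r hr => mem_cent.1 hr.2
    have hγe : γ = y * e := by rw [hγ, ← mul_assoc, invol_mul_self hyo, one_mul]
    have hR2L : R2 ≤ L := fun r hr => ⟨hR.le hr.1, mem_cent.2 (by
      rw [hγe]; exact (hyc r hr.1).mul_right (hRe r hr))⟩
    have hR2 : SylIn R2 L := by
      refine ⟨hR2L, hR.two.to_le inf_le_left, fun Q' hQ' hQ'2 => ?_⟩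
      obtain ⟨R', hR', hR'e⟩ := IH _ (ltN L inf_le_left) L rfl
        (fun hle => hw'H (hle ⟨hw', mem_cent.2 hw'γ⟩)) e hez heH heL
      refine (hR'.max Q' hQ' hQ'2).trans ?_
      have hR'C : R'.map (MulAut.conj j⁻¹).toMonoidHom ≤ C := by
        rintro _ ⟨r, hr, rfl⟩
        obtain ⟨hrM, hrγ⟩ := hR'.le hr
        have hry : Commute r y := by
          have : y = γ * e := by rw [hey, ← mul_assoc, show γ * γ = 1 by
            rw [hγdef]; calc j * c2 * j⁻¹ * (j * c2 * j⁻¹) = j * (c2 * c2) * j⁻¹ := by group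
              _ = 1 := by rw [invol_mul_self hc2o]; group, one_mul]
          rw [this]
          exact (mem_cent.1 hrγ).mul_right (hR'e r hr)
        refine ⟨⟨M.mul_mem (M.mul_mem (M.inv_mem hjM.1) hrM) (M.inv_mem (M.inv_mem hjM.1)),
          mem_cent.2 ?_⟩, mem_cent.2 ?_⟩
        · have h3 : j⁻¹ * y * j⁻¹⁻¹ = y := by
            rw [inv_inv, mul_assoc, ← hjy.eq, inv_mul_cancel_left]
          have h4 := commute_conj (g := j⁻¹) hry
          rw [h3] at h4
          simpa using h4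
        · have h3 : j⁻¹ * e * j⁻¹⁻¹ = e0 := by rw [hedef]; group
          have h4 := commute_conj (g := j⁻¹) (hR'e r hr)
          rw [h3] at h4
          simpa using h4
      calc Nat.card R' = Nat.card (R'.map (MulAut.conj j⁻¹).toMonoidHom) :=
            Nat.card_congr (R'.equivMapOfInjective _ (MulAut.conj j⁻¹).injective).toEquiv
        _ ≤ Nat.card Q := hQ.max _ hR'C (hR'.two.map _)
        _ = Nat.card (Q.map (MulAut.conj j).toMonoidHom) :=
            Nat.card_congr (Q.equivMapOfInjective _ (MulAut.conj j).injective).toEquiv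
        _ ≤ Nat.card R2 := Subgroup.card_le_of_le (by
            rintro _ ⟨q, hq, rfl⟩
            exact ⟨hjQ q hq, mem_cent.2 (commute_conj (mem_cent.1 (hQ.le hq).2))⟩)
    have heR2 : e ∈ R2 := ⟨heR, mem_cent.2 (Commute.refl e)⟩
    have hxR2 : x ∈ R2 := ⟨hxR, mem_cent.2 (hRx e heR).symm⟩
    have hy2R2 : y2 ∈ R2 := ⟨hy2R, mem_cent.2 (hy2c e heR)⟩
    let P2 : G → Prop := fun q => IsConj z q ∧ q ∈ R2 ∧ ∀ r ∈ R2, Commute q r
    have key : ∀ k ∈ Subgroup.normalizer (R2 : Set G), k * γ * k⁻¹ = γ := by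
      intro k hk
      rw [hγe, hy]
      refine orbit_product hR2 P2 (fun q hq => ⟨hq.2.1, hq.2.2,
        invol_mul_self (h.invol_of_conj hq.1)⟩) (fun q m hq hm =>
          ⟨hq.1.trans (isConj_iff.2 ⟨m, rfl⟩), conj_mem_of_normalizer hm hq.2.1,
            conj_commute_of_normalizer hm hq.2.2⟩) ?_
        ⟨hx, hxR2, fun r hr => (hRx r hr.1).symm⟩ ⟨hy2z, hy2R2, fun r hr => hy2c r hr.1⟩
        ⟨hez, heR2, fun r hr => (hRe r hr).symm⟩ ?_ hk
      · intro p q hp hq
        have hpL := hR2L hp.2.1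
        have hLH : ¬L ≤ H := fun hle => hw'H (hle ⟨hw', mem_cent.2 hw'γ⟩)
        have hpH : p ∈ H := h.mem_of_commute hx hxH (hp.2.2 x hxR2)
        obtain ⟨m, hm, hme⟩ := h.exists_conj_in hLH hp.1 hpH hpL hq.1 (hR2L hq.2.1)
        exact hR2.exists_normalizer_conj hpL hp.2.2 hq.2.2 hm hme
      · intro g' hg'
        rw [← hy, ← hγe]
        exact mem_cent.1 hg'.2
    have hR2R : R2 = R := by
      by_contra hneR
      obtain ⟨k, hkR, hkn, hkN⟩ := exists_normalizing hR.two (lt_of_le_of_ne inf_le_left hneR)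
      refine hkn ⟨hkR, mem_cent.2 ?_⟩
      have hkγ : Commute k γ := mul_inv_eq_iff_eq_mul.1 (key k hkN)
      rw [hγ]
      exact (hyc k hkR).mul_right hkγ
    exact ⟨e, γ, _, hez, heR, fun r hr => (hRe r (hR2R ▸ hr)).symm, hγ, hw', hw'H, hw'γ,
      key n (hR2R.symm ▸ hnN)⟩
  -- conclusion
  have heH : e ∈ H := h.mem_of_commute hx hxH (hec x hxR)
  obtain ⟨k, hkM, hke⟩ := h.exists_conj_in hMH hx hxH hxM hez (hR.le heR)
  have hmH : k ∈ H := h.mem_of_conj_mem hx hxH (hke ▸ heH)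
  have hkc : k * c * k⁻¹ = c := by rw [(mem_cent.1 hkM.2).eq, mul_inv_cancel_right]
  have hce : k * v * k⁻¹ = c * e := by
    rw [← hcv']
    calc k * (c * x) * k⁻¹ = (k * c * k⁻¹) * (k * x * k⁻¹) := by group
      _ = c * e := by rw [hkc, hke]
  have hce' : c * e = n * (c * γ) * n⁻¹ := by
    have e1 : n * c * n⁻¹ = c * y := by
      have e2 : n * c * n⁻¹ = v * y2 := by
        have hcx : c = v * x := by
          rw [hxdef, ← mul_assoc, ← hcv.eq, mul_assoc, invol_mul_self hvo, mul_one]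
        rw [hcx, hy2]
        calc n * (v * x) * n⁻¹ = (n * v * n⁻¹) * (n * x * n⁻¹) := by group
          _ = _ := by rw [hnv.eq, mul_inv_cancel_right]
      rw [e2, hy, ← hcv']
      simp [mul_assoc]
    calc c * e = (c * y) * γ := by rw [hγ]; simp [mul_assoc]
      _ = (n * c * n⁻¹) * (n * γ * n⁻¹) := by rw [e1, hnγ]
      _ = n * (c * γ) * n⁻¹ := by group
  have hw'c : Commute w' (c * γ) := (mem_cent.1 hw'M.2).mul_right hw'γ
  have h1 : Commute (n * w' * n⁻¹) (k * v * k⁻¹) := by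
    rw [hce, hce']
    exact commute_conj hw'c
  have h2 : Commute (k⁻¹ * (n * w' * n⁻¹) * k) v := by
    simpa [mul_assoc] using commute_conj (g := k⁻¹) h1
  have h3 := hvC _ h2
  refine hw'H ?_
  have := mul_mem (mul_mem (inv_mem hnH) (mul_mem (mul_mem hmH h3) (inv_mem hmH))) hnH
  simpa [mul_assoc] using this

end CfsgLib.Invol.UP
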