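import Cfsg.Agent.Lib.Invol.Basic
import Cfsg.Prelude.Def_CaseTheorems

/-!
Normal form in a wreathed 2-group `Z_{2^n} ≀ Z_2`.
-/

set_option autoImplicit false
set_option linter.unusedSectionVars false

namespace CfsgLib.Invol

/-- Generators of a wreathed 2-group. -/
structure WrData (S : Type*) [Group S] where
  n : ℕ
  two_le : 2 ≤ n
  x : S
  y : S
  t : S
  orderOf_x : orderOf x = 2 ^ n
  comm : Commute x y
  inter : Subgroup.zpowers x ⊓ Subgroup.zpowers y = ⊥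
  orderOf_t : orderOf t = 2
  conj_x : t * x * t⁻¹ = y
  card_eq : Nat.card S = 2 ^ (2 * n + 1)

theorem exists_wrData {S : Type*} [Group S] (hS : Cfsg.IsWreathed S) : Nonempty (WrData S) := by
  obtain ⟨n, hn, hc, x, y, t, hx, hxy, hi, ht, htx⟩ := hS
  exact ⟨⟨n, hn, x, y, t, hx, hxy, hi, ht, htx, hc⟩⟩

namespace WrData

variable {S : Type*} [Group S] (D : WrData S)

/-- The order of the two generators, as an integer. -/
def N : ℤ := 2 ^ D.n

/-- Half of it. -/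
def h : ℤ := 2 ^ (D.n - 1)

/-- The element `x ^ i * y ^ j`. -/
def el (i j : ℤ) : S := D.x ^ i * D.y ^ j

theorem N_eq_two_h : D.N = 2 * D.h := by
  unfold N h
  rw [← pow_succ']
  congr 1
  have := D.two_le
  omega

theorem h_eq_two_mul : ∃ k : ℤ, D.h = 2 * k := by
  refine ⟨2 ^ (D.n - 2), ?_⟩
  unfold h
  rw [← pow_succ']
  congr 1
  have := D.two_le
  omega

theorem N_pos : 0 < D.N := by unfold N; positivity

theorem h_pos : 0 < D.h := by unfold h; positivity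

theorem two_dvd_N : (2 : ℤ) ∣ D.N := ⟨D.h, D.N_eq_two_h⟩

theorem natCast_pow : ((2 ^ D.n : ℕ) : ℤ) = D.N := by simp [N]

theorem conj_y : D.t * D.y * D.t⁻¹ = D.x := by
  rw [← D.conj_x, invol_inv D.orderOf_t]
  calc D.t * (D.t * D.x * D.t) * D.t = (D.t * D.t) * D.x * (D.t * D.t) := by simp only [mul_assoc]
    _ = D.x := by rw [invol_mul_self D.orderOf_t, one_mul, mul_one]

theorem orderOf_y : orderOf D.y = 2 ^ D.n := by rw [← D.conj_x, orderOf_conj_eq, D.orderOf_x]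

include D in
theorem finite : Finite S := Nat.finite_of_card_ne_zero (by rw [D.card_eq]; positivity)

theorem xpow_eq_one_iff {i : ℤ} : D.x ^ i = 1 ↔ D.N ∣ i := by
  rw [← orderOf_dvd_iff_zpow_eq_one, D.orderOf_x, natCast_pow]

theorem ypow_eq_one_iff {i : ℤ} : D.y ^ i = 1 ↔ D.N ∣ i := by
  rw [← orderOf_dvd_iff_zpow_eq_one, D.orderOf_y, natCast_pow]

theorem el_eq_one_iff {i j : ℤ} : D.el i j = 1 ↔ D.N ∣ i ∧ D.N ∣ j := by
  constructor
  · intro h
    have h1 : D.x ^ i = D.y ^ (-j) := by rw [zpow_neg]; exact eq_inv_of_mul_eq_one_left h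
    have h2 : D.x ^ i ∈ Subgroup.zpowers D.x ⊓ Subgroup.zpowers D.y :=
      ⟨⟨i, rfl⟩, h1 ▸ ⟨-j, rfl⟩⟩
    rw [D.inter, Subgroup.mem_bot] at h2
    refine ⟨D.xpow_eq_one_iff.1 h2, D.ypow_eq_one_iff.1 ?_⟩
    rwa [el, h2, one_mul] at h
  · rintro ⟨h1, h2⟩
    rw [el, D.xpow_eq_one_iff.2 h1, D.ypow_eq_one_iff.2 h2, one_mul]

theorem el_zero : D.el 0 0 = 1 := by simp [el]

theorem el_mul (i j a b : ℤ) : D.el i j * D.el a b = D.el (i + a) (j + b) := by
  simp only [el, zpow_add]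
  rw [mul_assoc, ← mul_assoc (D.y ^ j), ((D.comm.zpow_zpow a j).symm).eq]
  simp only [mul_assoc]

theorem el_inv (i j : ℤ) : (D.el i j)⁻¹ = D.el (-i) (-j) := by
  refine inv_eq_of_mul_eq_one_right ?_
  rw [el_mul, add_neg_cancel, add_neg_cancel, el_zero]

theorem el_eq_iff {i j a b : ℤ} : D.el i j = D.el a b ↔ D.N ∣ i - a ∧ D.N ∣ j - b := by
  rw [← mul_inv_eq_one, el_inv, el_mul, el_eq_one_iff, sub_eq_add_neg, sub_eq_add_neg]

theorem el_zpow (i j k : ℤ) : (D.el i j) ^ k = D.el (i * k) (j * k) := by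
  rw [el, el, (D.comm.zpow_zpow i j).mul_zpow, ← zpow_mul, ← zpow_mul]

theorem el_commute (i j a b : ℤ) : Commute (D.el i j) (D.el a b) := by
  rw [commute_iff_eq, el_mul, el_mul, add_comm i, add_comm j]

theorem t_mul_el (i j : ℤ) : D.t * D.el i j = D.el j i * D.t := by
  rw [← mul_inv_eq_iff_eq_mul, el, ← conj_mul, conj_zpow_eq, conj_zpow_eq, D.conj_x, D.conj_y, el]
  exact (D.comm.zpow_zpow j i).symm.eq

theorem t_notMem (i j : ℤ) : D.t ≠ D.el i j := by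
  intro h
  have h1 : Commute D.t D.x := by
    have := D.el_commute i j 1 0
    rwa [← h, show D.el 1 0 = D.x by simp [el]] at this
  have h2 : D.y = D.x := by rw [← D.conj_x, h1.eq, mul_inv_cancel_right]
  have h3 := D.inter
  rw [h2, inf_idem, Subgroup.zpowers_eq_bot] at h3
  have h4 := D.orderOf_x
  rw [h3, orderOf_one] at h4
  exact (Nat.one_lt_two_pow (by have := D.two_le; omega)).ne h4

theorem mul_t_mul_el (i j a b : ℤ) : D.el i j * D.t * D.el a b = D.el (i + b) (j + a) * D.t := by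
  rw [mul_assoc, t_mul_el, ← mul_assoc, el_mul]

theorem mul_t_mul_t (i j a b : ℤ) : D.el i j * D.t * (D.el a b * D.t) = D.el (i + b) (j + a) := by
  rw [← mul_assoc, mul_t_mul_el, mul_assoc, invol_mul_self D.orderOf_t, mul_one]

theorem el_mul_t (i j a b : ℤ) : D.el i j * (D.el a b * D.t) = D.el (i + a) (j + b) * D.t := by
  rw [← mul_assoc, el_mul]

theorem inv_t (i j : ℤ) : (D.el i j * D.t)⁻¹ = D.el (-j) (-i) * D.t := by
  refine inv_eq_of_mul_eq_one_right ?_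
  rw [mul_t_mul_t, add_neg_cancel, add_neg_cancel, el_zero]

theorem el_t_ne (i j a b : ℤ) : D.el i j * D.t ≠ D.el a b := fun h => by
  refine D.t_notMem (a - i) (b - j) ?_
  rw [← eq_inv_mul_iff_mul_eq, el_inv, el_mul] at h
  rw [h, neg_add_eq_sub, neg_add_eq_sub]

theorem el_t_eq_iff {i j a b : ℤ} :
    D.el i j * D.t = D.el a b * D.t ↔ D.N ∣ i - a ∧ D.N ∣ j - b := by
  rw [mul_left_inj, el_eq_iff]

theorem cases (s : S) : (∃ i j, s = D.el i j) ∨ ∃ i j, s = D.el i j * D.t := by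
  have := D.finite
  let f : Bool × Fin (2 ^ D.n) × Fin (2 ^ D.n) → S := fun p =>
    if p.1 then D.el (p.2.1 : ℕ) (p.2.2 : ℕ) * D.t else D.el (p.2.1 : ℕ) (p.2.2 : ℕ)
  have key : ∀ {u v : Fin (2 ^ D.n)}, D.N ∣ ((u : ℕ) : ℤ) - ((v : ℕ) : ℤ) → u = v := by
    intro u v h
    rw [← natCast_pow, ← Int.modEq_iff_dvd, Int.natCast_modEq_iff] at h
    exact Fin.ext (h.symm.eq_of_lt_of_lt u.2 v.2)
  have hf : Function.Injective f := by
    rintro ⟨b, u, v⟩ ⟨b', u', v'⟩ h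
    cases b <;> cases b' <;> simp only [f, if_true, if_false, Bool.false_eq_true] at h
    · rw [el_eq_iff] at h; rw [key h.1, key h.2]
    · exact absurd h.symm (D.el_t_ne _ _ _ _)
    · exact absurd h (D.el_t_ne _ _ _ _)
    · rw [el_t_eq_iff] at h; rw [key h.1, key h.2]
  obtain ⟨⟨b, u, v⟩, rfl⟩ := (hf.bijective_of_nat_card_le (by
    rw [D.card_eq, Nat.card_prod, Nat.card_prod]; simp [pow_succ, two_mul, pow_add]; ring_nf; rfl)).2 s
  cases b
  · exact Or.inl ⟨_, _, rfl⟩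
  · exact Or.inr ⟨_, _, rfl⟩

theorem conj_el (a b i j : ℤ) :
    D.el a b * D.el i j * (D.el a b)⁻¹ = D.el i j := by
  rw [(D.el_commute a b i j).eq, mul_inv_cancel_right]

theorem conj_el_by_t (a b i j : ℤ) :
    D.el a b * D.t * D.el i j * (D.el a b * D.t)⁻¹ = D.el j i := by
  rw [mul_t_mul_el, inv_t, mul_t_mul_t, el_eq_iff]
  exact ⟨⟨0, by ring⟩, ⟨0, by ring⟩⟩

theorem conj_t_by_el (a b i j : ℤ) :
    D.el a b * (D.el i j * D.t) * (D.el a b)⁻¹ = D.el (i + a - b) (j + b - a) * D.t := by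
  rw [el_mul_t, el_inv, mul_t_mul_el, el_t_eq_iff]
  exact ⟨⟨0, by ring⟩, ⟨0, by ring⟩⟩

theorem sq_el_t (i j : ℤ) : D.el i j * D.t * (D.el i j * D.t) = D.el (i + j) (i + j) := by
  rw [mul_t_mul_t, add_comm j]

theorem el_commute_t_iff {i j a b : ℤ} :
    Commute (D.el i j) (D.el a b * D.t) ↔ D.N ∣ i - j := by
  rw [commute_iff_eq, el_mul_t, mul_t_mul_el, el_t_eq_iff]
  constructor
  · rintro ⟨h, -⟩
    rwa [show i + a - (a + j) = i - j by ring] at h
  · intro h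
    refine ⟨by rwa [show i + a - (a + j) = i - j by ring], ?_⟩
    rw [show j + b - (b + i) = -(i - j) by ring]
    exact h.neg_right

theorem mem_center_iff {s : S} : s ∈ Subgroup.center S ↔ ∃ i : ℤ, s = D.el i i := by
  rw [Subgroup.mem_center_iff]
  constructor
  · intro h
    rcases D.cases s with ⟨i, j, rfl⟩ | ⟨i, j, rfl⟩
    · have h1 : Commute (D.el i j) (D.el 0 0 * D.t) := (h _).symm
      exact ⟨i, D.el_eq_iff.2 ⟨⟨0, by ring⟩, by
        rw [show j - i = -(i - j) by ring]; exact (D.el_commute_t_iff.1 h1).neg_right⟩⟩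
    · have h1 : Commute (D.el 1 0) (D.el i j * D.t) := h _
      have := Int.le_of_dvd (by norm_num) (D.el_commute_t_iff.1 h1)
      have h2 := D.N_eq_two_h
      have h3 := D.h_pos
      omega
  · rintro ⟨i, rfl⟩ s
    rcases D.cases s with ⟨a, b, rfl⟩ | ⟨a, b, rfl⟩
    · exact (D.el_commute a b i i).eq
    · exact (D.el_commute_t_iff.2 (by rw [sub_self]; exact dvd_zero _)).symm.eq

theorem center_eq : Subgroup.center S = Subgroup.zpowers (D.el 1 1) := by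
  ext s
  rw [D.mem_center_iff, Subgroup.mem_zpowers_iff]
  simp only [el_zpow, one_mul]
  exact ⟨fun ⟨i, h⟩ => ⟨i, h.symm⟩, fun ⟨i, h⟩ => ⟨i, h.symm⟩⟩

theorem orderOf_el_one_one : orderOf (D.el 1 1) = 2 ^ D.n := by
  refine Nat.dvd_antisymm ?_ ?_
  · rw [← Int.natCast_dvd_natCast, orderOf_dvd_iff_zpow_eq_one, natCast_pow, el_zpow, one_mul,
      el_eq_one_iff]
    exact ⟨dvd_rfl, dvd_rfl⟩
  · rw [← Int.natCast_dvd_natCast, natCast_pow]
    have := zpow_natCast (D.el 1 1) (orderOf (D.el 1 1))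
    rw [pow_orderOf_eq_one, el_zpow, one_mul, el_eq_one_iff] at this
    exact this.1

/-- The abelian maximal subgroup. -/
def A : Subgroup S where
  carrier := {s | ∃ i j, s = D.el i j}
  one_mem' := ⟨0, 0, D.el_zero.symm⟩
  mul_mem' := by rintro _ _ ⟨i, j, rfl⟩ ⟨a, b, rfl⟩; exact ⟨_, _, D.el_mul i j a b⟩
  inv_mem' := by rintro _ ⟨i, j, rfl⟩; exact ⟨_, _, D.el_inv i j⟩

theorem el_mem_A (i j : ℤ) : D.el i j ∈ D.A := ⟨i, j, rfl⟩

theorem el_t_notMem_A (i j : ℤ) : D.el i j * D.t ∉ D.A := by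
  rintro ⟨a, b, h⟩; exact D.el_t_ne i j a b h

theorem mul_mem_A_iff {s u : S} (hs : s ∉ D.A) : s * u ∈ D.A ↔ u ∉ D.A := by
  rcases D.cases s with ⟨i, j, rfl⟩ | ⟨i, j, rfl⟩
  · exact absurd (D.el_mem_A i j) hs
  rcases D.cases u with ⟨a, b, rfl⟩ | ⟨a, b, rfl⟩
  · simp [mul_t_mul_el, el_mem_A, el_t_notMem_A]
  · simp [mul_t_mul_t, el_mem_A, el_t_notMem_A]

theorem index_A : D.A.index = 2 := by
  refine Subgroup.index_eq_two_iff.2 ⟨D.el 0 0 * D.t, fun b => ?_⟩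
  rcases D.cases b with ⟨i, j, rfl⟩ | ⟨i, j, rfl⟩
  · refine Or.inr ⟨D.el_mem_A i j, ?_⟩
    rw [el_mul_t]; exact D.el_t_notMem_A _ _
  · refine Or.inl ⟨?_, D.el_t_notMem_A i j⟩
    rw [mul_t_mul_t]; exact D.el_mem_A _ _

theorem card_A : Nat.card D.A = 2 ^ (2 * D.n) := by
  have h := D.A.card_mul_index
  rw [index_A, D.card_eq, pow_succ] at h
  exact Nat.eq_of_mul_eq_mul_right two_pos h

theorem A_commute {a b : S} (ha : a ∈ D.A) (hb : b ∈ D.A) : Commute a b := by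
  obtain ⟨i, j, rfl⟩ := ha; obtain ⟨u, v, rfl⟩ := hb
  exact D.el_commute i j u v

theorem dvd_two_mul_iff {i : ℤ} : D.N ∣ 2 * i ↔ D.h ∣ i := by
  rw [N_eq_two_h]
  exact mul_dvd_mul_iff_left two_ne_zero

theorem sq_el_eq_one_iff {i j : ℤ} : D.el i j * D.el i j = 1 ↔ D.h ∣ i ∧ D.h ∣ j := by
  rw [el_mul, el_eq_one_iff, ← two_mul, ← two_mul, dvd_two_mul_iff, dvd_two_mul_iff]

/-- The central involution. -/
def z : S := D.el D.h D.h

theorem orderOf_z : orderOf D.z = 2 := by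
  refine invol_of_mul_self (D.sq_el_eq_one_iff.2 ⟨dvd_rfl, dvd_rfl⟩) fun h => ?_
  have h1 := Int.le_of_dvd D.h_pos (D.el_eq_one_iff.1 h).1
  have h2 := D.N_eq_two_h
  have h3 := D.h_pos
  omega

/-- An involution of the abelian maximal subgroup. -/
theorem invol_mem_A {s : S} (hs : s ∈ D.A) (h2 : s * s = 1) :
    s = 1 ∨ s = D.z ∨ s = D.el D.h 0 ∨ s = D.el 0 D.h := by
  obtain ⟨i, j, rfl⟩ := hs
  obtain ⟨⟨a, rfl⟩, ⟨b, rfl⟩⟩ := D.sq_el_eq_one_iff.1 h2
  have hN := D.N_eq_two_h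
  rcases Int.even_or_odd a with ⟨a', rfl⟩ | ⟨a', rfl⟩ <;>
    rcases Int.even_or_odd b with ⟨b', rfl⟩ | ⟨b', rfl⟩
  · exact Or.inl (D.el_eq_one_iff.2 ⟨⟨a', by rw [hN]; ring⟩, ⟨b', by rw [hN]; ring⟩⟩)
  · exact Or.inr (Or.inr (Or.inr (D.el_eq_iff.2 ⟨⟨a', by rw [hN]; ring⟩, ⟨b', by rw [hN]; ring⟩⟩)))
  · exact Or.inr (Or.inr (Or.inl (D.el_eq_iff.2 ⟨⟨a', by rw [hN]; ring⟩, ⟨b', by rw [hN]; ring⟩⟩)))
  · exact Or.inr (Or.inl (D.el_eq_iff.2 ⟨⟨a', by rw [hN]; ring⟩, ⟨b', by rw [hN]; ring⟩⟩))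

/-- The abelian maximal subgroup is the only abelian subgroup of its order. -/
theorem eq_A {U : Subgroup S} (hU : ∀ a ∈ U, ∀ b ∈ U, Commute a b)
    (hc : Nat.card U = 2 ^ (2 * D.n)) : U = D.A := by
  have := D.finite
  refine Subgroup.eq_of_le_of_card_ge (fun u hu => ?_) (by rw [hc, D.card_A])
  by_contra hA
  have hle : U ⊓ D.A ≤ Subgroup.center S := by
    rintro s ⟨hs, hsA⟩
    obtain ⟨i, j, rfl⟩ := hsA
    rcases D.cases u with ⟨a, b, rfl⟩ | ⟨a, b, rfl⟩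
    · exact absurd (D.el_mem_A a b) hA
    exact D.mem_center_iff.2 ⟨i, D.el_eq_iff.2 ⟨⟨0, by ring⟩, by
      rw [show j - i = -(i - j) by ring]
      exact (D.el_commute_t_iff.1 (hU _ hs _ hu)).neg_right⟩⟩
  have h1 := Subgroup.card_le_of_le hle
  rw [D.center_eq, Nat.card_zpowers, D.orderOf_el_one_one] at h1
  have h2 := Subgroup.card_mul_index (D.A.subgroupOf U)
  have h3 : (D.A.subgroupOf U).index ≤ 2 := by
    have := Subgroup.normal_of_index_eq_two D.index_A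
    have h := Subgroup.relIndex_dvd_index_of_normal D.A U
    rw [D.index_A] at h
    exact Nat.le_of_dvd (by norm_num) h
  have h7 : Nat.card (D.A.subgroupOf U) = Nat.card (U ⊓ D.A : Subgroup S) := by
    rw [← Subgroup.inf_subgroupOf_left]
    exact Nat.card_congr (Subgroup.subgroupOfEquivOfLe inf_le_left).toEquiv
  rw [h7, hc] at h2
  have h4 : 2 ^ (D.n + 2) ≤ 2 ^ (2 * D.n) := Nat.pow_le_pow_right two_pos (by have := D.two_le; omega)
  rw [← h2, pow_add] at h4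
  have h5 := Nat.two_pow_pos D.n
  have h6 := Nat.mul_le_mul h1 h3
  omega

end WrData

end CfsgLib.Invol
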