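import Cfsg.Agent.Lib.Invol.WeaklyClosedTransfer
import Cfsg.Agent.Lib.PGroup.WreathQuotient

/-!
If the normalizer of a Sylow subgroup does not control transfer, the Sylow subgroup maps onto
`Z_p ≀ Z_p`.
-/

set_option autoImplicit false
set_option linter.style.haveILetI false

open Subgroup
open scoped commutatorElement

namespace CfsgLib.Invol

universe u

variable {G : Type u} [Group G] [Finite G] {p : ℕ} [Fact p.Prime]

omit [Fact p.Prime] in
/-- A Sylow subgroup is weakly closed in itself. -/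
theorem isWeaklyClosed_sylow (P : Sylow p G) :
    Cfsg.IsWeaklyClosed (P : Subgroup G) (P : Subgroup G) :=
  ⟨le_rfl, fun g hg => eq_of_le_of_card_ge hg
    (le_of_eq (card_map_of_injective (MulAut.conj g).injective).symm)⟩

/-- A nontrivial norm on a maximal subgroup gives a quotient `Z_p ≀ Z_p`. -/
theorem exists_wreath_quotient_of_norm {S : Type*} [Group S] [Finite S] (hS : IsPGroup p S)
    {A : Type*} [CommGroup A] (hA : ∀ a : A, a ^ p = 1) (U : Subgroup S) (hUtop : U = ⊤)
    (M : Subgroup U) (hMn : M.Normal) (hMi : M.index = p) (z : U) (y : M) (χ : M →* A) (hzM : z ∉ M)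
    (hprod : ∏ i ∈ Finset.range p, χ ⟨(z ^ i)⁻¹ * y * z ^ i, conjPow_mem y.2 (z ^ i)⟩ ≠ 1) :
    ∃ (Q : Sylow p (Equiv.Perm (Fin (p ^ 2))))
      (f : S →* ↥(Q : Subgroup (Equiv.Perm (Fin (p ^ 2))))), Function.Surjective f := by
  let M' : Subgroup S := M.map U.subtype
  have hconj : ∀ (s : S) {a : S}, a ∈ M' → s * a * s⁻¹ ∈ M' := by
    rintro s _ ⟨m, hm, rfl⟩
    exact ⟨⟨s, hUtop.ge (mem_top s)⟩ * m * ⟨s, hUtop.ge (mem_top s)⟩⁻¹, hMn.conj_mem m hm _, rfl⟩
  have hM'n : M'.Normal := ⟨fun a ha s => hconj s ha⟩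
  have hM'i : M'.index = p := by rw [index_map_subtype, hMi, hUtop, index_top, mul_one]
  let K' : Subgroup S := χ.ker.map (U.subtype.comp M.subtype)
  have hK'M : K' ≤ M' := by
    rintro _ ⟨m, -, rfl⟩
    exact ⟨m, m.2, rfl⟩
  let N := K'.normalCore
  let q := QuotientGroup.mk' N
  have hel : Cfsg.IsElementaryAbelian p (M'.map q) := by
    refine ⟨⟨⟨?_⟩⟩, ?_⟩
    · rintro ⟨_, a, ha, rfl⟩ ⟨_, b, hb, rfl⟩
      refine Subtype.ext (commutatorElement_eq_one_iff_mul_comm.1 ?_)
      show ⁅q a, q b⁆ = 1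
      rw [← map_commutatorElement]
      refine (QuotientGroup.eq_one_iff _).2 fun g => ?_
      rw [← MulAut.conj_apply, map_commutatorElement (MulAut.conj g)]
      obtain ⟨ma, hma, hma'⟩ := hconj g ha
      obtain ⟨mb, hmb, hmb'⟩ := hconj g hb
      refine ⟨⁅(⟨ma, hma⟩ : M), ⟨mb, hmb⟩⁆, ?_, ?_⟩
      · rw [SetLike.mem_coe, MonoidHom.mem_ker, map_commutatorElement,
          commutatorElement_eq_one_iff_mul_comm]
        exact mul_comm _ _
      · rw [map_commutatorElement]
        show ⁅U.subtype ma, U.subtype mb⁆ = _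
        rw [hma', hmb']
        rfl
    · rintro _ ⟨a, ha, rfl⟩
      rw [← map_pow]
      refine (QuotientGroup.eq_one_iff _).2 fun g => ?_
      rw [← MulAut.conj_apply, map_pow]
      obtain ⟨ma, hma, hma'⟩ := hconj g ha
      refine ⟨(⟨ma, hma⟩ : M) ^ p, ?_, ?_⟩
      · rw [SetLike.mem_coe, MonoidHom.mem_ker, map_pow, hA]
      · rw [map_pow]
        show (U.subtype ma) ^ p = _
        rw [hma']
        rfl
  haveI : (M'.map q).Normal := hM'n.map _ (QuotientGroup.mk'_surjective N)
  have hkerM : q.ker ≤ M' := by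
    rw [QuotientGroup.ker_mk']
    exact (normalCore_le K').trans hK'M
  have hidx : (M'.map q).index = p := by
    rw [index_map_eq M' (QuotientGroup.mk'_surjective N) hkerM, hM'i]
  obtain ⟨Q, f, hf⟩ := CfsgLib.PGroup.exists_surjective_sylow_perm_sq (hS.to_quotient N) (M'.map q)
    hel hidx (q ((y : U) : S)) (q (z : S)) ⟨_, ⟨y, y.2, rfl⟩, rfl⟩ (by
      rintro ⟨a, ha, hqa⟩
      obtain ⟨m, hm, rfl⟩ := ha
      have h1 : (U.subtype m)⁻¹ * (z : S) ∈ N := QuotientGroup.eq.1 hqa
      obtain ⟨m', hm', hmz⟩ := hK'M (normalCore_le K' h1)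
      refine hzM ?_
      have : z = m * m' := Subtype.ext (by
        show (z : S) = (m : S) * (m' : S)
        rw [show ((m' : U) : S) = (U.subtype m)⁻¹ * (z : S) from hmz]
        show (z : S) = (m : S) * ((m : S)⁻¹ * z)
        rw [mul_inv_cancel_left])
      rw [this]
      exact mul_mem hm hm') (by
      intro h1
      apply hprod
      let t : ℕ → M := fun i => ⟨(z ^ i)⁻¹ * y * z ^ i, conjPow_mem y.2 (z ^ i)⟩
      let j : M →* S := U.subtype.comp M.subtype
      have h2 : q (j (((List.range p).map t).prod)) = 1 := by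
        rw [map_list_prod, map_list_prod, List.map_map, List.map_map]
        exact h1
      obtain ⟨k, hk, hk'⟩ := normalCore_le K' ((QuotientGroup.eq_one_iff _).1 h2)
      have hkt : k = ((List.range p).map t).prod := by
        refine Subtype.ext (Subtype.ext ?_)
        exact hk'
      rw [hkt] at hk
      have h3 : χ (((List.range p).map t).prod) = 1 := hk
      rw [map_list_prod, List.map_map] at h3
      exact h3)
  exact ⟨Q, f.comp q, hf.comp (QuotientGroup.mk'_surjective N)⟩

/-- Yoshida: failure of transfer control gives a wreath product quotient. -/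
theorem exists_wreath_quotient (P : Sylow p G)
    (h : (P : Subgroup G) ⊓ _root_.commutator G ≠ (P : Subgroup G) ⊓
      ⁅normalizer ((P : Subgroup G) : Set G), normalizer ((P : Subgroup G) : Set G)⁆) :
    ∃ (Q : Sylow p (Equiv.Perm (Fin (p ^ 2))))
      (f : ↥(P : Subgroup G) →* ↥(Q : Subgroup (Equiv.Perm (Fin (p ^ 2))))),
        Function.Surjective f := by
  obtain ⟨A, _, hA, U, M, hMn, z, y, χ, hWU, hMi, -, hzM, hprod⟩ :=
    exists_engel_obstruction P _ (isWeaklyClosed_sylow P) h
  exact exists_wreath_quotient_of_norm P.2 hA U (top_le_iff.1 (by rwa [subgroupOf_self] at hWU))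
    M hMn hMi z y χ hzM hprod

end CfsgLib.Invol
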